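import Groth.Agent.Lib.GrLC21.Primes
import Mathlib.RingTheory.Spectrum.Prime.LTSeries
import Mathlib.RingTheory.Ideal.KrullsHeightTheorem
import Mathlib.RingTheory.KrullDimension.Module

/-!
# Chains of primes below a prime and below its homogeneous core
-/

universe u

open DirectSum Order

noncomputable section

set_option linter.unusedSectionVars false
set_option backward.isDefEq.respectTransparency false

namespace Groth.Agent.GrLC21

variable {ι : Type} [AddCommGroup ι] [DecidableEq ι] [Module.Free ℤ ι] [Module.Finite ℤ ι]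
variable {R : Type u} [CommRing R] {σ : Type u} [SetLike σ R] [AddSubgroupClass σ R]
  {𝒜 : ι → σ} [GradedRing 𝒜]

variable (𝒜) in
/-- The homogeneous core of an ideal. -/
abbrev core (p : Ideal R) : Ideal R := (p.homogeneousCore 𝒜).toIdeal

theorem core_le (p : Ideal R) : core 𝒜 p ≤ p := Ideal.toIdeal_homogeneousCore_le 𝒜 p

theorem isHomogeneous_core (p : Ideal R) : (core 𝒜 p).IsHomogeneous 𝒜 := (p.homogeneousCore 𝒜).isHomogeneous

theorem le_core {I p : Ideal R} (hI : I.IsHomogeneous 𝒜) (h : I ≤ p) : I ≤ core 𝒜 p :=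
  hI.toIdeal_homogeneousCore_eq_self.symm.le.trans (Ideal.homogeneousCore_mono 𝒜 h)

theorem isPrime_core (p : Ideal R) [hp : p.IsPrime] : (core 𝒜 p).IsPrime := by
  refine isPrime_of_homogeneous 𝒜 (isHomogeneous_core p)
    (fun h => hp.ne_top (top_le_iff.1 (h.ge.trans (core_le p)))) fun a b x y hx hy hxy => ?_
  rcases hp.mem_or_mem (core_le p hxy) with h | h
  · exact Or.inl (Ideal.mem_homogeneousCore_of_homogeneous_of_mem ⟨a, hx⟩ h)
  · exact Or.inr (Ideal.mem_homogeneousCore_of_homogeneous_of_mem ⟨b, hy⟩ h)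

/-- The spectrum point of the core. -/
abbrev corePt (p : Ideal R) [p.IsPrime] : PrimeSpectrum R := ⟨core 𝒜 p, isPrime_core p⟩

theorem length_le_of_core_le [IsNoetherianRing R] {p : Ideal R} [p.IsPrime] {d : ℕ}
    (hd : (p.map (Ideal.Quotient.mk (core 𝒜 p))).height = d) (l : LTSeries (PrimeSpectrum R))
    (hh : core 𝒜 p ≤ l.head.asIdeal) (hl : l.last.asIdeal ≤ p) : l.length ≤ d := by
  have hmap : ∀ i, (Ideal.map (Ideal.Quotient.mk (core 𝒜 p)) (l i).asIdeal).IsPrime := fun i =>
    Ideal.isPrime_map_quotientMk_of_isPrime (hh.trans (LTSeries.head_le l i))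
  let L : LTSeries (PrimeSpectrum (R ⧸ core 𝒜 p)) := LTSeries.mk l.length
    (fun i => ⟨_, hmap i⟩) fun i j hij => by
      refine lt_of_le_not_ge (Ideal.map_mono (l.strictMono hij).le) fun h => ?_
      have h' := Ideal.comap_mono (f := Ideal.Quotient.mk (core 𝒜 p)) h
      rw [Ideal.comap_map_of_surjective _ Ideal.Quotient.mk_surjective,
        Ideal.comap_map_of_surjective _ Ideal.Quotient.mk_surjective, ← RingHom.ker_eq_comap_bot,
        Ideal.mk_ker, sup_eq_left.2 (hh.trans (LTSeries.head_le l i)),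
        sup_eq_left.2 (hh.trans (LTSeries.head_le l j))] at h'
      exact not_le_of_gt (l.strictMono hij) h'
  have : (p.map (Ideal.Quotient.mk (core 𝒜 p))).IsPrime :=
    Ideal.isPrime_map_quotientMk_of_isPrime (core_le p)
  have h : (L.length : ℕ∞) ≤ Order.height (⟨p.map (Ideal.Quotient.mk (core 𝒜 p)), this⟩ : PrimeSpectrum _) :=
    Order.length_le_height (p := L) (show L.last.asIdeal ≤ _ from Ideal.map_mono hl)
  rw [← PrimeSpectrum.height_eq_orderHeight, hd] at h
  exact_mod_cast h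

/-- A chain below a prime gives a chain below the core, shorter by at most the height of the fibre. -/
theorem exists_series_core [IsNoetherianRing R] {p : Ideal R} [hp : p.IsPrime] {d : ℕ}
    (hd : (p.map (Ideal.Quotient.mk (core 𝒜 p))).height = d) :
    ∀ (I : Ideal R), I.IsPrime → I.IsHomogeneous 𝒜 → ∀ l : LTSeries (PrimeSpectrum R), I ≤ l.head.asIdeal →
      l.last.asIdeal ≤ p →
      ∃ l' : LTSeries (PrimeSpectrum R), I ≤ l'.head.asIdeal ∧ l'.last.asIdeal ≤ core 𝒜 p ∧ l.length ≤ l'.length + d := by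
  intro I
  induction I using WellFoundedGT.induction with
  | _ I ih =>
    intro hIp hIh l hh hl
    have hIp' : I ≤ p := hh.trans ((show l.head.asIdeal ≤ l.last.asIdeal from LTSeries.head_le_last l).trans hl)
    have hIc : I ≤ core 𝒜 p := le_core hIh hIp'
    by_cases hlt : core 𝒜 p ≤ I
    · exact ⟨RelSeries.singleton _ (corePt (𝒜 := 𝒜) p), hIc, le_rfl,
        (length_le_of_core_le hd l (hlt.trans hh) hl).trans (Nat.le_add_left _ _)⟩
    obtain ⟨a, ⟨g, hag⟩, hap, haI⟩ : ∃ a, SetLike.IsHomogeneousElem 𝒜 a ∧ a ∈ p ∧ a ∉ I := by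
      by_contra! h
      refine hlt (Ideal.span_le.2 ?_)
      rintro _ ⟨⟨x, hx⟩, hxp, rfl⟩
      exact h x hx hxp
    -- a chain ending at the prime
    obtain ⟨l₁, hh₁, hl₁, hlen₁⟩ : ∃ l₁ : LTSeries (PrimeSpectrum R),
        I ≤ l₁.head.asIdeal ∧ l₁.last.asIdeal = p ∧ l.length ≤ l₁.length := by
      rcases (show l.last ≤ (⟨p, hp⟩ : PrimeSpectrum R) from hl).eq_or_lt with h | h
      · exact ⟨l, hh, congrArg PrimeSpectrum.asIdeal h, le_rfl⟩
      · exact ⟨l.snoc ⟨p, hp⟩ h, by rw [RelSeries.head_snoc]; exact hh, by rw [RelSeries.last_snoc],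
          Nat.le_succ _⟩
    obtain ⟨q, haq, hql, hqh, hqe⟩ := PrimeSpectrum.exist_ltSeries_mem_one_of_mem_last l₁ (x := a) (by rw [hl₁]; exact hap)
    rcases Nat.eq_zero_or_pos q.length with hq0 | hq0
    · exact ⟨RelSeries.singleton _ (corePt (𝒜 := 𝒜) p), hIc, le_rfl, by omega⟩
    let T := q.tail (Nat.pos_iff_ne_zero.1 hq0)
    have hI' : I ≤ (q 1).asIdeal := (hh₁.trans_eq (by rw [hqh])).trans (LTSeries.head_le q 1)
    have hlt' : I < core 𝒜 (q 1).asIdeal := lt_of_le_not_ge (le_core hIh hI') fun h =>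
      haI (h (Ideal.mem_homogeneousCore_of_homogeneous_of_mem ⟨g, hag⟩ haq))
    obtain ⟨l', hh', hl', hlen'⟩ := ih _ hlt' (isPrime_core _) (isHomogeneous_core _) T
      ((core_le _).trans_eq (by rw [RelSeries.head_tail])) (le_of_eq (by rw [RelSeries.last_tail, ← hqe, hl₁]))
    refine ⟨l'.cons ⟨I, hIp⟩ (show I < l'.head.asIdeal from lt_of_lt_of_le hlt' hh'),
      le_of_eq (by rw [RelSeries.head_cons]), by rw [RelSeries.last_cons]; exact hl', ?_⟩
    rw [RelSeries.cons_length]
    have hT : T.length = q.length - 1 := rfl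
    omega

/-- Chains below the core extend by the height of the fibre. -/
theorem exists_series_extend [IsNoetherianRing R] {p : Ideal R} [hp : p.IsPrime] {d : ℕ}
    (hd : (p.map (Ideal.Quotient.mk (core 𝒜 p))).height = d) (l' : LTSeries (PrimeSpectrum R))
    (hl' : l'.last.asIdeal ≤ core 𝒜 p) :
    ∃ l : LTSeries (PrimeSpectrum R), l.head = l'.head ∧ l.last.asIdeal ≤ p ∧ l'.length + d ≤ l.length := by
  obtain ⟨l₁, hh₁, hl₁, hlen₁⟩ : ∃ l₁ : LTSeries (PrimeSpectrum R),
      l₁.head = l'.head ∧ l₁.last = corePt (𝒜 := 𝒜) p ∧ l'.length ≤ l₁.length := by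
    rcases (show l'.last ≤ corePt (𝒜 := 𝒜) p from hl').eq_or_lt with h | h
    · exact ⟨l', rfl, h, le_rfl⟩
    · exact ⟨l'.snoc _ h, RelSeries.head_snoc _ _ _, RelSeries.last_snoc _ _ _, Nat.le_succ _⟩
  have := Ideal.isPrime_map_quotientMk_of_isPrime (core_le (𝒜 := 𝒜) p)
  obtain ⟨lq, hlq, hlenq⟩ := (p.map (Ideal.Quotient.mk (core 𝒜 p))).exists_ltSeries_length_eq_height
  have hlenq' : lq.length = d := by
    have h := hlenq.trans hd
    exact_mod_cast h
  let l₂ : LTSeries (PrimeSpectrum R) := lq.map (PrimeSpectrum.comap (Ideal.Quotient.mk (core 𝒜 p)))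
    (RingHom.strictMono_comap_of_surjective Ideal.Quotient.mk_surjective)
  have hl₂ : l₂.last.asIdeal = p := by
    rw [LTSeries.last_map, PrimeSpectrum.comap_asIdeal, hlq]
    show Ideal.comap _ (Ideal.map _ p) = p
    rw [Ideal.comap_map_of_surjective _ Ideal.Quotient.mk_surjective, ← RingHom.ker_eq_comap_bot,
      Ideal.mk_ker, sup_eq_left.2 (core_le p)]
  have hh₂ : core 𝒜 p ≤ l₂.head.asIdeal := by
    rw [LTSeries.head_map, PrimeSpectrum.comap_asIdeal]
    exact (Ideal.mk_ker (I := core 𝒜 p)).symm.le.trans (Ideal.comap_mono bot_le)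
  have hlen₂ : l₂.length = d := hlenq'
  rcases (show l₁.last ≤ l₂.head from hl₁.le.trans hh₂).eq_or_lt with h | h
  · exact ⟨l₁.smash l₂ h, (RelSeries.head_smash _).trans hh₁,
      (congrArg PrimeSpectrum.asIdeal (RelSeries.last_smash _)).le.trans hl₂.le, by rw [RelSeries.smash_length]; omega⟩
  · exact ⟨l₁.append l₂ h, (RelSeries.head_append _ _ _).trans hh₁,
      (congrArg PrimeSpectrum.asIdeal (RelSeries.last_append _ _ _)).le.trans hl₂.le, by rw [RelSeries.append_length]; omega⟩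

/-- The primes between a homogeneous ideal and a prime. -/
abbrev primesBetween (J p : Ideal R) : Set (PrimeSpectrum R) := {q | J ≤ q.asIdeal ∧ q.asIdeal ≤ p}

theorem krullDim_primesBetween [IsNoetherianRing R] {p : Ideal R} [hp : p.IsPrime] {d : ℕ}
    (hd : (p.map (Ideal.Quotient.mk (core 𝒜 p))).height = d) {J : Ideal R} (hJ : J.IsHomogeneous 𝒜) (hJp : J ≤ p) :
    krullDim (primesBetween J p) = krullDim (primesBetween J (core 𝒜 p)) + (d : WithBot ℕ∞) := by
  have hne : Nonempty (primesBetween J p) := ⟨⟨⟨p, hp⟩, hJp, le_rfl⟩⟩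
  have hne' : Nonempty (primesBetween J (core 𝒜 p)) := ⟨⟨corePt (𝒜 := 𝒜) p, le_core hJ hJp, le_rfl⟩⟩
  have lift : ∀ (q : Ideal R) (L : LTSeries (PrimeSpectrum R)), J ≤ L.head.asIdeal → L.last.asIdeal ≤ q →
      ((L.length : ℕ) : WithBot ℕ∞) ≤ krullDim (primesBetween J q) := fun q L h1 h2 =>
    Order.LTSeries.length_le_krullDim (LTSeries.mk L.length
      (fun i => (⟨L i, h1.trans (LTSeries.head_le L i), (show (L i).asIdeal ≤ L.last.asIdeal from L.monotone (Fin.le_last i)).trans h2⟩ : primesBetween J q))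
      fun i j hij => L.strictMono hij)
  apply le_antisymm
  · refine iSup_le fun l => ?_
    let L : LTSeries (PrimeSpectrum R) := l.map Subtype.val (fun _ _ h => h)
    obtain ⟨l', hh', hl', hlen⟩ := exists_series_core hd (core 𝒜 L.head.asIdeal) (isPrime_core _)
      (isHomogeneous_core _) L (core_le _) l.last.2.2
    calc ((l.length : ℕ) : WithBot ℕ∞) ≤ ((l'.length + d : ℕ) : WithBot ℕ∞) := by exact_mod_cast hlen
      _ = (l'.length : WithBot ℕ∞) + d := by push_cast; rfl
      _ ≤ _ := by gcongr; exact lift _ l' ((le_core hJ l.head.2.1).trans hh') hl'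
  · rw [krullDim_eq_iSup_length, ← WithBot.coe_natCast, ← WithBot.coe_add, ENat.iSup_add, WithBot.coe_iSup (OrderTop.bddAbove _)]
    refine iSup_le fun l' => ?_
    obtain ⟨l, hh, hl, hlen⟩ := exists_series_extend hd (l'.map Subtype.val (fun _ _ h => h)) l'.last.2.2
    refine le_trans ?_ (lift p l (by rw [hh]; exact l'.head.2.1) hl)
    calc (((l'.length : ℕ∞) + (d : ℕ∞) : ℕ∞) : WithBot ℕ∞) = ((l'.length + d : ℕ) : WithBot ℕ∞) := by push_cast; rfl
      _ ≤ _ := by exact_mod_cast hlen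

theorem height_eq_height_core_add [IsNoetherianRing R] {p : Ideal R} [hp : p.IsPrime] {d : ℕ}
    (hd : (p.map (Ideal.Quotient.mk (core 𝒜 p))).height = d) :
    p.height = (core 𝒜 p).height + d := by
  have := isPrime_core (𝒜 := 𝒜) p
  have key : ∀ (q : Ideal R) (hq : q.IsPrime),
      krullDim (primesBetween ⊥ q) = (q.height : WithBot ℕ∞) := fun q hq => by
    have e : primesBetween (⊥ : Ideal R) q = Set.Iic (⟨q, hq⟩ : PrimeSpectrum R) := by
      ext x
      exact ⟨fun h => h.2, fun h => ⟨bot_le, h⟩⟩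
    rw [e, ← Order.height_eq_krullDim_Iic, ← PrimeSpectrum.height_eq_orderHeight]
  have h := krullDim_primesBetween hd (J := ⊥) (Ideal.IsHomogeneous.bot 𝒜) bot_le
  rw [key p hp, key _ this] at h
  exact_mod_cast h

end Groth.Agent.GrLC21
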