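import Groth.Agent.Lib.GrLC21.BassShift
import Groth.Agent.Lib.HomDim.Basic
import Mathlib.RingTheory.LocalProperties.InjectiveDimension

/-!
# Injective dimension is controlled by the Bass numbers
-/

universe u

open CategoryTheory Abelian

noncomputable section

set_option linter.unusedSectionVars false
set_option backward.isDefEq.respectTransparency false

namespace Groth.Agent.GrLC21

variable {R : Type u} [CommRing R] [IsNoetherianRing R]

/-- A class in `Ext` is killed outside `S` if the localised `Ext` vanishes. -/
theorem exists_smul_ext_eq_zero (S : Submonoid R) (Q : Type u) [AddCommGroup Q] [Module R Q] [Module.Finite R Q]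
    (j : ℕ) : ∀ (M : Type u) [AddCommGroup M] [Module R M],
      Subsingleton (Ext.{u} (ModuleCat.of (Localization S) (LocalizedModule S Q))
        (ModuleCat.of (Localization S) (LocalizedModule S M)) (j + 1)) →
      ∀ e : Ext.{u} (ModuleCat.of R Q) (ModuleCat.of R M) (j + 1), ∃ s : S, (s : R) • e = 0 := by
  induction j with
  | zero =>
    intro M _ _ hloc e
    let ⟨J, _, f, _⟩ := EnoughInjectives.presentation (ModuleCat.of R M)
    let f' : M →ₗ[R] J := f.hom
    have hf : Function.Injective f' := (ModuleCat.mono_iff_injective f).mp ‹_›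
    let g : J →ₗ[R] J ⧸ LinearMap.range f' := Submodule.mkQ _
    have hg : Function.Surjective g := Submodule.mkQ_surjective _
    have hfg : Function.Exact f' g := LinearMap.exact_map_mkQ_range f'
    have hJ : Injective (ModuleCat.of R J) := (inferInstance : Injective J)
    have : Module.Injective R J := (Module.injective_iff_injective_object R J).2 hJ
    have : Module.Injective (Localization S) (LocalizedModule S J) :=
      Module.injective_of_isLocalizedModule S (LocalizedModule.mkLinearMap S J)
    have hJS : Injective (ModuleCat.of (Localization S) (LocalizedModule S J)) :=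
      (Module.injective_iff_injective_object _ _).1 this
    obtain ⟨δ, hδ, hker⟩ := exists_ext_one Q hf hg hfg
      (subsingleton_of_forall_eq 0 fun y => Ext.eq_zero_of_injective y)
    obtain ⟨δ', hδ', hker'⟩ := exists_ext_one (LocalizedModule S Q) (LocalizedModule.map_injective S f' hf)
      (LocalizedModule.map_surjective S g hg) (LocalizedModule.map_exact S f' g hfg)
      (subsingleton_of_forall_eq 0 fun y => Ext.eq_zero_of_injective y)
    obtain ⟨φ, rfl⟩ := hδ e
    obtain ⟨ψ, hψ⟩ := (hker' (LocalizedModule.map S φ)).1 (hloc.elim _ _)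
    obtain ⟨ψ₀, s, hs⟩ := exists_lift_localized S ψ
    have h : LocalizedModule.map S (g ∘ₗ ψ₀) = LocalizedModule.map S ((s : R) • φ) := by
      rw [map_smul, ← hψ]
      refine LinearMap.ext fun z => ?_
      rw [LinearMap.smul_apply, LinearMap.comp_apply, ← LinearMap.map_smul_of_tower (LocalizedModule.map S g),
        ← LinearMap.smul_apply, hs]
      induction z using LocalizedModule.induction_on with
      | h m t => simp [LocalizedModule.map_mk]
    have : Module.FinitePresentation R Q := Module.finitePresentation_of_finite R Q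
    obtain ⟨t, ht⟩ := IsLocalizedModule.exists_of_eq (S := S) h
    refine ⟨t * s, ?_⟩
    rw [Submonoid.coe_mul, mul_smul, ← map_smul, ← map_smul, hker]
    exact ⟨(t : R) • ψ₀, by rw [LinearMap.comp_smul]; exact ht⟩
  | succ j ih =>
    intro M _ _ hloc e
    let ⟨J, _, f, _⟩ := EnoughInjectives.presentation (ModuleCat.of R M)
    let f' : M →ₗ[R] J := f.hom
    have hf : Function.Injective f' := (ModuleCat.mono_iff_injective f).mp ‹_›
    let g : J →ₗ[R] J ⧸ LinearMap.range f' := Submodule.mkQ _
    have hg : Function.Surjective g := Submodule.mkQ_surjective _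
    have hfg : Function.Exact f' g := LinearMap.exact_map_mkQ_range f'
    have hJ : Injective (ModuleCat.of R J) := (inferInstance : Injective J)
    have : Module.Injective R J := (Module.injective_iff_injective_object R J).2 hJ
    have : Module.Injective (Localization S) (LocalizedModule S J) :=
      Module.injective_of_isLocalizedModule S (LocalizedModule.mkLinearMap S J)
    have hJS : Injective (ModuleCat.of (Localization S) (LocalizedModule S J)) :=
      (Module.injective_iff_injective_object _ _).1 this
    obtain ⟨ε⟩ := nonempty_ext_succ_equiv Q hf hg hfg (j + 1)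
      (subsingleton_of_forall_eq 0 fun y => Ext.eq_zero_of_injective y)
      (subsingleton_of_forall_eq 0 fun y => Ext.eq_zero_of_injective y)
    obtain ⟨ε'⟩ := nonempty_ext_succ_equiv (LocalizedModule S Q) (LocalizedModule.map_injective S f' hf)
      (LocalizedModule.map_surjective S g hg) (LocalizedModule.map_exact S f' g hfg) (j + 1)
      (subsingleton_of_forall_eq 0 fun y => Ext.eq_zero_of_injective y)
      (subsingleton_of_forall_eq 0 fun y => Ext.eq_zero_of_injective y)
    obtain ⟨s, hs⟩ := ih _ (ε'.toEquiv.subsingleton) (ε.symm e)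
    exact ⟨s, ε.symm.injective (by rw [map_smul, hs, map_zero])⟩

/-- The localised residue ring of a prime is its residue field. -/
theorem nonempty_localized_residue (P : Ideal R) [P.IsPrime] :
    Nonempty (LocalizedModule P.primeCompl (R ⧸ P) ≃ₗ[Localization.AtPrime P]
      IsLocalRing.ResidueField (Localization.AtPrime P)) := by
  let ρ : Localization.AtPrime P →ₗ[Localization.AtPrime P] LocalizedModule P.primeCompl (R ⧸ P) :=
    LinearMap.toSpanSingleton _ _ (LocalizedModule.mk (1 : R ⧸ P) 1)
  have hρ : Function.Surjective ρ := fun z => by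
    induction z using LocalizedModule.induction_on with
    | h m t =>
      obtain ⟨r, rfl⟩ := Ideal.Quotient.mk_surjective m
      refine ⟨Localization.mk r t, ?_⟩
      show Localization.mk r t • LocalizedModule.mk (1 : R ⧸ P) (1 : P.primeCompl) = _
      rw [LocalizedModule.mk_smul_mk, mul_one]
      congr 1
      rw [Algebra.smul_def, mul_one]
      rfl
  have hne : (LocalizedModule.mk (1 : R ⧸ P) 1 : LocalizedModule P.primeCompl (R ⧸ P)) ≠ 0 := fun h => by
    rw [← LocalizedModule.zero_mk 1, LocalizedModule.mk_eq] at h
    obtain ⟨t, ht⟩ := h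
    simp only [one_smul, smul_zero, Submonoid.smul_def, Algebra.smul_def, mul_one] at ht
    exact t.2 (Ideal.Quotient.eq_zero_iff_mem.1 ht)
  have hker : LinearMap.ker ρ = IsLocalRing.maximalIdeal (Localization.AtPrime P) := by
    refine ((IsLocalRing.maximalIdeal.isMaximal _).eq_of_le ?_ fun z hz => ?_).symm
    · intro htop
      have h1 : (1 : Localization.AtPrime P) ∈ LinearMap.ker ρ := by rw [htop]; trivial
      exact hne ((one_smul (Localization.AtPrime P) _).symm.trans (LinearMap.mem_ker.1 h1))
    · induction z using Localization.induction_on with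
      | H x =>
        obtain ⟨r, t⟩ := x
        have hr : r ∈ P := by
          rwa [Localization.mk_eq_mk', IsLocalization.AtPrime.mk'_mem_maximal_iff (Localization.AtPrime P) P] at hz
        rw [LinearMap.mem_ker]
        show Localization.mk r t • LocalizedModule.mk (1 : R ⧸ P) (1 : P.primeCompl) = 0
        rw [LocalizedModule.mk_smul_mk, Algebra.smul_def, mul_one, Ideal.Quotient.algebraMap_eq,
          Ideal.Quotient.eq_zero_iff_mem.2 hr, LocalizedModule.zero_mk]
  exact ⟨(LinearMap.quotKerEquivOfSurjective ρ hρ).symm.trans (Submodule.quotEquivOfEq _ _ hker)⟩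

theorem bassNum_eq_zero_iff (P : Ideal R) [P.IsPrime] (M : Type u) [AddCommGroup M] [Module R M] (i : ℕ) :
    GrLC.bassNum P M i = 0 ↔
      Subsingleton (Ext.{u} (ModuleCat.of (Localization.AtPrime P) (LocalizedModule P.primeCompl (R ⧸ P)))
        (ModuleCat.of (Localization.AtPrime P) (LocalizedModule P.primeCompl M)) i) := by
  obtain ⟨e⟩ := nonempty_localized_residue P
  obtain ⟨e'⟩ := nonempty_ext_congr_left (P := LocalizedModule P.primeCompl M) e i
  exact Iff.trans Module.length_eq_zero_iff e'.toEquiv.subsingleton_congr.symm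

/-- Vanishing Bass numbers from `n + 1` on force vanishing of `Ext` out of finite modules. -/
theorem subsingleton_ext_of_bassNum {M : Type u} [AddCommGroup M] [Module R M] {n : ℕ}
    (h : ∀ (P : Ideal R) [P.IsPrime] (i : ℕ), n < i → GrLC.bassNum P M i = 0)
    (Q : Type u) [AddCommGroup Q] [Module R Q] [Module.Finite R Q] (i : ℕ) (hi : n < i) :
    Subsingleton (Ext.{u} (ModuleCat.of R Q) (ModuleCat.of R M) i) := by
  suffices key : ∀ P : Ideal R, P.IsPrime → ∀ i, n < i →
      Subsingleton (Ext.{u} (ModuleCat.of R (R ⧸ P)) (ModuleCat.of R M) i) from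
    DepthLib.subsingleton_ext_of_forall_prime Q i fun p _ => key _ p.2 i hi
  intro P
  induction P using WellFoundedGT.induction with
  | _ P ih =>
    intro hP i hi
    obtain ⟨j, rfl⟩ : ∃ j, i = j + 1 := ⟨i - 1, by omega⟩
    refine subsingleton_of_forall_eq 0 fun e => ?_
    obtain ⟨s, hs⟩ := exists_smul_ext_eq_zero P.primeCompl (R ⧸ P) j M
      ((bassNum_eq_zero_iff P M (j + 1)).1 (h P (j + 1) hi)) e
    let μ : (R ⧸ P) →ₗ[R] (R ⧸ P) := (s : R) • LinearMap.id
    have hμ : Function.Injective μ := fun a b hab => by
      have hs0 : (Ideal.Quotient.mk P (s : R)) ≠ 0 := fun h => s.2 (Ideal.Quotient.eq_zero_iff_mem.1 h)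
      have hab' : (s : R) • a = (s : R) • b := hab
      rw [Algebra.smul_def, Algebra.smul_def] at hab'
      exact mul_left_cancel₀ hs0 hab'
    have hS := DepthLib.shortExact_of_linearMap hμ (Submodule.mkQ_surjective (LinearMap.range μ))
      (LinearMap.exact_map_mkQ_range μ)
    have hC : Subsingleton (Ext.{u} (ModuleCat.of R ((R ⧸ P) ⧸ LinearMap.range μ)) (ModuleCat.of R M) (j + 1)) := by
      refine DepthLib.subsingleton_ext_of_forall_prime _ (j + 1) fun p hp => ih p.asIdeal ?_ p.2 _ hi
      have hann : P ⊔ Ideal.span {(s : R)} ≤ Module.annihilator R ((R ⧸ P) ⧸ LinearMap.range μ) := by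
        refine sup_le (fun r hr => ?_) ?_
        · rw [Module.mem_annihilator]
          intro z
          obtain ⟨w, rfl⟩ := Submodule.mkQ_surjective _ z
          rw [← map_smul, Algebra.smul_def, Ideal.Quotient.algebraMap_eq, Ideal.Quotient.eq_zero_iff_mem.2 hr,
            zero_mul, map_zero]
        · rw [Ideal.span_le, Set.singleton_subset_iff, SetLike.mem_coe, Module.mem_annihilator]
          intro z
          obtain ⟨w, rfl⟩ := Submodule.mkQ_surjective _ z
          rw [← map_smul, Submodule.mkQ_apply, Submodule.Quotient.mk_eq_zero]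
          exact ⟨w, rfl⟩
      rw [Module.support_eq_zeroLocus] at hp
      refine lt_of_le_not_ge ((le_sup_left.trans hann).trans hp) fun hle => s.2 ?_
      exact hle (hp (hann (Ideal.mem_sup_right (Ideal.subset_span rfl))))
    have hmul : (Ext.mk₀ (ModuleCat.ofHom μ)).comp e (zero_add (j + 1)) = (s : R) • e := by
      rw [show ModuleCat.ofHom μ = (s : R) • 𝟙 (ModuleCat.of R (R ⧸ P)) from rfl, Ext.mk₀_smul, Ext.smul_comp,
        Ext.mk₀_id_comp]
    obtain ⟨y, hy⟩ := Ext.contravariant_sequence_exact₂ hS _ e (hmul.trans hs)
    rw [← hy, hC.elim y 0, Ext.comp_zero]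

/-- Injective dimension at most `n` from the vanishing of the Bass numbers above `n`. -/
theorem hasInjectiveDimensionLT_of_bassNum {M : Type u} [AddCommGroup M] [Module R M] (n : ℕ)
    (h : ∀ (P : Ideal R) [P.IsPrime] (i : ℕ), n < i → GrLC.bassNum P M i = 0) :
    HasInjectiveDimensionLT (ModuleCat.of R M) (n + 1) :=
  HomDim.hasInjectiveDimensionLT_of_subsingleton_ext n _ fun I =>
    subsingleton_ext_of_bassNum h (R ⧸ I) (n + 1) n.lt_succ_self

end Groth.Agent.GrLC21
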