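import Groth.Agent.Lib.GrLC21.Coh

/-!
# Functoriality of graded local cohomology computed from *injective resolutions
-/

universe u

open DirectSum

noncomputable section

set_option linter.unusedSectionVars false

namespace Groth.Agent.GrLC21

variable {ι : Type} [AddCommGroup ι] [DecidableEq ι]
variable {R : Type u} [CommRing R] {σ : Type u} [SetLike σ R] [AddSubgroupClass σ R]
  {𝒜 : ι → σ} [GradedRing 𝒜]
variable {M : Type u} [AddCommGroup M] [Module R M] {τ : Type u} [SetLike τ M] [AddSubgroupClass τ M]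
  {ℳ : ι → τ} [Decomposition ℳ] [SetLike.GradedSMul 𝒜 ℳ]
variable {N : Type u} [AddCommGroup N] [Module R N] {τ' : Type u} [SetLike τ' N] [AddSubgroupClass τ' N]
  {𝒩 : ι → τ'} [Decomposition 𝒩] [SetLike.GradedSMul 𝒜 𝒩]
variable {P : Type u} [AddCommGroup P] [Module R P] {τ'' : Type u} [SetLike τ'' P] [AddSubgroupClass τ'' P]
  {𝒫' : ι → τ''} [Decomposition 𝒫'] [SetLike.GradedSMul 𝒜 𝒫']

theorem isGrHom_sub {M N : Type u} [AddCommGroup M] [Module R M] [AddCommGroup N] [Module R N]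
    {τ τ' : Type u} [SetLike τ M] [SetLike τ' N] [AddSubgroupClass τ' N] {ℳ : ι → τ}
    [AddSubgroupClass τ M] {𝒩 : ι → τ'} {f g : M →ₗ[R] N} (hf : GrLC.IsGrHom ℳ 𝒩 f)
    (hg : GrLC.IsGrHom ℳ 𝒩 g) : GrLC.IsGrHom ℳ 𝒩 (f - g) :=
  fun d m hm => by rw [LinearMap.sub_apply]; exact sub_mem (hf d m hm) (hg d m hm)

theorem isGrHom_neg {M N : Type u} [AddCommGroup M] [Module R M] [AddCommGroup N] [Module R N]
    {τ τ' : Type u} [SetLike τ M] [SetLike τ' N] [AddSubgroupClass τ' N] {ℳ : ι → τ}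
    [AddSubgroupClass τ M] {𝒩 : ι → τ'} {f : M →ₗ[R] N} (hf : GrLC.IsGrHom ℳ 𝒩 f) :
    GrLC.IsGrHom ℳ 𝒩 (-f) :=
  fun d m hm => by rw [LinearMap.neg_apply]; exact neg_mem (hf d m hm)

/-- A homogeneous map of resolutions. -/
structure ResMap (E : GrLC.StarInjRes 𝒜 ℳ) (F : GrLC.StarInjRes 𝒜 𝒩) where
  /-- the components -/
  f : ∀ n, (E.X n).carrier →ₗ[R] (F.X n).carrier
  grHom : ∀ n, GrLC.IsGrHom (E.X n).gr (F.X n).gr (f n)
  comm : ∀ n x, F.d n (f n x) = f (n + 1) (E.d n x)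

variable {E : GrLC.StarInjRes 𝒜 ℳ} {F : GrLC.StarInjRes 𝒜 𝒩} {G : GrLC.StarInjRes 𝒜 𝒫'}

/-- Lifts a map of modules. -/
def ResMap.Lifts (φ : ResMap E F) (u : M →ₗ[R] N) : Prop := ∀ m, φ.f 0 (E.ε m) = F.ε (u m)

/-- The identity. -/
def ResMap.id (E : GrLC.StarInjRes 𝒜 ℳ) : ResMap E E :=
  ⟨fun _ => LinearMap.id, fun _ _ _ h => h, fun _ _ => rfl⟩

/-- Composition. -/
def ResMap.comp (ψ : ResMap F G) (φ : ResMap E F) : ResMap E G :=
  ⟨fun n => ψ.f n ∘ₗ φ.f n, fun n => isGrHom_comp (ψ.grHom n) (φ.grHom n), fun n x => by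
    rw [LinearMap.comp_apply, LinearMap.comp_apply, ψ.comm, φ.comm]⟩

/-- Difference. -/
def ResMap.sub (φ ψ : ResMap E F) : ResMap E F :=
  ⟨fun n => φ.f n - ψ.f n, fun n => isGrHom_sub (φ.grHom n) (ψ.grHom n), fun n x => by
    rw [LinearMap.sub_apply, LinearMap.sub_apply, map_sub, φ.comm, ψ.comm]⟩

theorem ResMap.lifts_id : (ResMap.id E).Lifts LinearMap.id := fun _ => rfl

theorem ResMap.Lifts.comp {ψ : ResMap F G} {φ : ResMap E F} {v : N →ₗ[R] P} {u : M →ₗ[R] N}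
    (hψ : ψ.Lifts v) (hφ : φ.Lifts u) : (ψ.comp φ).Lifts (v ∘ₗ u) := fun m =>
  (congrArg (ψ.f 0) (hφ m)).trans (hψ (u m))

section Lift

variable (E F)

/-- A partial lift. -/
abbrev LiftStep (n : ℕ) : Type u :=
  {f : (E.X n).carrier →ₗ[R] (F.X n).carrier //
    GrLC.IsGrHom (E.X n).gr (F.X n).gr f ∧ LinearMap.ker (E.d n) ≤ LinearMap.ker (F.d n ∘ₗ f)}

theorem LiftStep.exists_zero {u : M →ₗ[R] N} (hu : GrLC.IsGrHom ℳ 𝒩 u) :
    ∃ s : LiftStep E F 0, ∀ m, s.1 (E.ε m) = F.ε (u m) := by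
  obtain ⟨w, hw, e⟩ := exists_extend (F.starInj 0) (X := toGMod 𝒜 ℳ) (d := E.ε) E.ε_grHom
    (u := F.ε ∘ₗ u) (fun g m hm => F.ε_grHom g _ (hu g m hm)) (fun x hx => by
      have h0 : x = 0 := E.ε_injective (hx.trans E.ε.map_zero.symm)
      rw [h0]
      exact Submodule.zero_mem _)
  refine ⟨⟨w, hw, fun x hx => ?_⟩, fun m => LinearMap.congr_fun e m⟩
  rw [E.exact_zero] at hx
  obtain ⟨m, rfl⟩ := hx
  change F.d 0 (w (E.ε m)) = 0
  refine (congrArg (F.d 0) (LinearMap.congr_fun e m)).trans ?_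
  exact LinearMap.mem_ker.1 (F.exact_zero.ge (LinearMap.mem_range_self F.ε (u m)))

variable {E F}

theorem LiftStep.exists_next {n : ℕ} (s : LiftStep E F n) :
    ∃ t : LiftStep E F (n + 1), ∀ x, F.d n (s.1 x) = t.1 (E.d n x) := by
  obtain ⟨w, hw, e⟩ := exists_extend (F.starInj (n + 1)) (E.d_grHom n)
    (isGrHom_comp (F.d_grHom n) s.2.1) s.2.2
  refine ⟨⟨w, hw, fun x hx => ?_⟩, fun x => (LinearMap.congr_fun e x).symm⟩
  rw [E.exact_succ n] at hx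
  obtain ⟨y, rfl⟩ := hx
  change F.d (n + 1) (w (E.d n y)) = 0
  exact (congrArg (F.d (n + 1)) (LinearMap.congr_fun e y)).trans (d_d F n _)

variable (E F)

theorem exists_lift {u : M →ₗ[R] N} (hu : GrLC.IsGrHom ℳ 𝒩 u) : ∃ φ : ResMap E F, φ.Lifts u := by
  obtain ⟨s₀, hs₀⟩ := LiftStep.exists_zero E F hu
  let s : ∀ n, LiftStep E F n := fun n => Nat.rec s₀ (fun _ t => (LiftStep.exists_next t).choose) n
  exact ⟨⟨fun n => (s n).1, fun n => (s n).2.1,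
    fun n x => (LiftStep.exists_next (s n)).choose_spec x⟩, hs₀⟩

end Lift

section OnH

variable (a : HomogeneousIdeal 𝒜)

/-- The map on cocycles. -/
def ResMap.onCocyc (φ : ResMap E F) (i : ℕ) : E.cocyc a i →ₗ[R] F.cocyc a i :=
  ((φ.f i).comp (E.cocyc a i).subtype).codRestrict _ fun z =>
    ⟨map_mem_gam (φ.f i) z.2.1,
      (φ.comm i z).trans ((congrArg _ (LinearMap.mem_ker.1 z.2.2)).trans (map_zero _))⟩

theorem ResMap.onCocyc_cobdy (φ : ResMap E F) : ∀ (i : ℕ) (z : E.cocyc a i),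
    (z : (E.X i).carrier) ∈ E.cobdy a i → (φ.onCocyc a i z : (F.X i).carrier) ∈ F.cobdy a i
  | 0, z, hz => by
    change φ.f 0 z.1 ∈ (⊥ : Submodule R (F.X 0).carrier)
    rw [Submodule.mem_bot, (Submodule.mem_bot R).1 hz, map_zero]
  | n + 1, z, ⟨y, hy, e⟩ => ⟨φ.f n y, map_mem_gam (φ.f n) hy, (φ.comm n y).trans (congrArg _ e)⟩

/-- The map on cohomology. -/
def ResMap.onH (φ : ResMap E F) (i : ℕ) : E.H a i →ₗ[R] F.H a i :=
  Submodule.liftQ _ (F.toH a i ∘ₗ φ.onCocyc a i) fun z hz =>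
    (toH_eq_zero_iff F a _).2 (φ.onCocyc_cobdy a i z hz)

theorem ResMap.onH_toH (φ : ResMap E F) (i : ℕ) (z : E.cocyc a i) :
    φ.onH a i (E.toH a i z) = F.toH a i (φ.onCocyc a i z) := rfl

theorem ResMap.onH_grHom (φ : ResMap E F) (i : ℕ) :
    GrLC.IsGrHom (E.Hgr a i) (F.Hgr a i) (φ.onH a i) := fun g _ ⟨z, hz, e⟩ =>
  e ▸ ⟨φ.onCocyc a i z, φ.grHom i g _ hz, rfl⟩

theorem ResMap.onH_comp (ψ : ResMap F G) (φ : ResMap E F) (i : ℕ) :
    (ψ.comp φ).onH a i = ψ.onH a i ∘ₗ φ.onH a i := by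
  refine LinearMap.ext fun x => ?_
  obtain ⟨z, rfl⟩ := toH_surjective E a i x
  rfl

theorem ResMap.onH_id (i : ℕ) : (ResMap.id E).onH a i = LinearMap.id := by
  refine LinearMap.ext fun x => ?_
  obtain ⟨z, rfl⟩ := toH_surjective E a i x
  rfl

theorem ResMap.onH_sub (φ ψ : ResMap E F) (i : ℕ) :
    (φ.sub ψ).onH a i = φ.onH a i - ψ.onH a i := by
  refine LinearMap.ext fun x => ?_
  obtain ⟨z, rfl⟩ := toH_surjective E a i x
  rfl

/-- A partial contraction. -/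
abbrev HomotopyStep (φ : ResMap E F) (n : ℕ) : Type u :=
  {s : (E.X (n + 1)).carrier →ₗ[R] (F.X n).carrier //
    GrLC.IsGrHom (E.X (n + 1)).gr (F.X n).gr s ∧
      LinearMap.ker (E.d (n + 1)) ≤ LinearMap.ker (φ.f (n + 1) - F.d n ∘ₗ s)}

theorem HomotopyStep.exists_next {φ : ResMap E F} {n : ℕ} (s : HomotopyStep φ n) :
    ∃ t : HomotopyStep φ (n + 1), ∀ x, φ.f (n + 1) x = F.d n (s.1 x) + t.1 (E.d (n + 1) x) := by
  obtain ⟨w, hw, e⟩ := exists_extend (F.starInj (n + 1)) (E.d_grHom (n + 1))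
    (isGrHom_sub (φ.grHom (n + 1)) (isGrHom_comp (F.d_grHom n) s.2.1)) s.2.2
  have e' : ∀ x, φ.f (n + 1) x = F.d n (s.1 x) + w (E.d (n + 1) x) := fun x => by
    rw [show w (E.d (n + 1) x) = φ.f (n + 1) x - F.d n (s.1 x) from LinearMap.congr_fun e x,
      add_sub_cancel]
  refine ⟨⟨w, hw, fun x hx => ?_⟩, e'⟩
  rw [E.exact_succ (n + 1)] at hx
  obtain ⟨y, rfl⟩ := hx
  have h := congrArg (F.d (n + 1)) (e' y)
  rw [map_add, d_d, zero_add, φ.comm] at h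
  rw [LinearMap.mem_ker, LinearMap.sub_apply, LinearMap.comp_apply, ← h, sub_self]

theorem ResMap.onH_eq_zero (φ : ResMap E F) (h : ∀ m, φ.f 0 (E.ε m) = 0) (i : ℕ) :
    φ.onH a i = 0 := by
  obtain ⟨w, hw, e⟩ := exists_extend (F.starInj 0) (E.d_grHom 0) (φ.grHom 0) fun x hx => by
    rw [E.exact_zero] at hx
    obtain ⟨m, rfl⟩ := hx
    exact h m
  let s₀ : HomotopyStep φ 0 := ⟨w, hw, fun x hx => by
    rw [E.exact_succ 0] at hx
    obtain ⟨y, rfl⟩ := hx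
    rw [LinearMap.mem_ker, LinearMap.sub_apply, LinearMap.comp_apply,
      show w (E.d 0 y) = φ.f 0 y from LinearMap.congr_fun e y, φ.comm, sub_self]⟩
  let s : ∀ n, HomotopyStep φ n := fun n => Nat.rec s₀ (fun _ t => (HomotopyStep.exists_next t).choose) n
  refine LinearMap.ext fun x => ?_
  obtain ⟨z, rfl⟩ := toH_surjective E a i x
  refine (toH_eq_zero_iff F a _).2 ?_
  rcases i with _ | n
  · change φ.f 0 z.1 ∈ (⊥ : Submodule R (F.X 0).carrier)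
    rw [Submodule.mem_bot, ← show w (E.d 0 z.1) = φ.f 0 z.1 from LinearMap.congr_fun e z.1,
      show E.d 0 z.1 = 0 from z.2.2, map_zero]
  · refine ⟨(s n).1 z.1, map_mem_gam (s n).1 z.2.1, ?_⟩
    have h' := (HomotopyStep.exists_next (s n)).choose_spec z.1
    rw [show E.d (n + 1) z.1 = 0 from z.2.2, map_zero, add_zero] at h'
    exact h'.symm

theorem ResMap.onH_eq {φ ψ : ResMap E F} {u : M →ₗ[R] N} (hφ : φ.Lifts u) (hψ : ψ.Lifts u) (i : ℕ) :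
    φ.onH a i = ψ.onH a i :=
  sub_eq_zero.1 ((ResMap.onH_sub a φ ψ i).symm.trans ((φ.sub ψ).onH_eq_zero a
    (fun m => by
      show φ.f 0 (E.ε m) - ψ.f 0 (E.ε m) = 0
      rw [hφ m, hψ m, sub_self]) i))

variable (E F)

/-- The map induced on cohomology by a homogeneous map. -/
def Hmap {u : M →ₗ[R] N} (hu : GrLC.IsGrHom ℳ 𝒩 u) (i : ℕ) : E.H a i →ₗ[R] F.H a i :=
  (exists_lift E F hu).choose.onH a i

variable {E F}

theorem Hmap_eq {u : M →ₗ[R] N} (hu : GrLC.IsGrHom ℳ 𝒩 u) {φ : ResMap E F} (hφ : φ.Lifts u) (i : ℕ) :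
    Hmap E F a hu i = φ.onH a i :=
  ResMap.onH_eq a (exists_lift E F hu).choose_spec hφ i

theorem Hmap_grHom {u : M →ₗ[R] N} (hu : GrLC.IsGrHom ℳ 𝒩 u) (i : ℕ) :
    GrLC.IsGrHom (E.Hgr a i) (F.Hgr a i) (Hmap E F a hu i) :=
  ResMap.onH_grHom a _ i

theorem Hmap_comp {u : M →ₗ[R] N} (hu : GrLC.IsGrHom ℳ 𝒩 u) {v : N →ₗ[R] P} (hv : GrLC.IsGrHom 𝒩 𝒫' v)
    (i : ℕ) : Hmap F G a hv i ∘ₗ Hmap E F a hu i = Hmap E G a (isGrHom_comp hv hu) i :=
  ((Hmap_eq a (isGrHom_comp hv hu) ((exists_lift F G hv).choose_spec.comp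
    (exists_lift E F hu).choose_spec) i).trans (ResMap.onH_comp a _ _ i)).symm

theorem Hmap_congr {u u' : M →ₗ[R] N} (hu : GrLC.IsGrHom ℳ 𝒩 u) (hu' : GrLC.IsGrHom ℳ 𝒩 u')
    (h : u = u') (i : ℕ) : Hmap E F a hu i = Hmap E F a hu' i := by subst h; rfl

theorem Hmap_id (i : ℕ) : Hmap E E a (isGrHom_id ℳ) i = LinearMap.id :=
  (Hmap_eq a _ ResMap.lifts_id i).trans (ResMap.onH_id a i)

variable (E F)

/-- An isomorphism of modules induces one on cohomology. -/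
def Hequiv (e : M ≃ₗ[R] N) (he : GrLC.IsGrHom ℳ 𝒩 e.toLinearMap) (i : ℕ) : E.H a i ≃ₗ[R] F.H a i :=
  LinearEquiv.ofLinear (Hmap E F a he i) (Hmap F E a (isGrHom_symm he) i)
    (by rw [Hmap_comp]; exact (Hmap_congr a _ (isGrHom_id 𝒩) (by simp) i).trans (Hmap_id a i))
    (by rw [Hmap_comp]; exact (Hmap_congr a _ (isGrHom_id ℳ) (by simp) i).trans (Hmap_id a i))

end OnH

end Groth.Agent.GrLC21
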