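import Groth.Agent.Lib.GrLC21.MinRes
import Groth.Agent.Lib.GrLC21.InjDimLocal
import Groth.Agent.Lib.GrLC21.CoreHeight
import Groth.Agent.Lib.GrLC21.Map
import Groth.Agent.Lib.Goren.GorenDual27
import Groth.Agent.Lib.Goren.LocCohTop
import Groth.Agent.Lib.Goren15.Equiv

/-!
# Gorenstein graded rings: the top local cohomology is a shifted *injective envelope of `R ⧸ m`
-/

universe u

open DirectSum CategoryTheory Abelian

noncomputable section

set_option linter.unusedSectionVars false
set_option backward.isDefEq.respectTransparency false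

namespace Groth.Agent.GrLC21

section Local

variable {R : Type u} [CommRing R] [IsNoetherianRing R] (P : Ideal R) [P.IsPrime]

theorem bassNum_self_eq_zero_iff (i : ℕ) : GrLC.bassNum P R i = 0 ↔
    Subsingleton (Ext.{u} (ModuleCat.of (Localization.AtPrime P) (IsLocalRing.ResidueField (Localization.AtPrime P)))
      (ModuleCat.of (Localization.AtPrime P) (Localization.AtPrime P)) i) := by
  let c : LocalizedModule P.primeCompl R ≃ₗ[Localization.AtPrime P] Localization.AtPrime P :=
    (IsLocalizedModule.iso P.primeCompl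
      (Algebra.linearMap R (Localization.AtPrime P))).extendScalarsOfIsLocalization P.primeCompl _
  let e := ((extFunctorObj (ModuleCat.of (Localization.AtPrime P)
    (IsLocalRing.ResidueField (Localization.AtPrime P))) i).mapIso c.toModuleIso).addCommGroupIsoToAddEquiv
  exact Iff.trans Module.length_eq_zero_iff e.toEquiv.subsingleton_congr

/-- Gorenstein at a prime iff the Bass numbers there eventually vanish. -/
theorem gorenstein_atPrime_iff :
    LocCoh.IsGorensteinLocalRing (Localization.AtPrime P) ↔ ∃ n : ℕ, ∀ i, n < i → GrLC.bassNum P R i = 0 := by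
  constructor
  · intro h
    obtain ⟨n, hn⟩ := h.exists_hasInjectiveDimensionLT
    exact ⟨n, fun i hi => (bassNum_self_eq_zero_iff P i).2
      (HasInjectiveDimensionLT.subsingleton (hX := hn) _ n i hi.le _)⟩
  · rintro ⟨n, hn⟩
    exact { exists_hasInjectiveDimensionLT := ⟨n + 1, GorenLib.hasInjectiveDimensionLT_of_residueField n
      fun i hi => (bassNum_self_eq_zero_iff P i).1 (hn i (by omega))⟩ }

theorem bassNum_eq_zero_of_gorenstein [LocCoh.IsGorensteinLocalRing (Localization.AtPrime P)] {n : ℕ}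
    (hn : ringKrullDim (Localization.AtPrime P) = n) {i : ℕ} (hi : n < i) : GrLC.bassNum P R i = 0 :=
  (bassNum_self_eq_zero_iff P i).2
    (HasInjectiveDimensionLT.subsingleton (hX := (GorenLib.gorenstein_of_dim hn).2.1) _ (n + 1) i hi _)

/-- Gorenstein localisations localise. -/
theorem gorenstein_atPrime_of_le (Q : Ideal R) [Q.IsPrime] (hPQ : P ≤ Q)
    [LocCoh.IsGorensteinLocalRing (Localization.AtPrime Q)] :
    LocCoh.IsGorensteinLocalRing (Localization.AtPrime P) := by
  have hd : Disjoint (Q.primeCompl : Set R) (P : Set R) := Set.disjoint_left.2 fun x hx hxp => hx (hPQ hxp)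
  let p : Ideal (Localization.AtPrime Q) := P.map (algebraMap R (Localization.AtPrime Q))
  haveI : p.IsPrime := IsLocalization.isPrime_of_isPrime_disjoint Q.primeCompl _ P inferInstance hd
  have hc : p.comap (algebraMap R (Localization.AtPrime Q)) = P :=
    IsLocalization.comap_map_of_isPrime_disjoint Q.primeCompl (Localization.AtPrime Q) ‹P.IsPrime› hd
  haveI := GorenLib.gorenstein_atPrime p
  have h : LocCoh.IsGorensteinLocalRing (Localization.AtPrime (p.comap (algebraMap R (Localization.AtPrime Q)))) :=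
    Goren15.isGorensteinLocalRing_of_ringEquiv
      (IsLocalization.localizationLocalizationAtPrimeIsoLocalization Q.primeCompl p).toRingEquiv.symm
  have key : ∀ (a : Ideal R) [a.IsPrime], a = P → LocCoh.IsGorensteinLocalRing (Localization.AtPrime a) →
      LocCoh.IsGorensteinLocalRing (Localization.AtPrime P) := by
    intro a _ e h'; subst e; exact h'
  exact key _ hc h

end Local

variable {ι : Type} [AddCommGroup ι] [DecidableEq ι]
variable {R : Type u} [CommRing R] [IsNoetherianRing R] {σ : Type u} [SetLike σ R] [AddSubgroupClass σ R]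
  {𝒜 : ι → σ} [GradedRing 𝒜] {m : HomogeneousIdeal 𝒜} [m.toIdeal.IsPrime]

/-- A graded ring is Gorenstein as soon as it is so at the *maximal ideal. -/
theorem isGorensteinRing_of_starMax [Module.Free ℤ ι] [Module.Finite ℤ ι] (hm : GrLC.IsStarLocal 𝒜 m)
    [LocCoh.IsGorensteinLocalRing (Localization.AtPrime m.toIdeal)] : LocCoh.IsGorensteinRing R :=
  { isGorensteinLocalRing_localization := fun P hP => by
      have hcp := isPrime_core (𝒜 := 𝒜) P
      have hcm : core 𝒜 P ≤ m.toIdeal := le_starMax hm (isHomogeneous_core P) hcp.ne_top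
      have := gorenstein_atPrime_of_le (core 𝒜 P) m.toIdeal hcm
      obtain ⟨n, hn⟩ := (gorenstein_atPrime_iff (core 𝒜 P)).1 this
      have hP' := Ideal.isPrime_map_quotientMk_of_isPrime (core_le (𝒜 := 𝒜) P)
      obtain ⟨d, hd⟩ : ∃ d : ℕ, (P.map (Ideal.Quotient.mk (core 𝒜 P))).height = d :=
        ⟨_, (ENat.natCast_toNat (Ideal.height_ne_top hP'.ne_top)).symm⟩
      obtain ⟨-, h2⟩ := bassNum_eq (M := R) 𝒜 P d hd
      refine (gorenstein_atPrime_iff P).2 ⟨n + d, fun i hi => ?_⟩
      obtain ⟨j, rfl⟩ : ∃ j, i = j + d := ⟨i - d, by omega⟩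
      rw [h2 j]
      exact hn j (by omega) }

/-- Local cohomology of a *local Cohen-Macaulay ring lives in the dimension. -/
theorem subsingleton_H_of_cm (hm : GrLC.IsStarLocal 𝒜 m)
    [LocCoh.IsCohenMacaulayLocalRing (Localization.AtPrime m.toIdeal)] {n : ℕ}
    (hn : ringKrullDim (Localization.AtPrime m.toIdeal) = n) (I : GrLC.StarInjRes 𝒜 𝒜) {i : ℕ} (hi : i ≠ n) :
    Subsingleton (I.H m i) := by
  let A := Localization.AtPrime m.toIdeal
  have hA : Subsingleton (LocCoh.H (IsLocalRing.maximalIdeal A) i A) := by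
    rcases lt_or_gt_of_ne hi with h | h
    · refine GorenLib.subsingleton_H_lt_depth n (le_of_eq ?_) i h
      have h' := LocCoh.IsCohenMacaulayLocalRing.supportDim_eq_depth (R := A)
      rw [Module.supportDim_self_eq_ringKrullDim, hn] at h'
      exact WithBot.coe_injective h'
    · exact LocCohLib.cdLE_of_ringKrullDim_le _ hn.le A i h
  obtain ⟨e⟩ := nonempty_localized_H m.toIdeal I rfl i
  have : Subsingleton (LocalizedModule m.toIdeal.primeCompl (Hmod I m i).carrier) :=
    e.toEquiv.subsingleton_congr.2 hA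
  exact subsingleton_of_localized (M := (Hmod I m i).carrier) (ℳ := (Hmod I m i).gr) hm

section Top

variable {I : GrLC.StarInjRes 𝒜 𝒜} (hI : IsMinimal I) {n : ℕ}

include hI in
theorem toH_bijective_of_minimal (hlow : ∀ i < n, Subsingleton (I.H m i)) :
    Function.Bijective (I.toH m n) := by
  refine ⟨(injective_iff_map_eq_zero _).2 fun z hz => Subtype.ext ?_, toH_surjective I m n⟩
  have h := (toH_eq_zero_iff I m z).1 hz
  rwa [hI.cobdy_eq_bot m hlow, Submodule.mem_bot] at h

/-- The cycles are the whole torsion part once the next cycles vanish. -/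
theorem gam_le_ker (h : GrLC.gam m.toIdeal (I.X (n + 1)).carrier = ⊥) {x : (I.X n).carrier}
    (hx : x ∈ GrLC.gam m.toIdeal (I.X n).carrier) : I.d n x = 0 := by
  have := map_mem_gam (I.d n) hx
  rwa [h, Submodule.mem_bot] at this

include hI in
/-- With a *injective top cohomology all higher torsion parts vanish. -/
theorem gorenstein_of_cocyc_starInj (hm : GrLC.IsStarLocal 𝒜 m) (hhigh : ∀ i, n < i → Subsingleton (I.H m i))
    (hinj : GrLC.IsStarInj 𝒜 (sub (I.X n) (I.cocyc m n) (cocyc_isHomogeneous I m n)).gr) :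
    LocCoh.IsGorensteinLocalRing (Localization.AtPrime m.toIdeal) := by
  have hle : ∀ x ∈ GrLC.gam m.toIdeal (I.X n).carrier, I.d n x = 0 := by
    intro x hx
    let G := sub (I.X n) (GrLC.gam m.toIdeal (I.X n).carrier) (gam_isHomogeneous m (I.X n).gr)
    let Z := sub (I.X n) (I.cocyc m n) (cocyc_isHomogeneous I m n)
    let j : Z.carrier →ₗ[R] G.carrier :=
      Submodule.inclusion (inf_le_left : I.cocyc m n ≤ GrLC.gam m.toIdeal (I.X n).carrier)
    obtain ⟨ρ, hρ, hρj⟩ := exists_retraction (Y := G) hinj (f := j) (fun _ _ h => h)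
      (Submodule.inclusion_injective _)
    have hk : LinearMap.ker ρ = ⊥ := by
      refine eq_bot_of_homogeneous (isHomogeneous_ker hρ) fun g y hy hyk => by_contra fun hy0 => ?_
      obtain ⟨r, hr, hr0⟩ := hI n g _ hy fun e => hy0 (Subtype.ext e)
      let w : Z.carrier := ⟨r • (y : GrLC.gam m.toIdeal (I.X n).carrier).1, Submodule.smul_mem _ r y.2, hr⟩
      have h1 : ρ (j w) = w := LinearMap.congr_fun hρj w
      rw [show j w = r • y from rfl, map_smul, LinearMap.mem_ker.1 hyk, smul_zero] at h1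
      exact hr0 (congrArg Subtype.val h1).symm
    have h1 : ρ (j (ρ ⟨x, hx⟩)) = ρ ⟨x, hx⟩ := LinearMap.congr_fun hρj _
    have h2 : j (ρ ⟨x, hx⟩) = ⟨x, hx⟩ := LinearMap.ker_eq_bot.1 hk h1
    rw [show x = (ρ ⟨x, hx⟩ : Z.carrier).1 from (congrArg Subtype.val h2).symm]
    exact (ρ ⟨x, hx⟩ : Z.carrier).2.2
  have hall : ∀ i, I.cobdy m (n + i + 1) = ⊥ ∧ I.cocyc m (n + i + 1) = ⊥ := by
    intro i
    induction i with
    | zero =>
      have hb : I.cobdy m (n + 1) = ⊥ := (Submodule.eq_bot_iff _).2 fun z ⟨y, hy, hyz⟩ => by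
        rw [← hyz]; exact hle y hy
      exact ⟨hb, cocyc_eq_bot_of_subsingleton I m (hhigh _ (by omega)) hb⟩
    | succ i ih =>
      have hb := hI.cobdy_succ_eq_bot m ih.2
      exact ⟨hb, cocyc_eq_bot_of_subsingleton I m (hhigh _ (by omega)) hb⟩
  refine (gorenstein_atPrime_iff m.toIdeal).2 ⟨n, fun i hi => ?_⟩
  obtain ⟨k, rfl⟩ : ∃ k, i = n + k + 1 := ⟨i - n - 1, by omega⟩
  exact (cocyc_succ_eq_bot_iff_bassNum hm hI (n + k)).1 (hall k).2

end Top

/-- A *injective top local cohomology forces Gorenstein at the *maximal ideal. -/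
theorem gorenstein_of_top_starInj (hm : GrLC.IsStarLocal 𝒜 m)
    [LocCoh.IsCohenMacaulayLocalRing (Localization.AtPrime m.toIdeal)] {n : ℕ}
    (hn : ringKrullDim (Localization.AtPrime m.toIdeal) = n) (I : GrLC.StarInjRes 𝒜 𝒜) {X : GrLC.GMod.{u} 𝒜}
    (φ : I.H m n ≃ₗ[R] X.carrier) (hφ : GrLC.IsGrHom (I.Hgr m n) X.gr φ.toLinearMap)
    (hX : GrLC.IsStarInj 𝒜 X.gr) : LocCoh.IsGorensteinLocalRing (Localization.AtPrime m.toIdeal) := by
  obtain ⟨E, hE⟩ := exists_minimal_res (𝒜 := 𝒜) 𝒜
  let Z := sub (E.X n) (E.cocyc m n) (cocyc_isHomogeneous E m n)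
  let θ : (Hmod E m n).carrier ≃ₗ[R] X.carrier :=
    (Hequiv E I m (LinearEquiv.refl R R) (fun _ _ h => h) n).trans φ
  have hθ : GrLC.IsGrHom (Hmod E m n).gr X.gr θ.toLinearMap :=
    fun g x hx => hφ g _ (Hmap_grHom (E := E) (F := I) m
      (u := (LinearEquiv.refl R R).toLinearMap) (fun _ _ h => h) n g x hx)
  let t : Z.carrier ≃ₗ[R] (Hmod E m n).carrier := LinearEquiv.ofBijective (E.toH m n)
    (toH_bijective_of_minimal hE fun i hi => subsingleton_H_of_cm hm hn E hi.ne)
  have ht : GrLC.IsGrHom Z.gr (Hmod E m n).gr t.toLinearMap := fun g z hz => ⟨z, hz, rfl⟩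
  refine gorenstein_of_cocyc_starInj hE hm (fun i hi => subsingleton_H_of_cm hm hn E hi.ne') ?_
  exact starInj_of_retract hX (t.trans θ).toLinearMap (t.trans θ).symm.toLinearMap (isGrHom_comp hθ ht)
    (isGrHom_symm (e := t.trans θ) (isGrHom_comp hθ ht)) (LinearMap.ext fun z => (t.trans θ).symm_apply_apply z)

/-- The *injectivity and simple socle of the top local cohomology of a Gorenstein *local ring. -/
theorem exists_starInjHull_top (hm : GrLC.IsStarLocal 𝒜 m)
    [LocCoh.IsGorensteinLocalRing (Localization.AtPrime m.toIdeal)] {n : ℕ}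
    (hn : ringKrullDim (Localization.AtPrime m.toIdeal) = n) (I : GrLC.StarInjRes 𝒜 𝒜) :
    ∃ (g : ι) (f : (R ⧸ m.toIdeal) →ₗ[R] (shift (Hmod I m n) (-g)).carrier),
      GrLC.IsStarInjHull 𝒜 (GrLC.quotGr 𝒜 m) (shift (Hmod I m n) (-g)).gr f := by
  have := GorenLib.isCohenMacaulayLocalRing_of_gorenstein (S := Localization.AtPrime m.toIdeal)
  obtain ⟨E, hE⟩ := exists_minimal_res (𝒜 := 𝒜) 𝒜
  let Hm := Hmod I m n
  have hinjH : GrLC.IsStarInj 𝒜 Hm.gr := by
    let G := sub (E.X n) (GrLC.gam m.toIdeal (E.X n).carrier) (gam_isHomogeneous m (E.X n).gr)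
    have hz : E.cocyc m (n + 1) = ⊥ :=
      (cocyc_succ_eq_bot_iff_bassNum hm hE n).2 (bassNum_eq_zero_of_gorenstein m.toIdeal hn n.lt_succ_self)
    have hle : ∀ x ∈ GrLC.gam m.toIdeal (E.X n).carrier, E.d n x = 0 :=
      fun x hx => gam_le_ker (hE.gam_eq_bot m hz) hx
    let j : G.carrier →ₗ[R] E.cocyc m n :=
      Submodule.inclusion (le_inf le_rfl fun x hx => LinearMap.mem_ker.2 (hle x hx) :
        GrLC.gam m.toIdeal (E.X n).carrier ≤ E.cocyc m n)
    have hj : Function.Bijective j :=
      ⟨Submodule.inclusion_injective _, fun z => ⟨⟨z.1, z.2.1⟩, Subtype.ext rfl⟩⟩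
    have hb := toH_bijective_of_minimal hE (fun i hi => subsingleton_H_of_cm hm hn E hi.ne) |>.comp hj
    let t : G.carrier ≃ₗ[R] Hm.carrier :=
      (LinearEquiv.ofBijective (E.toH m n ∘ₗ j) hb).trans (Hequiv E I m (LinearEquiv.refl R R) (fun _ _ h => h) n)
    have ht : GrLC.IsGrHom G.gr Hm.gr t.toLinearMap :=
      fun g z hz' => Hmap_grHom (E := E) (F := I) m
        (u := (LinearEquiv.refl R R).toLinearMap) (fun _ _ h => h) n g _ ⟨j z, hz', rfl⟩
    exact starInj_of_retract (starInj_gam (E.starInj n) m) t.symm.toLinearMap t.toLinearMap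
      (isGrHom_symm (e := t) ht) ht (LinearMap.ext fun z => t.apply_symm_apply z)
  obtain ⟨eH⟩ := nonempty_localized_H m.toIdeal I rfl n
  obtain ⟨g₀, hg₀⟩ := GorenLib.exists_isInjectiveHull_H (R := Localization.AtPrime m.toIdeal) hn
  have hne : Nontrivial Hm.carrier := by
    by_contra h
    rw [not_nontrivial_iff_subsingleton] at h
    have : Subsingleton (LocalizedModule m.toIdeal.primeCompl (I.H m n)) :=
      subsingleton_of_forall_eq 0 fun z => by
        induction z using LocalizedModule.induction_on with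
        | h y s => rw [show y = 0 from h.elim (y : Hm.carrier) 0, LocalizedModule.zero_mk]
    have := eH.symm.toEquiv.subsingleton
    exact one_ne_zero (hg₀.injective (Subsingleton.elim (g₀ 1) (g₀ 0)))
  have htors : ∀ x : Hm.carrier, x ∈ GrLC.gam m.toIdeal Hm.carrier := fun x => by
    obtain ⟨z, rfl⟩ := toH_surjective I m n x
    exact map_mem_gam (I.toH m n) (mem_gam_of_injective (I.cocyc m n).subtype (Submodule.subtype_injective _) z.2.1)
  obtain ⟨g', x', hx', -, hx0'⟩ := exists_homogeneous_ne_zero (isHomogeneous_top Hm.gr) (top_ne_bot : (⊤ : Submodule R Hm.carrier) ≠ ⊥)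
  obtain ⟨b, r₀, hr₀, hx0, hxk⟩ := exists_socle_multiple m hx' (htors x') hx0'
  have hx : r₀ • x' ∈ Hm.gr (b + g') := smul_mem 𝒜 Hm.gr hr₀ hx'
  generalize r₀ • x' = x at hx hx0 hxk
  generalize b + g' = g at hx
  let Y := shift Hm (-g)
  let f : (R ⧸ m.toIdeal) →ₗ[R] Y.carrier :=
    Submodule.liftQ m.toIdeal (LinearMap.toSpanSingleton R Hm.carrier x) fun r hr => hxk r hr
  have hfmk : ∀ r : R, f (Ideal.Quotient.mk m.toIdeal r) = r • x := fun r => rfl
  have hfi : Function.Injective f := by
    rw [injective_iff_map_eq_zero]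
    intro q hq
    obtain ⟨r, rfl⟩ := Ideal.Quotient.mk_surjective q
    rw [hfmk] at hq
    refine Ideal.Quotient.eq_zero_iff_mem.2 (le_starMax hm (isHomogeneous_annihilator Hm.gr hx) (fun h => hx0 ?_)
      ((Submodule.mem_annihilator_span_singleton _ _).2 hq))
    simpa [Submodule.mem_annihilator_span_singleton] using (Ideal.eq_top_iff_one _).1 h
  have hrange : LinearMap.range f = (R ∙ x : Submodule R Hm.carrier) := by
    ext y
    constructor
    · rintro ⟨q, rfl⟩
      obtain ⟨r, rfl⟩ := Ideal.Quotient.mk_surjective q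
      exact Submodule.mem_span_singleton.2 ⟨r, (hfmk r).symm⟩
    · intro hy
      obtain ⟨r, rfl⟩ := Submodule.mem_span_singleton.1 hy
      exact ⟨_, hfmk r⟩
  refine ⟨g, f, (isStarEss_iff 𝒜).2 ⟨hfi, ?_, fun a y hy hy0 => ?_⟩, starInj_shift hinjH (-g)⟩
  · rintro a _ ⟨r, hr, rfl⟩
    show r • x ∈ Hm.gr (a - -g)
    rw [sub_neg_eq_add]
    exact smul_mem 𝒜 Hm.gr hr hx
  · have hyH : (y : Hm.carrier) ∈ Hm.gr (a - -g) := hy
    obtain ⟨b, r, hr, hr0, hk⟩ := exists_socle_multiple m hyH (htors y) hy0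
    have hsoc : ∀ z : Hm.carrier, (∀ c ∈ m.toIdeal, c • z = 0) →
        eH (LocalizedModule.mk z (1 : m.toIdeal.primeCompl)) ∈ LinearMap.range g₀ := by
      intro z hz
      have hgr : Submodule.torsionBySet (Localization.AtPrime m.toIdeal) _
          (IsLocalRing.maximalIdeal (Localization.AtPrime m.toIdeal) : Set (Localization.AtPrime m.toIdeal)) =
          LinearMap.range g₀ := InjHullLib.torsion_eq_range hg₀.toIsEssentialInj
      rw [← hgr, InjHullLib.mem_torsion_iff]
      intro c hc
      rw [← map_smul, ← map_zero eH]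
      congr 1
      rw [← Localization.AtPrime.map_eq_maximalIdeal] at hc
      refine Submodule.span_induction (p := fun c _ => c • LocalizedModule.mk z 1 = 0) ?_ (zero_smul _ _)
        (fun a b _ _ ha hb => by rw [add_smul, ha, hb, add_zero])
        (fun a b _ hb => by rw [smul_eq_mul, mul_smul, hb, smul_zero]) hc
      rintro _ ⟨c, hc, rfl⟩
      rw [algebraMap_smul, LocalizedModule.smul'_mk, hz c hc, LocalizedModule.zero_mk]
    obtain ⟨u, hu⟩ := hsoc _ hk
    obtain ⟨v, hv⟩ := hsoc x hxk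
    have hv0 : v ≠ 0 := by
      rintro rfl
      rw [map_zero] at hv
      exact hx0 (eq_zero_of_localized hm hx (eH.injective (hv.symm.trans (map_zero eH).symm)))
    obtain ⟨c, hc⟩ : ∃ c : Localization.AtPrime m.toIdeal, c • v = u := by
      obtain ⟨c, rfl⟩ := IsLocalRing.residue_surjective u
      obtain ⟨d, rfl⟩ := IsLocalRing.residue_surjective v
      have hd : IsUnit d := by
        by_contra hd
        exact hv0 ((IsLocalRing.residue_eq_zero_iff d).2 ((IsLocalRing.mem_maximalIdeal d).2 hd))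
      obtain ⟨d, rfl⟩ := hd
      refine ⟨c * (↑d⁻¹ : Localization.AtPrime m.toIdeal), ?_⟩
      rw [Algebra.smul_def, IsLocalRing.ResidueField.algebraMap_eq, ← map_mul, mul_assoc, Units.inv_mul, mul_one]
    have he : c • LocalizedModule.mk x (1 : m.toIdeal.primeCompl) = LocalizedModule.mk (r • (y : Hm.carrier)) 1 := by
      apply eH.injective
      rw [map_smul, ← hv, ← hu, ← map_smul, hc]
    induction c using Localization.induction_on with
    | H w =>
      obtain ⟨c, s⟩ := w
      rw [LocalizedModule.mk_smul_mk, LocalizedModule.mk_eq] at he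
      obtain ⟨t, ht⟩ := he
      simp only [one_smul, mul_one, Submonoid.smul_def] at ht
      refine ⟨((t : R) * s) * r, ?_, fun h0 => ?_⟩
      · rw [hrange, Submodule.mem_span_singleton]
        exact ⟨(t : R) * c, by rw [mul_smul, mul_smul, mul_smul]; exact ht⟩
      · rw [mul_smul] at h0
        exact hr0 ((Submodule.mem_bot R).1 (mem_of_smul_mem hm (isHomogeneous_bot (ℳ := Hm.gr))
          (smul_mem 𝒜 Hm.gr hr hyH) (t * s).2 ((Submodule.mem_bot R).2 h0)))

end Groth.Agent.GrLC21
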