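import Groth.Agent.Lib.GrLC21.GradedDual

/-!
# The a-invariant read off a *canonical module
-/

universe u

open DirectSum

noncomputable section

set_option linter.unusedSectionVars false
set_option backward.isDefEq.respectTransparency false

namespace Groth.Agent.GrLC21

theorem endDeg_eq_coe_iff {M : Type u} [AddCommGroup M] (ℳ : ℤ → AddSubgroup M) (a : ℤ) :
    GrLC.endDeg ℳ = ((a : WithTop ℤ) : WithBot (WithTop ℤ)) ↔ ℳ a ≠ ⊥ ∧ ∀ l, a < l → ℳ l = ⊥ := by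
  have key : ∀ D : ℤ, GrLC.endDeg ℳ ≤ ((D : WithTop ℤ) : WithBot (WithTop ℤ)) ↔ ∀ l, ℳ l ≠ ⊥ → l ≤ D := by
    intro D
    simp only [GrLC.endDeg, iSup_le_iff, WithBot.coe_le_coe, WithTop.coe_le_coe]
  constructor
  · intro h
    have hle : ∀ l, ℳ l ≠ ⊥ → l ≤ a := (key a).1 h.le
    refine ⟨fun h0 => ?_, fun l hl => by_contra fun hne => absurd (hle l hne) (by omega)⟩
    have h1 := (key (a - 1)).2 fun l hl => by
      have := hle l hl
      have : l ≠ a := fun e => hl (e ▸ h0)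
      omega
    rw [h, WithBot.coe_le_coe, WithTop.coe_le_coe] at h1
    omega
  · rintro ⟨h0, hgt⟩
    refine le_antisymm ((key a).2 fun l hl => by_contra fun hlt => hl (hgt l (by omega))) ?_
    exact le_iSup₂_of_le a h0 le_rfl

variable {R : Type u} [CommRing R] {σ : Type u} [SetLike σ R] [AddSubgroupClass σ R]
  {𝒜 : ℤ → σ} [GradedRing 𝒜] {m : HomogeneousIdeal 𝒜} (Γ : FieldCtx 𝒜 m)
  {E : Type u} [AddCommGroup E] [Module R E] {τ' : Type u} [SetLike τ' E] [AddSubgroupClass τ' E]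
  {𝓔 : ℤ → τ'} [Decomposition 𝓔] [SetLike.GradedSMul 𝒜 𝓔] {e : (R ⧸ m.toIdeal) →ₗ[R] E}
  (he : GrLC.IsStarInjHull 𝒜 (GrLC.quotGr 𝒜 m) 𝓔 e)
  {C : Type u} [AddCommGroup C] [Module R C] {τ : Type u} [SetLike τ C] [AddSubgroupClass τ C]
  {𝒞 : ℤ → τ} [Decomposition 𝒞] [SetLike.GradedSMul 𝒜 𝒞]
  {n : ℕ} {I : GrLC.StarInjRes 𝒜 𝒜} (hC : GrLC.IsStarCanonical 𝒜 𝒞 𝓔 m n I)

include Γ he hC in
theorem FieldCtx.Hcomp_eq_bot_iff_canonical (j : ℤ) :
    I.Hcomp m n (-j) = ⊥ ↔ ∀ c ∈ 𝒞 j, c = 0 := by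
  obtain ⟨hfin, φ, hφ⟩ := hC
  let _ := Γ.isField.toField
  rw [← Submodule.subsingleton_iff_eq_bot, (Γ.canonDual he hφ j).toEquiv.subsingleton_congr]
  constructor
  · intro h c hc
    by_contra h0
    obtain ⟨f, hf⟩ := LinearMap.exists_extend_of_notMem (p := (⊥ : Submodule (GrLC.deg0 𝒜) (GrLC.comp 𝒜 𝒞 j)))
      (f := (0 : (⊥ : Submodule (GrLC.deg0 𝒜) (GrLC.comp 𝒜 𝒞 j)) →ₗ[GrLC.deg0 𝒜] GrLC.deg0 𝒜))
      (v := (⟨c, hc⟩ : GrLC.comp 𝒜 𝒞 j)) (by
        rw [Submodule.mem_bot]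
        exact fun e => h0 (congrArg Subtype.val e)) 1
    have := h.elim f 0
    rw [this] at hf
    exact one_ne_zero (hf.2.symm.trans rfl)
  · exact fun h => ⟨fun f g => LinearMap.ext fun x => by
      rw [show x = 0 from Subtype.ext (h x.1 x.2), map_zero, map_zero]⟩

include Γ he hC in
/-- The a-invariant is minus the initial degree of the *canonical module. -/
theorem FieldCtx.canonical_initial {a : ℤ}
    (ha : GrLC.endDeg (I.Hgr m n) = ((a : WithTop ℤ) : WithBot (WithTop ℤ))) :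
    (∃ c ∈ 𝒞 (-a), c ≠ 0) ∧ ∀ j, j < -a → ∀ c ∈ 𝒞 j, c = 0 := by
  obtain ⟨h0, hgt⟩ := (endDeg_eq_coe_iff _ a).1 ha
  refine ⟨?_, fun j hj => (Γ.Hcomp_eq_bot_iff_canonical he hC j).1 ((Hgr_eq_bot_iff I m).1 (hgt (-j) (by omega)))⟩
  by_contra! hall
  refine h0 ((Hgr_eq_bot_iff I m).2 ?_)
  rw [show a = -(-a) from (neg_neg a).symm]
  exact (Γ.Hcomp_eq_bot_iff_canonical he hC (-a)).2 hall

include Γ he hC in
/-- A shift of the ring can be *canonical only by minus the a-invariant. -/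
theorem FieldCtx.shift_eq_neg {a d : ℤ} (ha : GrLC.endDeg (I.Hgr m n) = ((a : WithTop ℤ) : WithBot (WithTop ℤ)))
    {f : R →ₗ[R] C} (hf : Function.Bijective f) (hfd : GrLC.IsGrHomDeg 𝒜 𝒞 f d) : d = -a := by
  obtain ⟨⟨c, hc, hc0⟩, hlow⟩ := Γ.canonical_initial he hC ha
  refine le_antisymm ?_ ?_
  · by_contra hlt
    obtain ⟨r, rfl⟩ := hf.2 c
    refine hc0 ?_
    rw [← sum_proj 𝒜 r, map_sum]
    refine Finset.sum_eq_zero fun i _ => ?_
    rcases lt_or_ge i 0 with hi | hi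
    · rw [Γ.pos i hi _ (proj_mem 𝒜 i r), map_zero]
    have hz : proj 𝒞 (i + d) (f r) = f (proj 𝒜 i r) := by
      refine spans_induction (spans_of_decomposition 𝒜) r (by simp)
        (fun x y hx hy => by rw [map_add, map_add, hx, hy, map_add, map_add]) fun l s hs => ?_
      rcases eq_or_ne l i with rfl | hne
      · rw [proj_of_mem 𝒜 hs, proj_of_mem 𝒞 (hfd l s hs)]
      · rw [proj_of_mem_ne 𝒜 hs hne, map_zero, proj_of_mem_ne 𝒞 (hfd l s hs) (by omega)]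
    rw [← hz, proj_of_mem_ne 𝒞 hc (by omega)]
  · by_contra hlt
    have h1 : f 1 ∈ 𝒞 d := zero_add d ▸ hfd 0 1 SetLike.GradedOne.one_mem
    have h0 : f 1 = 0 := hlow d (by omega) _ h1
    have h10 : (1 : R) = 0 := hf.1 (h0.trans (map_zero f).symm)
    refine Γ.starLocal.1.1 (HomogeneousIdeal.ext ?_)
    rw [HomogeneousIdeal.toIdeal_top, Ideal.eq_top_iff_one, h10]
    exact zero_mem _

end Groth.Agent.GrLC21
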