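import Groth.Agent.Lib.GrLC21.CoreHeight
import Mathlib.RingTheory.RegularLocalRing.Polynomial
import Mathlib.LinearAlgebra.FreeModule.PID

/-!
# A graded domain is regular at the primes with zero core

Homogeneous elements outside the prime are units in the local ring, so it is a localisation of a polynomial
ring over the field of degree-zero ratios.
-/

universe u

open DirectSum

noncomputable section

set_option linter.unusedSectionVars false
set_option backward.isDefEq.respectTransparency false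

namespace Groth.Agent.GrLC21

section Deg

variable {ι : Type} [AddCommGroup ι] [DecidableEq ι]
variable {R : Type u} [CommRing R] {σ : Type u} [SetLike σ R] [AddSubgroupClass σ R]
  (𝒜 : ι → σ) [GradedRing 𝒜] (c : Ideal R) {B : Type u} [CommRing B] (α : R →+* B)

/-- Ratios of homogeneous elements of degree `g`. -/
def ratios (g : ι) : Set B :=
  {z | ∃ (a b : ι) (x y : R), x ∈ 𝒜 a ∧ y ∈ 𝒜 b ∧ y ∉ c ∧ a = b + g ∧ z * α y = α x}

variable {𝒜 c α}

theorem ratios_of_mem (h1 : (1 : R) ∉ c) {g : ι} {x : R} (hx : x ∈ 𝒜 g) : α x ∈ ratios 𝒜 c α g :=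
  ⟨g, 0, x, 1, hx, SetLike.GradedOne.one_mem, h1, (zero_add g).symm, by rw [map_one, mul_one]⟩

theorem ratios_zero (h1 : (1 : R) ∉ c) (g : ι) : (0 : B) ∈ ratios 𝒜 c α g := by
  simpa using ratios_of_mem (α := α) h1 (zero_mem (𝒜 g))

theorem ratios_add (hc : c.IsPrime) {g : ι} {z w : B} (hz : z ∈ ratios 𝒜 c α g) (hw : w ∈ ratios 𝒜 c α g) :
    z + w ∈ ratios 𝒜 c α g := by
  obtain ⟨a, b, x, y, hx, hy, hyc, rfl, hzy⟩ := hz
  obtain ⟨a', b', x', y', hx', hy', hyc', rfl, hwy⟩ := hw
  refine ⟨b + g + b', b + b', x * y' + y * x', y * y', add_mem (SetLike.GradedMul.mul_mem hx hy') ?_,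
    SetLike.GradedMul.mul_mem hy hy', fun h => (hc.mem_or_mem h).elim hyc hyc', by abel, ?_⟩
  · rw [show b + g + b' = b + (b' + g) by abel]
    exact SetLike.GradedMul.mul_mem hy hx'
  · simp only [map_mul, map_add, ← hzy, ← hwy]
    ring

theorem ratios_neg {g : ι} {z : B} (hz : z ∈ ratios 𝒜 c α g) : -z ∈ ratios 𝒜 c α g := by
  obtain ⟨a, b, x, y, hx, hy, hyc, hab, hzy⟩ := hz
  exact ⟨a, b, -x, y, neg_mem hx, hy, hyc, hab, by rw [map_neg, ← hzy, neg_mul]⟩

theorem ratios_mul (hc : c.IsPrime) {g h : ι} {z w : B} (hz : z ∈ ratios 𝒜 c α g) (hw : w ∈ ratios 𝒜 c α h) :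
    z * w ∈ ratios 𝒜 c α (g + h) := by
  obtain ⟨a, b, x, y, hx, hy, hyc, rfl, hzy⟩ := hz
  obtain ⟨a', b', x', y', hx', hy', hyc', rfl, hwy⟩ := hw
  refine ⟨b + g + (b' + h), b + b', x * x', y * y', SetLike.GradedMul.mul_mem hx hx',
    SetLike.GradedMul.mul_mem hy hy', fun e => (hc.mem_or_mem e).elim hyc hyc', by abel, ?_⟩
  simp only [map_mul, ← hzy, ← hwy]
  ring

theorem ratios_pow (hc : c.IsPrime) {g : ι} {z : B} (hz : z ∈ ratios 𝒜 c α g) (n : ℕ) :
    z ^ n ∈ ratios 𝒜 c α (n • g) := by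
  induction n with
  | zero =>
    rw [pow_zero, zero_smul, ← map_one α]
    exact ratios_of_mem (fun h => hc.ne_top ((Ideal.eq_top_iff_one _).2 h)) SetLike.GradedOne.one_mem
  | succ n ih =>
    rw [pow_succ, succ_nsmul]
    exact ratios_mul hc ih hz

theorem ratios_prod (hc : c.IsPrime) {κ : Type*} (s : Finset κ) (d : κ → ι) (z : κ → B)
    (h : ∀ k ∈ s, z k ∈ ratios 𝒜 c α (d k)) : (∏ k ∈ s, z k) ∈ ratios 𝒜 c α (∑ k ∈ s, d k) := by
  classical
  induction s using Finset.induction with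
  | empty =>
    rw [Finset.prod_empty, Finset.sum_empty, ← map_one α]
    exact ratios_of_mem (fun h => hc.ne_top ((Ideal.eq_top_iff_one _).2 h)) SetLike.GradedOne.one_mem
  | insert k s hk ih =>
    rw [Finset.prod_insert hk, Finset.sum_insert hk]
    exact ratios_mul hc (h k (Finset.mem_insert_self k s)) (ih fun j hj => h j (Finset.mem_insert_of_mem hj))

variable (hunit : ∀ g, ∀ y ∈ 𝒜 g, y ∉ c → IsUnit (α y)) (hker : ∀ r, α r = 0 ↔ r ∈ c)
include hunit hker

theorem ratios_inv {g : ι} {z : B} (hz : z ∈ ratios 𝒜 c α g) (hz0 : z ≠ 0) :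
    ∃ w ∈ ratios 𝒜 c α (-g), z * w = 1 := by
  obtain ⟨a, b, x, y, hx, hy, hyc, hab, hzy⟩ := hz
  have hxc : x ∉ c := fun h => hz0 ((hunit b y hy hyc).mul_left_eq_zero.1 (hzy.trans ((hker x).2 h)))
  obtain ⟨w, hw⟩ := (hunit a x hx hxc).exists_right_inv
  refine ⟨α y * w, ⟨b, a, y, x, hy, hx, hxc, by rw [hab]; abel, ?_⟩, ?_⟩
  · rw [mul_assoc, mul_comm w, hw, mul_one]
  · rw [← mul_assoc, hzy, hw]

theorem ratios_indep (hc : c.IsPrime) (hch : c.IsHomogeneous 𝒜) {κ : Type*} (s : Finset κ) (d : κ → ι)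
    (hd : Set.InjOn d s) (z : κ → B) (hz : ∀ k ∈ s, z k ∈ ratios 𝒜 c α (d k)) (h0 : ∑ k ∈ s, z k = 0) :
    ∀ k ∈ s, z k = 0 := by
  classical
  choose! a b x y hx hy hyc hab hzy using hz
  let D := ∏ k ∈ s, y k
  let x' : κ → R := fun k => x k * ∏ j ∈ s.erase k, y j
  have hdeg : ∀ k ∈ s, x' k ∈ 𝒜 (∑ j ∈ s, b j + d k) := fun k hk => by
    have h := SetLike.GradedMul.mul_mem (hx k hk) (SetLike.prod_mem_graded 𝒜 b y fun j (hj : j ∈ s.erase k) =>
      hy j (Finset.mem_of_mem_erase hj))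
    rwa [hab k hk, add_right_comm, Finset.add_sum_erase s b hk] at h
  have hval : ∀ k ∈ s, α (x' k) = z k * α D := fun k hk => by
    show α (x k * _) = z k * α (∏ j ∈ s, y j)
    rw [← Finset.mul_prod_erase s y hk, map_mul, map_mul, ← hzy k hk, mul_assoc]
  have hsum : ∑ k ∈ s, x' k ∈ c := by
    rw [← hker, map_sum, Finset.sum_congr rfl hval, ← Finset.sum_mul, h0, zero_mul]
  intro k hk
  have hk' : x' k ∈ c := by
    have h : proj 𝒜 (∑ j ∈ s, b j + d k) (∑ j ∈ s, x' j) ∈ c := hch _ hsum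
    rwa [map_sum, Finset.sum_eq_single k (fun j hj hjk => proj_of_mem_ne 𝒜 (hdeg j hj) fun e =>
      hjk (hd hj hk (add_left_cancel e))) (fun h => (h hk).elim), proj_of_mem 𝒜 (hdeg k hk)] at h
  have hD : IsUnit (α D) := by
    refine hunit (∑ j ∈ s, b j) D (SetLike.prod_mem_graded 𝒜 b y fun j hj => hy j hj) fun h => ?_
    obtain ⟨j, hj, hjc⟩ := hc.prod_mem_iff.1 h
    exact hyc j hj hjc
  exact hD.mul_left_eq_zero.1 ((hval k hk).symm.trans ((hker _).2 hk'))

end Deg

variable {ι : Type} [AddCommGroup ι] [DecidableEq ι] [Module.Free ℤ ι] [Module.Finite ℤ ι]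
variable {R : Type u} [CommRing R] {σ : Type u} [SetLike σ R] [AddSubgroupClass σ R]
  {𝒜 : ι → σ} [GradedRing 𝒜]

/-- The local ring of a prime modulo its core is regular. -/
theorem isRegularLocalRing_mod_core (c P : Ideal R) [c.IsPrime] [P.IsPrime] (hP : core 𝒜 P = c)
    [(P.map (Ideal.Quotient.mk c)).IsPrime] :
    IsRegularLocalRing (Localization.AtPrime (P.map (Ideal.Quotient.mk c))) := by
  classical
  have hc : c.IsPrime := inferInstance
  have hcP : c ≤ P := hP ▸ core_le P
  have hch : c.IsHomogeneous 𝒜 := hP ▸ isHomogeneous_core P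
  set Pb := P.map (Ideal.Quotient.mk c) with hPb
  let B := Localization.AtPrime Pb
  let α : R →+* B := (algebraMap (R ⧸ c) B).comp (Ideal.Quotient.mk c)
  have hle : Pb.primeCompl ≤ nonZeroDivisors (R ⧸ c) := le_nonZeroDivisors_of_noZeroDivisors
    (fun h => h (zero_mem Pb))
  have hker : ∀ r, α r = 0 ↔ r ∈ c := fun r => by
    rw [← Ideal.Quotient.eq_zero_iff_mem, ← IsLocalization.to_map_eq_zero_iff B hle]
    rfl
  have hout : ∀ r, r ∉ P → Ideal.Quotient.mk c r ∉ Pb := fun r hr h => hr (by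
    rwa [hPb, ← Ideal.mem_comap, Ideal.comap_map_of_surjective _ Ideal.Quotient.mk_surjective,
      ← RingHom.ker_eq_comap_bot, Ideal.mk_ker, sup_eq_left.2 hcP] at h)
  have hunit : ∀ g, ∀ y ∈ 𝒜 g, y ∉ c → IsUnit (α y) := fun g y hy hyc =>
    IsLocalization.map_units B (⟨_, hout y fun h =>
      hyc (hP ▸ Ideal.mem_homogeneousCore_of_homogeneous_of_mem ⟨g, hy⟩ h)⟩ : Pb.primeCompl)
  have h1 : (1 : R) ∉ c := fun h => hc.ne_top ((Ideal.eq_top_iff_one _).2 h)
  -- the field of degree-zero ratios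
  let K : Subring B :=
    { carrier := ratios 𝒜 c α 0
      one_mem' := by rw [← map_one α]; exact ratios_of_mem h1 SetLike.GradedOne.one_mem
      zero_mem' := ratios_zero h1 0
      add_mem' := ratios_add hc
      neg_mem' := ratios_neg
      mul_mem' := fun hz hw => by simpa using ratios_mul hc hz hw }
  let fK : Field K := IsField.toField
    { exists_pair_ne := ⟨0, 1, fun h => zero_ne_one (congrArg Subtype.val h)⟩
      mul_comm := mul_comm
      mul_inv_cancel := fun {z} hz => by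
        obtain ⟨w, hw, hzw⟩ := ratios_inv hunit hker z.2 fun h => hz (Subtype.ext h)
        rw [neg_zero] at hw
        exact ⟨⟨w, hw⟩, Subtype.ext hzw⟩ }
  -- the lattice of degrees
  let H : AddSubgroup ι := AddSubgroup.closure {g | ∃ x ∈ 𝒜 g, x ∉ c}
  have hH : ∀ h ∈ H, ∃ (a b : ι) (x y : R), x ∈ 𝒜 a ∧ x ∉ c ∧ y ∈ 𝒜 b ∧ y ∉ c ∧ a = b + h := by
    intro h hh
    induction hh using AddSubgroup.closure_induction with
    | mem g hg =>
      obtain ⟨x, hx, hxc⟩ := hg
      exact ⟨g, 0, x, 1, hx, hxc, SetLike.GradedOne.one_mem, h1, (zero_add g).symm⟩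
    | zero => exact ⟨0, 0, 1, 1, SetLike.GradedOne.one_mem, h1, SetLike.GradedOne.one_mem, h1, (zero_add 0).symm⟩
    | add g g' _ _ hg hg' =>
      obtain ⟨a, b, x, y, hx, hxc, hy, hyc, rfl⟩ := hg
      obtain ⟨a', b', x', y', hx', hxc', hy', hyc', rfl⟩ := hg'
      exact ⟨b + g + (b' + g'), b + b', x * x', y * y', SetLike.GradedMul.mul_mem hx hx',
        fun e => (hc.mem_or_mem e).elim hxc hxc', SetLike.GradedMul.mul_mem hy hy',
        fun e => (hc.mem_or_mem e).elim hyc hyc', by abel⟩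
    | neg g _ hg =>
      obtain ⟨a, b, x, y, hx, hxc, hy, hyc, rfl⟩ := hg
      exact ⟨b, b + g, y, x, hy, hyc, hx, hxc, by abel⟩
  obtain ⟨m, ⟨bH⟩⟩ := Submodule.nonempty_basis_of_pid (Module.Free.chooseBasis ℤ ι) H.toIntSubmodule
  have htj : ∀ j, ∃ t ∈ ratios 𝒜 c α (bH j : ι), IsUnit t := fun j => by
    obtain ⟨a, b, x, y, hx, hxc, hy, hyc, hab⟩ := hH _ (bH j).2
    obtain ⟨w, hw⟩ := (hunit b y hy hyc).exists_right_inv
    refine ⟨α x * w, ⟨a, b, x, y, hx, hy, hyc, hab, by rw [mul_assoc, mul_comm w, hw, mul_one]⟩, ?_⟩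
    exact (hunit a x hx hxc).mul (.of_mul_eq_one_right _ hw)
  choose t ht htu using htj
  let D : (Fin m →₀ ℕ) → ι := fun s => ∑ j, s j • (bH j : ι)
  have hDinj : Function.Injective D := fun s s' e => by
    refine Finsupp.ext fun j => ?_
    have h := Fintype.linearIndependent_iff.1 bH.linearIndependent (fun i => (s i : ℤ) - s' i) (Subtype.ext ?_) j
    · omega
    · rw [AddSubmonoidClass.coe_finsetSum]
      simp only [sub_smul, natCast_zsmul, AddSubgroupClass.coe_sub, AddSubmonoidClass.coe_nsmul,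
        Finset.sum_sub_distrib, ZeroMemClass.coe_zero]
      exact sub_eq_zero.2 e
  let φ : MvPolynomial (Fin m) K →+* B := MvPolynomial.eval₂Hom K.subtype t
  let T : (Fin m →₀ ℕ) → B := fun s => ∏ j, t j ^ s j
  have hT : ∀ s, T s ∈ ratios 𝒜 c α (D s) := fun s =>
    ratios_prod hc Finset.univ (fun j => s j • (bH j : ι)) (fun j => t j ^ s j) fun j _ => ratios_pow hc (ht j) _
  have hTu : ∀ s, IsUnit (T s) := fun s => IsUnit.prod_univ_iff.2 fun j => (htu j).pow _
  have hmono : ∀ s (k : K), φ (MvPolynomial.monomial s k) = (k : B) * T s := fun s k => by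
    show MvPolynomial.eval₂ K.subtype t _ = _
    rw [MvPolynomial.eval₂_monomial, Finsupp.prod_fintype _ _ fun j => pow_zero (t j)]
    rfl
  have hinj : Function.Injective φ := by
    refine (injective_iff_map_eq_zero φ).2 fun f hf => ?_
    have hz : ∀ s ∈ f.support, ((MvPolynomial.coeff s f : K) : B) * T s = 0 := by
      refine ratios_indep hunit hker hc hch f.support D hDinj.injOn _ (fun s _ => ?_) ?_
      · simpa using ratios_mul hc (MvPolynomial.coeff s f).2 (hT s)
      · rw [← Finset.sum_congr rfl fun s _ => hmono s (MvPolynomial.coeff s f), ← map_sum, ← f.as_sum]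
        exact hf
    refine MvPolynomial.ext _ _ fun s => ?_
    by_contra hne
    rw [MvPolynomial.coeff_zero] at hne
    exact hne (Subtype.ext ((hTu s).mul_left_eq_zero.1 (hz s (MvPolynomial.mem_support_iff.2 hne))))
  -- clearing monomials
  have hclear : ∀ r : R, ∃ q f, α r * T q = φ f := by
    intro r
    refine spans_induction (spans_of_decomposition 𝒜) r ⟨0, 0, by simp⟩ ?_ fun g x hx => ?_
    · rintro u w ⟨q, f, hu⟩ ⟨q', f', hw⟩
      refine ⟨q + q', f * MvPolynomial.monomial q' 1 + f' * MvPolynomial.monomial q 1, ?_⟩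
      have hTadd : T (q + q') = T q * T q' := by
        simp only [T, Finsupp.add_apply, pow_add, Finset.prod_mul_distrib]
      rw [map_add, map_add, map_mul, map_mul, ← hu, ← hw, hmono, hmono, hTadd, Subring.coe_one]
      ring
    · by_cases hxc : x ∈ c
      · exact ⟨0, 0, by rw [(hker x).2 hxc, zero_mul, map_zero]⟩
      have hg : g ∈ H.toIntSubmodule := AddSubgroup.subset_closure ⟨x, hx, hxc⟩
      let n := bH.repr ⟨g, hg⟩
      let p : Fin m →₀ ℕ := Finsupp.equivFunOnFinite.symm fun j => (n j).toNat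
      let q : Fin m →₀ ℕ := Finsupp.equivFunOnFinite.symm fun j => (-n j).toNat
      have hpq : g + D q = D p := by
        have h := congrArg Subtype.val (bH.sum_repr ⟨g, hg⟩)
        rw [AddSubmonoidClass.coe_finsetSum] at h
        simp only [SetLike.val_smul] at h
        rw [← h, ← Finset.sum_add_distrib]
        refine Finset.sum_congr rfl fun j _ => ?_
        show n j • (bH j : ι) + (-n j).toNat • (bH j : ι) = (n j).toNat • (bH j : ι)
        rw [← natCast_zsmul _ ((-n j).toNat), ← natCast_zsmul _ ((n j).toNat), ← add_smul]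
        congr 1
        omega
      have hxq : α x * T q ∈ ratios 𝒜 c α (D p) := hpq ▸ ratios_mul hc (ratios_of_mem h1 hx) (hT q)
      obtain ⟨w, hw, hwT⟩ := ratios_inv hunit hker (hT p) (hTu p).ne_zero
      have hk : α x * T q * w ∈ K := by
        have h := ratios_mul hc hxq hw
        rwa [add_neg_cancel] at h
      refine ⟨q, MvPolynomial.monomial p ⟨_, hk⟩, ?_⟩
      rw [hmono]
      show _ = α x * T q * w * T p
      rw [mul_assoc _ w, mul_comm w, hwT, mul_one]
  let algB : Algebra (MvPolynomial (Fin m) K) B := φ.toAlgebra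
  let Q : Ideal (MvPolynomial (Fin m) K) := (IsLocalRing.maximalIdeal B).comap φ
  have : IsLocalization.AtPrime B Q :=
    { map_units := fun y => IsLocalRing.notMem_maximalIdeal.1 y.2
      surj := fun z => by
        obtain ⟨⟨a, s⟩, hz⟩ := IsLocalization.surj Pb.primeCompl z
        obtain ⟨r, rfl⟩ := Ideal.Quotient.mk_surjective a
        obtain ⟨r', hr'⟩ := Ideal.Quotient.mk_surjective (s : R ⧸ c)
        obtain ⟨q, f, hf⟩ := hclear r
        obtain ⟨q', f', hf'⟩ := hclear r'
        have hs : IsUnit (α r') := by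
          show IsUnit (algebraMap (R ⧸ c) B (Ideal.Quotient.mk c r'))
          rw [hr']
          exact IsLocalization.map_units B s
        have hu : IsUnit (φ (f' * MvPolynomial.monomial q 1)) := by
          rw [map_mul, ← hf', hmono, Subring.coe_one, one_mul]
          exact (hs.mul (hTu q')).mul (hTu q)
        refine ⟨⟨f * MvPolynomial.monomial q' 1, ⟨f' * MvPolynomial.monomial q 1,
          fun h => IsLocalRing.notMem_maximalIdeal.2 hu h⟩⟩, ?_⟩
        have hz' : z * α r' = α r := by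
          show z * algebraMap (R ⧸ c) B (Ideal.Quotient.mk c r') = _
          rw [hr']
          exact hz
        show z * φ (f' * MvPolynomial.monomial q 1) = φ (f * MvPolynomial.monomial q' 1)
        rw [map_mul, map_mul, ← hf', ← hf, hmono, hmono, Subring.coe_one, ← hz']
        ring
      exists_of_eq := fun {a b} e => ⟨1, by rw [hinj (show φ a = φ b from e)]⟩ }
  exact IsRegularLocalRing.of_ringEquiv (R := Localization.AtPrime Q)
    (IsLocalization.algEquiv Q.primeCompl (Localization.AtPrime Q) B).toRingEquiv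

end Groth.Agent.GrLC21
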