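import Groth.Agent.Lib.GrLC21.BassCore
import Groth.Agent.Lib.GrLC21.CoreRegular
import Groth.Agent.Lib.RegLoc.Sop
import Mathlib.RingTheory.Regular.RegularSequence
import Mathlib.RingTheory.Length
import Groth.Prelude.Def_GrLC2

/-!
# Bass numbers at a prime and at its homogeneous core
-/

universe u

open DirectSum CategoryTheory Abelian RingTheory.Sequence
open scoped Pointwise

noncomputable section

set_option linter.unusedSectionVars false
set_option backward.isDefEq.respectTransparency false

namespace Groth.Agent.GrLC21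

section Generic

variable {S : Type u} [CommRing S] {P : Type u} [AddCommGroup P] [Module S P]

/-- `Ext` is invariant under isomorphisms of the first argument. -/
theorem nonempty_ext_congr_left {X X' : Type u} [AddCommGroup X] [Module S X] [AddCommGroup X'] [Module S X']
    (e : X ≃ₗ[S] X') (i : ℕ) :
    Nonempty (Ext.{u} (ModuleCat.of S X) (ModuleCat.of S P) i ≃ₗ[S]
      Ext.{u} (ModuleCat.of S X') (ModuleCat.of S P) i) := by
  let φ := Ext.precompOfLinear (Ext.mk₀ e.toModuleIso.inv) S (ModuleCat.of S P) (a := i) (b := i) (zero_add i)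
  let ψ := Ext.precompOfLinear (Ext.mk₀ e.toModuleIso.hom) S (ModuleCat.of S P) (a := i) (b := i) (zero_add i)
  refine ⟨LinearEquiv.ofLinearMap φ ψ (LinearMap.ext fun x => ?_) (LinearMap.ext fun x => ?_)⟩
  · show (Ext.mk₀ e.toModuleIso.inv).comp ((Ext.mk₀ e.toModuleIso.hom).comp x (zero_add i)) (zero_add i) = x
    rw [Ext.mk₀_comp_mk₀_assoc, Iso.inv_hom_id, Ext.mk₀_id_comp]
  · show (Ext.mk₀ e.toModuleIso.hom).comp ((Ext.mk₀ e.toModuleIso.inv).comp x (zero_add i)) (zero_add i) = x
    rw [Ext.mk₀_comp_mk₀_assoc, Iso.hom_inv_id, Ext.mk₀_id_comp]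

/-- Descending free `Ext` modules along a regular sequence. -/
theorem ext_regular_sequence : ∀ (xs : List S) (X : Type u) [AddCommGroup X] [Module S X],
    IsWeaklyRegular X xs → ∀ κ : ℕ → Type u,
    (∀ i, Nonempty (Ext.{u} (ModuleCat.of S X) (ModuleCat.of S P) i ≃ₗ[S] (κ i →₀ X))) →
    (∀ i < xs.length, Subsingleton
      (Ext.{u} (ModuleCat.of S (X ⧸ (Ideal.ofList xs • ⊤ : Submodule S X))) (ModuleCat.of S P) i)) ∧
    ∀ i, Nonempty (Ext.{u} (ModuleCat.of S (X ⧸ (Ideal.ofList xs • ⊤ : Submodule S X)))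
      (ModuleCat.of S P) (i + xs.length) ≃ₗ[S] (κ i →₀ (X ⧸ (Ideal.ofList xs • ⊤ : Submodule S X)))) := by
  intro xs
  induction xs with
  | nil =>
    intro X _ _ _ κ h
    refine ⟨fun i hi => (Nat.not_lt_zero i hi).elim, fun i => ?_⟩
    let e : (X ⧸ (Ideal.ofList ([] : List S) • ⊤ : Submodule S X)) ≃ₗ[S] X :=
      Submodule.quotEquivOfEqBot _ (by rw [Ideal.ofList_nil, Submodule.bot_smul])
    obtain ⟨e₁⟩ := nonempty_ext_congr_left (P := P) e i
    obtain ⟨e₂⟩ := h i
    exact ⟨(e₁.trans e₂).trans (Finsupp.mapRange.linearEquiv e.symm)⟩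
  | cons x rest ih =>
    intro X _ _ hreg κ h
    obtain ⟨hx, hrest⟩ := (isWeaklyRegular_cons_iff X x rest).1 hreg
    let π : X →ₗ[S] QuotSMulTop x X := Submodule.mkQ _
    have hπk : LinearMap.ker π = LinearMap.range (x • (LinearMap.id : X →ₗ[S] X)) := by
      ext y
      rw [Submodule.ker_mkQ, Submodule.mem_smul_pointwise_iff_exists]
      exact ⟨fun ⟨z, _, hz⟩ => ⟨z, hz⟩, fun ⟨z, hz⟩ => ⟨z, trivial, hz⟩⟩
    have hreg' : ∀ i, IsSMulRegular (Ext.{u} (ModuleCat.of S X) (ModuleCat.of S P) i) x := fun i => by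
      obtain ⟨e⟩ := h i
      refine (e.isSMulRegular_congr x).2 fun a b hab => Finsupp.ext fun k => hx ?_
      have h' := congrArg (fun f : κ i →₀ X => f k) hab
      simpa only [Finsupp.coe_smul, Pi.smul_apply] using h'
    let κ' : ℕ → Type u := fun i => match i with
      | 0 => PEmpty
      | j + 1 => κ j
    have h' : ∀ i, Nonempty (Ext.{u} (ModuleCat.of S (QuotSMulTop x X)) (ModuleCat.of S P) i ≃ₗ[S]
        (κ' i →₀ QuotSMulTop x X)) := fun i => by
      cases i with
      | zero =>
        have := subsingleton_ext_zero_quotient (P := P) X (QuotSMulTop x X) (π := π) (Submodule.mkQ_surjective _) hπk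
          (hreg' 0)
        exact ⟨LinearEquiv.ofBijective 0 ⟨fun _ _ _ => Subsingleton.elim _ _,
          fun b => ⟨0, Finsupp.ext fun k => k.elim⟩⟩⟩
      | succ j =>
        obtain ⟨e⟩ := nonempty_ext_quotient (P := P) X (QuotSMulTop x X) (π := π) hx (Submodule.mkQ_surjective _) hπk j
          (hreg' (j + 1))
        obtain ⟨ej⟩ := h j
        let F := (Finsupp.mapRange.linearMap (α := κ j) π) ∘ₗ ej.toLinearMap
        have hF : Function.Surjective F :=
          (Finsupp.mapRange_surjective π (map_zero π) (Submodule.mkQ_surjective _)).comp ej.surjective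
        have hk : LinearMap.ker F = LinearMap.range
            (x • (LinearMap.id : Ext.{u} (ModuleCat.of S X) (ModuleCat.of S P) j →ₗ[S] _)) := by
          ext w
          constructor
          · intro hw
            have hz : ∀ k, ∃ z, x • z = ej w k := fun k => by
              have hk : ej w k ∈ LinearMap.ker π := by
                have := congrArg (fun f : κ j →₀ QuotSMulTop x X => f k) (LinearMap.mem_ker.1 hw)
                simpa [F] using this
              rw [hπk] at hk
              exact hk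
            choose z hz using hz
            refine ⟨ej.symm (Finsupp.onFinset (ej w).support z fun k hk => Finsupp.mem_support_iff.2 fun h0 =>
              hk (hx ((hz k).trans (h0.trans (smul_zero x).symm)))), ej.injective ?_⟩
            ext k
            simp [hz]
          · rintro ⟨v, rfl⟩
            refine LinearMap.mem_ker.2 (Finsupp.ext fun k => ?_)
            have hk : x • ej v k ∈ LinearMap.ker π := hπk ▸ ⟨ej v k, rfl⟩
            simpa [F] using LinearMap.mem_ker.1 hk
        exact ⟨e.trans ((Submodule.quotEquivOfEq _ _ hk.symm).trans (LinearMap.quotKerEquivOfSurjective F hF))⟩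
    obtain ⟨hlow, hhigh⟩ := ih (QuotSMulTop x X) hrest κ' h'
    let e := Submodule.quotOfListConsSMulTopEquivQuotSMulTopInner X x rest
    refine ⟨fun i hi => ?_, fun i => ?_⟩
    · obtain ⟨e₁⟩ := nonempty_ext_congr_left (P := P) e i
      rcases Nat.lt_succ_iff_lt_or_eq.1 hi with hi | rfl
      · have := hlow i hi
        exact e₁.toEquiv.subsingleton
      · obtain ⟨e₂⟩ := hhigh 0
        rw [Nat.zero_add] at e₂
        have : Subsingleton (κ' 0 →₀ (QuotSMulTop x X ⧸ (Ideal.ofList rest • ⊤ : Submodule S (QuotSMulTop x X)))) :=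
          ⟨fun a b => Finsupp.ext fun k => k.elim⟩
        exact (e₁.trans e₂).toEquiv.subsingleton
    · obtain ⟨e₁⟩ := nonempty_ext_congr_left (P := P) e (i + (rest.length + 1))
      obtain ⟨e₂⟩ := hhigh (i + 1)
      rw [show i + 1 + rest.length = i + (rest.length + 1) by omega] at e₂
      exact ⟨(e₁.trans e₂).trans (Finsupp.mapRange.linearEquiv e.symm)⟩

end Generic

variable {ι : Type} [AddCommGroup ι] [DecidableEq ι] [Module.Free ℤ ι] [Module.Finite ℤ ι]
variable {R : Type u} [CommRing R] [IsNoetherianRing R] {σ : Type u} [SetLike σ R] [AddSubgroupClass σ R]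
  {𝒜 : ι → σ} [GradedRing 𝒜]

/-- A regular sequence of length the relative height, down to the residue field. -/
theorem exists_residue_sequence (c P : Ideal R) [c.IsPrime] [P.IsPrime] (hP : core 𝒜 P = c) (d : ℕ)
    (hd : (P.map (Ideal.Quotient.mk c)).height = d) :
    ∃ xs : List (Localization.AtPrime P), xs.length = d ∧
      IsWeaklyRegular (LocalizedModule P.primeCompl (R ⧸ c)) xs ∧
      Nonempty ((LocalizedModule P.primeCompl (R ⧸ c) ⧸
          (Ideal.ofList xs • ⊤ : Submodule (Localization.AtPrime P) (LocalizedModule P.primeCompl (R ⧸ c))))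
        ≃ₗ[Localization.AtPrime P] IsLocalRing.ResidueField (Localization.AtPrime P)) := by
  have hcP : c ≤ P := hP ▸ core_le P
  have : (P.map (Ideal.Quotient.mk c)).IsPrime := Ideal.isPrime_map_quotientMk_of_isPrime hcP
  set Pb := P.map (Ideal.Quotient.mk c) with hPb
  let B := Localization.AtPrime Pb
  have : IsRegularLocalRing B := isRegularLocalRing_mod_core c P hP
  have hcomap : Pb.comap (Ideal.Quotient.mk c) = P := by
    rw [hPb, Ideal.comap_map_of_surjective _ Ideal.Quotient.mk_surjective, ← RingHom.ker_eq_comap_bot,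
      Ideal.mk_ker, sup_eq_left.2 hcP]
  have hout : ∀ r : R, r ∉ P → Ideal.Quotient.mk c r ∉ Pb := fun r hr h => hr (hcomap.le h)
  have hα : ∀ y : P.primeCompl, IsUnit ((algebraMap (R ⧸ c) B).comp (Ideal.Quotient.mk c) y) := fun y =>
    IsLocalization.map_units B (⟨_, hout y y.2⟩ : Pb.primeCompl)
  let π : Localization.AtPrime P →+* B := IsLocalization.lift hα
  have hπr : ∀ r, π (algebraMap R _ r) = algebraMap (R ⧸ c) B (Ideal.Quotient.mk c r) := IsLocalization.lift_eq hα
  have hπs : Function.Surjective π := by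
    refine (IsLocalization.lift_surjective_iff hα).2 fun z => ?_
    obtain ⟨⟨a, s⟩, hz⟩ := IsLocalization.surj Pb.primeCompl z
    obtain ⟨r, rfl⟩ := Ideal.Quotient.mk_surjective a
    obtain ⟨r', hr'⟩ := Ideal.Quotient.mk_surjective (s : R ⧸ c)
    have hr'P : r' ∉ P := fun h => s.2 (show (s : R ⧸ c) ∈ Pb from hr' ▸ Ideal.mem_map_of_mem _ h)
    refine ⟨⟨r, ⟨r', hr'P⟩⟩, ?_⟩
    show z * algebraMap (R ⧸ c) B (Ideal.Quotient.mk c r') = _
    rw [hr']
    exact hz
  let algπ : Algebra (Localization.AtPrime P) B := π.toAlgebra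
  -- the localised quotient is the local ring of the quotient
  let X := LocalizedModule P.primeCompl (R ⧸ c)
  let g : (R ⧸ c) →ₗ[R] B :=
    { toFun := algebraMap (R ⧸ c) B
      map_add' := map_add _
      map_smul' := fun r x => by
        rw [RingHom.id_apply, Algebra.smul_def r x, map_mul, Algebra.smul_def r (algebraMap (R ⧸ c) B x)]
        rfl }
  have : IsLocalizedModule P.primeCompl g :=
    { map_units := fun y => by
        rw [Module.End.isUnit_iff]
        refine Function.bijective_iff_has_inverse.2 ⟨fun b => ((hα y).unit⁻¹ : Bˣ) * b, fun b => ?_, fun b => ?_⟩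
        · show _ * ((y : R) • b) = b
          rw [Algebra.smul_def, ← mul_assoc]
          exact (congrArg (· * b) (hα y).val_inv_mul).trans (one_mul b)
        · show (y : R) • (_ * b) = b
          rw [Algebra.smul_def, ← mul_assoc]
          exact (congrArg (· * b) (hα y).mul_val_inv).trans (one_mul b)
      surj := fun b => by
        obtain ⟨⟨a, s⟩, hz⟩ := IsLocalization.surj Pb.primeCompl b
        obtain ⟨r', hr'⟩ := Ideal.Quotient.mk_surjective (s : R ⧸ c)
        have hr'P : r' ∉ P := fun h => s.2 (show (s : R ⧸ c) ∈ Pb from hr' ▸ Ideal.mem_map_of_mem _ h)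
        refine ⟨⟨a, ⟨r', hr'P⟩⟩, ?_⟩
        show r' • b = algebraMap (R ⧸ c) B a
        rw [Algebra.smul_def, ← hz, mul_comm b, ← hr']
        rfl
      exists_of_eq := fun {x₁ x₂} h => by
        refine ⟨1, ?_⟩
        have hle : Pb.primeCompl ≤ nonZeroDivisors (R ⧸ c) :=
          le_nonZeroDivisors_of_noZeroDivisors (fun h => h (zero_mem Pb))
        rw [IsLocalization.injective B hle h] }
  have htower : IsScalarTower R (Localization.AtPrime P) B :=
    IsScalarTower.of_algebraMap_eq fun r => (hπr r).symm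
  let Φ : X ≃ₗ[Localization.AtPrime P] B :=
    (IsLocalizedModule.iso P.primeCompl g).extendScalarsOfIsLocalization P.primeCompl (Localization.AtPrime P)
  -- generators
  obtain ⟨x, hx⟩ : ∃ x : Fin d → B, Ideal.span (Set.range x) = IsLocalRing.maximalIdeal B := by
    have hdim : ringKrullDim B = (d : WithBot ℕ∞) := by
      rw [IsLocalization.AtPrime.ringKrullDim_eq_height Pb B, hPb, hd]
      rfl
    obtain ⟨x, hx⟩ := RegLoc.exists_fin_generators B
    have hn := RegLoc.spanFinrank_eq_of_dim hdim
    refine ⟨x ∘ Fin.cast hn.symm, Eq.trans ?_ hx⟩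
    exact congrArg Ideal.span ((Fin.castOrderIso hn.symm).surjective.range_comp x)
  have hspan : (IsLocalRing.maximalIdeal B).spanFinrank = d := RegLoc.spanFinrank_eq_of_dim (by
    rw [IsLocalization.AtPrime.ringKrullDim_eq_height Pb B, hPb, hd]; rfl)
  have hreg := RegLoc.isRegular_of_span_range d B x hx hspan
  choose y hy using fun i => hπs (x i)
  refine ⟨List.ofFn y, List.length_ofFn, ?_, ?_⟩
  · rw [Φ.isWeaklyRegular_congr, ← isWeaklyRegular_map_algebraMap_iff B B, List.map_ofFn]
    have : (algebraMap (Localization.AtPrime P) B) ∘ y = x := funext hy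
    rw [this]
    exact hreg.toIsWeaklyRegular
  · have : IsLocalHom π := .of_surjective π hπs
    let ρ : Localization.AtPrime P →ₗ[Localization.AtPrime P]
        X ⧸ (Ideal.ofList (List.ofFn y) • ⊤ : Submodule (Localization.AtPrime P) X) :=
      LinearMap.toSpanSingleton _ _ (Submodule.mkQ _ (Φ.symm 1))
    have hρ : Function.Surjective ρ := fun q => by
      obtain ⟨v, rfl⟩ := Submodule.mkQ_surjective _ q
      obtain ⟨z, hz⟩ := hπs (Φ v)
      refine ⟨z, ?_⟩
      show z • Submodule.mkQ (Ideal.ofList (List.ofFn y) • ⊤ : Submodule (Localization.AtPrime P) X) (Φ.symm 1) = _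
      rw [← map_smul, ← map_smul, Algebra.smul_def, mul_one]
      congr 1
      exact Φ.symm_apply_eq.2 hz
    have hlist : Ideal.ofList (List.ofFn y) = Ideal.span (Set.range y) := by
      simp [Ideal.ofList, Set.range]
    have hker : LinearMap.ker ρ = IsLocalRing.maximalIdeal (Localization.AtPrime P) := by
      refine ((IsLocalRing.maximalIdeal.isMaximal _).eq_of_le ?_ fun z hz => ?_).symm
      · intro htop
        have h1 : (1 : Localization.AtPrime P) ∈ LinearMap.ker ρ := by rw [htop]; trivial
        rw [LinearMap.mem_ker] at h1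
        have h2 : Φ.symm 1 ∈ (Ideal.ofList (List.ofFn y) • ⊤ : Submodule (Localization.AtPrime P) X) :=
          (Submodule.Quotient.mk_eq_zero _).1 ((one_smul (Localization.AtPrime P) _).symm.trans h1)
        have h3 : ∀ v ∈ (Ideal.ofList (List.ofFn y) • ⊤ : Submodule (Localization.AtPrime P) X),
            Φ v ∈ IsLocalRing.maximalIdeal B := fun v hv => by
          refine Submodule.smul_induction_on hv (fun r hr u _ => ?_) fun u w hu hw => ?_
          · rw [map_smul, Algebra.smul_def]
            refine Ideal.mul_mem_right _ _ ?_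
            have : Ideal.span (Set.range y) ≤ (IsLocalRing.maximalIdeal B).comap π := Ideal.span_le.2 (by
              rintro _ ⟨i, rfl⟩
              show π (y i) ∈ IsLocalRing.maximalIdeal B
              rw [hy, ← hx]
              exact Ideal.subset_span ⟨i, rfl⟩)
            exact this (hlist ▸ hr)
          · rw [map_add]; exact add_mem hu hw
        have h4 := h3 _ h2
        rw [Φ.apply_symm_apply] at h4
        exact (IsLocalRing.maximalIdeal.isMaximal B).ne_top ((Ideal.eq_top_iff_one _).2 h4)
      · have hπz : π z ∈ (Ideal.span (Set.range y)).map π := by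
          rw [Ideal.map_span, ← Set.range_comp, show (π : _ → B) ∘ y = x from funext hy, hx]
          exact fun hu => hz ((isUnit_map_iff π z).1 hu)
        obtain ⟨w, hw, hwz⟩ := (Ideal.mem_map_iff_of_surjective π hπs).1 hπz
        rw [LinearMap.mem_ker]
        show z • Submodule.mkQ (Ideal.ofList (List.ofFn y) • ⊤ : Submodule (Localization.AtPrime P) X) (Φ.symm 1) = 0
        rw [← map_smul, ← map_smul, Submodule.mkQ_apply, Submodule.Quotient.mk_eq_zero,
          show z • (1 : B) = w • (1 : B) by rw [Algebra.smul_def, Algebra.smul_def]; exact congrArg (· * 1) hwz.symm,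
          map_smul]
        exact Submodule.smul_mem_smul (hlist ▸ hw) trivial
    exact ⟨(LinearMap.quotKerEquivOfSurjective ρ hρ).symm.trans (Submodule.quotEquivOfEq _ _ hker)⟩

variable {M : Type u} [AddCommGroup M] [Module R M] {τ : Type u} [SetLike τ M] [AddSubgroupClass τ M]

/-- The `Ext` modules out of the residue field. -/
theorem exists_residue_ext (ℳ : ι → τ) [Decomposition ℳ] [SetLike.GradedSMul 𝒜 ℳ] (c : HomogeneousIdeal 𝒜)
    [c.toIdeal.IsPrime] :
    ∃ κ : ℕ → Type u, ∀ (P : Ideal R) [P.IsPrime] (d : ℕ), core 𝒜 P = c.toIdeal →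
      (P.map (Ideal.Quotient.mk c.toIdeal)).height = d →
      (∀ i < d, Subsingleton (Ext.{u} (ModuleCat.of (Localization.AtPrime P)
        (IsLocalRing.ResidueField (Localization.AtPrime P)))
        (ModuleCat.of (Localization.AtPrime P) (LocalizedModule P.primeCompl M)) i)) ∧
      ∀ i, Nonempty (Ext.{u} (ModuleCat.of (Localization.AtPrime P)
        (IsLocalRing.ResidueField (Localization.AtPrime P)))
        (ModuleCat.of (Localization.AtPrime P) (LocalizedModule P.primeCompl M)) (i + d) ≃ₗ[Localization.AtPrime P]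
          (κ i →₀ IsLocalRing.ResidueField (Localization.AtPrime P))) := by
  choose κ hκ using fun i => exists_bass_basis (R := R) ℳ c ‹_› i
  refine ⟨κ, fun P _ d hP hd => ?_⟩
  obtain ⟨xs, hlen, hreg, ⟨e⟩⟩ := exists_residue_sequence c.toIdeal P hP d hd
  obtain ⟨hlow, hhigh⟩ := ext_regular_sequence (P := LocalizedModule P.primeCompl M) xs _ hreg κ
    fun i => hκ i P hP
  refine ⟨fun i hi => ?_, fun i => ?_⟩
  · obtain ⟨e₁⟩ := nonempty_ext_congr_left (P := LocalizedModule P.primeCompl M) e.symm i
    have := hlow i (hlen.symm ▸ hi)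
    exact e₁.toEquiv.subsingleton
  · obtain ⟨e₁⟩ := nonempty_ext_congr_left (P := LocalizedModule P.primeCompl M) e.symm (i + d)
    obtain ⟨e₂⟩ := hhigh i
    rw [hlen] at e₂
    exact ⟨(e₁.trans e₂).trans (Finsupp.mapRange.linearEquiv e)⟩

theorem bassNum_eq (ℳ : ι → τ) [Decomposition ℳ] [SetLike.GradedSMul 𝒜 ℳ] (p : Ideal R) [p.IsPrime]
    [(core 𝒜 p).IsPrime] (d : ℕ) (hd : (p.map (Ideal.Quotient.mk (core 𝒜 p))).height = d) :
    (∀ i < d, GrLC.bassNum p M i = 0) ∧ ∀ i, GrLC.bassNum p M (i + d) = GrLC.bassNum (core 𝒜 p) M i := by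
  obtain ⟨κ, hκ⟩ := exists_residue_ext (R := R) ℳ (p.homogeneousCore 𝒜)
  have hcard : ∀ (P : Ideal R) [P.IsPrime] (n : ℕ) (i : ℕ), core 𝒜 P = core 𝒜 p →
      (P.map (Ideal.Quotient.mk (core 𝒜 p))).height = n → GrLC.bassNum P M (i + n) = ENat.card (κ i) := by
    intro P _ n i hP hn
    obtain ⟨e⟩ := (hκ P n hP hn).2 i
    have : IsSimpleModule (Localization.AtPrime P) (IsLocalRing.ResidueField (Localization.AtPrime P)) :=
      isSimpleModule_iff_quot_maximal.2 ⟨_, IsLocalRing.maximalIdeal.isMaximal _, ⟨LinearEquiv.refl _ _⟩⟩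
    exact e.length_eq.trans (by rw [Module.length_finsupp, Module.length_eq_one, mul_one])
  refine ⟨fun i hi => ?_, fun i => ?_⟩
  · have := (hκ p d rfl hd).1 i hi
    exact Module.length_eq_zero_iff.2 this
  · have hself : core 𝒜 (core 𝒜 p) = core 𝒜 p := (isHomogeneous_core p).toIdeal_homogeneousCore_eq_self
    have h0 : ((core 𝒜 p).map (Ideal.Quotient.mk (core 𝒜 p))).height = (0 : ℕ) := by
      rw [Ideal.map_quotient_self, Nat.cast_zero]
      exact Ideal.height_bot
    rw [hcard p d i rfl hd, ← hcard (core 𝒜 p) 0 i hself h0, Nat.add_zero]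

end Groth.Agent.GrLC21
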