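import Groth.Agent.Lib.GrLC21.Van
import Groth.Agent.Lib.Depth.CM
import Groth.Agent.Lib.LocCoh.Finiteness
import Groth.Agent.Lib.LocCoh.Flat
import Groth.Agent.Lib.LocCoh.Vanishing

/-!
# Depth of a graded module through vanishing of graded local cohomology
-/

universe u

open DirectSum

noncomputable section

set_option linter.unusedSectionVars false
set_option backward.isDefEq.respectTransparency false

namespace Groth.Agent.GrLC21

variable {ι : Type} [AddCommGroup ι] [DecidableEq ι]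
variable {R : Type u} [CommRing R] [IsNoetherianRing R] {σ : Type u} [SetLike σ R] [AddSubgroupClass σ R]
  {𝒜 : ι → σ} [GradedRing 𝒜] {a : HomogeneousIdeal 𝒜}
variable {M : Type u} [AddCommGroup M] [Module R M] {τ : Type u} [SetLike τ M] [AddSubgroupClass τ M]
  {ℳ : ι → τ} [Decomposition ℳ] [SetLike.GradedSMul 𝒜 ℳ]

theorem subsingleton_H_iff_van (i : ℕ) :
    Subsingleton (LocCoh.H a.toIdeal i M) ↔ ∀ g, Van a i g (toGMod 𝒜 ℳ) := by
  obtain ⟨E⟩ := nonempty_res (𝒜 := 𝒜) ℳ
  obtain ⟨e⟩ := nonempty_H_equiv E a i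
  rw [← e.toEquiv.subsingleton_congr]
  rw [subsingleton_H_iff]
  exact forall_congr' fun g => Hcomp_eq_bot_iff_van E

theorem natCast_le_idealDepth_iff_van [Module.Finite R M] (n : ℕ) :
    (n : ℕ∞) ≤ LocCoh.idealDepth a.toIdeal M ↔ ∀ i < n, ∀ g, Van a i g (toGMod 𝒜 ℳ) := by
  rw [DepthLib.natCast_le_idealDepth_iff n,
    ← LocCohLib.vanishing_below_iff_of_support_eq a.toIdeal (ModuleCat.of R M) (R ⧸ a.toIdeal)
      (DepthLib.support_quotient a.toIdeal) n]
  exact forall₂_congr fun i _ => subsingleton_H_iff_van (a := a) (ℳ := ℳ) i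

end Groth.Agent.GrLC21
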