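import Groth.Agent.Lib.GrLC21.Finite
import Groth.Agent.Lib.LocCoh.Dim

/-!
# Artinianness of local cohomology at a maximal ideal; *local positively graded rings
-/

universe u

open DirectSum Groth.Agent.InjHullLib

noncomputable section

set_option linter.unusedSectionVars false

namespace Groth.Agent.GrLC21

section Maximal

open Groth.Agent.LocCohLib CategoryTheory

variable {R : Type u} [CommRing R] [IsNoetherianRing R] (m : Ideal R) [m.IsMaximal]

theorem isArtinian_of_finite_killed (T : Type u) [AddCommGroup T] [Module R T] [Module.Finite R T]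
    (h : ∀ a ∈ m, ∀ t : T, a • t = 0) : IsArtinian R T := by
  obtain ⟨k, v, hv⟩ := Module.Finite.exists_fin (R := R) (M := T)
  let ψ : (Fin k → R ⧸ m) →ₗ[R] T :=
    ∑ j : Fin k, m.liftQ (LinearMap.toSpanSingleton R T (v j))
      (fun a ha => by simpa using h a ha (v j)) ∘ₗ LinearMap.proj j
  have := isArtinian_quotient_maximal (R := R) (m := m)
  refine isArtinian_of_surjective _ ψ (LinearMap.range_eq_top.1 ?_)
  rw [eq_top_iff, ← hv, Submodule.span_le]
  rintro _ ⟨j, rfl⟩
  refine ⟨Pi.single j (Submodule.Quotient.mk 1), ?_⟩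
  simp only [ψ, LinearMap.sum_apply, LinearMap.comp_apply, LinearMap.proj_apply]
  rw [Finset.sum_eq_single j (fun l _ hl => by rw [Pi.single_eq_of_ne hl, map_zero])
    (fun h => absurd (Finset.mem_univ j) h), Pi.single_eq_same, Submodule.liftQ_apply,
    LinearMap.toSpanSingleton_apply, one_smul]

/-- Local cohomology of finite modules at a maximal ideal is Artinian. -/
theorem isArtinian_H_maximal (i : ℕ) : ∀ (M : Type u) [AddCommGroup M] [Module R M] [Module.Finite R M],
    IsArtinian R (LocCoh.H m i M) := by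
  induction i with
  | zero =>
    intro M _ _ _
    let T := powTors m M
    have hA : IsArtinian R (Submodule.torsionBySet R T (m : Set R)) :=
      isArtinian_of_finite_killed m _ fun a ha t => Subtype.ext (mem_torsion_iff.1 t.2 a ha)
    have : IsArtinian R T := isArtinian_of_fg_torsion (IsNoetherian.noetherian _) T
      (isPowerTorsion_powTors _) hA
    exact isArtinian_of_linearEquiv (zeroEquiv m M).symm
  | succ i ih =>
    intro M _ _ hM
    refine IsNoetherianRing.induction_on_isQuotientEquivQuotientPrime R hM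
      (motive := fun L _ _ _ => IsArtinian R (LocCoh.H m (i + 1) L)) ?_ ?_ ?_
    · intro L _ _ _ _
      have hsub : Subsingleton (LocCoh.H m (i + 1) L) :=
        subsingleton_of_isPowerTorsion _ i L fun z => ⟨0, fun a _ => Subsingleton.elim _ _⟩
      infer_instance
    · intro L _ _ _ p e
      suffices IsArtinian R (LocCoh.H m (i + 1) (R ⧸ p.asIdeal)) from
        isArtinian_of_linearEquiv (hcongr m (i + 1) e).symm
      by_cases hmp : m ≤ p.asIdeal
      · have : Subsingleton (LocCoh.H m (i + 1) (R ⧸ p.asIdeal)) := by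
          refine subsingleton_of_isPowerTorsion _ i _ fun z => ⟨1, fun a ha => ?_⟩
          obtain ⟨b, rfl⟩ := Ideal.Quotient.mk_surjective z
          rw [pow_one] at ha
          exact Ideal.Quotient.eq_zero_iff_mem.2 (p.asIdeal.mul_mem_right _ (hmp ha))
        infer_instance
      · obtain ⟨x, hx, hxp⟩ := SetLike.not_le_iff_exists.1 hmp
        let mx : (R ⧸ p.asIdeal) →ₗ[R] R ⧸ p.asIdeal := x • LinearMap.id
        have hinj : Function.Injective mx := smul_regular_quotient_prime hxp
        have hS := shortExact_mk mx (LinearMap.range mx).mkQ hinj (Submodule.mkQ_surjective _)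
          (exact_smul_mkQ x)
        have := ih ((R ⧸ p.asIdeal) ⧸ LinearMap.range mx)
        let d : LocCoh.H m i ((R ⧸ p.asIdeal) ⧸ LinearMap.range mx) →ₗ[R]
            LocCoh.H m (i + 1) (R ⧸ p.asIdeal) := δ m i hS
        have hd : IsArtinian R (LinearMap.range d) := isArtinian_range d
        refine isArtinian_of_fg_torsion (IsNoetherian.noetherian _) _
          (LocCohLib.isPowerTorsion m (i + 1) _) (isArtinian_of_le (s := _) (t := LinearMap.range d)
            fun a ha => ?_)
        refine (exact_δ_map m i hS a).1 ?_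
        change hmap m (i + 1) (x • LinearMap.id) a = 0
        rw [hmap_smul, hmap_id]
        exact mem_torsion_iff.1 ha x hx
    · intro N₁ _ _ _ N₂ _ _ _ N₃ _ _ _ f g hf hg hfg h₁ h₃
      exact isArtinian_of_range_eq_ker (hmap m (i + 1) f) (hmap m (i + 1) g)
        (LinearMap.exact_iff.1 (exact_map_map m (i + 1) (shortExact_mk f g hf hg hfg))).symm

end Maximal

section StarLocal

variable {R : Type u} [CommRing R] {σ : Type u} [SetLike σ R] [AddSubgroupClass σ R]
  {𝒜 : ℤ → σ} [GradedRing 𝒜]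

/-- The irrelevant ideal lies in the *maximal ideal. -/
theorem pos_le_starMax (hpos : ∀ n : ℤ, n < 0 → ∀ r ∈ 𝒜 n, r = 0) {m : HomogeneousIdeal 𝒜}
    (hm : IsCoatom m) :
    Ideal.span (⋃ n ∈ Set.Ioi (0 : ℤ), (𝒜 n : Set R)) ≤ m.toIdeal := by
  have hhom : (Ideal.span (⋃ n ∈ Set.Ioi (0 : ℤ), (𝒜 n : Set R))).IsHomogeneous 𝒜 :=
    Ideal.homogeneous_span 𝒜 _ fun x hx => by
      simp only [Set.mem_iUnion, Set.mem_Ioi, SetLike.mem_coe, exists_prop] at hx
      exact ⟨hx.choose, hx.choose_spec.2⟩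
  let P : HomogeneousIdeal 𝒜 := ⟨_, hhom⟩
  by_contra hle
  have h := hm.2 (m ⊔ P) (left_lt_sup.2 fun h => hle h)
  have h1 : (1 : R) ∈ m.toIdeal ⊔ P.toIdeal := by
    rw [← HomogeneousIdeal.toIdeal_sup, h, HomogeneousIdeal.toIdeal_top]; trivial
  obtain ⟨y, hy, z, hz, e⟩ := Submodule.mem_sup.1 h1
  have h0 := congrArg (proj 𝒜 0) e
  rw [map_add, proj_eq_zero_of_mem_pos hpos rfl hz le_rfl, add_zero,
    proj_of_mem 𝒜 SetLike.GradedOne.one_mem] at h0
  exact hm.1 (HomogeneousIdeal.ext (by
    rw [HomogeneousIdeal.toIdeal_top, Ideal.eq_top_iff_one, ← h0]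
    exact m.isHomogeneous 0 hy))

theorem isMaximal_starMax (hpos : ∀ n : ℤ, n < 0 → ∀ r ∈ 𝒜 n, r = 0) {m : HomogeneousIdeal 𝒜}
    (hm : IsCoatom m) : m.toIdeal.IsMaximal := by
  refine ⟨⟨fun h => hm.1 (HomogeneousIdeal.ext (h.trans (HomogeneousIdeal.toIdeal_top (𝒜 := 𝒜)).symm)), fun J hJ => ?_⟩⟩
  obtain ⟨x, hxJ, hxm⟩ := SetLike.exists_of_lt hJ
  have hpos' := pos_le_starMax hpos hm
  have hdiff : x - proj 𝒜 0 x ∈ m.toIdeal := by
    refine spans_induction (spans_of_decomposition 𝒜) x (by simp)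
      (fun a b ha hb => by rw [map_add, add_sub_add_comm]; exact add_mem ha hb) fun b s hs => ?_
    rcases lt_trichotomy b 0 with hb | rfl | hb
    · rw [hpos b hb s hs]; simp
    · rw [proj_of_mem 𝒜 hs, sub_self]; exact zero_mem _
    · rw [proj_of_mem_ne 𝒜 hs hb.ne', sub_zero]
      exact hpos' (Ideal.subset_span (Set.mem_biUnion hb hs))
  have h0J : proj 𝒜 0 x ∈ J := by simpa using J.sub_mem hxJ (hJ.le hdiff)
  have h0m : proj 𝒜 0 x ∉ m.toIdeal := fun h => hxm (by simpa using add_mem hdiff h)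
  let Q : HomogeneousIdeal 𝒜 := ⟨Ideal.span {proj 𝒜 0 x},
    Ideal.homogeneous_span 𝒜 _ fun y hy => ⟨0, (Set.mem_singleton_iff.1 hy) ▸ proj_mem 𝒜 0 x⟩⟩
  have h := hm.2 (m ⊔ Q) (left_lt_sup.2 fun h => h0m (h (Ideal.subset_span rfl)))
  rw [eq_top_iff, ← HomogeneousIdeal.toIdeal_top (𝒜 := 𝒜), ← h, HomogeneousIdeal.toIdeal_sup]
  exact sup_le hJ.le ((Ideal.span_singleton_le_iff_mem (I := J)).2 h0J)

variable {M : Type u} [AddCommGroup M] [Module R M] {τ : Type u} [SetLike τ M] [AddSubgroupClass τ M]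
  (ℳ : ℤ → τ) [Decomposition ℳ] [SetLike.GradedSMul 𝒜 ℳ]

include 𝒜 in
/-- An Artinian graded module over a positively graded ring is bounded above. -/
theorem exists_bound_of_isArtinian (hpos : ∀ n : ℤ, n < 0 → ∀ r ∈ 𝒜 n, r = 0) [IsArtinian R M] :
    ∃ b : ℤ, ∀ n, b ≤ n → ∀ x ∈ ℳ n, x = 0 := by
  let U : ℕ → Submodule R M := fun b =>
    { carrier := {x | ∀ g, g < (b : ℤ) → proj ℳ g x = 0}
      zero_mem' := fun _ _ => map_zero _
      add_mem' := fun hx hy g hg => by rw [map_add, hx g hg, hy g hg, add_zero]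
      smul_mem' := fun r x hx g hg => by
        refine spans_induction (spans_of_decomposition 𝒜) r (by simp)
          (fun p q hp hq => by rw [add_smul, map_add, hp, hq, add_zero]) fun a s hs => ?_
        rw [proj_smul 𝒜 ℳ hs]
        rcases lt_or_ge a 0 with ha | ha
        · rw [hpos a ha s hs, zero_smul]
        · rw [hx (g - a) (by omega), smul_zero] }
  obtain ⟨N, hN⟩ := IsArtinian.monotone_stabilizes (R := R) (M := M)
    ⟨fun b => OrderDual.toDual (U b), fun a b h x hx g hg => hx g (by omega)⟩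
  refine ⟨(N : ℤ), fun n hn x hx => ?_⟩
  obtain ⟨k, rfl⟩ := Int.eq_ofNat_of_zero_le (le_trans (Int.natCast_nonneg N) hn)
  have hk : x ∈ U k := fun g hg => proj_of_mem_ne ℳ hx (by omega)
  have h1 : U N = U k := hN k (by omega)
  have h2 : U N = U (k + 1) := hN (k + 1) (by omega)
  have h3 := (h1.symm.trans h2) ▸ hk
  have := h3 (k : ℤ) (by omega)
  rwa [proj_of_mem ℳ hx] at this

end StarLocal

end Groth.Agent.GrLC21
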