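import Groth.Agent.Lib.GrLC21.CoreHeight
import Groth.Agent.Lib.GrLC21.Artinian

/-!
# The dimension of a positively graded *local ring
-/

universe u

open DirectSum

noncomputable section

set_option linter.unusedSectionVars false
set_option backward.isDefEq.respectTransparency false

namespace Groth.Agent.GrLC21

variable {R : Type u} [CommRing R] [IsNoetherianRing R] {σ : Type u} [SetLike σ R] [AddSubgroupClass σ R]
  {𝒜 : ℤ → σ} [GradedRing 𝒜]

/-- A prime has height at most one over its homogeneous core, for a `ℤ`-grading. -/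
theorem height_map_core_le_one (P : Ideal R) [hP : P.IsPrime] :
    (P.map (Ideal.Quotient.mk (core 𝒜 P))).height ≤ 1 := by
  classical
  have := Ideal.isPrime_map_quotientMk_of_isPrime (core_le (𝒜 := 𝒜) P)
  set c := core 𝒜 P
  by_cases hPc : P ≤ c
  · rw [(Ideal.map_eq_bot_iff_le_ker _).2 (hPc.trans (Ideal.mk_ker).ge)]
    refine le_trans (Ideal.height_le_one_of_isPrincipal_of_mem_minimalPrimes (⊥ : Ideal (R ⧸ c)) ⊥ ?_) le_rfl
    have hb : (⊥ : Ideal (R ⧸ c)).IsPrime := by
      rw [← (Ideal.map_eq_bot_iff_le_ker _).2 (hPc.trans (Ideal.mk_ker (I := c)).ge)]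
      assumption
    exact ⟨⟨hb, le_rfl⟩, fun q _ _ => bot_le⟩
  -- elements of the prime of least spread modulo the core
  let good : ℕ → Prop := fun n => ∃ f ∈ P, f ∉ c ∧ ∃ l : ℤ, ∀ i, proj 𝒜 i f ∉ c → l ≤ i ∧ i ≤ l + n
  have hgood : ∃ n, good n := by
    obtain ⟨f, hf, hfc⟩ := SetLike.not_le_iff_exists.1 hPc
    obtain ⟨l, hl⟩ := (degs 𝒜 f).finite_toSet.bddBelow
    obtain ⟨h, hh⟩ := (degs 𝒜 f).finite_toSet.bddAbove
    refine ⟨(h - l).toNat, f, hf, hfc, l, fun i hi => ?_⟩
    have hmem : i ∈ degs 𝒜 f := (mem_degs 𝒜).2 fun e => hi (by rw [e]; exact zero_mem c)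
    have := hl hmem
    have := hh hmem
    omega
  obtain ⟨g, hgP, hgc, b, hb⟩ := Nat.find_spec hgood
  set w := Nat.find hgood with hw
  have hmem : ∀ f : R, (∀ i, proj 𝒜 i f ∈ c) → f ∈ c := fun f h => by
    rw [← sum_proj 𝒜 f]
    exact sum_mem fun i _ => h i
  -- the top component is outside the prime
  obtain ⟨top, htopc, htop⟩ : ∃ j, proj 𝒜 j g ∉ c ∧ ∀ i, proj 𝒜 i g ∉ c → i ≤ j := by
    obtain ⟨j, hj, hmax⟩ := Finset.exists_max_image ((degs 𝒜 g).filter fun i => proj 𝒜 i g ∉ c) id (by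
      by_contra h
      refine hgc (hmem g fun i => by_contra fun hi => h ⟨i, Finset.mem_filter.2 ⟨(mem_degs 𝒜).2 ?_, hi⟩⟩)
      exact fun e => hi (by rw [e]; exact zero_mem c))
    refine ⟨j, (Finset.mem_filter.1 hj).2, fun i hi => hmax i (Finset.mem_filter.2 ⟨(mem_degs 𝒜).2 ?_, hi⟩)⟩
    exact fun e => hi (by rw [e]; exact zero_mem c)
  set a := proj 𝒜 top g
  have haP : a ∉ P := fun h => htopc (Ideal.mem_homogeneousCore_of_homogeneous_of_mem ⟨top, proj_mem 𝒜 top g⟩ h)
  have hglow : ∀ i, proj 𝒜 i g ∉ c → top - w ≤ i ∧ i ≤ top := fun i hi => by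
    refine ⟨?_, htop i hi⟩
    have := (hb i hi).1
    have := (hb top htopc).2
    omega
  -- pseudo-division
  have main : ∀ (n : ℕ) (f : R) (l : ℤ), f ∈ P → (∀ i, proj 𝒜 i f ∉ c → l ≤ i ∧ i ≤ l + n) →
      ∃ e ∉ P, e * f ∈ c ⊔ Ideal.span {g} := by
    intro n
    induction n using Nat.strong_induction_on with
    | _ n ih =>
      intro f l hf hfs
      by_cases hnw : n < w
      · refine ⟨1, fun h => hP.ne_top ((Ideal.eq_top_iff_one P).2 h), ?_⟩
        rw [one_mul]
        exact Ideal.mem_sup_left (by_contra fun hfc => Nat.find_min hgood hnw ⟨f, hf, hfc, l, hfs⟩)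
      set t := proj 𝒜 (l + n) f
      let f' := a * f - t * g
      have hf' : f' ∈ P := P.sub_mem (P.mul_mem_left a hf) (P.mul_mem_left t hgP)
      have hproj : ∀ j, proj 𝒜 j f' = a * proj 𝒜 (j - top) f - t * proj 𝒜 (j - (l + n)) g := fun j => by
        rw [map_sub]
        exact congrArg₂ (· - ·) (proj_smul 𝒜 𝒜 (proj_mem 𝒜 top g) j f)
          (proj_smul 𝒜 𝒜 (proj_mem 𝒜 (l + n) f) j g)
      have hsupp : ∀ j, proj 𝒜 j f' ∉ c → l + top ≤ j ∧ j < l + top + n := by
        intro j hj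
        rw [hproj] at hj
        have hne : j ≠ l + n + top := by
          rintro rfl
          refine hj ?_
          rw [show l + n + top - top = l + n by ring, show l + n + top - (l + n) = top by ring, mul_comm, sub_self]
          exact zero_mem c
        rcases em (proj 𝒜 (j - top) f ∈ c) with h1 | h1
        · have h2 : proj 𝒜 (j - (l + n)) g ∉ c := fun h2 => hj (c.sub_mem (c.mul_mem_left a h1) (c.mul_mem_left t h2))
          have := hglow _ h2
          omega
        · have := hfs _ h1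
          omega
      obtain ⟨e, he, hef⟩ : ∃ e ∉ P, e * f' ∈ c ⊔ Ideal.span {g} := by
        rcases Nat.eq_zero_or_pos n with hn0 | hn0
        · refine ⟨1, fun h => hP.ne_top ((Ideal.eq_top_iff_one P).2 h), ?_⟩
          rw [one_mul]
          refine Ideal.mem_sup_left (hmem f' fun j => by_contra fun hj => ?_)
          have := hsupp j hj
          omega
        · refine ih (n - 1) (by omega) f' (l + top) hf' fun j hj => ?_
          have := hsupp j hj
          omega
      refine ⟨e * a, fun h => (hP.mem_or_mem h).elim he haP, ?_⟩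
      have h2 : e * a * f = e * f' + e * t * g := by ring
      rw [h2]
      exact add_mem hef (Ideal.mem_sup_right (Ideal.mul_mem_left _ _ (Ideal.subset_span rfl)))
  refine Ideal.height_le_one_of_isPrincipal_of_mem_minimalPrimes (Ideal.span {Ideal.Quotient.mk c g})
    (P.map (Ideal.Quotient.mk c)) ⟨⟨inferInstance, ?_⟩, fun q hq hqle => ?_⟩
  · rw [Ideal.span_le, Set.singleton_subset_iff]
    exact Ideal.mem_map_of_mem _ hgP
  · rw [Ideal.map_le_iff_le_comap]
    intro f hf
    have := hq.1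
    obtain ⟨l, hl⟩ := (degs 𝒜 f).finite_toSet.bddBelow
    obtain ⟨h, hh⟩ := (degs 𝒜 f).finite_toSet.bddAbove
    obtain ⟨e, he, hef⟩ := main (h - l).toNat f l hf fun i hi => by
      have hmem : i ∈ degs 𝒜 f := (mem_degs 𝒜).2 fun e => hi (by rw [e]; exact zero_mem c)
      have := hl hmem
      have := hh hmem
      omega
    have hle : c ⊔ Ideal.span {g} ≤ q.comap (Ideal.Quotient.mk c) := by
      refine sup_le (fun x hx => ?_) ?_
      · rw [Ideal.mem_comap, Ideal.Quotient.eq_zero_iff_mem.2 hx]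
        exact zero_mem q
      · rw [Ideal.span_le, Set.singleton_subset_iff]
        exact hq.2 (Ideal.subset_span rfl)
    refine ((this.comap (Ideal.Quotient.mk c)).mem_or_mem (hle hef)).resolve_left fun h' => he ?_
    have h3 : Ideal.Quotient.mk c e ∈ P.map (Ideal.Quotient.mk c) := hqle h'
    rw [← Ideal.mem_comap, Ideal.comap_map_of_surjective _ Ideal.Quotient.mk_surjective,
      ← RingHom.ker_eq_comap_bot, Ideal.mk_ker, sup_eq_left.2 (core_le P)] at h3
    exact h3

theorem le_of_isStarLocal {m : HomogeneousIdeal 𝒜} (hm : GrLC.IsStarLocal 𝒜 m) {I : Ideal R}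
    (hI : I.IsHomogeneous 𝒜) (hne : I ≠ ⊤) : I ≤ m.toIdeal := by
  have : WellFoundedGT (HomogeneousIdeal 𝒜) :=
    (StrictMono.wellFoundedGT (f := fun J : HomogeneousIdeal 𝒜 => J.toIdeal) fun _ _ h => h)
  have := isCoatomic_of_orderTop_gt_wellFounded (α := HomogeneousIdeal 𝒜) wellFounded_gt
  rcases eq_top_or_exists_le_coatom (⟨I, hI⟩ : HomogeneousIdeal 𝒜) with h | ⟨J, hJ, hle⟩
  · exact absurd ((congrArg HomogeneousIdeal.toIdeal h).trans (HomogeneousIdeal.toIdeal_top (𝒜 := 𝒜))) hne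
  · rw [← hm.2 J hJ]
    exact hle

/-- The dimension is attained at the *maximal ideal. -/
theorem ringKrullDim_eq_height (hpos : ∀ n : ℤ, n < 0 → ∀ r ∈ 𝒜 n, r = 0) {m : HomogeneousIdeal 𝒜}
    (hm : GrLC.IsStarLocal 𝒜 m) : ringKrullDim R = (m.toIdeal.height : WithBot ℕ∞) := by
  have := isMaximal_starMax hpos hm.1
  refine le_antisymm ?_ (Ideal.height_le_ringKrullDim_of_ne_top this.ne_top)
  rw [ringKrullDim_le_iff_isMaximal_height_le]
  intro P hP
  rw [WithBot.coe_le_coe]
  have hcp := isPrime_core (𝒜 := 𝒜) P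
  have hcm : core 𝒜 P ≤ m.toIdeal := le_of_isStarLocal hm (isHomogeneous_core P) hcp.ne_top
  by_cases hc : m.toIdeal ≤ core 𝒜 P
  · rw [← (this.eq_of_le hP.ne_top (hc.trans (core_le P)))]
  have := Ideal.isPrime_map_quotientMk_of_isPrime (core_le (𝒜 := 𝒜) P)
  obtain ⟨d, hd⟩ : ∃ d : ℕ, (P.map (Ideal.Quotient.mk (core 𝒜 P))).height = d :=
    ⟨_, (ENat.natCast_toNat (Ideal.height_ne_top this.ne_top)).symm⟩
  rw [height_eq_height_core_add hd]
  have h1 : d ≤ 1 := by
    have := height_map_core_le_one (𝒜 := 𝒜) P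
    rw [hd] at this
    exact_mod_cast this
  calc (core 𝒜 P).height + d ≤ (core 𝒜 P).height + 1 := by gcongr; exact_mod_cast h1
    _ ≤ m.toIdeal.height := Ideal.height_add_one_le_of_lt_of_isPrime (lt_of_le_not_ge hcm hc)

end Groth.Agent.GrLC21
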