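import Groth.Agent.Lib.GrLC21.CoreSupp
import Groth.Agent.Lib.GrLC21.GradedDim
import Groth.Agent.Lib.GrLC21.DepthVan
import Groth.Agent.Lib.GrLC21.BassShift
import Groth.Agent.Lib.LocCoh.Dim
import Groth.Agent.Lib.FlatDepth.SkLocal

/-!
# Cohen-Macaulay graded modules through the vanishing of graded local cohomology
-/

universe u

open DirectSum Order

noncomputable section

set_option linter.unusedSectionVars false
set_option backward.isDefEq.respectTransparency false

namespace Groth.Agent.GrLC21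

theorem cm_of_le {R : Type u} [CommRing R] [IsNoetherianRing R] {M : Type u} [AddCommGroup M] [Module R M]
    [Module.Finite R M] {p m : Ideal R} [hp : p.IsPrime] [m.IsPrime] (hpm : p ≤ m)
    (h : LocCoh.IsCohenMacaulayModule (Localization.AtPrime m) (LocalizedModule m.primeCompl M))
    (hs : (⟨p, hp⟩ : PrimeSpectrum R) ∈ Module.support R M) :
    LocCoh.IsCohenMacaulayModule (Localization.AtPrime p) (LocalizedModule p.primeCompl M) := by
  let P : Ideal (Localization.AtPrime m) := p.map (algebraMap R (Localization.AtPrime m))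
  have hd : Disjoint (m.primeCompl : Set R) (p : Set R) := Set.disjoint_left.2 fun x hx hxp => hx (hpm hxp)
  haveI hP : P.IsPrime := IsLocalization.isPrime_of_isPrime_disjoint m.primeCompl _ p inferInstance hd
  have hc : P.comap (algebraMap R (Localization.AtPrime m)) = p :=
    IsLocalization.comap_map_of_isPrime_disjoint m.primeCompl (Localization.AtPrime m) ‹p.IsPrime› hd
  obtain ⟨h1, h2⟩ := FlatDepth.invariants_localization_localization (M := M) m.primeCompl P
  have key : ∀ (a : Ideal R) [a.IsPrime], a = p →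
      (LocCoh.depth (Localization.AtPrime a) (LocalizedModule a.primeCompl M) =
          LocCoh.depth (Localization.AtPrime p) (LocalizedModule p.primeCompl M) ∧
        Module.supportDim (Localization.AtPrime a) (LocalizedModule a.primeCompl M) =
          Module.supportDim (Localization.AtPrime p) (LocalizedModule p.primeCompl M)) := by
    intro a _ e; subst e; exact ⟨rfl, rfl⟩
  obtain ⟨k1, k2⟩ := key _ hc
  rw [k1] at h1
  rw [k2] at h2
  have hsP : (⟨P, hP⟩ : PrimeSpectrum (Localization.AtPrime m)) ∈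
      Module.support (Localization.AtPrime m) (LocalizedModule m.primeCompl M) := by
    have hn : Module.supportDim (Localization.AtPrime P)
        (LocalizedModule P.primeCompl (LocalizedModule m.primeCompl M)) ≠ ⊥ := by
      rw [h2]
      exact (Module.supportDim_ne_bot_iff_nontrivial _ _).2 hs
    exact (Module.supportDim_ne_bot_iff_nontrivial _ _).1 hn
  have h3 := (DepthLib.isCohenMacaulayModule_localizedModule h P hsP).1
  unfold LocCoh.IsCohenMacaulayModule at h3 ⊢
  rwa [h1, h2] at h3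

variable {R : Type u} [CommRing R] [IsNoetherianRing R] {σ : Type u} [SetLike σ R] [AddSubgroupClass σ R]
  {𝒜 : ℤ → σ} [GradedRing 𝒜] {M : Type u} [AddCommGroup M] [Module R M] [Module.Finite R M]
  {τ : Type u} [SetLike τ M] [AddSubgroupClass τ M] {ℳ : ℤ → τ} [Decomposition ℳ] [SetLike.GradedSMul 𝒜 ℳ]

theorem krullDim_primesBetween_core_le (hpos : ∀ n : ℤ, n < 0 → ∀ r ∈ 𝒜 n, r = 0) {m : HomogeneousIdeal 𝒜}
    (hm : GrLC.IsStarLocal 𝒜 m) {J : Ideal R} (hJ : J.IsHomogeneous 𝒜) (q : Ideal R) [hq : q.IsPrime]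
    (hJq : J ≤ q) : krullDim (primesBetween J q) ≤ krullDim (primesBetween J m.toIdeal) := by
  have hmax := isMaximal_starMax hpos hm.1
  have hcp := isPrime_core (𝒜 := 𝒜) q
  have hcm : core 𝒜 q ≤ m.toIdeal := le_of_isStarLocal hm (isHomogeneous_core q) hcp.ne_top
  by_cases hc : m.toIdeal ≤ core 𝒜 q
  · rw [← hmax.eq_of_le hq.ne_top (hc.trans (core_le q))]
  have := Ideal.isPrime_map_quotientMk_of_isPrime (core_le (𝒜 := 𝒜) q)
  obtain ⟨d, hd⟩ : ∃ d : ℕ, (q.map (Ideal.Quotient.mk (core 𝒜 q))).height = d :=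
    ⟨_, (ENat.natCast_toNat (Ideal.height_ne_top this.ne_top)).symm⟩
  have hd1 : d ≤ 1 := by
    have := height_map_core_le_one (𝒜 := 𝒜) q
    rw [hd] at this
    exact_mod_cast this
  rw [krullDim_primesBetween hd hJ hJq]
  have hne : Nonempty (primesBetween J (core 𝒜 q)) := ⟨⟨corePt (𝒜 := 𝒜) q, le_core hJ hJq, le_rfl⟩⟩
  have hne' : Nonempty (primesBetween J m.toIdeal) :=
    ⟨⟨corePt (𝒜 := 𝒜) q, le_core hJ hJq, hcm⟩⟩
  refine le_trans (add_le_add le_rfl (show (d : WithBot ℕ∞) ≤ ((1 : ℕ) : WithBot ℕ∞) by exact_mod_cast hd1)) ?_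
  rw [krullDim_eq_iSup_length, ← WithBot.coe_natCast, ← WithBot.coe_add, ENat.iSup_add,
    WithBot.coe_iSup (OrderTop.bddAbove _)]
  refine iSup_le fun l => ?_
  let incl : primesBetween J (core 𝒜 q) → primesBetween J m.toIdeal := fun x => ⟨x.1, x.2.1, x.2.2.trans hcm⟩
  let top : primesBetween J m.toIdeal :=
    ⟨⟨m.toIdeal, hmax.isPrime⟩, (le_core hJ hJq).trans hcm, le_rfl⟩
  have hlast : (l.map incl fun _ _ h => h).last < top := by
    show (l.last.1 : PrimeSpectrum R) < ⟨m.toIdeal, hmax.isPrime⟩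
    exact lt_of_le_of_lt (show l.last.1 ≤ corePt (𝒜 := 𝒜) q from l.last.2.2) (lt_of_le_not_ge hcm hc)
  calc (((l.length : ℕ∞) + (1 : ℕ) : ℕ∞) : WithBot ℕ∞) = ((l.length + 1 : ℕ) : WithBot ℕ∞) := by push_cast; rfl
    _ ≤ _ := Order.LTSeries.length_le_krullDim ((l.map incl fun _ _ h => h).snoc top hlast)

theorem depth_localized_eq (ℳ : ℤ → τ) [Decomposition ℳ] [SetLike.GradedSMul 𝒜 ℳ] (q : Ideal R) [q.IsPrime]
    [(core 𝒜 q).IsPrime] {d : ℕ} (hd : (q.map (Ideal.Quotient.mk (core 𝒜 q))).height = d) :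
    LocCoh.depth (Localization.AtPrime q) (LocalizedModule q.primeCompl M) =
      LocCoh.depth (Localization.AtPrime (core 𝒜 q)) (LocalizedModule (core 𝒜 q).primeCompl M) + d := by
  obtain ⟨h1, h2⟩ := bassNum_eq ℳ q d hd
  have key : ∀ (p : Ideal R) [p.IsPrime] (n : ℕ),
      (n : ℕ∞) ≤ LocCoh.depth (Localization.AtPrime p) (LocalizedModule p.primeCompl M) ↔
        ∀ i < n, GrLC.bassNum p M i = 0 := fun p _ n =>
    (DepthLib.natCast_le_idealDepth_iff n).trans
      (forall₂_congr fun i _ => Module.length_eq_zero_iff.symm)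
  refine ENat.eq_of_forall_natCast_le_iff fun n => ?_
  rcases le_total n d with hn | hn
  · refine iff_of_true ((key q n).2 fun i hi => h1 i (lt_of_lt_of_le hi hn)) ?_
    exact le_trans (Nat.cast_le.2 hn) le_add_self
  · obtain ⟨j, rfl⟩ := Nat.exists_eq_add_of_le' hn
    rw [Nat.cast_add, ENat.add_le_add_iff_right (ENat.natCast_ne_top d), key, ← Nat.cast_add, key]
    refine ⟨fun h i hi => ?_, fun h i hi => ?_⟩
    · rw [← h2]; exact h (i + d) (by omega)
    · rcases lt_or_ge i d with hid | hid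
      · exact h1 i hid
      · rw [show i = (i - d) + d by omega, h2]
        exact h (i - d) (by omega)

/-- The dimension of a graded module is its dimension at the *maximal ideal. -/
theorem supportDim_eq_localized (hpos : ∀ n : ℤ, n < 0 → ∀ r ∈ 𝒜 n, r = 0) {m : HomogeneousIdeal 𝒜}
    (hm : GrLC.IsStarLocal 𝒜 m) [m.toIdeal.IsPrime] (ℳ : ℤ → τ) [Decomposition ℳ] [SetLike.GradedSMul 𝒜 ℳ] :
    Module.supportDim R M =
      Module.supportDim (Localization.AtPrime m.toIdeal) (LocalizedModule m.toIdeal.primeCompl M) := by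
  rw [supportDim_localizedModule_eq_primesBetween]
  have hsupp : ∀ q : PrimeSpectrum R, q ∈ Module.support R M ↔ Module.annihilator R M ≤ q.asIdeal := fun q => by
    rw [Module.support_eq_zeroLocus]
    exact Iff.rfl
  have hann : (Module.annihilator R M).IsHomogeneous 𝒜 := isHomogeneous_module_annihilator ℳ
  refine le_antisymm ?_ (Order.krullDim_le_of_strictMono
    (fun q => (⟨q.1, (hsupp _).2 q.2.1⟩ : Module.support R M)) fun a b h => h)
  refine iSup_le fun l => ?_
  refine le_trans ?_ (krullDim_primesBetween_core_le hpos hm hann l.last.1.asIdeal ((hsupp _).1 l.last.2))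
  exact Order.LTSeries.length_le_krullDim (LTSeries.mk l.length
    (fun i => (⟨(l i).1, (hsupp _).1 (l i).2,
      (show (l i).1 ≤ l.last.1 from l.monotone (Fin.le_last i))⟩ : primesBetween _ l.last.1.asIdeal))
    fun i j hij => l.strictMono hij)

/-- The Cohen-Macaulay property at all primes comes from the *maximal ideal. -/
theorem cm_localized_of_cm_starMax {m : HomogeneousIdeal 𝒜}
    (hm : GrLC.IsStarLocal 𝒜 m) [m.toIdeal.IsPrime] (ℳ : ℤ → τ) [Decomposition ℳ] [SetLike.GradedSMul 𝒜 ℳ]
    (hM : LocCoh.IsCohenMacaulayModule (Localization.AtPrime m.toIdeal)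
      (LocalizedModule m.toIdeal.primeCompl M)) (q : Ideal R) [hq : q.IsPrime] :
    Subsingleton (LocalizedModule q.primeCompl M) ∨
      LocCoh.IsCohenMacaulayModule (Localization.AtPrime q) (LocalizedModule q.primeCompl M) := by
  rcases subsingleton_or_nontrivial (LocalizedModule q.primeCompl M) with h | h
  · exact Or.inl h
  refine Or.inr ?_
  have hcp := isPrime_core (𝒜 := 𝒜) q
  have hann : (Module.annihilator R M).IsHomogeneous 𝒜 := isHomogeneous_module_annihilator ℳ
  have hle : Module.annihilator R M ≤ q :=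
    Module.annihilator_le_of_mem_support (p := ⟨q, hq⟩) h
  have hcm : core 𝒜 q ≤ m.toIdeal := le_of_isStarLocal hm (isHomogeneous_core q) hcp.ne_top
  have := Ideal.isPrime_map_quotientMk_of_isPrime (core_le (𝒜 := 𝒜) q)
  obtain ⟨d, hd⟩ : ∃ d : ℕ, (q.map (Ideal.Quotient.mk (core 𝒜 q))).height = d :=
    ⟨_, (ENat.natCast_toNat (Ideal.height_ne_top this.ne_top)).symm⟩
  have hsc : corePt (𝒜 := 𝒜) q ∈ Module.support R M := by
    rw [Module.support_eq_zeroLocus]
    exact le_core hann hle
  have hcore : LocCoh.IsCohenMacaulayModule (Localization.AtPrime (core 𝒜 q))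
      (LocalizedModule (core 𝒜 q).primeCompl M) := by
    exact cm_of_le hcm hM hsc
  unfold LocCoh.IsCohenMacaulayModule at hcore ⊢
  rw [supportDim_localizedModule_eq_primesBetween, krullDim_primesBetween hd hann hle,
    ← supportDim_localizedModule_eq_primesBetween (M := M), hcore, depth_localized_eq ℳ q hd, WithBot.coe_add]
  rfl

/-- Vanishing above the dimension. -/
theorem van_of_supportDim_lt (a : HomogeneousIdeal 𝒜) (ℳ : ℤ → τ) [Decomposition ℳ] [SetLike.GradedSMul 𝒜 ℳ]
    {i : ℕ} (h : Module.supportDim R M < (i : WithBot ℕ∞)) (g : ℤ) : Van a i g (toGMod 𝒜 ℳ) :=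
  (subsingleton_H_iff_van (a := a) (ℳ := ℳ) i).1 (LocCohLib.subsingleton_of_supportDim_lt _ M i h) g

/-- A graded module is Cohen-Macaulay iff its graded local cohomology lives in the top degree only. -/
theorem cm_iff_van (hpos : ∀ n : ℤ, n < 0 → ∀ r ∈ 𝒜 n, r = 0) {m : HomogeneousIdeal 𝒜}
    (hm : GrLC.IsStarLocal 𝒜 m) (ℳ : ℤ → τ) [Decomposition ℳ] [SetLike.GradedSMul 𝒜 ℳ] {d : ℕ}
    (hd : Module.supportDim R M = d) :
    (∀ (q : Ideal R) [q.IsPrime], Subsingleton (LocalizedModule q.primeCompl M) ∨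
      LocCoh.IsCohenMacaulayModule (Localization.AtPrime q) (LocalizedModule q.primeCompl M)) ↔
    ∀ i : ℕ, i ≠ d → ∀ g, Van m i g (toGMod 𝒜 ℳ) := by
  have hmax := isMaximal_starMax hpos hm.1
  have hdm := supportDim_eq_localized hpos hm ℳ
  rw [hd] at hdm
  have hnt : Nontrivial (LocalizedModule m.toIdeal.primeCompl M) :=
    (Module.supportDim_ne_bot_iff_nontrivial (Localization.AtPrime m.toIdeal) _).1 (by rw [← hdm]; simp)
  constructor
  · intro h i hi g
    rcases lt_or_gt_of_ne hi with hlt | hgt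
    · rcases h m.toIdeal with h0 | h0
      · exact absurd h0 (not_subsingleton_iff_nontrivial.2 hnt)
      unfold LocCoh.IsCohenMacaulayModule at h0
      rw [← hdm] at h0
      refine (natCast_le_idealDepth_iff_van (a := m) (ℳ := ℳ) d).1 ?_ i hlt g
      rw [DepthLib.natCast_le_idealDepth_iff_forall_localized d]
      intro p hp
      obtain rfl : p = ⟨m.toIdeal, hmax.isPrime⟩ :=
        PrimeSpectrum.ext (hmax.eq_of_le p.isPrime.ne_top hp).symm
      exact le_of_eq (WithBot.coe_injective h0)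
    · exact van_of_supportDim_lt m ℳ (by rw [hd]; exact_mod_cast hgt) g
  · intro h q _
    refine cm_localized_of_cm_starMax hm ℳ ?_ q
    have h1 := (DepthLib.natCast_le_idealDepth_iff_forall_localized (M := M) (I := m.toIdeal) d).1
      ((natCast_le_idealDepth_iff_van (a := m) (ℳ := ℳ) d).2 fun i hi => h i hi.ne) ⟨m.toIdeal, hmax.isPrime⟩ le_rfl
    refine le_antisymm ?_ DepthLib.depth_le_supportDim
    rw [← hdm]
    exact WithBot.coe_le_coe.2 h1

theorem idealDepth_le_of_not_van {a : HomogeneousIdeal 𝒜} (ℳ : ℤ → τ) [Decomposition ℳ] [SetLike.GradedSMul 𝒜 ℳ]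
    {i : ℕ} {g : ℤ} (h : ¬ Van a i g (toGMod 𝒜 ℳ)) : LocCoh.idealDepth a.toIdeal M ≤ i := by
  by_contra hlt
  have hlt' : ((i + 1 : ℕ) : ℕ∞) ≤ LocCoh.idealDepth a.toIdeal M := by
    rw [Nat.cast_succ]
    exact ENat.natCast_add_one_le_iff.2 (not_le.1 hlt)
  exact h ((natCast_le_idealDepth_iff_van (ℳ := ℳ) (i + 1)).1 hlt' i (Nat.lt_succ_self i) g)

/-- The top graded local cohomology of a Cohen-Macaulay graded module does not vanish. -/
theorem exists_not_van_of_cm (hpos : ∀ n : ℤ, n < 0 → ∀ r ∈ 𝒜 n, r = 0) {m : HomogeneousIdeal 𝒜}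
    (hm : GrLC.IsStarLocal 𝒜 m) (ℳ : ℤ → τ) [Decomposition ℳ] [SetLike.GradedSMul 𝒜 ℳ] {d : ℕ}
    (hd : Module.supportDim R M = d)
    (hM : ∀ (q : Ideal R) [q.IsPrime], Subsingleton (LocalizedModule q.primeCompl M) ∨
      LocCoh.IsCohenMacaulayModule (Localization.AtPrime q) (LocalizedModule q.primeCompl M)) :
    ∃ g, ¬ Van m d g (toGMod 𝒜 ℳ) := by
  by_contra hall
  push Not at hall
  have hmax := isMaximal_starMax hpos hm.1
  have h : ∀ i < d + 1, ∀ g, Van m i g (toGMod 𝒜 ℳ) := fun i _ g => by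
    rcases eq_or_ne i d with rfl | hi
    · exact hall g
    · exact (cm_iff_van hpos hm ℳ hd).1 hM i hi g
  have h1 := (DepthLib.natCast_le_idealDepth_iff_forall_localized (M := M) (I := m.toIdeal) (d + 1)).1
    ((natCast_le_idealDepth_iff_van (ℳ := ℳ) (d + 1)).2 h) ⟨m.toIdeal, hmax.isPrime⟩ le_rfl
  have hdm := supportDim_eq_localized hpos hm ℳ
  rw [hd] at hdm
  have : Nontrivial (LocalizedModule m.toIdeal.primeCompl M) :=
    (Module.supportDim_ne_bot_iff_nontrivial (Localization.AtPrime m.toIdeal) _).1 (by rw [← hdm]; simp)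
  have h2 := (WithBot.coe_le_coe.2 h1).trans (DepthLib.depth_le_supportDim (R := Localization.AtPrime m.toIdeal)
    (M := LocalizedModule m.toIdeal.primeCompl M))
  rw [← hdm] at h2
  have h3 : d + 1 ≤ d := by exact_mod_cast h2
  omega

omit [Module.Finite R M] in
theorem isCohenMacaulayRing_iff (A : Type u) [CommRing A] [IsNoetherianRing A] :
    LocCoh.IsCohenMacaulayRing A ↔ ∀ (q : Ideal A) [q.IsPrime], Subsingleton (LocalizedModule q.primeCompl A) ∨
      LocCoh.IsCohenMacaulayModule (Localization.AtPrime q) (LocalizedModule q.primeCompl A) := by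
  refine ⟨fun h q _ => Or.inr ?_, fun h => ⟨fun q _ => ⟨?_⟩⟩⟩
  · unfold LocCoh.IsCohenMacaulayModule
    rw [DepthLib.supportDim_eq_ringKrullDim_of_isPrime, DepthLib.depth_localizedModule_self,
      ← IsLocalization.AtPrime.ringKrullDim_eq_height q (Localization.AtPrime q),
      ← Module.supportDim_self_eq_ringKrullDim]
    exact (h.isCohenMacaulayLocalRing_localization q).supportDim_eq_depth
  · rcases h q with h0 | h0
    · have h1 := DepthLib.supportDim_eq_ringKrullDim_of_isPrime (R := A) q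
      rw [Module.supportDim_eq_bot_of_subsingleton] at h1
      exact absurd h1.symm (by simp)
    · unfold LocCoh.IsCohenMacaulayModule at h0
      rw [DepthLib.supportDim_eq_ringKrullDim_of_isPrime, DepthLib.depth_localizedModule_self,
        ← IsLocalization.AtPrime.ringKrullDim_eq_height q (Localization.AtPrime q),
        ← Module.supportDim_self_eq_ringKrullDim] at h0
      exact h0

end Groth.Agent.GrLC21
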