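import Groth.Agent.Lib.GrLC21.Basic

/-!
# Standard graded rings
-/

universe u

open DirectSum

noncomputable section

set_option linter.unusedSectionVars false
set_option backward.isDefEq.respectTransparency false

namespace Groth.Agent.GrLC21

variable {R : Type u} [CommRing R] {σ : Type u} [SetLike σ R] [AddSubgroupClass σ R]
  {𝒜 : ℤ → σ} [GradedRing 𝒜]

/-- In a standard graded ring each positive piece is spanned by products with degree one. -/
theorem mem_closure_one_mul (hstd : Ideal.span (⋃ n ∈ Set.Ioi (0 : ℤ), (𝒜 n : Set R)) = Ideal.span (𝒜 1 : Set R))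
    {e : ℤ} (he : 0 ≤ e) {y : R} (hy : y ∈ 𝒜 (e + 1)) :
    y ∈ AddSubgroup.closure {z | ∃ u ∈ 𝒜 1, ∃ v ∈ 𝒜 e, z = u * v} := by
  have hy' : y ∈ Ideal.span (𝒜 1 : Set R) := hstd ▸ Ideal.subset_span (Set.mem_biUnion (show 0 < e + 1 by omega) hy)
  rw [← proj_of_mem 𝒜 hy]
  refine Submodule.span_induction (p := fun y _ => ∀ q, proj 𝒜 (e + 1) (q * y) ∈
    AddSubgroup.closure {z | ∃ u ∈ 𝒜 1, ∃ v ∈ 𝒜 e, z = u * v}) ?_ ?_ ?_ ?_ hy' 1 |> fun h => by simpa using h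
  · intro u hu q
    have h := proj_smul 𝒜 𝒜 (hu : u ∈ 𝒜 1) (e + 1) q
    rw [smul_eq_mul, smul_eq_mul, add_sub_cancel_right, mul_comm] at h
    rw [h]
    exact AddSubgroup.subset_closure ⟨u, hu, _, proj_mem 𝒜 e q, rfl⟩
  · intro q
    rw [mul_zero, map_zero]
    exact zero_mem _
  · intro u v _ _ hu hv q
    rw [mul_add, map_add]
    exact add_mem (hu q) (hv q)
  · intro b u _ hu q
    rw [smul_eq_mul, ← mul_assoc]
    exact hu _

/-- Pieces of a standard graded ring multiply onto one another. -/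
theorem mem_closure_mul (hstd : Ideal.span (⋃ n ∈ Set.Ioi (0 : ℤ), (𝒜 n : Set R)) = Ideal.span (𝒜 1 : Set R))
    {x : ℤ} (hx : 0 ≤ x) : ∀ (l : ℕ) {y : R}, y ∈ 𝒜 (x + l) →
      y ∈ AddSubgroup.closure {z | ∃ u ∈ 𝒜 (l : ℤ), ∃ v ∈ 𝒜 x, z = u * v}
  | 0, y, hy => AddSubgroup.subset_closure ⟨1, (show (1 : R) ∈ 𝒜 ((0 : ℕ) : ℤ) by rw [Nat.cast_zero]; exact SetLike.GradedOne.one_mem), y, by simpa using hy, (one_mul y).symm⟩
  | l + 1, y, hy => by
    have hy' : y ∈ 𝒜 ((x + l) + 1) := by rwa [add_assoc]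
    refine (AddSubgroup.closure_le _).2 ?_ (mem_closure_one_mul hstd (by omega) hy')
    rintro _ ⟨u, hu, v, hv, rfl⟩
    let C := AddSubgroup.closure {z | ∃ u' ∈ 𝒜 ((l + 1 : ℕ) : ℤ), ∃ v' ∈ 𝒜 x, z = u' * v'}
    have : AddSubgroup.closure {z | ∃ u' ∈ 𝒜 (l : ℤ), ∃ v' ∈ 𝒜 x, z = u' * v'} ≤ C.comap (AddMonoidHom.mulLeft u) := by
      rw [AddSubgroup.closure_le]
      rintro _ ⟨a, ha, b, hb, rfl⟩
      refine AddSubgroup.subset_closure ⟨u * a, ?_, b, hb, (mul_assoc u a b).symm⟩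
      have h := SetLike.mul_mem_graded hu ha
      rwa [show (1 : ℤ) + l = ((l + 1 : ℕ) : ℤ) by push_cast; ring] at h
    exact this (mem_closure_mul hstd hx l hv)

end Groth.Agent.GrLC21
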