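import Groth.Agent.Lib.GrLC21.CanonLocal
import Groth.Agent.Lib.GrLC21.AInv
import Groth.Agent.Lib.GrLC21.Standard
import Groth.Agent.Lib.Depth.CM
import Mathlib.RingTheory.KrullDimension.PID

/-!
# The pieces of a *canonical module of a standard graded Cohen–Macaulay ring
-/

universe u

open DirectSum

noncomputable section

set_option linter.unusedSectionVars false
set_option backward.isDefEq.respectTransparency false

namespace Groth.Agent.GrLC21

variable {R : Type u} [CommRing R] {σ : Type u} [SetLike σ R] [AddSubgroupClass σ R]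
  {𝒜 : ℤ → σ} [GradedRing 𝒜] {m : HomogeneousIdeal 𝒜} (Γ : FieldCtx 𝒜 m)
  {C : Type u} [AddCommGroup C] [Module R C] {τ : Type u} [SetLike τ C] [AddSubgroupClass τ C]
  {𝒞 : ℤ → τ} [Decomposition 𝒞] [SetLike.GradedSMul 𝒜 𝒞]

include Γ in
/-- Nothing outside the *maximal ideal kills a nonzero homogeneous element. -/
theorem FieldCtx.eq_zero_of_smul_eq_zero {i : ℤ} {c : C} (hc : c ∈ 𝒞 i) {s : R} (hs : s ∉ m.toIdeal)
    (h : s • c = 0) : c = 0 := by
  have hs0 : proj 𝒜 0 s ≠ 0 := fun e => hs (by simpa [e] using Γ.sub_proj_zero_mem s)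
  have h1 : proj 𝒜 0 s • c = 0 := by
    have h2 : proj 𝒞 i (s • c) = proj 𝒜 0 s • c := by
      refine spans_induction (spans_of_decomposition 𝒜) s (by simp)
        (fun a b ha hb => by rw [add_smul, map_add, ha, hb, map_add, add_smul]) fun a r hr => ?_
      rcases eq_or_ne a 0 with rfl | ha
      · rw [proj_of_mem 𝒜 hr, proj_of_mem 𝒞 (by simpa using smul_mem 𝒜 𝒞 hr hc)]
      · rw [proj_of_mem_ne 𝒜 hr ha, zero_smul, proj_of_mem_ne 𝒞 (smul_mem 𝒜 𝒞 hr hc) (by omega)]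
    rw [← h2, h, map_zero]
  obtain ⟨u, hu⟩ := Γ.isField.mul_inv_cancel (a := ⟨proj 𝒜 0 s, proj_mem 𝒜 0 s⟩)
    fun e => hs0 (congrArg Subtype.val e)
  rw [← one_smul R c, ← show proj 𝒜 0 s * (u : R) = 1 from congrArg Subtype.val hu, mul_comm, mul_smul, h1,
    smul_zero]

include Γ in
/-- A quotient generated in degree one by a single element has dimension at most one. -/
theorem FieldCtx.ringKrullDim_quotient_le_one_of_linear
    (hstd : Ideal.span (⋃ n ∈ Set.Ioi (0 : ℤ), (𝒜 n : Set R)) = Ideal.span (𝒜 1 : Set R))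
    {t : R} (J : Ideal R) (hJ : ∀ x ∈ 𝒜 1, ∃ c ∈ 𝒜 0, x - c * t ∈ J) :
    ringKrullDim (R ⧸ J) ≤ 1 := by
  let _ := Γ.isField.toField
  let f : Polynomial (GrLC.deg0 𝒜) →+* R ⧸ J :=
    Polynomial.eval₂RingHom ((Ideal.Quotient.mk J).comp (GrLC.deg0 𝒜).subtype) (Ideal.Quotient.mk J t)
  have hC : ∀ c (hc : c ∈ 𝒜 0), Ideal.Quotient.mk J c ∈ f.range := fun c hc =>
    ⟨Polynomial.C ⟨c, hc⟩, by simp [f]⟩
  have h1 : ∀ x ∈ 𝒜 1, Ideal.Quotient.mk J x ∈ f.range := fun x hx => by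
    obtain ⟨c, hc, hxc⟩ := hJ x hx
    rw [Ideal.Quotient.eq.2 hxc, map_mul]
    exact mul_mem (hC c hc) ⟨Polynomial.X, by simp [f]⟩
  have hall : ∀ e : ℕ, ∀ y ∈ 𝒜 (e : ℤ), Ideal.Quotient.mk J y ∈ f.range := by
    intro e
    induction e with
    | zero => exact fun y hy => hC y hy
    | succ e ih =>
      intro y hy
      have hy' := mem_closure_one_mul hstd (Int.natCast_nonneg e) (by rwa [Nat.cast_succ] at hy)
      refine AddSubgroup.closure_induction (p := fun z _ => Ideal.Quotient.mk J z ∈ f.range) ?_ ?_ ?_ ?_ hy'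
      · rintro _ ⟨u, hu, v, hv, rfl⟩
        rw [map_mul]
        exact mul_mem (h1 u hu) (ih v hv)
      · rw [map_zero]; exact zero_mem _
      · intro a b _ _ ha hb; rw [map_add]; exact add_mem ha hb
      · intro a _ ha; rw [map_neg]; exact neg_mem ha
  have hsurj : Function.Surjective f := by
    intro z
    obtain ⟨r, rfl⟩ := Ideal.Quotient.mk_surjective z
    refine spans_induction (spans_of_decomposition 𝒜) r
      ⟨0, (map_zero f).trans (map_zero (Ideal.Quotient.mk J)).symm⟩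
      (fun a b ha hb => by obtain ⟨p, hp⟩ := ha; obtain ⟨q, hq⟩ := hb; exact ⟨p + q, by simp [hp, hq]⟩)
      fun d s hs => ?_
    rcases lt_or_ge d 0 with hd | hd
    · exact ⟨0, by rw [Γ.pos d hd s hs, map_zero, map_zero]⟩
    · exact hall d.toNat s (by rwa [Int.toNat_of_nonneg hd])
  refine (ringKrullDim_le_of_surjective f hsurj).trans ?_
  exact (IsPrincipalIdealRing.ringKrullDim_eq_one _ (Polynomial.not_isField _)).le

variable [IsNoetherianRing R] [LocCoh.IsCohenMacaulayRing R]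
  {E : Type u} [AddCommGroup E] [Module R E] {τ' : Type u} [SetLike τ' E] [AddSubgroupClass τ' E]
  {𝓔 : ℤ → τ'} [Decomposition 𝓔] [SetLike.GradedSMul 𝒜 𝓔] {e : (R ⧸ m.toIdeal) →ₗ[R] E}
  (he : GrLC.IsStarInjHull 𝒜 (GrLC.quotGr 𝒜 m) 𝓔 e)
  {n : ℕ} (hn : ringKrullDim R = n) {I : GrLC.StarInjRes 𝒜 𝒜} (hC : GrLC.IsStarCanonical 𝒜 𝒞 𝓔 m n I)

include Γ he hn hC in
/-- In dimension at least two, no piece following a nonzero piece has dimension at most one. -/
theorem FieldCtx.two_le_finrank_of_pred_ne_zero [m.toIdeal.IsPrime]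
    (hstd : Ideal.span (⋃ n ∈ Set.Ioi (0 : ℤ), (𝒜 n : Set R)) = Ideal.span (𝒜 1 : Set R)) (h2 : 2 ≤ n)
    {i : ℤ} {c : C} (hc : c ∈ 𝒞 i) (hc0 : c ≠ 0) :
    2 ≤ Module.finrank (GrLC.deg0 𝒜) (GrLC.comp 𝒜 𝒞 (i + 1)) := by
  let _ := Γ.isField.toField
  haveI := hC.1
  haveI := Γ.isNoetherian_comp 𝒞 (i + 1)
  by_contra hlt
  obtain ⟨v, hv⟩ := finrank_le_one_iff.1 (show Module.finrank (GrLC.deg0 𝒜) (GrLC.comp 𝒜 𝒞 (i + 1)) ≤ 1 by omega)
  let ψ : GrLC.comp 𝒜 𝒜 (1 : ℤ) →ₗ[GrLC.deg0 𝒜] GrLC.comp 𝒜 𝒞 (i + 1) :=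
    { toFun := fun x => ⟨x.1 • c, add_comm (1 : ℤ) i ▸ smul_mem 𝒜 𝒞 x.2 hc⟩
      map_add' := fun x y => Subtype.ext (add_smul x.1 y.1 c)
      map_smul' := fun k x => Subtype.ext (mul_smul (k : R) x.1 c) }
  -- the forms of degree one killing `c` have codimension at most one
  obtain ⟨t, ht⟩ : ∃ t : R, ∀ x ∈ 𝒜 1, ∃ k ∈ 𝒜 0, (x - k * t) • c = 0 := by
    by_cases hψ : ψ = 0
    · exact ⟨0, fun x hx => ⟨0, ZeroMemClass.zero_mem _,
        by
          have h0 : (ψ ⟨x, hx⟩).1 = 0 := congrArg Subtype.val (LinearMap.congr_fun hψ ⟨x, hx⟩)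
          show (x - 0 * 0) • c = 0
          rw [zero_mul, sub_zero]
          exact h0⟩⟩
    · obtain ⟨t, ht⟩ : ∃ t, ψ t ≠ 0 := by
        by_contra! hall
        exact hψ (LinearMap.ext hall)
      obtain ⟨a, ha⟩ := hv (ψ t)
      have ha0 : a ≠ 0 := fun e => ht (by rw [← ha, e, zero_smul])
      refine ⟨t.1, fun x hx => ?_⟩
      obtain ⟨b, hb⟩ := hv (ψ ⟨x, hx⟩)
      refine ⟨((b * a⁻¹ : GrLC.deg0 𝒜) : R), (b * a⁻¹ : GrLC.deg0 𝒜).2, ?_⟩
      have h0 : ψ (⟨x, hx⟩ - (b * a⁻¹) • t) = 0 := by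
        rw [map_sub, map_smul, ← ha, smul_smul, inv_mul_cancel_right₀ ha0, hb, sub_self]
      exact congrArg Subtype.val h0
  let J : Ideal R := (⊥ : Submodule R C).colon {c}
  have hdim : ringKrullDim (R ⧸ J) ≤ 1 := Γ.ringKrullDim_quotient_le_one_of_linear hstd J fun x hx => by
    obtain ⟨k, hk, hkc⟩ := ht x hx
    exact ⟨k, hk, Submodule.mem_colon_singleton.2 ((Submodule.mem_bot R).2 hkc)⟩
  obtain ⟨hCM, hsd, -⟩ := Γ.canonical_cm_injDim he hn hC
  let A := Localization.AtPrime m.toIdeal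
  let c' : LocalizedModule m.toIdeal.primeCompl C := LocalizedModule.mk c 1
  have hc' : c' ≠ 0 := fun h => by
    obtain ⟨s, hs⟩ := LocalizedModule.mk_eq.1 (h.trans (LocalizedModule.zero_mk 1).symm)
    exact hc0 (Γ.eq_zero_of_smul_eq_zero hc s.2 (by simpa [Submonoid.smul_def] using hs))
  obtain ⟨q, hq, hcq⟩ := exists_le_isAssociatedPrime_of_isNoetherianRing A c' hc'
  have hJq : J ≤ q.comap (algebraMap R A) := fun r hr => hcq (Submodule.mem_colon_singleton.2 (by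
    rw [Submodule.mem_bot, algebraMap_smul, LocalizedModule.smul'_mk,
      (Submodule.mem_bot R).1 (Submodule.mem_colon_singleton.1 hr), LocalizedModule.zero_mk]))
  have hle : ringKrullDim (A ⧸ q) ≤ ringKrullDim (R ⧸ J) := by
    rw [ringKrullDim_quotient, ringKrullDim_quotient]
    refine Order.krullDim_le_of_strictMono
      (fun p => ⟨PrimeSpectrum.comap (algebraMap R A) p.1, fun r hr => p.2 (hJq hr)⟩) fun p p' hpp => ?_
    refine lt_of_le_of_ne (fun r hr => (le_of_lt hpp : p.1 ≤ p'.1) hr) fun e => hpp.ne (Subtype.ext ?_)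
    exact PrimeSpectrum.localization_comap_injective A m.toIdeal.primeCompl (congrArg Subtype.val e)
  have key := (DepthLib.depth_le_of_mem_associatedPrimes hq).trans (hle.trans hdim)
  rw [← hCM, hsd] at key
  have : (n : WithBot ℕ∞) ≤ ((1 : ℕ) : WithBot ℕ∞) := by simpa using key
  rw [Nat.cast_le] at this
  omega

end Groth.Agent.GrLC21
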