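import Groth.Agent.Lib.GrLC21.Hull

/-!
# The graded module `R ⧸ a`; uniqueness of *injective envelopes
-/

universe u

open DirectSum

noncomputable section

set_option linter.unusedSectionVars false

namespace Groth.Agent.GrLC21

variable {ι : Type} [AddCommGroup ι] [DecidableEq ι]
variable {R : Type u} [CommRing R] {σ : Type u} [SetLike σ R] [AddSubgroupClass σ R]
  (𝒜 : ι → σ) [GradedRing 𝒜]

theorem isInternal_quotGr (a : HomogeneousIdeal 𝒜) : IsInternal (GrLC.quotGr 𝒜 a) :=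
  isInternal_of_proj _
    (fun g => QuotientAddGroup.lift a.toIdeal.toAddSubgroup
      ((Ideal.Quotient.mk a.toIdeal).toAddMonoidHom.comp (proj 𝒜 g))
      fun x hx => Ideal.Quotient.eq_zero_iff_mem.2 (a.isHomogeneous g hx))
    (fun g _ hx => by
      obtain ⟨x, hx, rfl⟩ := hx
      exact congrArg (Ideal.Quotient.mk a.toIdeal) (proj_of_mem 𝒜 hx))
    (fun g h e _ hx => by
      obtain ⟨x, hx, rfl⟩ := hx
      exact (congrArg (Ideal.Quotient.mk a.toIdeal) (proj_of_mem_ne 𝒜 hx e.symm)).trans (map_zero _))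
    fun q => by
      obtain ⟨x, rfl⟩ := Ideal.Quotient.mk_surjective q
      rw [← sum_proj 𝒜 x, map_sum]
      exact sum_mem fun g _ => AddSubgroup.mem_iSup_of_mem g ⟨_, proj_mem 𝒜 g x, rfl⟩

/-- `R ⧸ a` with the images of the pieces. -/
def quotMod (a : HomogeneousIdeal 𝒜) : GrLC.GMod.{u} 𝒜 :=
  mkGMod (R ⧸ a.toIdeal) (GrLC.quotGr 𝒜 a) (isInternal_quotGr 𝒜 a) (by
    rintro h g r _ hr ⟨x, hx, rfl⟩
    exact ⟨r * x, SetLike.mul_mem_graded hr hx, rfl⟩)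

theorem spans_quotGr (a : HomogeneousIdeal 𝒜) : Spans (GrLC.quotGr 𝒜 a) :=
  fun x => mem_iSup_pieces (M := (quotMod 𝒜 a).carrier) (quotMod 𝒜 a).gr x

variable {𝒜}

/-- Uniqueness of the *injective envelope, the source a bundled graded module. -/
theorem exists_hull_equiv (M : GrLC.GMod.{u} 𝒜) {E₁ : Type u} [AddCommGroup E₁] [Module R E₁]
    {τ₁ : Type u} [SetLike τ₁ E₁] [AddSubgroupClass τ₁ E₁] {𝓔₁ : ι → τ₁} [Decomposition 𝓔₁]
    [SetLike.GradedSMul 𝒜 𝓔₁] {E₂ : Type u} [AddCommGroup E₂] [Module R E₂] {τ₂ : Type u}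
    [SetLike τ₂ E₂] [AddSubgroupClass τ₂ E₂] {𝓔₂ : ι → τ₂} [Decomposition 𝓔₂] [SetLike.GradedSMul 𝒜 𝓔₂]
    {f₁ : M.carrier →ₗ[R] E₁} {f₂ : M.carrier →ₗ[R] E₂} (h₁ : GrLC.IsStarInjHull 𝒜 M.gr 𝓔₁ f₁)
    (h₂ : GrLC.IsStarInjHull 𝒜 M.gr 𝓔₂ f₂) :
    ∃ β : E₁ ≃ₗ[R] E₂, GrLC.IsGrHom 𝓔₁ 𝓔₂ β.toLinearMap ∧ β.toLinearMap ∘ₗ f₁ = f₂ := by
  obtain ⟨β, hβ, e⟩ := h₂.starInj M (toGMod 𝒜 𝓔₁) f₁ h₁.grHom h₁.injective f₂ h₂.grHom
  let β' : E₁ →ₗ[R] E₂ := β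
  have hi : Function.Injective β' := injective_of_isStarEss_comp h₁.toIsStarEss hβ (by
    rw [show β' ∘ₗ f₁ = f₂ from e]; exact h₂.injective)
  obtain ⟨r, hr, e'⟩ := exists_retraction h₁.starInj (Y := toGMod 𝒜 𝓔₂) (f := β') hβ hi
  let r' : E₂ →ₗ[R] E₁ := r
  have hri : Function.Injective r' := injective_of_isStarEss_comp (𝒩 := 𝓔₁) h₂.toIsStarEss hr (by
    rw [← e]
    intro a b hab
    refine h₁.injective ?_
    exact ((LinearMap.congr_fun e' (f₁ a)).symm.trans hab).trans (LinearMap.congr_fun e' (f₁ b)))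
  refine ⟨LinearEquiv.ofBijective β' ⟨hi, fun y => ⟨r' y, hri (LinearMap.congr_fun e' (r' y))⟩⟩, hβ, e⟩

/-- The envelope sits inside any ungraded injective module containing the module. -/
theorem exists_sub_injective {M : Type u} [AddCommGroup M] [Module R M] {τ : Type u} [SetLike τ M]
    [AddSubgroupClass τ M] (ℳ : ι → τ) [Decomposition ℳ] [SetLike.GradedSMul 𝒜 ℳ] (I : Type u)
    [AddCommGroup I] [Module R I] [Module.Injective R I] (e : M →ₗ[R] I) (he : Function.Injective e) :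
    ∃ (E : GrLC.GMod.{u} 𝒜) (f : M →ₗ[R] E.carrier), GrLC.IsStarInjHull 𝒜 ℳ E.gr f ∧
      ∃ j : E.carrier →ₗ[R] I, Function.Injective j ∧ j ∘ₗ f = e := by
  obtain ⟨E, f, hf⟩ := exists_starInjHull (𝒜 := 𝒜) ℳ
  obtain ⟨j, hj⟩ := Module.Injective.out f hf.injective e
  refine ⟨E, f, hf, j, ?_, LinearMap.ext hj⟩
  rw [injective_iff_map_eq_zero]
  intro x hx
  by_contra h0
  obtain ⟨a, r, -, ⟨m, hm⟩, hr⟩ := exists_smul_of_isStarEss (𝒜 := 𝒜) (spans_of_decomposition ℳ) hf.toIsStarEss x h0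
  refine hr ?_
  rw [← hm, he (a₁ := m) (a₂ := 0) (by rw [← hj m, hm, map_smul, hx, smul_zero, map_zero]), map_zero]

end Groth.Agent.GrLC21
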