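import Groth.Agent.Lib.GrLC21.FGHom
import Groth.Agent.Lib.GrLC21.Unique
import Groth.Agent.Lib.LocCoh.Finite
import Groth.Prelude.Def_Wider

/-!
# *injective modules are acyclic for `Hom` out of finite graded modules and for local cohomology
-/

universe u

open DirectSum CategoryTheory Abelian

noncomputable section

set_option linter.unusedSectionVars false

namespace Groth.Agent.GrLC21

variable {ι : Type} [AddCommGroup ι] [DecidableEq ι]
variable {R : Type u} [CommRing R] [IsNoetherianRing R] {σ : Type u} [SetLike σ R]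
  [AddSubgroupClass σ R] {𝒜 : ι → σ} [GradedRing 𝒜]
variable {I : Type u} [AddCommGroup I] [Module R I] {τ' : Type u} [SetLike τ' I] [AddSubgroupClass τ' I]
  {ℐ : ι → τ'} [Decomposition ℐ] [SetLike.GradedSMul 𝒜 ℐ]

theorem ext_subsingleton (hI : GrLC.IsStarInj 𝒜 ℐ) (i : ℕ) :
    ∀ (M : GrLC.GMod.{u} 𝒜) [Module.Finite R M.carrier],
      Subsingleton (Ext.{u} (ModuleCat.of R M.carrier) (ModuleCat.of R I) (i + 1)) := by
  induction i with
  | zero =>
    intro M _
    obtain ⟨n, a, v, hv, hspan⟩ := exists_homogeneous_gens M.gr (R := R)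
    let F := freeMod 𝒜 a
    have : Module.Finite R F.carrier := (inferInstance : Module.Finite R (Fin n → R))
    have : Projective (ModuleCat.of R F.carrier) := LocCohLib.projective_pi n
    let π := freeπ 𝒜 a v
    have hπ := freeπ_grHom 𝒜 a v hv
    let K := sub F (LinearMap.ker π) (isHomogeneous_ker hπ)
    have : Module.Finite R K.carrier := Module.Finite.iff_fg.2 (IsNoetherian.noetherian _)
    have hex : Function.Exact (subι F (LinearMap.ker π) (isHomogeneous_ker hπ)) π :=
      LinearMap.exact_subtype_ker_map π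
    have hS := DepthLib.shortExact_of_linearMap (subι_injective F _ (isHomogeneous_ker hπ))
      (freeπ_surjective 𝒜 a v hspan) hex
    refine subsingleton_of_forall_eq 0 fun y => ?_
    obtain ⟨z, rfl⟩ := Ext.contravariant_sequence_exact₃ hS _ y (Ext.eq_zero_of_projective _)
      (n₀ := 0) rfl
    obtain ⟨g, rfl⟩ := (Ext.mk₀_bijective _ _).2 z
    obtain ⟨ψ, hψ⟩ := exists_extend_any hI (subι_grHom F _ (isHomogeneous_ker hπ))
      (subι_injective F _ _) g.hom
    rw [show g = ModuleCat.ofHom (subι F _ (isHomogeneous_ker hπ)) ≫ ModuleCat.ofHom ψ from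
      ModuleCat.hom_ext hψ.symm, ← Ext.mk₀_comp_mk₀]
    exact hS.extClass_comp_assoc _
  | succ i ih =>
    intro M _
    obtain ⟨n, a, v, hv, hspan⟩ := exists_homogeneous_gens M.gr (R := R)
    let F := freeMod 𝒜 a
    have : Module.Finite R F.carrier := (inferInstance : Module.Finite R (Fin n → R))
    have : Projective (ModuleCat.of R F.carrier) := LocCohLib.projective_pi n
    let π := freeπ 𝒜 a v
    have hπ := freeπ_grHom 𝒜 a v hv
    let K := sub F (LinearMap.ker π) (isHomogeneous_ker hπ)
    have : Module.Finite R K.carrier := Module.Finite.iff_fg.2 (IsNoetherian.noetherian _)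
    have hex : Function.Exact (subι F (LinearMap.ker π) (isHomogeneous_ker hπ)) π :=
      LinearMap.exact_subtype_ker_map π
    have hS := DepthLib.shortExact_of_linearMap (subι_injective F _ (isHomogeneous_ker hπ))
      (freeπ_surjective 𝒜 a v hspan) hex
    refine subsingleton_of_forall_eq 0 fun y => ?_
    obtain ⟨z, rfl⟩ := Ext.contravariant_sequence_exact₃ hS _ y (Ext.eq_zero_of_projective _)
      (n₀ := i + 1) (add_comm 1 (i + 1))
    rw [(ih K).elim z 0, Ext.comp_zero]

/-- The powers of a homogeneous ideal. -/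
def powIdeal (a : HomogeneousIdeal 𝒜) (n : ℕ) : HomogeneousIdeal 𝒜 :=
  ⟨a.toIdeal ^ n, by
    induction n with
    | zero => rw [pow_zero, Ideal.one_eq_top]; exact Ideal.IsHomogeneous.top 𝒜
    | succ n ih => rw [pow_succ]; exact Ideal.IsHomogeneous.mul ih a.isHomogeneous⟩

theorem localCohomology_subsingleton (hI : GrLC.IsStarInj 𝒜 ℐ) (a : HomogeneousIdeal 𝒜) (i : ℕ) :
    Subsingleton (LocCoh.H a.toIdeal (i + 1) I) :=
  LocCohLib.subsingleton_of_eventually a.toIdeal (i + 1) (ModuleCat.of R I) 0 fun n _ =>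
    have : Module.Finite R (quotMod 𝒜 (powIdeal a n)).carrier :=
      (inferInstance : Module.Finite R (R ⧸ a.toIdeal ^ n))
    ext_subsingleton hI i (quotMod 𝒜 (powIdeal a n))

end Groth.Agent.GrLC21
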