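import Groth.Agent.Lib.GrLC21.Coh
import Groth.Agent.Lib.GrLC21.ExtVanish
import Groth.Agent.Lib.LocCoh.Seq

/-!
# *injective resolutions compute local cohomology
-/

universe u

open DirectSum Groth.Agent.InjHullLib

noncomputable section

set_option linter.unusedSectionVars false

namespace Groth.Agent.GrLC21

variable {ι : Type} [AddCommGroup ι] [DecidableEq ι]
variable {R : Type u} [CommRing R] [IsNoetherianRing R] {σ : Type u} [SetLike σ R]
  [AddSubgroupClass σ R] {𝒜 : ι → σ} [GradedRing 𝒜]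

theorem powTors_eq_gam (a : Ideal R) (M : Type u) [AddCommGroup M] [Module R M] :
    powTors a M = GrLC.gam a M :=
  Submodule.ext fun _ => mem_powTors_iff

variable {M : Type u} [AddCommGroup M] [Module R M] {τ : Type u} [SetLike τ M] [AddSubgroupClass τ M]
  {ℳ : ι → τ} [Decomposition ℳ] [SetLike.GradedSMul 𝒜 ℳ] (E : GrLC.StarInjRes 𝒜 ℳ)
  (a : HomogeneousIdeal 𝒜)

/-- The cosyzygies. -/
abbrev cosyz (n : ℕ) : Submodule R (E.X n).carrier := LinearMap.ker (E.d n)

/-- The differential onto the next cosyzygy. -/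
def cosyzMap (n : ℕ) : (E.X n).carrier →ₗ[R] cosyz E (n + 1) :=
  (E.d n).codRestrict _ fun x => d_d E n x

theorem cosyzMap_surjective (n : ℕ) : Function.Surjective (cosyzMap E n) := fun ⟨z, hz⟩ => by
  have hz' : z ∈ LinearMap.range (E.d n) := E.exact_succ n ▸ hz
  obtain ⟨x, hx⟩ := hz'
  exact ⟨x, Subtype.ext hx⟩

theorem cosyz_exact (n : ℕ) : Function.Exact (cosyz E n).subtype (cosyzMap E n) := fun x =>
  ⟨fun h => ⟨⟨x, congrArg Subtype.val h⟩, rfl⟩, fun ⟨y, hy⟩ => Subtype.ext (hy ▸ y.2)⟩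

theorem nonempty_shift (k : ℕ) : ∀ n m : ℕ, m = n + k →
    Nonempty (LocCoh.H a.toIdeal 1 (cosyz E m) ≃ₗ[R] LocCoh.H a.toIdeal (k + 1) (cosyz E n)) := by
  induction k with
  | zero =>
    rintro n m rfl
    exact ⟨LinearEquiv.refl _ _⟩
  | succ k ih =>
    intro n m hm
    obtain ⟨e⟩ := ih (n + 1) m (by omega)
    exact ⟨e.trans (LocCohLib.δEquiv a.toIdeal (cosyz E n).subtype_injective (cosyzMap_surjective E n)
      (cosyz_exact E n) (k + 1) (localCohomology_subsingleton (E.starInj n) a k)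
      (localCohomology_subsingleton (E.starInj n) a (k + 1)))⟩

/-- The augmentation onto the zeroth cosyzygy. -/
def augEquiv : M ≃ₗ[R] cosyz E 0 :=
  LinearEquiv.ofInjective E.ε E.ε_injective ≪≫ₗ LinearEquiv.ofEq _ _ E.exact_zero.symm

theorem nonempty_H_equiv (i : ℕ) : Nonempty (E.H a i ≃ₗ[R] LocCoh.H a.toIdeal i M) := by
  rcases i with _ | k
  · have h0 : (E.cobdy a 0).comap (E.cocyc a 0).subtype = ⊥ :=
      (Submodule.eq_bot_iff _).2 fun z hz => Subtype.ext ((Submodule.mem_bot R).1 hz)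
    let f : powTors a.toIdeal M →ₗ[R] E.cocyc a 0 :=
      (E.ε ∘ₗ (powTors a.toIdeal M).subtype).codRestrict _ fun x =>
        ⟨map_mem_gam E.ε (by rw [← powTors_eq_gam]; exact x.2),
          (LinearMap.mem_ker.1 (E.exact_zero.symm ▸ LinearMap.mem_range_self E.ε x.1 :
            E.ε x.1 ∈ LinearMap.ker (E.d 0)))⟩
    have hf : Function.Bijective f := by
      constructor
      · exact fun x y h => Subtype.ext (E.ε_injective (congrArg Subtype.val h))
      · rintro ⟨z, hz, hzk⟩
        have : z ∈ LinearMap.range E.ε := E.exact_zero ▸ hzk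
        obtain ⟨m, rfl⟩ := this
        exact ⟨⟨m, by rw [powTors_eq_gam]; exact mem_gam_of_injective E.ε E.ε_injective hz⟩, rfl⟩
    exact ⟨(Submodule.quotEquivOfEqBot _ h0).trans
      ((LinearEquiv.ofBijective f hf).symm.trans (LocCohLib.zeroEquiv a.toIdeal M).symm)⟩
  · obtain ⟨e⟩ := nonempty_shift E a k 0 k (zero_add k).symm
    obtain ⟨e₁⟩ := LocCohLib.nonempty_h1Equiv a.toIdeal (cosyz E k).subtype_injective (cosyzMap_surjective E k)
      (cosyz_exact E k) (localCohomology_subsingleton (E.starInj k) a 0)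
    let f : powTors a.toIdeal (cosyz E (k + 1)) →ₗ[R] E.H a (k + 1) :=
      E.toH a (k + 1) ∘ₗ ((cosyz E (k + 1)).subtype ∘ₗ (powTors a.toIdeal (cosyz E (k + 1))).subtype).codRestrict _
        fun x => ⟨map_mem_gam (cosyz E (k + 1)).subtype (by rw [← powTors_eq_gam]; exact x.2), (x.1).2⟩
    have hf : Function.Surjective f := fun y => by
      obtain ⟨⟨z, hz, hzk⟩, rfl⟩ := toH_surjective E a (k + 1) y
      refine ⟨⟨⟨z, hzk⟩, ?_⟩, rfl⟩
      rw [powTors_eq_gam]
      exact mem_gam_of_injective (cosyz E (k + 1)).subtype (Submodule.subtype_injective _) hz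
    have hker : LinearMap.ker f = LocCohLib.torsImage a.toIdeal (cosyzMap E k) := by
      ext x
      rw [LinearMap.mem_ker, LocCohLib.mem_torsImage]
      refine (toH_eq_zero_iff E a _).trans ?_
      constructor
      · rintro ⟨y, hy, e'⟩
        exact ⟨y, by rw [powTors_eq_gam]; exact hy, Subtype.ext e'⟩
      · rintro ⟨y, hy, e'⟩
        exact ⟨y, by rw [← powTors_eq_gam]; exact hy, congrArg Subtype.val e'⟩
    exact ⟨((f.quotKerEquivOfSurjective hf).symm.trans ((Submodule.quotEquivOfEq _ _ hker).trans e₁)).trans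
      (e.trans (LocCohLib.hcongr a.toIdeal (k + 1) (augEquiv E).symm))⟩

end Groth.Agent.GrLC21
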