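import Groth.Agent.Lib.GrLC21.StarInj
import Mathlib.Algebra.Module.Injective

/-!
# Existence and uniqueness of *injective envelopes
-/

universe u

open DirectSum

noncomputable section

set_option linter.unusedSectionVars false

namespace Groth.Agent.GrLC21

variable {ι : Type} [AddCommGroup ι] [DecidableEq ι]
variable {R : Type u} [CommRing R] {σ : Type u} [SetLike σ R] [AddSubgroupClass σ R]
  {𝒜 : ι → σ} [GradedRing 𝒜]

/-- Chains of homogeneous submodules have homogeneous unions. -/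
theorem isHomogeneous_sSup {X : GrLC.GMod.{u} 𝒜} {c : Set (Submodule R X.carrier)}
    (h : ∀ P ∈ c, P.IsHomogeneous X.gr) : (sSup c).IsHomogeneous X.gr := by
  rw [sSup_eq_iSup']
  exact isHomogeneous_iSup fun P : c => h P.1 P.2

theorem exists_maximal_disjoint {X : GrLC.GMod.{u} 𝒜} (E : Submodule R X.carrier) :
    ∃ Q : Submodule R X.carrier,
      Maximal (fun Q : Submodule R X.carrier => Q.IsHomogeneous X.gr ∧ Q ⊓ E = ⊥) Q := by
  refine zorn_le₀ {Q : Submodule R X.carrier | Q.IsHomogeneous X.gr ∧ Q ⊓ E = ⊥} fun c hc hchain => ?_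
  rcases c.eq_empty_or_nonempty with rfl | hne
  · exact ⟨⊥, ⟨isHomogeneous_bot _, bot_inf_eq _⟩, by simp⟩
  refine ⟨sSup c, ⟨isHomogeneous_sSup fun P hP => (hc hP).1, (Submodule.eq_bot_iff _).2 ?_⟩,
    fun z hz => le_sSup hz⟩
  rintro x ⟨hx, hxE⟩
  obtain ⟨P, hP, hxP⟩ := (Submodule.mem_sSup_of_directed hne hchain.directedOn).1 hx
  exact (Submodule.mem_bot R).1 ((hc hP).2 ▸ (⟨hxP, hxE⟩ : x ∈ P ⊓ E))

theorem exists_maximal_ess {X : GrLC.GMod.{u} 𝒜} {M' : Submodule R X.carrier}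
    (hM : M'.IsHomogeneous X.gr) : ∃ E : Submodule R X.carrier,
      Maximal (fun E : Submodule R X.carrier => M' ≤ E ∧ E.IsHomogeneous X.gr ∧ EssOver M' E) E := by
  refine zorn_le₀ {E : Submodule R X.carrier | M' ≤ E ∧ E.IsHomogeneous X.gr ∧ EssOver M' E}
    fun c hc hchain => ?_
  rcases c.eq_empty_or_nonempty with rfl | hne
  · exact ⟨M', ⟨le_rfl, hM, EssOver.refl M'⟩, by simp⟩
  refine ⟨sSup c, ⟨?_, isHomogeneous_sSup fun P hP => (hc hP).2.1, ?_⟩, fun z hz => le_sSup hz⟩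
  · exact (hc hne.some_mem).1.trans (le_sSup hne.some_mem)
  · intro g x hx hxc h0
    obtain ⟨P, hP, hxP⟩ := (Submodule.mem_sSup_of_directed hne hchain.directedOn).1 hxc
    exact (hc hP).2.2 g x hx hxP h0

/-- Modulo a maximal disjoint submodule the extension is *essential. -/
theorem exists_smul_add_mem {X : GrLC.GMod.{u} 𝒜} {E Q : Submodule R X.carrier}
    (hQ : Maximal (fun Q : Submodule R X.carrier => Q.IsHomogeneous X.gr ∧ Q ⊓ E = ⊥) Q) {g : ι}
    {x : X.carrier} (hx : x ∈ X.gr g) (hxQ : x ∉ Q) :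
    ∃ r : R, ∃ q ∈ Q, r • x + q ∈ E ∧ r • x ∉ Q := by
  have hlt : Q < Q ⊔ R ∙ x := left_lt_sup.2 fun h => hxQ (h (Submodule.mem_span_singleton_self x))
  have hne : (Q ⊔ R ∙ x) ⊓ E ≠ ⊥ := fun h => hlt.not_ge
    (hQ.2 ⟨isHomogeneous_sup hQ.1.1 (isHomogeneous_span_singleton 𝒜 hx), h⟩ le_sup_left)
  obtain ⟨y, ⟨hy, hyE⟩, hy0⟩ := (Submodule.ne_bot_iff _).1 hne
  obtain ⟨q, hq, z, hz, rfl⟩ := Submodule.mem_sup.1 hy
  obtain ⟨r, rfl⟩ := Submodule.mem_span_singleton.1 hz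
  refine ⟨r, q, hq, by rwa [add_comm], fun h => hy0 ?_⟩
  exact (Submodule.mem_bot R).1 (hQ.1.2 ▸ (⟨Q.add_mem hq h, hyE⟩ : q + r • x ∈ Q ⊓ E))

theorem isStarEss_quotπ_comp {X : GrLC.GMod.{u} 𝒜} {M : Type u} [AddCommGroup M] [Module R M]
    {τ : Type u} [SetLike τ M] [AddSubgroupClass τ M] {ℳ : ι → τ} {f : M →ₗ[R] X.carrier}
    (hf : GrLC.IsGrHom ℳ X.gr f) (hi : Function.Injective f) {Q : Submodule R X.carrier}
    (hQ : Maximal (fun Q : Submodule R X.carrier => Q.IsHomogeneous X.gr ∧ Q ⊓ LinearMap.range f = ⊥) Q) :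
    GrLC.IsStarEss ℳ (quot X Q hQ.1.1).gr (quotπ X Q hQ.1.1 ∘ₗ f) := by
  refine (isStarEss_iff 𝒜).2 ⟨fun a b h => hi (sub_eq_zero.1 ?_),
    isGrHom_comp (quotπ_grHom X Q _) hf, fun g y hy h0 => ?_⟩
  · refine (Submodule.mem_bot R).1 (hQ.1.2 ▸ (⟨?_, ⟨a - b, map_sub f a b⟩⟩ :
      f a - f b ∈ Q ⊓ LinearMap.range f))
    exact (Submodule.Quotient.eq Q).1 h
  · obtain ⟨x, hx, rfl⟩ := hy
    obtain ⟨r, q, hq, ⟨m, hm⟩, hr⟩ := exists_smul_add_mem hQ hx fun h =>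
      h0 ((Submodule.Quotient.mk_eq_zero Q).2 h)
    refine ⟨r, ⟨m, ?_⟩, fun e => hr ((Submodule.Quotient.mk_eq_zero Q).1 ((map_smul Q.mkQ r x).trans e))⟩
    refine (congrArg Q.mkQ hm).trans ?_
    rw [map_add, show Q.mkQ q = 0 from (Submodule.Quotient.mk_eq_zero Q).2 hq, add_zero]
    exact map_smul Q.mkQ r x

section General

variable {I : Type u} [AddCommGroup I] [Module R I] {τ : Type u} [SetLike τ I] [AddSubgroupClass τ I]
  {ℐ : ι → τ} [Decomposition ℐ] [SetLike.GradedSMul 𝒜 ℐ]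

/-- *injective iff without proper *essential extensions. -/
theorem starInj_iff_no_proper_ess :
    GrLC.IsStarInj 𝒜 ℐ ↔
      ∀ (N : GrLC.GMod.{u} 𝒜) (f : I →ₗ[R] N.carrier), GrLC.IsStarEss ℐ N.gr f → Function.Surjective f := by
  constructor
  · intro hI N f hf
    obtain ⟨r, hr, e⟩ := exists_retraction hI hf.grHom hf.injective
    have hi : Function.Injective r :=
      injective_of_isStarEss_comp hf hr (by rw [e]; exact fun _ _ h => h)
    exact fun y => ⟨r y, hi (LinearMap.congr_fun e (r y))⟩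
  · intro h
    obtain ⟨C, e, hC, he, hei⟩ := exists_embedding (toGMod 𝒜 ℐ)
    obtain ⟨Q, hQ⟩ := exists_maximal_disjoint (X := C) (LinearMap.range e)
    have hess := isStarEss_quotπ_comp (ℳ := ℐ) (f := (e : I →ₗ[R] C.carrier)) he hei hQ
    let φ : I ≃ₗ[R] (quot C Q hQ.1.1).carrier :=
      LinearEquiv.ofBijective _ ⟨hess.injective, h _ _ hess⟩
    exact starInj_of_retract hC e (φ.symm.toLinearMap ∘ₗ quotπ C Q hQ.1.1) he
      (isGrHom_comp (isGrHom_symm (e := φ) hess.grHom) (quotπ_grHom C Q _))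
      (LinearMap.ext fun x => φ.symm_apply_apply x)

end General

/-- A maximal *essential extension inside a *injective module is *injective. -/
theorem starInj_of_maximal_ess {C : GrLC.GMod.{u} 𝒜} (hC : GrLC.IsStarInj 𝒜 C.gr)
    {M' E : Submodule R C.carrier}
    (hE : Maximal (fun E : Submodule R C.carrier => M' ≤ E ∧ E.IsHomogeneous C.gr ∧ EssOver M' E) E) :
    GrLC.IsStarInj 𝒜 (sub C E hE.1.2.1).gr := by
  refine starInj_iff_no_proper_ess.2 fun N f hf => ?_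
  obtain ⟨h, hh, e⟩ := hC _ N f hf.grHom hf.injective (subι C E hE.1.2.1) (subι_grHom C E _)
  have hinj : Function.Injective h :=
    injective_of_isStarEss_comp hf hh (by rw [e]; exact subι_injective C E _)
  have hhf : ∀ a, h (f a) = (a : E).1 := fun a => LinearMap.congr_fun e a
  have hle : E ≤ LinearMap.range h := fun x hx => ⟨f ⟨x, hx⟩, hhf ⟨x, hx⟩⟩
  have hrh := isHomogeneous_range (𝒩 := C.gr) (spans_of_decomposition N.gr) hh
  have hess : EssOver M' (LinearMap.range h) := EssOver.trans hE.1.2.1 hE.1.2.2 (by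
    intro g x hx hxr h0
    obtain ⟨y, hy, rfl⟩ := exists_homogeneous_preimage hh hx hxr
    obtain ⟨r, ⟨a, ha⟩, hr⟩ := ((isStarEss_iff 𝒜).1 hf).2.2 g y hy (fun e' => h0 (by rw [e', map_zero]))
    refine ⟨r, ?_, fun e' => hr (hinj (by rw [map_smul, e', map_zero]))⟩
    rw [← map_smul, ← ha, hhf]
    exact (a : E).2)
  have hge := hE.2 ⟨hE.1.1.trans hle, hrh, hess⟩ hle
  exact fun y => ⟨⟨h y, hge ⟨y, rfl⟩⟩, hinj (hhf ⟨h y, hge ⟨y, rfl⟩⟩)⟩

/-- Existence of *injective envelopes. -/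
theorem exists_starInjHull {M : Type u} [AddCommGroup M] [Module R M] {τ : Type u} [SetLike τ M]
    [AddSubgroupClass τ M] (ℳ : ι → τ) [Decomposition ℳ] [SetLike.GradedSMul 𝒜 ℳ] :
    ∃ (E : GrLC.GMod.{u} 𝒜) (f : M →ₗ[R] E.carrier), GrLC.IsStarInjHull 𝒜 ℳ E.gr f := by
  obtain ⟨C, e, hC, he, hei⟩ := exists_embedding (toGMod 𝒜 ℳ)
  let e' : M →ₗ[R] C.carrier := e
  obtain ⟨E, hE⟩ := exists_maximal_ess (X := C) (M' := LinearMap.range e')
    (isHomogeneous_range (spans_of_decomposition ℳ) he)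
  refine ⟨sub C E hE.1.2.1, e'.codRestrict E fun m => hE.1.1 ⟨m, rfl⟩,
    (isStarEss_iff 𝒜).2 ⟨fun a b h => hei (congrArg Subtype.val h), fun g m hm => he g m hm, ?_⟩,
    starInj_of_maximal_ess hC hE⟩
  intro g x hx h0
  obtain ⟨r, ⟨m, hm⟩, hr⟩ := hE.1.2.2 g _ hx (x : E).2 fun e => h0 (Subtype.ext e)
  exact ⟨r, ⟨m, Subtype.ext hm⟩, fun e => hr (congrArg Subtype.val e)⟩

end Groth.Agent.GrLC21
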