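import Groth.Agent.Lib.GrLC21.GradedDual
import Groth.Agent.Lib.GrLC21.Hull
import Groth.Agent.Lib.GrLC21.Acyclic

/-!
# Existence of *canonical modules over a positively graded ring over a field
-/

universe u

open DirectSum

noncomputable section

set_option linter.unusedSectionVars false
set_option backward.isDefEq.respectTransparency false

namespace Groth.Agent.GrLC21

section HomMod

variable {ι : Type} [AddCommGroup ι] [DecidableEq ι]
variable {R : Type u} [CommRing R] {σ : Type u} [SetLike σ R] [AddSubgroupClass σ R]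
  {𝒜 : ι → σ} [GradedRing 𝒜] (X : GrLC.GMod.{u} 𝒜)
variable {E : Type u} [AddCommGroup E] [Module R E] {τ' : Type u} [SetLike τ' E] [AddSubgroupClass τ' E]
  (𝓔 : ι → τ') [Decomposition 𝓔] [SetLike.GradedSMul 𝒜 𝓔]

theorem smul_grHomDeg {a d : ι} {r : R} (hr : r ∈ 𝒜 a) {f : X.carrier →ₗ[R] E}
    (hf : GrLC.IsGrHomDeg X.gr 𝓔 f d) : GrLC.IsGrHomDeg X.gr 𝓔 (r • f) (a + d) := fun g x hx => by
  rw [LinearMap.smul_apply, add_left_comm]
  exact smul_mem 𝒜 𝓔 hr (hf g x hx)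

theorem homComp_add (f f' : X.carrier →ₗ[R] E) (d : ι) :
    homComp 𝒜 X.gr 𝓔 (f + f') d = homComp 𝒜 X.gr 𝓔 f d + homComp 𝒜 X.gr 𝓔 f' d := LinearMap.ext fun x => by
  refine spans_induction (spans_of_decomposition X.gr) x (by simp)
    (fun a b ha hb => by simp only [map_add, ha, hb]) fun g a ha => ?_
  rw [LinearMap.add_apply, homComp_of_mem 𝒜 X.gr 𝓔 _ d ha, homComp_of_mem 𝒜 X.gr 𝓔 _ d ha,
    homComp_of_mem 𝒜 X.gr 𝓔 _ d ha, LinearMap.add_apply, map_add]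

theorem homComp_of_grHomDeg {f : X.carrier →ₗ[R] E} {d : ι} (hf : GrLC.IsGrHomDeg X.gr 𝓔 f d) :
    homComp 𝒜 X.gr 𝓔 f d = f ∧ ∀ d', d' ≠ d → homComp 𝒜 X.gr 𝓔 f d' = 0 := by
  refine ⟨LinearMap.ext fun x => ?_, fun d' hne => LinearMap.ext fun x => ?_⟩
  · refine spans_induction (spans_of_decomposition X.gr) x (by simp)
      (fun a b ha hb => by simp only [map_add, ha, hb]) fun g a ha => ?_
    rw [homComp_of_mem 𝒜 X.gr 𝓔 f d ha, proj_of_mem 𝓔 (hf g a ha)]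
  · refine spans_induction (spans_of_decomposition X.gr) x (by simp)
      (fun a b ha hb => by simp only [map_add, ha, hb]) fun g a ha => ?_
    rw [homComp_of_mem 𝒜 X.gr 𝓔 f d' ha, proj_of_mem_ne 𝓔 (hf g a ha) fun e => hne (add_left_cancel e).symm]
    rfl

/-- The sums of homogeneous maps. -/
def homSub : Submodule R (X.carrier →ₗ[R] E) where
  carrier := (⨆ d, (GrLC.homDeg 𝒜 X.gr 𝓔 d).toAddSubgroup : AddSubgroup (X.carrier →ₗ[R] E))
  zero_mem' := zero_mem _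
  add_mem' := add_mem
  smul_mem' r f hf := by
    refine spans_induction (P := fun r => r • f ∈ ⨆ d, (GrLC.homDeg 𝒜 X.gr 𝓔 d).toAddSubgroup)
      (spans_of_decomposition 𝒜) r (by rw [zero_smul]; exact zero_mem _)
      (fun a b ha hb => by rw [add_smul]; exact add_mem ha hb) fun a s hs => ?_
    refine AddSubgroup.iSup_induction
      (C := fun f => s • f ∈ ⨆ d, (GrLC.homDeg 𝒜 X.gr 𝓔 d).toAddSubgroup) _ hf
      (fun d g hg => AddSubgroup.mem_iSup_of_mem (a + d) (smul_grHomDeg X 𝓔 hs hg))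
      (by rw [smul_zero]; exact zero_mem _) fun x y hx hy => by rw [smul_add]; exact add_mem hx hy

/-- The graded module of homogeneous maps. -/
def homMod : GrLC.GMod.{u} 𝒜 :=
  mkGMod (homSub X 𝓔) (fun d => (GrLC.homDeg 𝒜 X.gr 𝓔 d).toAddSubgroup.comap
      (homSub X 𝓔).subtype.toAddMonoidHom)
    (isInternal_of_proj _
      (fun d => AddMonoidHom.mk' (fun f => (⟨homComp 𝒜 X.gr 𝓔 f.1 d,
          AddSubgroup.mem_iSup_of_mem d (homComp_grHomDeg 𝒜 X.gr 𝓔 f.1 d)⟩ : homSub X 𝓔))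
        fun a b => Subtype.ext (homComp_add X 𝓔 a.1 b.1 d))
      (fun d f hf => Subtype.ext (homComp_of_grHomDeg X 𝓔 hf).1)
      (fun g h e f hf => Subtype.ext ((homComp_of_grHomDeg X 𝓔 hf).2 g e))
      fun f => by
        have key : ∀ y, y ∈ (⨆ d, (GrLC.homDeg 𝒜 X.gr 𝓔 d).toAddSubgroup) → ∃ z : homSub X 𝓔, z.1 = y ∧
            z ∈ ⨆ d : ι, AddSubgroup.ofClass ((GrLC.homDeg 𝒜 X.gr 𝓔 d).toAddSubgroup.comap
              (homSub X 𝓔).subtype.toAddMonoidHom) := by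
          intro y hy
          refine AddSubgroup.iSup_induction (C := fun y => ∃ z : homSub X 𝓔, z.1 = y ∧
            z ∈ ⨆ d : ι, AddSubgroup.ofClass ((GrLC.homDeg 𝒜 X.gr 𝓔 d).toAddSubgroup.comap
              (homSub X 𝓔).subtype.toAddMonoidHom)) _ hy (fun d g hg => ?_) ⟨0, rfl, zero_mem _⟩ ?_
          · exact ⟨⟨g, AddSubgroup.mem_iSup_of_mem d hg⟩, rfl, AddSubgroup.mem_iSup_of_mem d hg⟩
          · rintro _ _ ⟨a, rfl, ha⟩ ⟨b, rfl, hb⟩
            exact ⟨a + b, rfl, add_mem ha hb⟩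
        obtain ⟨z, hz, hmem⟩ := key f.1 f.2
        rw [← Subtype.ext hz]
        exact hmem)
    fun a g r f hr hf => smul_grHomDeg X 𝓔 hr hf

/-- Evaluation into the double dual. -/
def homEval : X.carrier →ₗ[R] ((homMod X 𝓔).carrier →ₗ[R] E) where
  toFun h :=
    { toFun := fun f => (f : homSub X 𝓔).1 h
      map_add' := fun _ _ => rfl
      map_smul' := fun _ _ => rfl }
  map_add' a b := LinearMap.ext fun f => map_add (f : homSub X 𝓔).1 a b
  map_smul' r a := LinearMap.ext fun f => map_smul (f : homSub X 𝓔).1 r a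

theorem homEval_apply (h : X.carrier) (f : (homMod X 𝓔).carrier) : homEval X 𝓔 h f = (f : homSub X 𝓔).1 h := rfl

theorem mem_homMod_gr {d : ι} {f : (homMod X 𝓔).carrier} :
    f ∈ (homMod X 𝓔).gr d ↔ GrLC.IsGrHomDeg X.gr 𝓔 (f : homSub X 𝓔).1 d := Iff.rfl

theorem homEval_grHomDeg {d : ι} {h : X.carrier} (hh : h ∈ X.gr d) :
    GrLC.IsGrHomDeg (homMod X 𝓔).gr 𝓔 (homEval X 𝓔 h) d := fun g f hf => by
  rw [add_comm]
  exact (mem_homMod_gr X 𝓔).1 hf d h hh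

end HomMod

variable {R : Type u} [CommRing R] {σ : Type u} [SetLike σ R] [AddSubgroupClass σ R]
  {𝒜 : ℤ → σ} [GradedRing 𝒜] {m : HomogeneousIdeal 𝒜} (Γ : FieldCtx 𝒜 m) (X : GrLC.GMod.{u} 𝒜)
  {E : Type u} [AddCommGroup E] [Module R E] {τ' : Type u} [SetLike τ' E] [AddSubgroupClass τ' E]
  {𝓔 : ℤ → τ'} [Decomposition 𝓔] [SetLike.GradedSMul 𝒜 𝓔] {e : (R ⧸ m.toIdeal) →ₗ[R] E}
  (he : GrLC.IsStarInjHull 𝒜 (GrLC.quotGr 𝒜 m) 𝓔 e)

include Γ he in
/-- A map of degree `-j` is detected on the piece of degree `j`. -/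
theorem FieldCtx.eq_of_grHomDeg {j : ℤ} {f g : X.carrier →ₗ[R] E} (hf : GrLC.IsGrHomDeg X.gr 𝓔 f (-j))
    (hg : GrLC.IsGrHomDeg X.gr 𝓔 g (-j)) (h : ∀ x ∈ X.gr j, f x = g x) : f = g := by
  refine congrArg Subtype.val ((Γ.dualMap_bijective (ℳ := X.gr) he j).1 (a₁ := ⟨f, hf⟩) (a₂ := ⟨g, hg⟩)
    (LinearMap.ext fun x => ?_))
  rw [Γ.dualMap_apply he, Γ.dualMap_apply he]
  exact congrArg _ (Subtype.ext (h x.1 x.2))

set_option maxHeartbeats 1000000 in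
include Γ he in
/-- The homogeneous maps out of an Artinian module into the envelope are finitely generated. -/
theorem FieldCtx.finite_homMod [IsArtinian R X.carrier] : Module.Finite R (homMod X 𝓔).carrier := by
  classical
  let _ := Γ.isField.toField
  let Hom := { p : ℤ × (homMod X 𝓔).carrier // p.2 ∈ (homMod X 𝓔).gr p.1 }
  let K : Finset Hom → Submodule R X.carrier := fun S => S.inf fun p => LinearMap.ker (p.1.2 : homSub X 𝓔).1
  obtain ⟨P, ⟨S, rfl⟩, hmin⟩ := (IsArtinian.set_has_minimal (R := R) (M := X.carrier))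
    (Set.range K) ⟨_, ∅, rfl⟩
  let N : Submodule R (homMod X 𝓔).carrier := Submodule.span R ((S.image fun p : Hom => p.1.2) : Set _)
  refine ⟨⟨S.image fun p : Hom => p.1.2, eq_top_iff.2 fun f _ => ?_⟩⟩
  refine spans_induction (spans_of_decomposition (homMod X 𝓔).gr) f (zero_mem N) (fun a b => N.add_mem)
    fun d f hf => ?_
  -- `f` vanishes on the common kernel
  have hker : ∀ x ∈ K S, (f : homSub X 𝓔).1 x = 0 := by
    intro x hx
    have hle : K (insert ⟨(d, f), hf⟩ S) ≤ K S := Finset.inf_mono (Finset.subset_insert _ _)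
    have he' : K (insert ⟨(d, f), hf⟩ S) = K S :=
      hle.antisymm (not_lt_iff_le_imp_ge.1 (hmin _ ⟨_, rfl⟩) hle)
    have h1 := Finset.inf_le (f := fun p : Hom => LinearMap.ker (p.1.2 : homSub X 𝓔).1)
      (Finset.mem_insert_self (⟨(d, f), hf⟩ : Hom) S)
    exact h1 (he'.ge hx)
  let j : ℤ := -d
  let tr := fun (g : homSub X 𝓔) (hg : GrLC.IsGrHomDeg X.gr 𝓔 g.1 (-j)) =>
    Γ.dualMap (ℳ := X.gr) he j ⟨g.1, hg⟩
  have hjd : -j = d := neg_neg d
  let W : Submodule (GrLC.deg0 𝒜) (Module.Dual (GrLC.deg0 𝒜) (GrLC.comp 𝒜 X.gr j)) :=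
    Submodule.span (GrLC.deg0 𝒜) {l | ∃ g : homSub X 𝓔, (g : (homMod X 𝓔).carrier) ∈ N ∧
      ∃ hg : GrLC.IsGrHomDeg X.gr 𝓔 g.1 (-j), tr g hg = l}
  have hfin : Module.Finite (GrLC.deg0 𝒜) (GrLC.comp 𝒜 X.gr j) := by
    have := isArtinian_piece 𝒜 X.gr j
    have : IsNoetherian (GrLC.deg0 𝒜) (GrLC.comp 𝒜 X.gr j) := IsSemiprimaryRing.isNoetherian_iff_isArtinian.2 this
    infer_instance
  have hmem : tr (f : homSub X 𝓔) (hjd ▸ hf) ∈ W := by
    rw [← Subspace.dualCoannihilator_dualAnnihilator_eq (W := W), Submodule.mem_dualAnnihilator]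
    intro x hx
    rw [Submodule.mem_dualCoannihilator] at hx
    have hxK : x.1 ∈ K S := by
      refine Submodule.mem_finsetInf.2 fun p hp => ?_
      show (p.1.2 : homSub X 𝓔).1 x.1 = 0
      by_contra hne
      have hy : (p.1.2 : homSub X 𝓔).1 x.1 ∈ 𝓔 (j + p.1.1) := p.2 j x.1 x.2
      obtain ⟨r, c, hr, -, -, hr0⟩ := Γ.exists_smul_socle he hy hne
      refine hr0 ?_
      have hg : GrLC.IsGrHomDeg X.gr 𝓔 (r • p.1.2 : homSub X 𝓔).1 (-j) := by
        have := smul_grHomDeg X 𝓔 hr ((mem_homMod_gr X 𝓔).1 p.2)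
        rwa [show -(j + p.1.1) + p.1.1 = -j by omega] at this
      have h0 := hx _ (Submodule.subset_span ⟨(r • p.1.2 : homSub X 𝓔),
        N.smul_mem r (Submodule.subset_span (Finset.mem_image_of_mem (fun p : Hom => p.1.2) hp)), hg, rfl⟩)
      have h1 : Γ.trace he _ = 0 := h0
      exact congrArg Subtype.val ((Γ.trace he).map_eq_zero_iff.1 h1)
    show Γ.trace he _ = 0
    refine (Γ.trace he).map_eq_zero_iff.2 (Subtype.ext ?_)
    exact hker _ hxK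
  have hW : ∀ l ∈ W, ∃ g : homSub X 𝓔, (g : (homMod X 𝓔).carrier) ∈ N ∧
      ∃ hg : GrLC.IsGrHomDeg X.gr 𝓔 g.1 (-j), tr g hg = l := by
    intro l hl
    refine Submodule.span_induction (p := fun l _ => ∃ g : homSub X 𝓔, (g : (homMod X 𝓔).carrier) ∈ N ∧
      ∃ hg : GrLC.IsGrHomDeg X.gr 𝓔 g.1 (-j), tr g hg = l) ?_ ?_ ?_ ?_ hl
    · exact fun l hl => hl
    · exact ⟨0, N.zero_mem, (GrLC.homDeg 𝒜 X.gr 𝓔 (-j)).zero_mem, map_zero (Γ.dualMap (ℳ := X.gr) he j)⟩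
    · rintro _ _ _ _ ⟨a, ha, ha', rfl⟩ ⟨b, hb, hb', rfl⟩
      exact ⟨a + b, N.add_mem ha hb, (GrLC.homDeg 𝒜 X.gr 𝓔 (-j)).add_mem ha' hb',
        map_add (Γ.dualMap (ℳ := X.gr) he j) ⟨a.1, ha'⟩ ⟨b.1, hb'⟩⟩
    · rintro c _ _ ⟨a, ha, ha', rfl⟩
      exact ⟨(c : R) • a, N.smul_mem _ ha, (GrLC.homDeg 𝒜 X.gr 𝓔 (-j)).smul_mem c ha',
        map_smul (Γ.dualMap (ℳ := X.gr) he j) c ⟨a.1, ha'⟩⟩
  obtain ⟨g, hgN, hg, hge⟩ := hW _ hmem
  have h2 := congrArg Subtype.val ((Γ.dualMap_bijective (ℳ := X.gr) he j).1 hge)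
  have heq : g = (f : homSub X 𝓔) := Subtype.ext h2
  exact heq ▸ hgN

include Γ he in
/-- An Artinian graded module is the dual of the homogeneous maps into the envelope. -/
theorem FieldCtx.homEval_bijective [IsNoetherianRing R] [IsArtinian R X.carrier] :
    Function.Bijective (homEval X 𝓔) ∧
      ∀ (d : ℤ) (h : X.carrier), GrLC.IsGrHomDeg (homMod X 𝓔).gr 𝓔 (homEval X 𝓔 h) d → h ∈ X.gr d := by
  let _ := Γ.isField.toField
  have := Γ.finite_homMod X he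
  have hinj : Function.Injective (homEval X 𝓔) := by
    rw [injective_iff_map_eq_zero]
    intro h hh
    refine eq_zero_of_proj X.gr fun g => ?_
    by_contra hne
    obtain ⟨l, hl⟩ : ∃ l : Module.Dual (GrLC.deg0 𝒜) (GrLC.comp 𝒜 X.gr g),
        l ⟨proj X.gr g h, proj_mem X.gr g h⟩ ≠ 0 := by
      by_contra! hall
      exact hne (congrArg Subtype.val ((Module.forall_dual_apply_eq_zero_iff (GrLC.deg0 𝒜)
        (⟨proj X.gr g h, proj_mem X.gr g h⟩ : GrLC.comp 𝒜 X.gr g)).1 hall))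
    obtain ⟨f, rfl⟩ := (Γ.dualMap_bijective (ℳ := X.gr) he g).2 l
    refine hl ?_
    rw [Γ.dualMap_apply he]
    refine (Γ.trace he).map_eq_zero_iff.2 (Subtype.ext ?_)
    show f.1 (proj X.gr g h) = 0
    let F : homSub X 𝓔 := ⟨f.1, AddSubgroup.mem_iSup_of_mem (-g) f.2⟩
    have h0 : f.1 h = 0 := LinearMap.congr_fun hh (F : (homMod X 𝓔).carrier)
    have hp : proj 𝓔 0 (f.1 h) = f.1 (proj X.gr g h) := by
      refine spans_induction (spans_of_decomposition X.gr) h (by simp)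
        (fun a b ha hb => by simp only [map_add, ha, hb]) fun l a ha => ?_
      rcases eq_or_ne l g with rfl | hlg
      · rw [proj_of_mem X.gr ha, proj_of_mem 𝓔 (add_neg_cancel l ▸ f.2 l a ha)]
      · rw [proj_of_mem_ne X.gr ha hlg, map_zero, proj_of_mem_ne 𝓔 (f.2 l a ha) (by omega)]
    rw [← hp, h0, map_zero]
  have hdeg : ∀ (d : ℤ) (ψ : (homMod X 𝓔).carrier →ₗ[R] E), GrLC.IsGrHomDeg (homMod X 𝓔).gr 𝓔 ψ d →
      ∃ h ∈ X.gr d, homEval X 𝓔 h = ψ := by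
    intro d ψ hψ
    have hfin : Module.Finite (GrLC.deg0 𝒜) (GrLC.comp 𝒜 X.gr d) := by
      have := isArtinian_piece 𝒜 X.gr d
      have : IsNoetherian (GrLC.deg0 𝒜) (GrLC.comp 𝒜 X.gr d) := IsSemiprimaryRing.isNoetherian_iff_isArtinian.2 this
      infer_instance
    have hψ' : GrLC.IsGrHomDeg (homMod X 𝓔).gr 𝓔 ψ (-(-d)) := by rwa [neg_neg]
    let D := LinearEquiv.ofBijective _ (Γ.dualMap_bijective (ℳ := X.gr) he d)
    let inc : GrLC.homDeg 𝒜 X.gr 𝓔 (-d) →ₗ[GrLC.deg0 𝒜] GrLC.comp 𝒜 (homMod X 𝓔).gr (-d) :=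
      { toFun := fun f => ⟨((⟨f.1, AddSubgroup.mem_iSup_of_mem (-d) f.2⟩ : homSub X 𝓔)), f.2⟩
        map_add' := fun _ _ => rfl
        map_smul' := fun _ _ => rfl }
    let lam := Γ.dualMap (ℳ := (homMod X 𝓔).gr) he (-d) ⟨ψ, hψ'⟩ ∘ₗ inc ∘ₗ D.symm.toLinearMap
    let h := (Module.evalEquiv (GrLC.deg0 𝒜) (GrLC.comp 𝒜 X.gr d)).symm lam
    refine ⟨h.1, h.2, Γ.eq_of_grHomDeg (homMod X 𝓔) he (j := -d) ?_ hψ' fun f hf => ?_⟩
    · rw [neg_neg]
      exact homEval_grHomDeg X 𝓔 h.2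
    · let f' : GrLC.homDeg 𝒜 X.gr 𝓔 (-d) := ⟨(f : homSub X 𝓔).1, hf⟩
      have h1 := LinearMap.congr_fun ((Module.evalEquiv (GrLC.deg0 𝒜) (GrLC.comp 𝒜 X.gr d)).apply_symm_apply lam) (D f')
      rw [Module.evalEquiv_apply, Module.Dual.eval_apply] at h1
      simp only [lam, LinearMap.comp_apply, LinearEquiv.coe_coe, LinearEquiv.symm_apply_apply] at h1
      rw [LinearEquiv.ofBijective_apply, Γ.dualMap_apply he, Γ.dualMap_apply he] at h1
      exact congrArg Subtype.val ((Γ.trace he).injective h1)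
  refine ⟨⟨hinj, fun ψ => ?_⟩, fun d h hh => ?_⟩
  · obtain ⟨D, hD⟩ := exists_sum_homComp 𝒜 (homMod X 𝓔).gr 𝓔 ψ
    choose h _ hh using fun d => hdeg d _ (homComp_grHomDeg 𝒜 (homMod X 𝓔).gr 𝓔 ψ d)
    refine ⟨∑ d ∈ D, h d, ?_⟩
    rw [map_sum, hD]
    exact Finset.sum_congr rfl fun d _ => hh d
  · obtain ⟨h', hh', e'⟩ := hdeg d _ hh
    exact hinj e' ▸ hh'

include Γ he in
/-- *canonical modules exist. -/
theorem FieldCtx.exists_canonical [IsNoetherianRing R] (n : ℕ) (I : GrLC.StarInjRes 𝒜 𝒜) :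
    ∃ C : GrLC.GMod.{u} 𝒜, GrLC.IsStarCanonical 𝒜 C.gr 𝓔 m n I := by
  let X := Hmod I m n
  haveI := isMaximal_starMax Γ.pos Γ.starLocal.1
  obtain ⟨eH⟩ := nonempty_H_equiv I m n
  haveI := isArtinian_H_maximal m.toIdeal n R
  haveI : IsArtinian R X.carrier := isArtinian_of_linearEquiv (M := LocCoh.H m.toIdeal n R) (P := I.H m n) eH.symm
  obtain ⟨hb, hd⟩ := Γ.homEval_bijective X he
  exact ⟨homMod X 𝓔, Γ.finite_homMod X he, (LinearEquiv.ofBijective (homEval X 𝓔) hb).symm, fun d ψ hψ => hd d _ (by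
    show GrLC.IsGrHomDeg _ 𝓔 (LinearEquiv.ofBijective (homEval X 𝓔) hb _) d
    erw [LinearEquiv.apply_symm_apply]
    exact hψ)⟩

/-- A *injective envelope of the residue field exists. -/
theorem exists_residue_hull (m : HomogeneousIdeal 𝒜) :
    ∃ (E : GrLC.GMod.{u} 𝒜) (e : (R ⧸ m.toIdeal) →ₗ[R] E.carrier),
      GrLC.IsStarInjHull 𝒜 (GrLC.quotGr 𝒜 m) E.gr e := by
  let := (isInternal_quotGr (𝒜 := 𝒜) m).chooseDecomposition
  have : SetLike.GradedSMul 𝒜 (GrLC.quotGr 𝒜 m) := ⟨fun a g r x hr hx => smul_mem 𝒜 (quotMod 𝒜 m).gr hr hx⟩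
  exact exists_starInjHull (𝒜 := 𝒜) (GrLC.quotGr 𝒜 m)

end Groth.Agent.GrLC21
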