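import Groth.Agent.Lib.GrLC21.StarInj
import Mathlib.RingTheory.Finiteness.Basic
import Mathlib.RingTheory.Noetherian.Basic
import Mathlib.LinearAlgebra.Finsupp.LinearCombination
import Mathlib.LinearAlgebra.StdBasis

/-!
# Maps out of finitely generated graded modules; graded free modules
-/

universe u

open DirectSum

noncomputable section

set_option linter.unusedSectionVars false

namespace Groth.Agent.GrLC21

variable {ι : Type} [AddCommGroup ι] [DecidableEq ι]
variable {R : Type u} [CommRing R] {σ : Type u} [SetLike σ R] [AddSubgroupClass σ R]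
  (𝒜 : ι → σ) [GradedRing 𝒜]
variable {M : Type u} [AddCommGroup M] [Module R M] {τ : Type u} [SetLike τ M] [AddSubgroupClass τ M]
  (ℳ : ι → τ) [Decomposition ℳ] [SetLike.GradedSMul 𝒜 ℳ]
variable {I : Type u} [AddCommGroup I] [Module R I] {τ' : Type u} [SetLike τ' I] [AddSubgroupClass τ' I]
  (ℐ : ι → τ') [Decomposition ℐ] [SetLike.GradedSMul 𝒜 ℐ]

/-- Homogeneous generators of a finite module. -/
theorem exists_homogeneous_gens [Module.Finite R M] :
    ∃ (n : ℕ) (a : Fin n → ι) (v : Fin n → M),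
      (∀ i, v i ∈ ℳ (a i)) ∧ Submodule.span R (Set.range v) = ⊤ := by
  classical
  obtain ⟨s, hs⟩ := Module.finite_def.1 (inferInstance : Module.Finite R M)
  let T : Finset (ι × M) := s.biUnion fun m => (degs ℳ m).image fun g => (g, proj ℳ g m)
  have hT : ∀ p ∈ T, p.2 ∈ ℳ p.1 := fun p hp => by
    obtain ⟨m, -, hp⟩ := Finset.mem_biUnion.1 hp
    obtain ⟨g, -, rfl⟩ := Finset.mem_image.1 hp
    exact proj_mem ℳ g m
  refine ⟨T.card, fun i => (T.equivFin.symm i).1.1, fun i => (T.equivFin.symm i).1.2,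
    fun i => hT _ (T.equivFin.symm i).2, eq_top_iff.2 (hs ▸ Submodule.span_le.2 fun m hm => ?_)⟩
  rw [SetLike.mem_coe, ← sum_proj ℳ m]
  refine Submodule.sum_mem _ fun g hg => Submodule.subset_span ?_
  have hp : (g, proj ℳ g m) ∈ T :=
    Finset.mem_biUnion.2 ⟨m, hm, Finset.mem_image.2 ⟨g, hg, rfl⟩⟩
  exact ⟨T.equivFin ⟨_, hp⟩, by simp⟩

include 𝒜 in
/-- The component of degree `d` of a linear map. -/
def homComp (φ : M →ₗ[R] I) (d : ι) : M →ₗ[R] I where
  toFun x := DirectSum.toAddMonoid (fun g => ((proj ℐ (g + d)).comp φ.toAddMonoidHom).comp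
    (AddSubmonoidClass.subtype (ℳ g))) (decompose ℳ x)
  map_add' x y := by rw [decompose_add, map_add]
  map_smul' r x := by
    have key : ∀ {g : ι} {y : M}, y ∈ ℳ g → DirectSum.toAddMonoid (fun g => ((proj ℐ (g + d)).comp
        φ.toAddMonoidHom).comp (AddSubmonoidClass.subtype (ℳ g))) (decompose ℳ y) = proj ℐ (g + d) (φ y) := by
      intro g y hy
      rw [decompose_of_mem ℳ hy, DirectSum.toAddMonoid_of]
      rfl
    rw [RingHom.id_apply]
    refine spans_induction (spans_of_decomposition ℳ) x (by simp)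
      (fun y z hy hz => by simp only [smul_add, decompose_add, map_add, hy, hz]) fun g y hy => ?_
    refine spans_induction (spans_of_decomposition 𝒜) r (by simp)
      (fun a b ha hb => by simp only [add_smul, decompose_add, map_add, ha, hb]) fun a s hs => ?_
    rw [key (smul_mem 𝒜 ℳ hs hy), key hy, map_smul, proj_smul 𝒜 ℐ hs]
    congr 2
    rw [add_assoc, add_sub_cancel_left]

theorem homComp_of_mem (φ : M →ₗ[R] I) (d : ι) {g : ι} {y : M} (hy : y ∈ ℳ g) :
    homComp 𝒜 ℳ ℐ φ d y = proj ℐ (g + d) (φ y) := by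
  change DirectSum.toAddMonoid _ (decompose ℳ y) = _
  rw [decompose_of_mem ℳ hy, DirectSum.toAddMonoid_of]
  rfl

theorem homComp_grHomDeg (φ : M →ₗ[R] I) (d : ι) : GrLC.IsGrHomDeg ℳ ℐ (homComp 𝒜 ℳ ℐ φ d) d :=
  fun g y hy => by rw [homComp_of_mem 𝒜 ℳ ℐ φ d hy]; exact proj_mem ℐ _ _

/-- A map out of a finite graded module is a finite sum of homogeneous ones. -/
theorem exists_sum_homComp [Module.Finite R M] (φ : M →ₗ[R] I) :
    ∃ D : Finset ι, φ = ∑ d ∈ D, homComp 𝒜 ℳ ℐ φ d := by
  classical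
  obtain ⟨n, a, v, hv, hspan⟩ := exists_homogeneous_gens ℳ (R := R)
  refine ⟨Finset.univ.biUnion fun i => (degs ℐ (φ (v i))).image (· - a i), LinearMap.ext_on_range hspan fun i => ?_⟩
  rw [LinearMap.sum_apply]
  simp only [homComp_of_mem 𝒜 ℳ ℐ φ _ (hv i)]
  set D := Finset.univ.biUnion fun i => (degs ℐ (φ (v i))).image (· - a i)
  have hsub : degs ℐ (φ (v i)) ⊆ D.image (a i + ·) := fun h hh =>
    Finset.mem_image.2 ⟨h - a i, Finset.mem_biUnion.2 ⟨i, Finset.mem_univ _, Finset.mem_image.2 ⟨h, hh, rfl⟩⟩,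
      add_sub_cancel _ _⟩
  conv_lhs => rw [← sum_proj ℐ (φ (v i))]
  rw [Finset.sum_subset hsub fun h _ hh => by simpa [mem_degs] using hh,
    Finset.sum_image fun x _ y _ e => add_left_cancel e]

variable {𝒜 ℳ ℐ}

/-- Homogeneous maps of any degree extend. -/
theorem exists_extend_deg (hI : GrLC.IsStarInj 𝒜 ℐ) {A B : GrLC.GMod.{u} 𝒜}
    {f : A.carrier →ₗ[R] B.carrier} (hf : GrLC.IsGrHom A.gr B.gr f) (hfi : Function.Injective f) {d : ι}
    {φ : A.carrier →ₗ[R] I} (hφ : GrLC.IsGrHomDeg A.gr ℐ φ d) :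
    ∃ ψ : B.carrier →ₗ[R] I, GrLC.IsGrHomDeg B.gr ℐ ψ d ∧ ψ ∘ₗ f = φ := by
  obtain ⟨w, hw, e⟩ := hI (shift A d) (shift B d) (toShift B d ∘ₗ f ∘ₗ ofShift A d)
    (fun g a ha => hf (g - d) a ha) hfi (φ ∘ₗ ofShift A d) fun g a ha => by
      have := hφ (g - d) a ha
      rwa [sub_add_cancel] at this
  exact ⟨w ∘ₗ toShift B d, fun g b hb => hw (g + d) b (toShift_grHomDeg B d g b hb),
    LinearMap.ext fun a => LinearMap.congr_fun e a⟩

/-- Every map out of a finite graded submodule extends to the whole module. -/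
theorem exists_extend_any (hI : GrLC.IsStarInj 𝒜 ℐ) {A B : GrLC.GMod.{u} 𝒜} [Module.Finite R A.carrier]
    {f : A.carrier →ₗ[R] B.carrier} (hf : GrLC.IsGrHom A.gr B.gr f) (hfi : Function.Injective f)
    (φ : A.carrier →ₗ[R] I) : ∃ ψ : B.carrier →ₗ[R] I, ψ ∘ₗ f = φ := by
  obtain ⟨D, hD⟩ := exists_sum_homComp 𝒜 A.gr ℐ φ
  choose ψ _ hψ using fun d => exists_extend_deg hI hf hfi (homComp_grHomDeg 𝒜 A.gr ℐ φ d)
  refine ⟨∑ d ∈ D, ψ d, LinearMap.ext fun a => ?_⟩
  rw [hD, LinearMap.comp_apply, LinearMap.sum_apply, LinearMap.sum_apply]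
  exact Finset.sum_congr rfl fun d _ => LinearMap.congr_fun (hψ d) a

variable (𝒜)

/-- The pieces of a graded free module. -/
def freePieces {n : ℕ} (a : Fin n → ι) (d : ι) : AddSubgroup (Fin n → R) where
  carrier := {v | ∀ b, v b ∈ 𝒜 (d - a b)}
  zero_mem' := fun _ => zero_mem _
  add_mem' := fun hu hv b => add_mem (hu b) (hv b)
  neg_mem' := fun hu b => neg_mem (hu b)

/-- The graded free module with generators in the given degrees. -/
def freeMod {n : ℕ} (a : Fin n → ι) : GrLC.GMod.{u} 𝒜 :=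
  mkGMod (Fin n → R) (freePieces 𝒜 a)
    (isInternal_of_proj _
      (fun d => { toFun := fun v b => proj 𝒜 (d - a b) (v b)
                  map_zero' := by funext b; simp
                  map_add' := fun u v => by funext b; simp })
      (fun d v hv => funext fun b => proj_of_mem 𝒜 (hv b))
      (fun d h e v hv => funext fun b => proj_of_mem_ne 𝒜 (hv b) fun e' => e (sub_left_injective e').symm)
      (fun v => by
        classical
        rw [← Finset.univ_sum_single v]
        refine sum_mem fun b _ => ?_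
        refine spans_induction (P := fun x : R => (Pi.single b x : Fin n → R) ∈ _) (spans_of_decomposition 𝒜)
          (v b) (by rw [Pi.single_zero]; exact zero_mem _)
          (fun x y hx hy => by rw [Pi.single_add]; exact add_mem hx hy) fun g x hx => ?_
        refine AddSubgroup.mem_iSup_of_mem (g + a b) fun c => ?_
        rcases eq_or_ne c b with rfl | h
        · rw [Pi.single_eq_same, add_sub_cancel_right]; exact hx
        · rw [Pi.single_eq_of_ne h]; exact zero_mem _))
    fun h g r v hr hv b => by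
      rw [add_sub_assoc]
      exact SetLike.mul_mem_graded hr (hv b)

/-- The presentation by homogeneous generators. -/
def freeπ {n : ℕ} (a : Fin n → ι) (v : Fin n → M) : (freeMod 𝒜 a).carrier →ₗ[R] M :=
  Fintype.linearCombination R v

theorem freeπ_grHom {n : ℕ} (a : Fin n → ι) (v : Fin n → M) (hv : ∀ i, v i ∈ ℳ (a i)) :
    GrLC.IsGrHom (freeMod 𝒜 a).gr ℳ (freeπ 𝒜 a v) := fun g (w : Fin n → R) hw => by
  show Fintype.linearCombination R v w ∈ ℳ g
  rw [Fintype.linearCombination_apply]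
  refine sum_mem fun i _ => ?_
  have := smul_mem 𝒜 ℳ (hw i) (hv i)
  rwa [sub_add_cancel] at this

theorem freeπ_surjective {n : ℕ} (a : Fin n → ι) (v : Fin n → M)
    (h : Submodule.span R (Set.range v) = ⊤) : Function.Surjective (freeπ 𝒜 a v) :=
  LinearMap.range_eq_top.1 (((Fintype.range_linearCombination R v).trans h :
    LinearMap.range (Fintype.linearCombination R v) = ⊤))

end Groth.Agent.GrLC21
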