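import Groth.Agent.Lib.GrLC21.Unique

/-!
# The graded cohomology of the torsion complex of a *injective resolution
-/

universe u

open DirectSum

noncomputable section

set_option linter.unusedSectionVars false

namespace Groth.Agent.GrLC21

variable {ι : Type} [AddCommGroup ι] [DecidableEq ι]
variable {R : Type u} [CommRing R] {σ : Type u} [SetLike σ R] [AddSubgroupClass σ R]
  {𝒜 : ι → σ} [GradedRing 𝒜]

theorem mem_gam {a : Ideal R} {M : Type u} [AddCommGroup M] [Module R M] {x : M} :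
    x ∈ GrLC.gam a M ↔ ∃ n : ℕ, ∀ r ∈ a ^ n, r • x = 0 := Iff.rfl

theorem map_mem_gam {a : Ideal R} {M N : Type u} [AddCommGroup M] [Module R M] [AddCommGroup N]
    [Module R N] (f : M →ₗ[R] N) {x : M} (hx : x ∈ GrLC.gam a M) : f x ∈ GrLC.gam a N :=
  hx.imp fun _ hn r hr => by rw [← map_smul, hn r hr, map_zero]

theorem mem_gam_of_injective {a : Ideal R} {M N : Type u} [AddCommGroup M] [Module R M]
    [AddCommGroup N] [Module R N] (f : M →ₗ[R] N) (hf : Function.Injective f) {x : M}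
    (hx : f x ∈ GrLC.gam a N) : x ∈ GrLC.gam a M :=
  hx.imp fun _ hn r hr => hf (by rw [map_smul, hn r hr, map_zero])

theorem isHomogeneous_pow (a : HomogeneousIdeal 𝒜) : ∀ n, (a.toIdeal ^ n).IsHomogeneous 𝒜
  | 0 => by rw [pow_zero, Ideal.one_eq_top]; exact Ideal.IsHomogeneous.top 𝒜
  | n + 1 => by rw [pow_succ]; exact Ideal.IsHomogeneous.mul (isHomogeneous_pow a n) a.isHomogeneous

theorem gam_isHomogeneous (a : HomogeneousIdeal 𝒜) {M : Type u} [AddCommGroup M] [Module R M]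
    {τ : Type u} [SetLike τ M] [AddSubgroupClass τ M] (ℳ : ι → τ) [Decomposition ℳ]
    [SetLike.GradedSMul 𝒜 ℳ] : (GrLC.gam a.toIdeal M).IsHomogeneous ℳ := by
  rintro g x ⟨n, hn⟩
  refine ⟨n, fun r hr => ?_⟩
  have hhom := isHomogeneous_pow a n
  rw [← sum_proj 𝒜 r, Finset.sum_smul]
  refine Finset.sum_eq_zero fun h _ => ?_
  change proj 𝒜 h r • proj ℳ g x = 0
  have := proj_smul 𝒜 ℳ (proj_mem 𝒜 h r) (h + g) x
  rw [add_sub_cancel_left, hn (proj 𝒜 h r) (hhom h hr), map_zero] at this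
  exact this.symm

variable {M : Type u} [AddCommGroup M] [Module R M] {τ : Type u} [SetLike τ M] [AddSubgroupClass τ M]
  {ℳ : ι → τ} [Decomposition ℳ] [SetLike.GradedSMul 𝒜 ℳ] (E : GrLC.StarInjRes 𝒜 ℳ)
  (a : HomogeneousIdeal 𝒜)

theorem d_d (n : ℕ) (x : (E.X n).carrier) : E.d (n + 1) (E.d n x) = 0 := by
  have : E.d n x ∈ LinearMap.ker (E.d (n + 1)) := E.exact_succ n ▸ ⟨x, rfl⟩
  exact this

theorem mem_cocyc {i : ℕ} {z : (E.X i).carrier} :
    z ∈ E.cocyc a i ↔ z ∈ GrLC.gam a.toIdeal (E.X i).carrier ∧ E.d i z = 0 := Iff.rfl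

theorem mem_cobdy_succ {i : ℕ} {z : (E.X (i + 1)).carrier} :
    z ∈ E.cobdy a (i + 1) ↔ ∃ y ∈ GrLC.gam a.toIdeal (E.X i).carrier, E.d i y = z := Iff.rfl

theorem cobdy_le_cocyc : ∀ i, E.cobdy a i ≤ E.cocyc a i
  | 0 => bot_le
  | n + 1 => fun _ ⟨y, hy, e⟩ => e ▸ ⟨map_mem_gam (E.d n) hy, d_d E n y⟩

theorem cocyc_isHomogeneous (i : ℕ) : (E.cocyc a i).IsHomogeneous (E.X i).gr :=
  isHomogeneous_inf (gam_isHomogeneous a (E.X i).gr) (isHomogeneous_ker (E.d_grHom i))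

theorem cobdy_isHomogeneous : ∀ i, (E.cobdy a i).IsHomogeneous (E.X i).gr
  | 0 => isHomogeneous_bot _
  | n + 1 => isHomogeneous_map (E.d_grHom n) (gam_isHomogeneous a (E.X n).gr)

theorem toH_eq_zero_iff {i : ℕ} (z : E.cocyc a i) :
    E.toH a i z = 0 ↔ (z : (E.X i).carrier) ∈ E.cobdy a i :=
  (Submodule.Quotient.mk_eq_zero _).trans Iff.rfl

theorem toH_surjective (i : ℕ) : Function.Surjective (E.toH a i) := Submodule.mkQ_surjective _

/-- The projection to degree `g` on cohomology. -/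
def Hproj (i : ℕ) (g : ι) : E.H a i →+ E.H a i :=
  QuotientAddGroup.lift _
    ((E.toH a i).toAddMonoidHom.comp (((proj (E.X i).gr g).comp
      (E.cocyc a i).subtype.toAddMonoidHom).codRestrict (E.cocyc a i) fun z => cocyc_isHomogeneous E a i g z.2))
    fun z hz => (toH_eq_zero_iff E a _).2 (cobdy_isHomogeneous E a i g hz)

theorem Hproj_toH (i : ℕ) (g : ι) (z : E.cocyc a i) :
    Hproj E a i g (E.toH a i z) =
      E.toH a i ⟨proj (E.X i).gr g z, cocyc_isHomogeneous E a i g z.2⟩ := rfl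

theorem mem_Hgr {i : ℕ} {g : ι} {x : E.H a i} :
    x ∈ E.Hgr a i g ↔ ∃ z : E.cocyc a i, (z : (E.X i).carrier) ∈ (E.X i).gr g ∧ E.toH a i z = x := Iff.rfl

theorem Hgr_isInternal (i : ℕ) : IsInternal (E.Hgr a i) :=
  isInternal_of_proj _ (Hproj E a i)
    (fun g x hx => by
      obtain ⟨z, hz, rfl⟩ := hx
      rw [Hproj_toH]
      exact congrArg _ (Subtype.ext (proj_of_mem _ hz)))
    (fun g h e x hx => by
      obtain ⟨z, hz, rfl⟩ := hx
      rw [Hproj_toH]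
      refine (congrArg (E.toH a i) (Subtype.ext ?_ : _ = (0 : E.cocyc a i))).trans (map_zero _)
      exact proj_of_mem_ne _ hz e.symm)
    fun x => by
      obtain ⟨z, rfl⟩ := toH_surjective E a i x
      have hz : z = ∑ g ∈ degs (E.X i).gr (z : (E.X i).carrier),
          (⟨proj (E.X i).gr g z, cocyc_isHomogeneous E a i g z.2⟩ : E.cocyc a i) :=
        Subtype.ext (by rw [Submodule.coe_sum]; exact (sum_proj _ _).symm)
      rw [hz, map_sum]
      exact sum_mem fun g _ => AddSubgroup.mem_iSup_of_mem g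
        ((mem_Hgr E a).2 ⟨_, proj_mem (E.X i).gr g _, rfl⟩)

theorem smul_mem_Hgr {i : ℕ} (h g : ι) (r : R) (x : E.H a i) (hr : r ∈ 𝒜 h) (hx : x ∈ E.Hgr a i g) :
    r • x ∈ E.Hgr a i (h + g) := by
  obtain ⟨z, hz, rfl⟩ := hx
  exact (mem_Hgr E a).2 ⟨r • z, smul_mem 𝒜 (E.X i).gr hr hz, map_smul _ _ _⟩

/-- The graded local cohomology as a graded module. -/
def Hmod (i : ℕ) : GrLC.GMod.{u} 𝒜 :=
  mkGMod (E.H a i) (E.Hgr a i) (Hgr_isInternal E a i) fun h g r x hr hx => smul_mem_Hgr E a h g r x hr hx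

theorem Hcomp_eq_bot_iff {i : ℕ} {g : ι} :
    E.Hcomp a i g = ⊥ ↔ ∀ x ∈ E.Hgr a i g, x = 0 :=
  Submodule.eq_bot_iff _

theorem Hgr_eq_bot_iff {i : ℕ} {g : ι} : E.Hgr a i g = ⊥ ↔ E.Hcomp a i g = ⊥ := by
  rw [Hcomp_eq_bot_iff, AddSubgroup.eq_bot_iff_forall]

theorem subsingleton_H_iff {i : ℕ} : Subsingleton (E.H a i) ↔ ∀ g, E.Hcomp a i g = ⊥ := by
  constructor
  · intro h g
    exact (Hcomp_eq_bot_iff E a).2 fun x _ => Subsingleton.elim x 0
  · intro h
    refine subsingleton_of_forall_eq 0 fun x => ?_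
    exact eq_zero_of_proj (M := (Hmod E a i).carrier) (Hmod E a i).gr (x := x) fun g =>
      (Hcomp_eq_bot_iff E a).1 (h g) _ (proj_mem (M := (Hmod E a i).carrier) (Hmod E a i).gr g x)

end Groth.Agent.GrLC21
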