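import Groth.Agent.Lib.GrLC21.FGHom
import Groth.Agent.Lib.GrLC21.Unique
import Groth.Agent.Lib.GrLC21.Artinian
import Groth.Agent.Lib.GrLC21.Coh
import Mathlib.LinearAlgebra.Dual.Lemmas

/-!
# `*E(R ⧸ m)` as the graded dual over the degree-zero field, and *canonical modules piece by piece
-/

universe u

open DirectSum

noncomputable section

set_option linter.unusedSectionVars false
set_option backward.isDefEq.respectTransparency false

namespace Groth.Agent.GrLC21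

variable {R : Type u} [CommRing R] {σ : Type u} [SetLike σ R] [AddSubgroupClass σ R]
  {𝒜 : ℤ → σ} [GradedRing 𝒜]

omit [GradedRing 𝒜] in
theorem component_of_sum {M : Type u} [AddCommGroup M] {τ : Type u} [SetLike τ M] [AddSubgroupClass τ M]
    {ℳ : ℤ → τ} [Decomposition ℳ] {d : ℤ} {x : M} (hx : x ∈ ℳ d) (D : Finset ℤ) (v : ℤ → M)
    (hv : ∀ i, v i ∈ ℳ i) (h : x = ∑ i ∈ D, v i) : (d ∈ D → x = v d) ∧ (d ∉ D → x = 0) := by
  have hp : x = ∑ i ∈ D, proj ℳ d (v i) := by rw [← map_sum, ← h, proj_of_mem ℳ hx]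
  refine ⟨fun hd => ?_, fun hd => ?_⟩
  · rw [hp, Finset.sum_eq_single d (fun i _ hi => proj_of_mem_ne ℳ (hv i) hi) (fun h' => absurd hd h'),
      proj_of_mem ℳ (hv d)]
  · rw [hp]
    exact Finset.sum_eq_zero fun i hi => proj_of_mem_ne ℳ (hv i) fun e => hd (e ▸ hi)

variable (𝒜) in
/-- Positively graded over a field, with the irrelevant ideal `m`. -/
structure FieldCtx (m : HomogeneousIdeal 𝒜) : Prop where
  pos : ∀ n : ℤ, n < 0 → ∀ r ∈ 𝒜 n, r = 0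
  isField : IsField (GrLC.deg0 𝒜)
  starLocal : GrLC.IsStarLocal 𝒜 m

namespace FieldCtx

variable {m : HomogeneousIdeal 𝒜} (Γ : FieldCtx 𝒜 m)

include Γ in
theorem mem_pos {n : ℤ} (hn : 0 < n) {r : R} (hr : r ∈ 𝒜 n) : r ∈ m.toIdeal :=
  pos_le_starMax Γ.pos Γ.starLocal.1 (Ideal.subset_span (Set.mem_iUnion₂_of_mem (Set.mem_Ioi.2 hn) hr))

include Γ in
theorem deg0_eq_zero {r : R} (hr : r ∈ 𝒜 0) (hrm : r ∈ m.toIdeal) : r = 0 := by
  by_contra h0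
  obtain ⟨c, hc⟩ := Γ.isField.mul_inv_cancel (a := ⟨r, hr⟩) fun h => h0 (congrArg Subtype.val h)
  refine Γ.starLocal.1.1 (HomogeneousIdeal.ext ?_)
  rw [HomogeneousIdeal.toIdeal_top, Ideal.eq_top_iff_one, ← show r * (c : R) = 1 from congrArg Subtype.val hc]
  exact Ideal.mul_mem_right _ _ hrm

include Γ in
theorem sub_proj_zero_mem (r : R) : r - proj 𝒜 0 r ∈ m.toIdeal := by
  refine spans_induction (spans_of_decomposition 𝒜) r (by simp)
    (fun a b ha hb => by rw [map_add, add_sub_add_comm]; exact add_mem ha hb) fun d s hs => ?_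
  rcases lt_trichotomy d 0 with hd | rfl | hd
  · rw [Γ.pos d hd s hs, map_zero, sub_zero]; exact zero_mem _
  · rw [proj_of_mem 𝒜 hs, sub_self]; exact zero_mem _
  · rw [proj_of_mem_ne 𝒜 hs hd.ne', sub_zero]; exact Γ.mem_pos hd hs

include Γ in
theorem isNoetherian_comp {M : Type u} [AddCommGroup M] [Module R M] [IsNoetherianRing R] [Module.Finite R M]
    {τ : Type u} [SetLike τ M] [AddSubgroupClass τ M] (ℳ : ℤ → τ) [Decomposition ℳ] [SetLike.GradedSMul 𝒜 ℳ]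
    (j : ℤ) : Module.Finite (GrLC.deg0 𝒜) (GrLC.comp 𝒜 ℳ j) :=
  have := isNoetherian_piece 𝒜 ℳ j
  inferInstance

variable {E : Type u} [AddCommGroup E] [Module R E] {τ' : Type u} [SetLike τ' E] [AddSubgroupClass τ' E]
  {𝓔 : ℤ → τ'} [Decomposition 𝓔] [SetLike.GradedSMul 𝒜 𝓔] {e : (R ⧸ m.toIdeal) →ₗ[R] E}
  (he : GrLC.IsStarInjHull 𝒜 (GrLC.quotGr 𝒜 m) 𝓔 e)

include Γ he in
/-- A nonzero homogeneous element of the envelope is carried onto the socle. -/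
theorem exists_smul_socle {d : ℤ} {y : E} (hy : y ∈ 𝓔 d) (h0 : y ≠ 0) :
    ∃ (r : R) (c : R), r ∈ 𝒜 (-d) ∧ c ∈ 𝒜 0 ∧ r • y = e (Ideal.Quotient.mk m.toIdeal c) ∧ r • y ≠ 0 := by
  obtain ⟨t, ht, ht0⟩ := ((isStarEss_iff 𝒜).1 he.toIsStarEss).2.2 d y hy h0
  obtain ⟨a, r, hr, ⟨q, hq⟩, hr0⟩ := exists_homogeneous_smul 𝒜
    (isHomogeneous_range (spans_quotGr 𝒜 m) he.grHom) hy ht0 ht
  obtain ⟨c, rfl⟩ := Ideal.Quotient.mk_surjective q
  have hc : Ideal.Quotient.mk m.toIdeal c = Ideal.Quotient.mk m.toIdeal (proj 𝒜 0 c) :=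
    Ideal.Quotient.eq.2 (Γ.sub_proj_zero_mem c)
  rw [hc] at hq
  refine ⟨r, proj 𝒜 0 c, ?_, proj_mem 𝒜 0 c, hq.symm, hr0⟩
  suffices a = -d by rwa [← this]
  by_contra hne
  refine hr0 ?_
  rw [← proj_of_mem 𝓔 (smul_mem 𝒜 𝓔 hr hy), ← hq]
  exact proj_of_mem_ne 𝓔 (he.grHom 0 _ ⟨_, proj_mem 𝒜 0 c, rfl⟩) fun h => hne (by omega)

include Γ he in
theorem eq_zero_of_deg_pos {d : ℤ} (hd : 0 < d) {y : E} (hy : y ∈ 𝓔 d) : y = 0 := by
  by_contra h0
  obtain ⟨r, c, hr, -, -, hr0⟩ := Γ.exists_smul_socle he hy h0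
  exact hr0 (by rw [Γ.pos _ (by omega) r hr, zero_smul])

/-- The socle inclusion of the degree-zero field. -/
def socleMap : GrLC.deg0 𝒜 →ₗ[GrLC.deg0 𝒜] GrLC.comp 𝒜 𝓔 (0 : ℤ) where
  toFun c := ⟨e (Ideal.Quotient.mk m.toIdeal c), he.grHom 0 _ ⟨_, c.2, rfl⟩⟩
  map_add' a b := Subtype.ext (by simp)
  map_smul' a b := Subtype.ext (by
    show e (Ideal.Quotient.mk m.toIdeal ((a : R) * b)) = (a : R) • e (Ideal.Quotient.mk m.toIdeal b)
    rw [← map_smul]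
    rfl)

include Γ in
theorem socleMap_bijective : Function.Bijective (socleMap he) := by
  refine ⟨(injective_iff_map_eq_zero _).2 fun c hc => Subtype.ext ?_, fun y => ?_⟩
  · exact Γ.deg0_eq_zero c.2 (Ideal.Quotient.eq_zero_iff_mem.1 (he.injective
      ((congrArg Subtype.val hc).trans (map_zero e).symm)))
  · by_cases h0 : (y : E) = 0
    · exact ⟨0, Subtype.ext (((congrArg e (map_zero (Ideal.Quotient.mk m.toIdeal))).trans (map_zero e)).trans h0.symm)⟩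
    obtain ⟨r, c, hr, hc, hrc, hr0⟩ := Γ.exists_smul_socle he y.2 h0
    rw [neg_zero] at hr
    obtain ⟨s, hs⟩ := Γ.isField.mul_inv_cancel (a := ⟨r, hr⟩) fun h => hr0 (by
      rw [show r = 0 from congrArg Subtype.val h, zero_smul])
    refine ⟨s * ⟨c, hc⟩, Subtype.ext ?_⟩
    show e (Ideal.Quotient.mk m.toIdeal ((s : R) * c)) = y
    rw [show Ideal.Quotient.mk m.toIdeal ((s : R) * c) = (s : R) • Ideal.Quotient.mk m.toIdeal c from rfl,
      map_smul, ← hrc, ← mul_smul, show (s : R) * r = 1 from (mul_comm _ _).trans (congrArg Subtype.val hs), one_smul]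

/-- The trace on the degree-zero piece of the envelope. -/
def trace : GrLC.comp 𝒜 𝓔 (0 : ℤ) ≃ₗ[GrLC.deg0 𝒜] GrLC.deg0 𝒜 :=
  (LinearEquiv.ofBijective (socleMap he) (Γ.socleMap_bijective he)).symm

variable {M : Type u} [AddCommGroup M] [Module R M] {τ : Type u} [SetLike τ M] [AddSubgroupClass τ M]
  {ℳ : ℤ → τ} [Decomposition ℳ] [SetLike.GradedSMul 𝒜 ℳ]

variable (ℳ) in
/-- The submodule of the degrees at least `j`. -/
def geq (j : ℤ) : Submodule R M where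
  carrier := {x | ∀ i < j, proj ℳ i x = 0}
  zero_mem' _ _ := map_zero _
  add_mem' {x y} hx hy i hi := by rw [map_add, hx i hi, hy i hi, add_zero]
  smul_mem' r x hx i hi := by
    refine spans_induction (spans_of_decomposition 𝒜) r (by simp)
      (fun a b ha hb => by rw [add_smul, map_add, ha, hb, add_zero]) fun a s hs => ?_
    rw [proj_smul 𝒜 ℳ hs]
    rcases lt_or_ge a 0 with ha | ha
    · rw [Γ.pos a ha s hs, zero_smul]
    · rw [hx (i - a) (by omega), smul_zero]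

theorem geq_isHomogeneous (j : ℤ) : (Γ.geq ℳ j).IsHomogeneous ℳ := fun g x hx i hi => by
  show proj ℳ i (proj ℳ g x) = 0
  rcases eq_or_ne g i with rfl | hgi
  · rw [proj_of_mem ℳ (proj_mem ℳ g x)]; exact hx g hi
  · exact proj_of_mem_ne ℳ (proj_mem ℳ g x) hgi

/-- A functional on the piece of degree `j` as a map on the degrees at least `j`. -/
def geqExt (j : ℤ) (lam : Module.Dual (GrLC.deg0 𝒜) (GrLC.comp 𝒜 ℳ j)) : Γ.geq ℳ j →ₗ[R] E where
  toFun x := e (Ideal.Quotient.mk m.toIdeal (lam ⟨proj ℳ j x.1, proj_mem ℳ j _⟩))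
  map_add' x y := by
    rw [show (⟨proj ℳ j (x + y).1, proj_mem ℳ j _⟩ : GrLC.comp 𝒜 ℳ j) =
      ⟨proj ℳ j x.1, proj_mem ℳ j _⟩ + ⟨proj ℳ j y.1, proj_mem ℳ j _⟩ from
        Subtype.ext (map_add (proj ℳ j) _ _), map_add]
    simp
  map_smul' r x := by
    have hj : proj ℳ j (r • x.1) = proj 𝒜 0 r • proj ℳ j x.1 := by
      refine spans_induction (spans_of_decomposition 𝒜) r (by simp)
        (fun a b ha hb => by rw [add_smul, map_add, ha, hb, map_add, add_smul]) fun a s hs => ?_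
      rw [proj_smul 𝒜 ℳ hs]
      rcases lt_trichotomy a 0 with ha | rfl | ha
      · rw [Γ.pos a ha s hs, zero_smul, map_zero, zero_smul]
      · rw [proj_of_mem 𝒜 hs, sub_zero]
      · rw [proj_of_mem_ne 𝒜 hs ha.ne', zero_smul, x.2 (j - a) (by omega), smul_zero]
    let c : GrLC.deg0 𝒜 := ⟨proj 𝒜 0 r, (proj_mem 𝒜 0 r : proj 𝒜 0 r ∈ 𝒜 0)⟩
    rw [show (⟨proj ℳ j (r • x).1, proj_mem ℳ j _⟩ : GrLC.comp 𝒜 ℳ j) =
      c • (⟨proj ℳ j x.1, proj_mem ℳ j _⟩ : GrLC.comp 𝒜 ℳ j) from Subtype.ext hj, map_smul, RingHom.id_apply,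
      ← map_smul e]
    refine congrArg e ?_
    show Ideal.Quotient.mk m.toIdeal (proj 𝒜 0 r * _) = Ideal.Quotient.mk m.toIdeal r * Ideal.Quotient.mk m.toIdeal _
    rw [map_mul, ← Ideal.Quotient.eq.2 (Γ.sub_proj_zero_mem r)]

theorem geqExt_apply (j : ℤ) (lam : Module.Dual (GrLC.deg0 𝒜) (GrLC.comp 𝒜 ℳ j)) (x : Γ.geq ℳ j) :
    Γ.geqExt (e := e) j lam x = e (Ideal.Quotient.mk m.toIdeal (lam ⟨proj ℳ j x.1, proj_mem ℳ j _⟩)) := rfl

include he in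
theorem geqExt_mem (j : ℤ) (lam : Module.Dual (GrLC.deg0 𝒜) (GrLC.comp 𝒜 ℳ j)) (x : Γ.geq ℳ j) {g : ℤ}
    (hx : x.1 ∈ ℳ g) : Γ.geqExt (e := e) j lam x ∈ 𝓔 (g + -j) := by
  rw [geqExt_apply]
  rcases eq_or_ne g j with rfl | hgj
  · rw [add_neg_cancel]
    exact he.grHom 0 _ ⟨_, (lam _).2, rfl⟩
  · rw [show (⟨proj ℳ j x.1, proj_mem ℳ j _⟩ : GrLC.comp 𝒜 ℳ j) = 0 from
      Subtype.ext (proj_of_mem_ne ℳ hx hgj), map_zero]
    simp

/-- Restriction of a map of degree `-j` to the piece of degree `j`. -/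
def restrictPiece (j : ℤ) (f : GrLC.homDeg 𝒜 ℳ 𝓔 (-j)) :
    GrLC.comp 𝒜 ℳ j →ₗ[GrLC.deg0 𝒜] GrLC.comp 𝒜 𝓔 (0 : ℤ) where
  toFun x := ⟨f.1 x.1, add_neg_cancel j ▸ f.2 j x.1 x.2⟩
  map_add' x y := Subtype.ext (map_add f.1 x.1 y.1)
  map_smul' c x := Subtype.ext (map_smul f.1 (c : R) x.1)

/-- Maps of degree `-j` into the envelope as functionals on the piece of degree `j`. -/
def dualMap (j : ℤ) : GrLC.homDeg 𝒜 ℳ 𝓔 (-j) →ₗ[GrLC.deg0 𝒜] Module.Dual (GrLC.deg0 𝒜) (GrLC.comp 𝒜 ℳ j) where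
  toFun f := (Γ.trace he).toLinearMap ∘ₗ restrictPiece j f
  map_add' f g := LinearMap.ext fun x => by
    show Γ.trace he _ = Γ.trace he _ + Γ.trace he _
    rw [← map_add]
    rfl
  map_smul' c f := LinearMap.ext fun x => by
    show Γ.trace he _ = c • Γ.trace he _
    rw [← map_smul]
    rfl

theorem dualMap_apply (j : ℤ) (f : GrLC.homDeg 𝒜 ℳ 𝓔 (-j)) (x : GrLC.comp 𝒜 ℳ j) :
    Γ.dualMap he j f x = Γ.trace he (restrictPiece j f x) := rfl

theorem dualMap_bijective (j : ℤ) : Function.Bijective (Γ.dualMap (ℳ := ℳ) he j) := by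
  refine ⟨(injective_iff_map_eq_zero _).2 fun f hf => Subtype.ext ?_, fun lam => ?_⟩
  · have h0 : ∀ x ∈ ℳ j, f.1 x = 0 := fun x hx =>
      congrArg Subtype.val ((Γ.trace he).map_eq_zero_iff.1 (LinearMap.congr_fun hf ⟨x, hx⟩))
    refine LinearMap.ext fun x => ?_
    show f.1 x = 0
    rw [← sum_proj ℳ x, map_sum]
    refine Finset.sum_eq_zero fun i _ => ?_
    have hy : f.1 (proj ℳ i x) ∈ 𝓔 (i + -j) := f.2 i _ (proj_mem ℳ i x)
    by_contra hne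
    obtain ⟨r, c, hr, -, -, hr0⟩ := Γ.exists_smul_socle he hy hne
    refine hr0 ?_
    rw [← map_smul]
    exact h0 _ (by simpa using smul_mem 𝒜 ℳ hr (proj_mem ℳ i x))
  · let X := toGMod 𝒜 ℳ
    let P : Submodule R X.carrier := geq Γ ℳ j
    have hP : P.IsHomogeneous X.gr := fun g x hx => by
      show proj (M := X.carrier) X.gr g x ∈ P
      rw [show proj (M := X.carrier) X.gr g x = proj ℳ g x from map_proj (ℳ' := ℳ) (N := X.carrier)
        (𝒩 := X.gr) (f := (LinearMap.id : M →ₗ[R] X.carrier)) (fun _ _ h => h) g x |>.symm]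
      exact geq_isHomogeneous Γ j g hx
    let φ : P →ₗ[R] E := geqExt Γ (e := e) j lam
    have hφ : GrLC.IsGrHomDeg (sub X P hP).gr 𝓔 φ (-j) := fun g x hx => geqExt_mem Γ he j lam x hx
    obtain ⟨ψ, hψ, hψφ⟩ := exists_extend_deg he.starInj (subι_grHom X P hP) (subι_injective X P hP) hφ
    refine ⟨⟨(ψ : M →ₗ[R] E), hψ⟩, LinearMap.ext fun x => ?_⟩
    rw [Γ.dualMap_apply he]
    refine (LinearEquiv.symm_apply_eq (LinearEquiv.ofBijective (socleMap he) (Γ.socleMap_bijective he))).2 (Subtype.ext ?_)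
    have hxP : (x.1 : M) ∈ P := fun i hi => proj_of_mem_ne ℳ x.2 hi.ne'
    refine (LinearMap.congr_fun hψφ ⟨x.1, hxP⟩).trans ?_
    show e (Ideal.Quotient.mk m.toIdeal (lam ⟨proj ℳ j x.1, proj_mem ℳ j _⟩)) =
      e (Ideal.Quotient.mk m.toIdeal (lam x))
    rw [show (⟨proj ℳ j x.1, proj_mem ℳ j _⟩ : GrLC.comp 𝒜 ℳ j) = x from Subtype.ext (proj_of_mem ℳ x.2)]

section Canonical

variable [Module.Finite R M] {n : ℕ} {I : GrLC.StarInjRes 𝒜 𝒜} {φ : (M →ₗ[R] E) ≃ₗ[R] I.H m n}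
  (hφ : GrLC.IsGrHom (fun d => (GrLC.homDeg 𝒜 ℳ 𝓔 d).toAddSubgroup) (I.Hgr m n) φ.toLinearMap)

/-- The canonical isomorphism on the pieces of one degree. -/
def pieceMapCanon (d : ℤ) : GrLC.homDeg 𝒜 ℳ 𝓔 d →ₗ[GrLC.deg0 𝒜] I.Hcomp m n d where
  toFun f := ⟨φ f.1, hφ d f.1 f.2⟩
  map_add' f g := Subtype.ext (map_add φ f.1 g.1)
  map_smul' c f := Subtype.ext (map_smul φ (c : R) f.1)

theorem pieceMapCanon_bijective (d : ℤ) : Function.Bijective (pieceMapCanon hφ d) := by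
  refine ⟨fun f g h => Subtype.ext (φ.injective (congrArg Subtype.val h)), fun x => ?_⟩
  obtain ⟨D, hD⟩ := exists_sum_homComp 𝒜 ℳ 𝓔 (φ.symm x.1)
  have h := congrArg φ hD
  rw [LinearEquiv.apply_symm_apply, map_sum] at h
  have key := component_of_sum (M := (Hmod I m n).carrier) (ℳ := (Hmod I m n).gr) (d := d) (x := x.1) x.2 D
    (fun i => φ (homComp 𝒜 ℳ 𝓔 (φ.symm x.1) i)) (fun i => hφ i _ (homComp_grHomDeg 𝒜 ℳ 𝓔 _ i)) h
  by_cases hd : d ∈ D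
  · exact ⟨⟨homComp 𝒜 ℳ 𝓔 (φ.symm x.1) d, homComp_grHomDeg 𝒜 ℳ 𝓔 _ d⟩, Subtype.ext (key.1 hd).symm⟩
  · exact ⟨0, Subtype.ext ((map_zero φ).trans (key.2 hd).symm)⟩

/-- The degree `-j` piece of the top cohomology is the dual of the degree `j` piece of a *canonical module. -/
def canonDual (j : ℤ) : I.Hcomp m n (-j) ≃ₗ[GrLC.deg0 𝒜] Module.Dual (GrLC.deg0 𝒜) (GrLC.comp 𝒜 ℳ j) :=
  (LinearEquiv.ofBijective _ (pieceMapCanon_bijective hφ (-j))).symm.trans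
    (LinearEquiv.ofBijective _ (Γ.dualMap_bijective he j))

end Canonical

end FieldCtx

variable {m : HomogeneousIdeal 𝒜} {E : Type u} [AddCommGroup E] [Module R E] {τ' : Type u} [SetLike τ' E]
  [AddSubgroupClass τ' E] {𝓔 : ℤ → τ'} [Decomposition 𝓔] [SetLike.GradedSMul 𝒜 𝓔]
  {e : (R ⧸ m.toIdeal) →ₗ[R] E}
  {C : Type u} [AddCommGroup C] [Module R C] {τ : Type u} [SetLike τ C] [AddSubgroupClass τ C]
  {𝒞 : ℤ → τ} [Decomposition 𝒞] [SetLike.GradedSMul 𝒜 𝒞]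

/-- The dimension of the pieces of a *canonical module. -/
theorem FieldCtx.finrank_canonical (Γ : FieldCtx 𝒜 m) (he : GrLC.IsStarInjHull 𝒜 (GrLC.quotGr 𝒜 m) 𝓔 e)
    {n : ℕ} {I : GrLC.StarInjRes 𝒜 𝒜} (hC : GrLC.IsStarCanonical 𝒜 𝒞 𝓔 m n I) (j : ℤ) :
    Module.finrank (GrLC.deg0 𝒜) (GrLC.comp 𝒜 𝒞 j) = Module.finrank (GrLC.deg0 𝒜) (I.Hcomp m n (-j)) := by
  obtain ⟨hfin, φ, hφ⟩ := hC
  let _ := Γ.isField.toField
  rw [(Γ.canonDual he hφ j).finrank_eq, Subspace.dual_finrank_eq]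

end Groth.Agent.GrLC21
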