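import Groth.Agent.Lib.GrLC21.GorenTop
import Groth.Agent.Lib.GrLC21.GradedDual
import Groth.Agent.Lib.GrLC21.GradedDim
import Groth.Agent.Lib.GrLC21.FGHom
import Groth.Agent.Lib.CanonMod.InjDim27
import Groth.Agent.Lib.InjHull.HomTensor
import Groth.Agent.S7700
import Groth.Agent.S7701

/-!
# *canonical modules through their localisation at the *maximal ideal
-/

universe u

open DirectSum CategoryTheory Abelian TensorProduct

noncomputable section

set_option linter.unusedSectionVars false
set_option backward.isDefEq.respectTransparency false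

namespace Groth.Agent.GrLC21

section Local

variable {A : Type u} [CommRing A] [IsLocalRing A] {E : Type u} [AddCommGroup E] [Module A E]
  {f : IsLocalRing.ResidueField A →ₗ[A] E}

/-- A module with simple dual is simple. -/
theorem length_eq_one_of_dual (hf : InjHull.IsInjectiveHull f) {X : Type u} [AddCommGroup X] [Module A X]
    (h : Module.length A (X →ₗ[A] E) = 1) : Module.length A X = 1 := by
  have hs := Module.length_eq_one_iff.1 h
  haveI : Nontrivial X := by
    by_contra hX
    rw [not_nontrivial_iff_subsingleton] at hX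
    have : Subsingleton (X →ₗ[A] E) :=
      ⟨fun a b => LinearMap.ext fun x => by rw [Subsingleton.elim x 0, map_zero, map_zero]⟩
    rw [Module.length_eq_zero] at h
    exact zero_ne_one h
  refine Module.length_eq_one_iff.2 { eq_bot_or_eq_top := fun N => ?_ }
  rcases hs.eq_bot_or_eq_top (LinearMap.ker (LinearMap.lcomp A E N.subtype)) with hk | hk
  · refine Or.inr (by_contra fun hN => ?_)
    obtain ⟨x, -, hx⟩ := SetLike.exists_of_lt (lt_top_iff_ne_top.2 hN)
    obtain ⟨φ, hφ⟩ := InjHullLib.exists_dual_ne_zero hf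
      (show N.mkQ x ≠ 0 from fun e => hx ((Submodule.Quotient.mk_eq_zero N).1 e))
    refine hφ ?_
    have h0 : φ ∘ₗ N.mkQ ∈ LinearMap.ker (LinearMap.lcomp A E N.subtype) :=
      LinearMap.ext fun y => show φ (N.mkQ y.1) = 0 by
        rw [Submodule.mkQ_apply, (Submodule.Quotient.mk_eq_zero N).2 y.2, map_zero]
    rw [hk, Submodule.mem_bot] at h0
    exact LinearMap.congr_fun h0 x
  · refine Or.inl ((Submodule.eq_bot_iff N).2 fun x hx => by_contra fun hx0 => ?_)
    obtain ⟨φ, hφ⟩ := InjHullLib.exists_dual_ne_zero hf hx0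
    exact hφ (LinearMap.congr_fun (LinearMap.mem_ker.1 (hk ▸ Submodule.mem_top : φ ∈ LinearMap.ker _)) ⟨x, hx⟩)

end Local

variable {ι : Type} [AddCommGroup ι] [DecidableEq ι]
variable {R : Type u} [CommRing R] [IsNoetherianRing R]
variable {M : Type u} [AddCommGroup M] [Module R M]

section General

variable {σ : Type u} [SetLike σ R] [AddSubgroupClass σ R] {𝒜 : ι → σ} [GradedRing 𝒜]
  {m : HomogeneousIdeal 𝒜} [m.toIdeal.IsPrime]
  {τ : Type u} [SetLike τ M] [AddSubgroupClass τ M] {ℳ : ι → τ} [Decomposition ℳ] [SetLike.GradedSMul 𝒜 ℳ]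

variable (ℳ) in
include ℳ in
/-- Bounded injective dimension at the *maximal ideal bounds the Bass numbers at homogeneous primes. -/
theorem bassNum_eq_zero_of_starMax (hm : GrLC.IsStarLocal 𝒜 m) {n : ℕ}
    [HasInjectiveDimensionLT (ModuleCat.of (Localization.AtPrime m.toIdeal)
      (LocalizedModule m.toIdeal.primeCompl M)) (n + 1)]
    (c : HomogeneousIdeal 𝒜) [c.toIdeal.IsPrime] {i : ℕ} (hi : n < i) : GrLC.bassNum c.toIdeal M i = 0 := by
  obtain ⟨N, -, he⟩ := exists_bass_modules ℳ c i
  obtain ⟨e⟩ := he m.toIdeal.primeCompl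
  have hE : Subsingleton (Ext.{u} (ModuleCat.of (Localization.AtPrime m.toIdeal)
      (LocalizedModule m.toIdeal.primeCompl (R ⧸ c.toIdeal)))
      (ModuleCat.of (Localization.AtPrime m.toIdeal) (LocalizedModule m.toIdeal.primeCompl M)) i) :=
    HasInjectiveDimensionLT.subsingleton _ (n + 1) i hi _
  have : Subsingleton (LocalizedModule m.toIdeal.primeCompl N.carrier) := e.symm.toEquiv.subsingleton
  have hN : Subsingleton N.carrier := subsingleton_of_localized (M := N.carrier) N.gr hm
  obtain ⟨e'⟩ := he c.toIdeal.primeCompl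
  refine (bassNum_eq_zero_iff c.toIdeal M i).2 (@Equiv.subsingleton _ _ e'.toEquiv ?_)
  refine subsingleton_of_forall_eq 0 fun z => ?_
  induction z using LocalizedModule.induction_on with
  | h y s => rw [hN.elim y 0, LocalizedModule.zero_mk]

variable (ℳ) in
include ℳ in
/-- A module free of rank one at the *maximal ideal is a shift of the ring. -/
theorem exists_shift_equiv_of_localized [Module.Finite R M] (hm : GrLC.IsStarLocal 𝒜 m)
    (θ : LocalizedModule m.toIdeal.primeCompl M ≃ₗ[Localization.AtPrime m.toIdeal] Localization.AtPrime m.toIdeal) :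
    ∃ (a : ι) (f : R →ₗ[R] M), Function.Bijective f ∧ GrLC.IsGrHomDeg 𝒜 ℳ f a := by
  obtain ⟨⟨y, s⟩, hys⟩ : ∃ p : M × m.toIdeal.primeCompl, LocalizedModule.mk p.1 p.2 = θ.symm 1 := by
    generalize θ.symm 1 = z
    induction z using LocalizedModule.induction_on with
    | h y s => exact ⟨(y, s), rfl⟩
  have hy : IsUnit (θ (LocalizedModule.mk y 1)) := by
    have h1 : algebraMap R (Localization.AtPrime m.toIdeal) s • θ.symm 1 = LocalizedModule.mk y 1 := by
      rw [← hys, algebraMap_smul, LocalizedModule.smul'_mk, ← Submonoid.smul_def, LocalizedModule.mk_cancel]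
    rw [← h1, map_smul, LinearEquiv.apply_symm_apply, smul_eq_mul, mul_one]
    exact IsLocalization.map_units _ s
  obtain ⟨d, hd⟩ : ∃ d, IsUnit (θ (LocalizedModule.mk (proj ℳ d y) 1)) := by
    by_contra! hno
    refine (IsLocalRing.mem_maximalIdeal _).1 ?_ hy
    rw [← sum_proj ℳ y, ← LocalizedModule.mkLinearMap_apply, map_sum, map_sum]
    exact sum_mem fun d _ => (IsLocalRing.mem_maximalIdeal _).2 (hno d)
  let f : R →ₗ[R] M := LinearMap.toSpanSingleton R M (proj ℳ d y)
  have hf : GrLC.IsGrHomDeg 𝒜 ℳ f d := fun g r hr => smul_mem 𝒜 ℳ hr (proj_mem ℳ d y)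
  refine ⟨d, f, bijective_of_localized hm hf ?_, hf⟩
  let c : LocalizedModule m.toIdeal.primeCompl R ≃ₗ[Localization.AtPrime m.toIdeal]
      Localization.AtPrime m.toIdeal :=
    (IsLocalizedModule.iso m.toIdeal.primeCompl
      (Algebra.linearMap R (Localization.AtPrime m.toIdeal))).extendScalarsOfIsLocalization m.toIdeal.primeCompl _
  have key : ∀ z, θ (LocalizedModule.map m.toIdeal.primeCompl f z) =
      c z * θ (LocalizedModule.mk (proj ℳ d y) 1) := by
    intro z
    induction z using LocalizedModule.induction_on with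
    | h r t =>
      rw [show LocalizedModule.mk r t = (Localization.mk 1 t : Localization.AtPrime m.toIdeal) •
          LocalizedModule.mk r (1 : m.toIdeal.primeCompl) by rw [LocalizedModule.mk_smul_mk, one_smul, mul_one],
        map_smul, map_smul, map_smul, smul_eq_mul, smul_eq_mul, mul_assoc]
      congr 1
      rw [LocalizedModule.map_mk, show c (LocalizedModule.mk r 1) = algebraMap R (Localization.AtPrime m.toIdeal) r from
        IsLocalizedModule.iso_mk_one _ _ r, ← smul_eq_mul, ← map_smul, algebraMap_smul, LocalizedModule.smul'_mk]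
      rfl
  obtain ⟨u, hu⟩ := hd
  refine ⟨fun z w h => c.injective (u.isUnit.mul_left_injective ?_), fun w => ⟨c.symm (θ w * ↑u⁻¹), θ.injective ?_⟩⟩
  · simp only
    rw [hu, ← key, ← key, h]
  · rw [key, LinearEquiv.apply_symm_apply, ← hu, mul_assoc, Units.inv_mul, mul_one]

end General

variable {σ : Type u} [SetLike σ R] [AddSubgroupClass σ R] {𝒜 : ℤ → σ} [GradedRing 𝒜]
  {m : HomogeneousIdeal 𝒜}

theorem FieldCtx.ringKrullDim_localized (Γ : FieldCtx 𝒜 m) [m.toIdeal.IsPrime] {n : ℕ} (hn : ringKrullDim R = n) :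
    ringKrullDim (Localization.AtPrime m.toIdeal) = n := by
  rw [IsLocalization.AtPrime.ringKrullDim_eq_height m.toIdeal, ← ringKrullDim_eq_height Γ.pos Γ.starLocal, hn]

variable {τ : Type u} [SetLike τ M] [AddSubgroupClass τ M] {ℳ : ℤ → τ} [Decomposition ℳ] [SetLike.GradedSMul 𝒜 ℳ]

variable (ℳ) in
include ℳ in
/-- Bounded injective dimension at the *maximal ideal gives finite injective dimension. -/
theorem hasInjectiveDimensionLT_of_starMax [m.toIdeal.IsPrime] (hm : GrLC.IsStarLocal 𝒜 m) {n : ℕ}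
    [HasInjectiveDimensionLT (ModuleCat.of (Localization.AtPrime m.toIdeal)
      (LocalizedModule m.toIdeal.primeCompl M)) (n + 1)] :
    HasInjectiveDimensionLT (ModuleCat.of R M) (n + 2) := by
  refine hasInjectiveDimensionLT_of_bassNum (n + 1) fun P hP i hi => ?_
  have hcp := isPrime_core (𝒜 := 𝒜) P
  haveI : (P.homogeneousCore 𝒜).toIdeal.IsPrime := hcp
  have hP' := Ideal.isPrime_map_quotientMk_of_isPrime (core_le (𝒜 := 𝒜) P)
  obtain ⟨d, hd⟩ : ∃ d : ℕ, (P.map (Ideal.Quotient.mk (core 𝒜 P))).height = d :=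
    ⟨_, (ENat.natCast_toNat (Ideal.height_ne_top hP'.ne_top)).symm⟩
  have hd1 : d ≤ 1 := by
    have := height_map_core_le_one (𝒜 := 𝒜) P
    rw [hd] at this
    exact_mod_cast this
  obtain ⟨j, rfl⟩ : ∃ j, i = j + d := ⟨i - d, by omega⟩
  rw [(bassNum_eq ℳ P d hd).2 j]
  exact bassNum_eq_zero_of_starMax ℳ hm (n := n) (P.homogeneousCore 𝒜) (by omega)

section Canonical

variable [LocCoh.IsCohenMacaulayRing R] (Γ : FieldCtx 𝒜 m)
variable {E : Type u} [AddCommGroup E] [Module R E] {τ' : Type u} [SetLike τ' E] [AddSubgroupClass τ' E]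
  {𝓔 : ℤ → τ'} [Decomposition 𝓔] [SetLike.GradedSMul 𝒜 𝓔] {e : (R ⧸ m.toIdeal) →ₗ[R] E}
  (he : GrLC.IsStarInjHull 𝒜 (GrLC.quotGr 𝒜 m) 𝓔 e) {n : ℕ} (hn : ringKrullDim R = n)
  {I : GrLC.StarInjRes 𝒜 𝒜} (hC : GrLC.IsStarCanonical 𝒜 ℳ 𝓔 m n I)

include Γ he hn hC in
/-- Gorenstein iff the *canonical module is a shift of the ring. -/
theorem FieldCtx.gorenstein_iff_shift :
    LocCoh.IsGorensteinRing R ↔ ∃ (a : ℤ) (f : R →ₗ[R] M), Function.Bijective f ∧ GrLC.IsGrHomDeg 𝒜 ℳ f a := by
  haveI := (isMaximal_starMax Γ.pos Γ.starLocal.1).isPrime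
  haveI := hC.1
  let A := Localization.AtPrime m.toIdeal
  haveI := LocCoh.IsCohenMacaulayRing.isCohenMacaulayLocalRing_localization (R := R) m.toIdeal
  obtain ⟨g, hg⟩ := exists_isInjectiveHull_localized he
  obtain ⟨eK⟩ := nonempty_canonical_localized he hC hg
  have hiff := S7701.result A n (Γ.ringKrullDim_localized hn) _ g hg (LocalizedModule m.toIdeal.primeCompl M) eK
  constructor
  · intro h
    obtain ⟨θ⟩ := hiff.1 (h.isGorensteinLocalRing_localization m.toIdeal)
    exact exists_shift_equiv_of_localized ℳ Γ.starLocal θ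
  · rintro ⟨a, f, hf, -⟩
    haveI : LocCoh.IsGorensteinLocalRing A := hiff.2 ⟨(LinearEquiv.ofBijective (LocalizedModule.map m.toIdeal.primeCompl f)
      ⟨LocalizedModule.map_injective _ _ hf.1, LocalizedModule.map_surjective _ _ hf.2⟩).symm.trans
        ((IsLocalizedModule.iso m.toIdeal.primeCompl
          (Algebra.linearMap R A)).extendScalarsOfIsLocalization m.toIdeal.primeCompl A)⟩
    exact isGorensteinRing_of_starMax Γ.starLocal

include Γ he hn hC in
theorem FieldCtx.canonical_cm_injDim [m.toIdeal.IsPrime] :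
    LocCoh.IsCohenMacaulayModule (Localization.AtPrime m.toIdeal) (LocalizedModule m.toIdeal.primeCompl M) ∧
      Module.supportDim (Localization.AtPrime m.toIdeal) (LocalizedModule m.toIdeal.primeCompl M) = n ∧
      HasInjectiveDimensionLT (ModuleCat.of R M) (n + 2) := by
  haveI := hC.1
  haveI := LocCoh.IsCohenMacaulayRing.isCohenMacaulayLocalRing_localization (R := R) m.toIdeal
  obtain ⟨g, hg⟩ := exists_isInjectiveHull_localized he
  obtain ⟨eK⟩ := nonempty_canonical_localized he hC hg
  obtain ⟨h1, -, h2, h3⟩ := S7700.result _ n (Γ.ringKrullDim_localized hn) _ g hg _ eK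
  haveI := h1
  exact ⟨h2, h3, hasInjectiveDimensionLT_of_starMax ℳ Γ.starLocal⟩

include Γ he hn hC in
theorem FieldCtx.bassNum_canonical [m.toIdeal.IsPrime] : GrLC.bassNum m.toIdeal M n = 1 := by
  haveI := hC.1
  haveI := LocCoh.IsCohenMacaulayRing.isCohenMacaulayLocalRing_localization (R := R) m.toIdeal
  obtain ⟨g, hg⟩ := exists_isInjectiveHull_localized he
  obtain ⟨eK⟩ := nonempty_canonical_localized he hC hg
  let A := Localization.AtPrime m.toIdeal
  obtain ⟨D⟩ := CanonModLib.dualityData hg (CanonModLib.dualPair_self (Γ.ringKrullDim_localized hn) eK)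
  obtain ⟨e'⟩ := D.duality n (IsLocalRing.ResidueField A) le_rfl
  rw [Nat.sub_self] at e'
  have hk : LocCoh.IsPowerTorsion (IsLocalRing.maximalIdeal A) (IsLocalRing.ResidueField A) :=
    fun x => ⟨1, fun a ha => InjHullLib.residue_smul_eq_zero (by rwa [pow_one] at ha) x⟩
  let ψ : LocCoh.H (IsLocalRing.maximalIdeal A) 0 (IsLocalRing.ResidueField A) ≃ₗ[A] IsLocalRing.ResidueField A :=
    LinearEquiv.ofBijective (LocCohLib.zeroMap (IsLocalRing.maximalIdeal A) (IsLocalRing.ResidueField A))
      (LocCohLib.zeroMap_bijective _ hk)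
  refine length_eq_one_of_dual hg ?_
  rw [(e'.trans ψ).length_eq]
  exact Module.length_eq_one_iff.2 (isSimpleModule_iff_quot_maximal.2
    ⟨_, IsLocalRing.maximalIdeal.isMaximal A, ⟨LinearEquiv.refl A _⟩⟩)

end Canonical

end Groth.Agent.GrLC21
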