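import Groth.Agent.Lib.Depth.More
import Groth.Agent.Lib.Depth.CM

/-!
# Elements killed by a power of the maximal ideal and depth
-/

universe u

open IsLocalRing

noncomputable section

set_option linter.unusedSectionVars false
set_option backward.isDefEq.respectTransparency false

namespace Groth.Agent.GrLC21

variable {A : Type u} [CommRing A] [IsLocalRing A] [IsNoetherianRing A]
variable {M : Type u} [AddCommGroup M] [Module A M] [Module.Finite A M]

/-- In positive depth nothing nonzero is killed by a power of the maximal ideal. -/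
theorem eq_zero_of_pow_killed (h : 1 ≤ LocCoh.depth A M) {k : ℕ} {z : M}
    (hz : ∀ r ∈ maximalIdeal A ^ k, r • z = 0) : z = 0 := by
  rcases subsingleton_or_nontrivial M with hM | hM
  · exact Subsingleton.elim _ _
  obtain ⟨x, hx, hreg⟩ := DepthLib.exists_isSMulRegular_of_one_le_idealDepth
    (DepthLib.smul_top_ne_top (maximalIdeal.isMaximal A).ne_top) h
  exact (hreg.pow k) (by simpa using hz (x ^ k) (Ideal.pow_mem_pow hx k))

/-- In depth two of the ring and depth one of the module, the image of an injective map out of the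
ring is saturated with respect to the powers of the maximal ideal. -/
theorem exists_smul_eq_of_pow_killed (h2 : 2 ≤ LocCoh.depth A A) (h1 : 1 ≤ LocCoh.depth A M) {y c : M}
    (hy : ∀ r : A, r • y = 0 → r = 0) {k : ℕ} (hc : ∀ r ∈ maximalIdeal A ^ k, ∃ t : A, r • c = t • y) :
    ∃ t : A, c = t • y := by
  obtain ⟨z, hz, hzreg⟩ := DepthLib.exists_isSMulRegular_of_one_le_idealDepth (R := A) (M := A)
    (DepthLib.smul_top_ne_top (maximalIdeal.isMaximal A).ne_top) (le_trans one_le_two h2)
  have hx : z ^ (k + 1) ∈ maximalIdeal A := Ideal.pow_mem_of_mem _ hz _ k.succ_pos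
  have hxreg : IsSMulRegular A (z ^ (k + 1)) := hzreg.pow _
  have hxk : z ^ (k + 1) ∈ maximalIdeal A ^ k :=
    Ideal.pow_le_pow_right k.le_succ (Ideal.pow_mem_pow hz (k + 1))
  have hq : 1 ≤ LocCoh.depth A (QuotSMulTop (z ^ (k + 1)) A) :=
    (DepthLib.natCast_le_idealDepth_quotSMulTop_iff hx hxreg 1).2 (by exact_mod_cast h2)
  obtain ⟨r, hr⟩ := hc _ hxk
  have hr0 : (Submodule.Quotient.mk r : QuotSMulTop (z ^ (k + 1)) A) = 0 := by
    refine eq_zero_of_pow_killed hq (k := k) fun u hu => ?_
    obtain ⟨s, hs⟩ := hc u hu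
    rw [← Submodule.Quotient.mk_smul, Submodule.Quotient.mk_eq_zero]
    have h0 : (u * r - z ^ (k + 1) * s) • y = 0 := by
      rw [sub_smul, mul_smul, mul_smul, ← hr, ← hs, smul_comm, sub_self]
    rw [smul_eq_mul, sub_eq_zero.1 (hy _ h0)]
    exact Submodule.smul_mem_pointwise_smul s (z ^ (k + 1)) ⊤ trivial
  rw [Submodule.Quotient.mk_eq_zero, Submodule.mem_smul_pointwise_iff_exists] at hr0
  obtain ⟨t, -, ht⟩ := hr0
  refine ⟨t, sub_eq_zero.1 ?_⟩
  have hx0 : z ^ (k + 1) • (c - t • y) = 0 := by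
    rw [smul_sub, hr, ← ht, ← mul_smul, sub_eq_zero]; rfl
  refine eq_zero_of_pow_killed h1 (k := k) fun u hu => ?_
  obtain ⟨s, hs⟩ := hc u hu
  have hu' : u • (c - t • y) = (s - u * t) • y := by rw [smul_sub, hs, sub_smul, mul_smul]
  have h3 : (z ^ (k + 1) * (s - u * t)) • y = 0 := by rw [mul_smul, ← hu', smul_comm, hx0, smul_zero]
  rw [hu', hxreg (show z ^ (k + 1) • (s - u * t) = z ^ (k + 1) • (0 : A) by
    rw [smul_eq_mul, hy _ h3, smul_zero]), zero_smul]

end Groth.Agent.GrLC21
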