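import Groth.Agent.Lib.GrLC21.DepthVan
import Groth.Agent.Lib.GrLC21.GradedDim
import Groth.Agent.Lib.LocCoh.Dim

/-!
# Cohen-Macaulay *local rings
-/

universe u

open DirectSum

noncomputable section

set_option linter.unusedSectionVars false
set_option backward.isDefEq.respectTransparency false

namespace Groth.Agent.GrLC21

section Radical

variable {ι : Type} [AddCommGroup ι] [DecidableEq ι]
variable {R : Type u} [CommRing R] [IsNoetherianRing R] {σ : Type u} [SetLike σ R] [AddSubgroupClass σ R]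
  {𝒜 : ι → σ} [GradedRing 𝒜]

theorem gam_eq_of_radical {a b : Ideal R} (hab : a ≤ b.radical) (hba : b ≤ a.radical) (X : Type u)
    [AddCommGroup X] [Module R X] : GrLC.gam a X = GrLC.gam b X := by
  have key : ∀ {a b : Ideal R}, b ≤ a.radical → ∀ x, x ∈ GrLC.gam a X → x ∈ GrLC.gam b X := by
    intro a b h x hx
    obtain ⟨n, hn⟩ := hx
    obtain ⟨k, hk⟩ := Ideal.exists_pow_le_of_le_radical_of_fg h (IsNoetherian.noetherian b)
    exact ⟨k * n, fun r hr => hn r (by rw [pow_mul] at hr; exact Ideal.pow_right_mono hk n hr)⟩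
  exact le_antisymm (key hba) (key hab)

theorem van_iff_of_radical {a b : HomogeneousIdeal 𝒜} (hab : a.toIdeal ≤ b.toIdeal.radical)
    (hba : b.toIdeal ≤ a.toIdeal.radical) {i : ℕ} {g : ι} {X : GrLC.GMod.{u} 𝒜} :
    Van a i g X ↔ Van b i g X := by
  obtain ⟨E⟩ := nonempty_res (𝒜 := 𝒜) X.gr
  have key : ∀ c : HomogeneousIdeal 𝒜, E.Hcomp c i g = ⊥ ↔
      ∀ z ∈ (E.X i).gr g, z ∈ E.cocyc c i → z ∈ E.cobdy c i := fun c => by
    rw [Hcomp_eq_bot_iff]
    refine ⟨fun h z hz hzc => ?_, ?_⟩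
    · have := h _ ⟨⟨z, hzc⟩, hz, rfl⟩
      exact (Submodule.Quotient.mk_eq_zero ((E.cobdy c i).comap (E.cocyc c i).subtype)).1 this
    · rintro h _ ⟨z, hz, rfl⟩
      exact (Submodule.Quotient.mk_eq_zero ((E.cobdy c i).comap (E.cocyc c i).subtype)).2 (h z hz z.2)
  have hcoc : E.cocyc a i = E.cocyc b i := congrArg (· ⊓ LinearMap.ker (E.d i)) (gam_eq_of_radical hab hba _)
  have hcob : ∀ j, E.cobdy a j = E.cobdy b j
    | 0 => rfl
    | j + 1 => congrArg (Submodule.map (E.d j)) (gam_eq_of_radical hab hba _)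
  rw [Van.iff_of_res E, Van.iff_of_res E, key, key, hcoc, hcob]

end Radical

variable {R : Type u} [CommRing R] {σ : Type u} [SetLike σ R] [AddSubgroupClass σ R]
  {𝒜 : ℤ → σ} [GradedRing 𝒜]

theorem le_idealDepth_starMax [LocCoh.IsCohenMacaulayRing R] (hpos : ∀ n : ℤ, n < 0 → ∀ r ∈ 𝒜 n, r = 0)
    {m : HomogeneousIdeal 𝒜} (hm : GrLC.IsStarLocal 𝒜 m) {d : ℕ} (hd : ringKrullDim R = d) :
    (d : ℕ∞) ≤ LocCoh.idealDepth m.toIdeal R := by
  have := isMaximal_starMax hpos hm.1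
  rw [DepthLib.natCast_le_idealDepth_iff_forall_localized d]
  intro p hp
  obtain rfl : p = ⟨m.toIdeal, this.isPrime⟩ :=
    PrimeSpectrum.ext (this.eq_of_le p.isPrime.ne_top hp).symm
  have hcm := LocCoh.IsCohenMacaulayRing.isCohenMacaulayLocalRing_localization (R := R) m.toIdeal
  rw [DepthLib.depth_localizedModule_self]
  have h := hcm.supportDim_eq_depth
  rw [Module.supportDim_self_eq_ringKrullDim, IsLocalization.AtPrime.ringKrullDim_eq_height m.toIdeal,
    ← ringKrullDim_eq_height hpos hm, hd] at h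
  exact le_of_eq (WithBot.coe_injective h)

/-- The graded local cohomology of a Cohen-Macaulay *local ring is concentrated in the top degree. -/
theorem van_self_of_ne [LocCoh.IsCohenMacaulayRing R] (hpos : ∀ n : ℤ, n < 0 → ∀ r ∈ 𝒜 n, r = 0)
    {m : HomogeneousIdeal 𝒜} (hm : GrLC.IsStarLocal 𝒜 m) {d : ℕ} (hd : ringKrullDim R = d) {i : ℕ}
    (hi : i ≠ d) (g : ℤ) : Van m i g (toGMod 𝒜 𝒜) := by
  rcases lt_or_gt_of_ne hi with h | h
  · exact (natCast_le_idealDepth_iff_van (a := m) (ℳ := 𝒜) d).1 (le_idealDepth_starMax hpos hm hd) i h g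
  · exact (subsingleton_H_iff_van (a := m) (ℳ := 𝒜) i).1 (LocCohLib.subsingleton_of_supportDim_lt _ R i
      (by rw [Module.supportDim_self_eq_ringKrullDim, hd]; exact_mod_cast h)) g

end Groth.Agent.GrLC21
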