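import Groth.Agent.Lib.GrLC21.Van

/-!
# Ends of graded local cohomology
-/

universe u

open DirectSum

noncomputable section

set_option linter.unusedSectionVars false
set_option backward.isDefEq.respectTransparency false

namespace Groth.Agent.GrLC21

variable {R : Type u} [CommRing R] {σ : Type u} [SetLike σ R] [AddSubgroupClass σ R]
  {𝒜 : ℤ → σ} [GradedRing 𝒜] {a : HomogeneousIdeal 𝒜}
variable {M : Type u} [AddCommGroup M] [Module R M] {τ : Type u} [SetLike τ M] [AddSubgroupClass τ M]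
  {ℳ : ℤ → τ} [Decomposition ℳ] [SetLike.GradedSMul 𝒜 ℳ]

theorem endDeg_add_le_iff_van (E : GrLC.StarInjRes 𝒜 ℳ) (i : ℕ) (D : ℤ) :
    GrLC.endDeg (E.Hgr a i) + (((i : ℤ) : WithTop ℤ) : WithBot (WithTop ℤ)) ≤ ((D : WithTop ℤ) : WithBot (WithTop ℤ)) ↔
      ∀ g : ℤ, D < g + i → Van a i g (toGMod 𝒜 ℳ) := by
  have key : ∀ y : WithBot (WithTop ℤ), y + (((i : ℤ) : WithTop ℤ) : WithBot (WithTop ℤ)) ≤ ((D : WithTop ℤ) : WithBot (WithTop ℤ)) ↔
      y ≤ (((D - i : ℤ) : WithTop ℤ) : WithBot (WithTop ℤ)) := fun y => by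
    cases y with
    | bot => simp
    | coe y =>
      cases y with
      | top =>
        rw [← WithBot.coe_add, WithBot.coe_le_coe, WithBot.coe_le_coe]
        simp
      | coe a =>
        rw [← WithBot.coe_add, ← WithTop.coe_add, WithBot.coe_le_coe, WithBot.coe_le_coe, WithTop.coe_le_coe,
          WithTop.coe_le_coe]
        omega
  rw [key, GrLC.endDeg, iSup₂_le_iff]
  refine forall_congr' fun g => ?_
  rw [WithBot.coe_le_coe, WithTop.coe_le_coe, ← Hcomp_eq_bot_iff_van E, ← Hgr_eq_bot_iff]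
  constructor
  · intro h hg
    by_contra hne
    have := h hne
    omega
  · intro h hne
    by_contra hlt
    exact hne (h (by omega))

theorem endDeg_le_iff_van (E : GrLC.StarInjRes 𝒜 ℳ) (i : ℕ) (D : ℤ) :
    GrLC.endDeg (E.Hgr a i) ≤ ((D : WithTop ℤ) : WithBot (WithTop ℤ)) ↔
      ∀ g : ℤ, D < g → Van a i g (toGMod 𝒜 ℳ) := by
  rw [GrLC.endDeg, iSup₂_le_iff]
  refine forall_congr' fun g => ?_
  rw [WithBot.coe_le_coe, WithTop.coe_le_coe, ← Hcomp_eq_bot_iff_van E, ← Hgr_eq_bot_iff]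
  constructor
  · intro h hg
    by_contra hne
    have := h hne
    omega
  · intro h hne
    by_contra hlt
    exact hne (h (by omega))

theorem iSup_endDeg_add_le_iff (E : GrLC.StarInjRes 𝒜 ℳ) (D : ℤ) :
    (⨆ i : ℕ, GrLC.endDeg (E.Hgr a i) + (((i : ℤ) : WithTop ℤ) : WithBot (WithTop ℤ))) ≤
        ((D : WithTop ℤ) : WithBot (WithTop ℤ)) ↔
      ∀ (i : ℕ) (g : ℤ), D < g + i → Van a i g (toGMod 𝒜 ℳ) := by
  rw [iSup_le_iff]
  exact forall_congr' fun i => endDeg_add_le_iff_van E i D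

/-- A finite module over a non-negatively graded ring has no pieces in very negative degrees. -/
theorem exists_lower_bound (hpos : ∀ n : ℤ, n < 0 → ∀ r ∈ 𝒜 n, r = 0) [Module.Finite R M] :
    ∃ b : ℤ, ∀ n, n < b → ∀ x ∈ ℳ n, x = 0 := by
  classical
  obtain ⟨s, hs⟩ := (Module.Finite.fg_top : (⊤ : Submodule R M).FG)
  let t : Finset ℤ := s.biUnion fun x => degs ℳ x
  obtain ⟨b, hb⟩ := (t : Finset ℤ).finite_toSet.bddBelow
  refine ⟨b, fun n hn x hx => ?_⟩
  let P : Submodule R M :=
    { carrier := {y | ∀ m, m < b → proj ℳ m y = 0}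
      zero_mem' := fun m _ => map_zero _
      add_mem' := fun hy hz m hm => by rw [map_add, hy m hm, hz m hm, add_zero]
      smul_mem' := fun r y hy m hm => by
        refine spans_induction (spans_of_decomposition 𝒜) r ?_ ?_ ?_
        · rw [zero_smul, map_zero]
        · intro u v hu hv
          rw [add_smul, map_add, hu, hv, add_zero]
        · intro e u hu
          rw [proj_smul 𝒜 ℳ hu m y]
          rcases lt_or_ge e 0 with he | he
          · rw [hpos e he u hu, zero_smul]
          · rw [hy (m - e) (by omega), smul_zero] }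
  have hP : (⊤ : Submodule R M) ≤ P := by
    rw [← hs, Submodule.span_le]
    intro y hy m hm
    by_contra hne
    have : m ∈ t := Finset.mem_biUnion.2 ⟨y, hy, (mem_degs ℳ).2 hne⟩
    exact absurd (hb this) (by omega)
  have := hP (Submodule.mem_top : x ∈ ⊤) n hn
  rwa [proj_of_mem ℳ hx] at this

end Groth.Agent.GrLC21
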