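import Groth.Agent.Lib.GrLC21.Van

/-!
# Koszul complexes and the propagation of vanishing along diagonals
-/

universe u

open DirectSum

noncomputable section

set_option linter.unusedSectionVars false

namespace Groth.Agent.GrLC21

variable {R : Type u} [CommRing R] {σ : Type u} [SetLike σ R] [AddSubgroupClass σ R]
  {𝒜 : ℤ → σ} [GradedRing 𝒜]

/-- A complex with the properties of the Koszul complex on elements of degree one. -/
structure KCx (a : HomogeneousIdeal 𝒜) (s : List R) (M : GrLC.GMod.{u} 𝒜) : Type (u + 1) where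
  /-- the terms -/
  C : ℕ → GrLC.GMod.{u} 𝒜
  /-- the differentials -/
  d : ∀ p, (C (p + 1)).carrier →ₗ[R] (C p).carrier
  d_grHom : ∀ p, GrLC.IsGrHom (C (p + 1)).gr (C p).gr (d p)
  d_d : ∀ p c, d p (d (p + 1) c) = 0
  homotopy : ∀ x ∈ s, ∃ h : ∀ p, (C p).carrier →ₗ[R] (C (p + 1)).carrier,
    (∀ c, d 0 (h 0 c) = x • c) ∧ ∀ p c, d (p + 1) (h (p + 1) c) + h p (d p c) = x • c
  van : ∀ (p i : ℕ) (g : ℤ), Van a i (g - (p : ℤ)) M → Van a i g (C p)
  vanish : ∀ p : ℕ, s.length < p → Subsingleton (C p).carrier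
  van_zero : ∀ (i : ℕ) (g : ℤ), Van a i g (C 0) → Van a i g M
  zero_equiv : M.carrier ≃ₗ[R] (C 0).carrier
  zero_grHom : GrLC.IsGrHom M.gr (C 0).gr zero_equiv.toLinearMap
  d_zero_mem : ∀ c, d 0 c ∈ Ideal.span {x | x ∈ s} • (⊤ : Submodule R (C 0).carrier)

variable {a : HomogeneousIdeal 𝒜} {M : GrLC.GMod.{u} 𝒜}

theorem Van.congr {i : ℕ} {g g' : ℤ} (h : Van a i g M) (e : g = g') : Van a i g' M := e ▸ h

namespace KCx

/-- The complex on no element. -/
def nilC (M : GrLC.GMod.{u} 𝒜) : ℕ → GrLC.GMod.{u} 𝒜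
  | 0 => M
  | _ + 1 => sub M ⊥ (isHomogeneous_bot _)

theorem nil : Nonempty (KCx a [] M) := ⟨{
  C := nilC M
  d := fun _ => 0
  d_grHom := fun _ _ _ _ => zero_mem _
  d_d := fun _ _ => rfl
  homotopy := fun x hx => by simp at hx
  van := fun p i g h => by
    rcases p with _ | p
    · simpa [nilC] using h
    · have : Subsingleton (nilC M (p + 1)).carrier := Unique.instSubsingleton (α := (⊥ : Submodule R M.carrier))
      exact van_of_subsingleton i g
  vanish := fun p hp => by
    rcases p with _ | p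
    · simp at hp
    · exact Unique.instSubsingleton (α := (⊥ : Submodule R M.carrier))
  van_zero := fun _ _ h => h
  zero_equiv := LinearEquiv.refl R M.carrier
  zero_grHom := fun _ _ h => h
  d_zero_mem := fun _ => Submodule.zero_mem _ }⟩

variable {s : List R} (K : KCx a s M)

/-- The terms of the cone. -/
def coneC : ℕ → GrLC.GMod.{u} 𝒜
  | 0 => K.C 0
  | p + 1 => GrLC21.prod (shift (K.C p) 1) (K.C (p + 1))

/-- The differentials of the cone. -/
def coneD (x : R) : ∀ p, (K.coneC (p + 1)).carrier →ₗ[R] (K.coneC p).carrier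
  | 0 => (x • LinearMap.fst R (K.C 0).carrier (K.C 1).carrier) + K.d 0 ∘ₗ LinearMap.snd R (K.C 0).carrier (K.C 1).carrier
  | p + 1 => LinearMap.prod (-(K.d p ∘ₗ LinearMap.fst R (K.C (p + 1)).carrier (K.C (p + 2)).carrier))
      ((x • LinearMap.fst R (K.C (p + 1)).carrier (K.C (p + 2)).carrier) +
        K.d (p + 1) ∘ₗ LinearMap.snd R (K.C (p + 1)).carrier (K.C (p + 2)).carrier)

theorem coneD_grHom {x : R} (hx : x ∈ 𝒜 1) :
    ∀ p, GrLC.IsGrHom (K.coneC (p + 1)).gr (K.coneC p).gr (K.coneD x p)
  | 0 => fun g m hm => by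
    have h1 := smul_mem 𝒜 (K.C 0).gr hx (hm.1 : (m : (K.C 0).carrier × (K.C 1).carrier).1 ∈ (K.C 0).gr (g - 1))
    rw [add_sub_cancel] at h1
    exact add_mem h1 (K.d_grHom 0 g _ hm.2)
  | p + 1 => fun g m hm => by
    have h1 := smul_mem 𝒜 (K.C (p + 1)).gr hx
      (hm.1 : (m : (K.C (p + 1)).carrier × (K.C (p + 2)).carrier).1 ∈ (K.C (p + 1)).gr (g - 1))
    rw [add_sub_cancel] at h1
    exact ⟨((K.C p).gr (g - 1)).neg_mem (K.d_grHom p (g - 1) _ hm.1), add_mem h1 (K.d_grHom (p + 1) g _ hm.2)⟩

theorem coneD_coneD (x : R) : ∀ p c, K.coneD x p (K.coneD x (p + 1) c) = 0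
  | 0, c => by
    change (K.C 1).carrier × (K.C 2).carrier at c
    obtain ⟨u, v⟩ := c
    show x • (-K.d 0 u) + K.d 0 (x • u + K.d 1 v) = 0
    rw [map_add, map_smul, K.d_d, add_zero, smul_neg, neg_add_cancel]
  | p + 1, c => by
    change (K.C (p + 2)).carrier × (K.C (p + 3)).carrier at c
    obtain ⟨u, v⟩ := c
    show ((-K.d p (-K.d (p + 1) u), x • (-K.d (p + 1) u) + K.d (p + 1) (x • u + K.d (p + 2) v)) :
      (K.C p).carrier × (K.C (p + 1)).carrier) = 0
    rw [map_neg, K.d_d, neg_zero, neg_zero, map_add, map_smul, K.d_d, add_zero, smul_neg, neg_add_cancel]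
    rfl

include K in
theorem cone_nonempty {x : R} (hx : x ∈ 𝒜 1) : Nonempty (KCx a (x :: s) M) := ⟨{
  C := K.coneC
  d := K.coneD x
  d_grHom := K.coneD_grHom hx
  d_d := K.coneD_coneD x
  homotopy := fun y hy => by
    rcases List.mem_cons.1 hy with rfl | hy
    · refine ⟨fun p => match p with
        | 0 => LinearMap.inl R (K.C 0).carrier (K.C 1).carrier
        | q + 1 => LinearMap.inl R (K.C (q + 1)).carrier (K.C (q + 2)).carrier ∘ₗ
            LinearMap.snd R (K.C q).carrier (K.C (q + 1)).carrier, ?_, ?_⟩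
      · intro c
        change (K.C 0).carrier at c
        show @Eq (K.C 0).carrier (y • c + K.d 0 0) (y • c)
        rw [map_zero, add_zero]
      · intro p c
        change (K.C p).carrier × (K.C (p + 1)).carrier at c
        obtain ⟨u, v⟩ := c
        rcases p with _ | q
        · refine Prod.ext ?_ ?_
          · show @Eq (K.C 0).carrier (-K.d 0 v + (y • u + K.d 0 v)) (y • u)
            abel
          · show @Eq (K.C 1).carrier (y • v + K.d 1 0 + 0) (y • v)
            rw [map_zero, add_zero, add_zero]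
        · refine Prod.ext ?_ ?_
          · show @Eq (K.C (q + 1)).carrier (-K.d (q + 1) v + (y • u + K.d (q + 1) v)) (y • u)
            abel
          · show @Eq (K.C (q + 2)).carrier (y • v + K.d (q + 2) 0 + 0) (y • v)
            rw [map_zero, add_zero, add_zero]
    · obtain ⟨h, h0, hs⟩ := K.homotopy y hy
      refine ⟨fun p => match p with
        | 0 => LinearMap.inr R (K.C 0).carrier (K.C 1).carrier ∘ₗ h 0
        | q + 1 => LinearMap.prod (-(h q ∘ₗ LinearMap.fst R (K.C q).carrier (K.C (q + 1)).carrier))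
            (h (q + 1) ∘ₗ LinearMap.snd R (K.C q).carrier (K.C (q + 1)).carrier), ?_, ?_⟩
      · intro c
        change (K.C 0).carrier at c
        show @Eq (K.C 0).carrier (x • (0 : (K.C 0).carrier) + K.d 0 (h 0 c)) (y • c)
        rw [smul_zero, zero_add]
        exact h0 c
      · intro p c
        change (K.C p).carrier × (K.C (p + 1)).carrier at c
        obtain ⟨u, v⟩ := c
        rcases p with _ | q
        · refine Prod.ext ?_ ?_
          · show @Eq (K.C 0).carrier (-K.d 0 (-h 0 u) + 0) (y • u)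
            rw [map_neg, neg_neg, add_zero, h0]
          · show @Eq (K.C 1).carrier (x • (-h 0 u) + K.d 1 (h 1 v) + h 0 (x • u + K.d 0 v)) (y • v)
            rw [← hs 0 v, map_add, map_smul, smul_neg]
            abel
        · refine Prod.ext ?_ ?_
          · show @Eq (K.C (q + 1)).carrier (-K.d (q + 1) (-h (q + 1) u) + -h q (-K.d q u)) (y • u)
            rw [map_neg, map_neg, neg_neg, neg_neg, hs q u]
          · show @Eq (K.C (q + 2)).carrier
              (x • (-h (q + 1) u) + K.d (q + 2) (h (q + 2) v) + h (q + 1) (x • u + K.d (q + 1) v)) (y • v)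
            rw [← hs (q + 1) v, map_add, map_smul, smul_neg]
            abel
  van := fun p i g h => by
    rcases p with _ | q
    · exact K.van 0 i g h
    · refine Van.prod ((van_shift_iff 1).2 (K.van q i (g - 1) ?_)) (K.van (q + 1) i g h)
      exact Van.congr h (by push_cast; ring)
  vanish := fun p hp => by
    rcases p with _ | q
    · simp at hp
    · have := K.vanish q (by simp at hp; omega)
      have := K.vanish (q + 1) (by simp at hp; omega)
      exact (inferInstance : Subsingleton ((K.C q).carrier × (K.C (q + 1)).carrier))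
  van_zero := K.van_zero
  zero_equiv := K.zero_equiv
  zero_grHom := K.zero_grHom
  d_zero_mem := fun c => by
    change (K.C 0).carrier × (K.C 1).carrier at c
    show x • c.1 + K.d 0 c.2 ∈ Ideal.span {y | y ∈ x :: s} • (⊤ : Submodule R (K.C 0).carrier)
    refine add_mem (Submodule.smul_mem_smul (Ideal.subset_span List.mem_cons_self) Submodule.mem_top) ?_
    exact Submodule.smul_mono_left (Ideal.span_mono fun y hy => List.mem_cons_of_mem x hy) (K.d_zero_mem c.2) }⟩

end KCx

theorem nonempty_kcx : ∀ s : List R, (∀ x ∈ s, x ∈ 𝒜 1) → Nonempty (KCx a s M)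
  | [], _ => KCx.nil
  | x :: s, h => by
    obtain ⟨K⟩ := nonempty_kcx s fun y hy => h y (List.mem_cons_of_mem x hy)
    exact K.cone_nonempty (h x List.mem_cons_self)

/-- Vanishing on one diagonal gives vanishing on the next one. -/
theorem van_next_diagonal [IsNoetherianRing R] {s : List R} (hs : ∀ x ∈ s, x ∈ 𝒜 1)
    (ha : a.toIdeal = Ideal.span {x | x ∈ s}) (r : ℤ) (l : ℕ) (hl : 1 ≤ l)
    (h : ∀ i, l ≤ i → Van a i (r + 1 - i) M) : ∀ i, l ≤ i → Van a i (r + 2 - i) M := by
  intro i hi
  obtain ⟨K⟩ := nonempty_kcx (a := a) (M := M) s hs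
  let u : ℤ := r + 2 - i
  have hd : ∀ p, (LinearMap.range (K.d p)).IsHomogeneous (K.C p).gr := fun p =>
    isHomogeneous_range (spans_of_decomposition _) (K.d_grHom p)
  have main : ∀ n p, s.length ≤ p + n → Van a (i + p) u (sub (K.C p) (LinearMap.range (K.d p)) (hd p)) := by
    intro n
    induction n with
    | zero =>
      intro p hp
      have := K.vanish (p + 1) (by omega)
      have : Subsingleton (sub (K.C p) (LinearMap.range (K.d p)) (hd p)).carrier :=
        (K.d p).surjective_rangeRestrict.subsingleton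
      exact van_of_subsingleton _ _
    | succ n ih =>
      intro p hp
      refine Van.right (kerSeq (K.d_grHom p)) (K.van (p + 1) (i + p) u ?_) ?_
      · have := h (i + p) (by omega)
        exact Van.congr this (by simp only [u]; push_cast; ring)
      · refine Van.of_le_of_torsion (hd (p + 1)) (isHomogeneous_ker (K.d_grHom p)) ?_ ?_ (ih (p + 1) (by omega))
        · rintro _ ⟨c, rfl⟩
          exact K.d_d p c
        · intro r hr q hq
          have hle : a.toIdeal ≤ Submodule.colon (LinearMap.range (K.d (p + 1))) {q} := by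
            rw [ha, Ideal.span_le]
            intro x hx
            obtain ⟨h', -, hh'⟩ := K.homotopy x hx
            refine Submodule.mem_colon_singleton.2 ⟨h' (p + 1) q, ?_⟩
            rw [← hh' p q, LinearMap.mem_ker.1 hq, map_zero, add_zero]
          exact Submodule.mem_colon_singleton.1 (hle hr)
  obtain ⟨j, rfl⟩ : ∃ j, i = j + 1 := ⟨i - 1, by omega⟩
  refine K.van_zero _ _ (Van.of_equiv (Submodule.topEquiv) (fun _ _ hx => hx)
    (Van.of_le_of_torsion (hd 0) (isHomogeneous_top _) le_top ?_ (main s.length 0 (by omega))))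
  intro r hr q _
  have hle : a.toIdeal ≤ Submodule.colon (LinearMap.range (K.d 0)) {q} := by
    rw [ha, Ideal.span_le]
    intro x hx
    obtain ⟨h', hh', -⟩ := K.homotopy x hx
    exact Submodule.mem_colon_singleton.2 ⟨h' 0 q, hh' q⟩
  exact Submodule.mem_colon_singleton.1 (hle hr)

/-- Regularity propagates. -/
theorem van_of_diagonal [IsNoetherianRing R] (hhom : a.toIdeal = Ideal.span (𝒜 1 : Set R))
    (r : ℤ) (l : ℕ) (hl : 1 ≤ l) (h : ∀ i, l ≤ i → Van a i (r + 1 - i) M) :
    ∀ n : ℕ, ∀ i, l ≤ i → Van a i (r + 1 + n - i) M := by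
  obtain ⟨t, ht, hspan⟩ := Submodule.fg_span_iff_fg_span_finset_subset (𝒜 1 : Set R) |>.1
    (hhom ▸ IsNoetherian.noetherian a.toIdeal)
  have ha : a.toIdeal = Ideal.span {x | x ∈ t.toList} := by
    rw [hhom]
    simpa [Finset.mem_toList] using hspan
  intro n
  induction n with
  | zero => exact fun i hi => Van.congr (h i hi) (by simp)
  | succ n ih =>
    intro i hi
    have := van_next_diagonal (fun x hx => ht (Finset.mem_toList.1 hx)) ha (r + n) l hl
      (fun j hj => Van.congr (ih j hj) (by ring)) i hi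
    exact Van.congr this (by push_cast; ring)

end Groth.Agent.GrLC21
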