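import Groth.Agent.Lib.GrLC21.Van
import Groth.Agent.Lib.GrLC21.Koszul
import Mathlib.RingTheory.Regular.RegularSequence

/-!
# The end of top local cohomology along a regular sequence
-/

universe u

open DirectSum

noncomputable section

set_option linter.unusedSectionVars false
set_option backward.isDefEq.respectTransparency false

namespace Groth.Agent.GrLC21

variable {R : Type u} [CommRing R] [IsNoetherianRing R] {σ : Type u} [SetLike σ R] [AddSubgroupClass σ R]
  {𝒜 : ℤ → σ} [GradedRing 𝒜] {a : HomogeneousIdeal 𝒜}

/-- Vanishing in degrees above `D` of the cohomology of level `e`, along a regular sequence. -/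
theorem van_regularSequence (D : ℤ) : ∀ (fs : List (R × ℤ)) (e : ℕ) (X Y : GrLC.GMod.{u} 𝒜)
    (π : X.carrier →ₗ[R] Y.carrier),
    (∀ p ∈ fs, p.1 ∈ 𝒜 p.2 ∧ p.1 ∈ a.toIdeal ∧ 0 ≤ p.2) → RingTheory.Sequence.IsWeaklyRegular X.carrier (fs.map Prod.fst) →
    Function.Surjective π → GrLC.IsGrHom X.gr Y.gr π →
    LinearMap.ker π = Ideal.ofList (fs.map Prod.fst) • (⊤ : Submodule R X.carrier) →
    (∀ j < e + fs.length, ∀ g, Van a j g X) →
    ((∀ g, D < g → Van a e g Y) ↔ ∀ g, D - (fs.map Prod.snd).sum < g → Van a (e + fs.length) g X)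
  | [], e, X, Y, π, _, _, hs, hg, hk, _ => by
    have hi : Function.Injective π := by
      rw [← LinearMap.ker_eq_bot, hk, List.map_nil, Ideal.ofList_nil, Submodule.bot_smul]
    let E := LinearEquiv.ofBijective π ⟨hi, hs⟩
    simp only [List.map_nil, List.sum_nil, sub_zero, List.length_nil, add_zero]
    exact ⟨fun h g hgD => Van.of_equiv' E hg (h g hgD), fun h g hgD => Van.of_equiv E hg (h g hgD)⟩
  | (y, k) :: fs, e, X, Y, π, hfs, hreg, hs, hg, hk, hlow => by
    obtain ⟨hy, hreg'⟩ := (RingTheory.Sequence.isWeaklyRegular_cons_iff X.carrier y (fs.map Prod.fst)).1 hreg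
    obtain ⟨hyk, hya, hk0⟩ := hfs (y, k) List.mem_cons_self
    let f := smulMap X (k := k) y
    have hf := smulMap_grHom X (k := k) hyk
    let P := LinearMap.range f
    have hP : P.IsHomogeneous X.gr := isHomogeneous_range (spans_of_decomposition _) hf
    have hPe : P = Ideal.span {y} • (⊤ : Submodule R X.carrier) := by
      rw [Submodule.ideal_span_singleton_smul]
      refine le_antisymm ?_ fun z hz => ?_
      · rintro _ ⟨z, rfl⟩
        exact Submodule.smul_mem_pointwise_smul z y ⊤ trivial
      · obtain ⟨w, -, rfl⟩ := hz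
        exact ⟨w, rfl⟩
    let Q := quot X P hP
    have hle : P ≤ LinearMap.ker π := by
      rw [hk, hPe, List.map_cons, Ideal.ofList_cons]
      exact Submodule.smul_mono_left le_sup_left
    obtain ⟨π', hg', hπ'⟩ := exists_quot_lift X hP hg hle
    have hregQ : RingTheory.Sequence.IsWeaklyRegular Q.carrier (fs.map Prod.fst) := by
      refine ((LinearEquiv.isWeaklyRegular_congr ?_ _).1 hreg')
      exact Submodule.quotEquivOfEq _ P (by rw [hPe, Submodule.ideal_span_singleton_smul])
    have hs' : Function.Surjective π' := fun z => by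
      obtain ⟨w, rfl⟩ := hs z
      exact ⟨quotπ X P hP w, LinearMap.congr_fun hπ' w⟩
    have hk' : LinearMap.ker π' = Ideal.ofList (fs.map Prod.fst) • (⊤ : Submodule R Q.carrier) := by
      refine Submodule.comap_injective_of_surjective (quotπ_surjective X P hP) ?_
      rw [Submodule.comap_smul_top_of_surjective (Ideal.ofList (fs.map Prod.fst)) _ (quotπ_surjective X P hP), ker_quotπ,
        ← LinearMap.ker_comp, hπ', hk, List.map_cons, Ideal.ofList_cons, Submodule.sup_smul, hPe, sup_comm]
    let S := smulSeq (X := X) hyk hy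
    have hlen : e + ((y, k) :: fs).length = e + fs.length + 1 := by rw [List.length_cons, add_assoc]
    have hlowQ : ∀ j < e + fs.length, ∀ g, Van a j g Q := fun j hj g =>
      Van.right S (hlow j (by omega) g) ((van_shift_iff k).2 (hlow (j + 1) (by omega) _))
    rw [van_regularSequence D fs e Q Y π' (fun p hp => hfs p (List.mem_cons_of_mem _ hp)) hregQ hs' hg' hk' hlowQ,
      hlen, List.map_cons, List.sum_cons]
    constructor
    · intro h g hgD
      refine Van.succ_of_smul hyk hya S rfl fun n => h _ ?_
      rw [nsmul_eq_mul]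
      push_cast
      simp only at hgD
      nlinarith
    · intro h g hgD
      refine Van.right S (hlow _ (by omega) g) ((van_shift_iff k).2 (h _ ?_))
      simp only
      omega

end Groth.Agent.GrLC21
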