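import Groth.Agent.Lib.GrLC21.HilbSerre
import Groth.Agent.Lib.GrLC21.GradedDual
import Groth.Agent.Lib.GrLC21.Standard
import Groth.Agent.Lib.GrLC21.StarCM
import Groth.Agent.Lib.GrLC21.EndDeg
import Groth.Agent.Lib.GrLC21.RegSeqEnd
import Groth.Agent.Lib.GrLC21.AInv
import Groth.Agent.Lib.GrSeg.NoetherNorm
import Groth.Agent.Lib.KoszulH13.PolyTop
import Mathlib.Analysis.Polynomial.Basic
import Mathlib.RingTheory.KrullDimension.NonZeroDivisors

/-!
# Standard graded Cohen-Macaulay rings with a-invariant minus the dimension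
-/

universe u

open DirectSum RingTheory.Sequence

noncomputable section

set_option linter.unusedSectionVars false
set_option backward.isDefEq.respectTransparency false

namespace Groth.Agent.GrLC21

variable {R : Type u} [CommRing R] [IsNoetherianRing R] {𝒜 : ℤ → AddSubgroup R} [GradedRing 𝒜]
  {m : HomogeneousIdeal 𝒜} {r : ℕ}

theorem deg0_algebraMap (c : GrLC.deg0 𝒜) : algebraMap (GrLC.deg0 𝒜) R c = (c : R) := rfl

/-- The pieces of a standard graded ring grow no faster than the dimension allows. -/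
theorem FieldCtx.exists_finrank_bound (Γ : FieldCtx 𝒜 m)
    (hstd : Ideal.span (⋃ n ∈ Set.Ioi (0 : ℤ), (𝒜 n : Set R)) = Ideal.span (𝒜 1 : Set R))
    (hr : ringKrullDim R = r) :
    ∃ B : ℕ, ∀ n : ℕ, Module.finrank (GrLC.deg0 𝒜) (GrLC.comp 𝒜 𝒜 (n : ℤ)) ≤ B * (n + 1) ^ (r - 1) := by
  classical
  let _ := Γ.isField.toField
  haveI : SetLike.GradedSMul 𝒜 𝒜 := ⟨fun _ _ _ _ hr hx => SetLike.mul_mem_graded hr hx⟩
  let ℬ : ℤ → Submodule (GrLC.deg0 𝒜) R := fun g => GrLC.comp 𝒜 𝒜 g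
  haveI : SetLike.GradedMonoid ℬ :=
    { one_mem := (SetLike.GradedOne.one_mem : (1 : R) ∈ 𝒜 0)
      mul_mem := fun _ _ _ _ hx hy => SetLike.mul_mem_graded (A := 𝒜) hx hy }
  letI : DirectSum.Decomposition ℬ :=
    (isInternal_of_proj ℬ (proj 𝒜) (fun _ _ hx => proj_of_mem 𝒜 hx) (fun _ _ e _ hx => proj_of_mem_ne 𝒜 hx e.symm)
      fun x => by
        rw [← sum_proj 𝒜 x]
        exact sum_mem fun g _ => AddSubgroup.mem_iSup_of_mem g (proj_mem 𝒜 g x)).chooseDecomposition
  letI : GradedAlgebra ℬ := { }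
  have hposB : ∀ n : ℤ, n < 0 → ℬ n = ⊥ := fun n hn => (Submodule.eq_bot_iff _).2 fun x hx => Γ.pos n hn x hx
  have h0B : ℬ 0 = Submodule.span (GrLC.deg0 𝒜) {(1 : R)} := by
    refine le_antisymm (fun x hx => Submodule.mem_span_singleton.2 ⟨⟨x, hx⟩, mul_one x⟩) ?_
    rw [Submodule.span_singleton_le_iff_mem]
    exact (SetLike.GradedOne.one_mem : (1 : R) ∈ 𝒜 0)
  haveI := Γ.isNoetherian_comp (M := R) 𝒜 1
  obtain ⟨t, x, hx⟩ := Module.Finite.exists_fin (R := GrLC.deg0 𝒜) (M := GrLC.comp 𝒜 𝒜 (1 : ℤ))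
  haveI : Algebra.FiniteType (GrLC.deg0 𝒜) R := by
    refine ⟨⟨Finset.univ.image fun i => (x i : R), ?_⟩⟩
    let S := Algebra.adjoin (GrLC.deg0 𝒜) ((Finset.univ.image fun i => (x i : R) : Finset R) : Set R)
    have h1 : ∀ y ∈ 𝒜 1, y ∈ S := fun y hy => by
      have h : (⟨y, hy⟩ : GrLC.comp 𝒜 𝒜 (1 : ℤ)) ∈ Submodule.span (GrLC.deg0 𝒜) (Set.range x) := hx ▸ trivial
      refine Submodule.span_induction (p := fun (z : GrLC.comp 𝒜 𝒜 (1 : ℤ)) _ => (z : R) ∈ S) ?_ (zero_mem _)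
        (fun a b _ _ ha hb => add_mem ha hb) (fun c a _ ha => S.smul_mem ha c) h
      rintro _ ⟨i, rfl⟩
      exact Algebra.subset_adjoin (Finset.mem_coe.2 (Finset.mem_image_of_mem _ (Finset.mem_univ i)))
    have hn : ∀ n : ℕ, ∀ y ∈ 𝒜 (n : ℤ), y ∈ S := by
      intro n
      induction n with
      | zero => exact fun y hy => S.algebraMap_mem (⟨y, hy⟩ : GrLC.deg0 𝒜)
      | succ n ih =>
        intro y hy
        rw [Nat.cast_succ] at hy
        refine (AddSubgroup.closure_le (K := S.toSubring.toAddSubgroup)).2 ?_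
          (mem_closure_one_mul hstd (Int.natCast_nonneg n) hy)
        rintro _ ⟨u, hu, v, hv, rfl⟩
        exact S.mul_mem (h1 u hu) (ih v hv)
    refine eq_top_iff.2 fun y _ => ?_
    rw [← sum_proj 𝒜 y]
    refine Subalgebra.sum_mem _ fun g _ => ?_
    rcases lt_or_ge g 0 with hg | hg
    · rw [Γ.pos g hg _ (proj_mem 𝒜 g y)]; exact zero_mem _
    · exact hn g.toNat _ (by rw [Int.toNat_of_nonneg hg]; exact proj_mem 𝒜 g y)
  obtain ⟨d, f, hd, hf, hrad⟩ := GrSegLib.exists_noether_homogeneous ℬ hposB h0B hr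
  obtain ⟨s, N, hs, hN⟩ := GrSegLib.exists_bound ℬ hd f hf hrad hposB h0B
  -- monomials times the finitely many components
  let T : ℕ → Set R := fun n => {z | ∃ (α : Fin r → ℕ) (g : ℕ), g ≤ N ∧ d * ∑ i, α i + g = n ∧
    ∃ b ∈ s, z = (∏ i, f i ^ α i) * GrSegLib.pr ℬ ℬ (g : ℤ) b}
  have hT : ∀ n : ℕ, GrLC.comp 𝒜 𝒜 (n : ℤ) ≤ Submodule.span (GrLC.deg0 𝒜) (T n) := by
    intro n
    induction n using Nat.strong_induction_on with
    | _ n ih =>
      refine (hs n).trans (sup_le (Submodule.span_le.2 ?_) (Submodule.span_le.2 ?_))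
      · rintro _ ⟨b, hb, rfl⟩
        rcases lt_or_ge N n with hn | hn
        · rw [hN n (by exact_mod_cast hn) b hb]; exact Submodule.zero_mem _
        · exact Submodule.subset_span ⟨0, n, hn, by simp, b, hb, by simp⟩
      · rintro _ ⟨i, v, hv, rfl⟩
        rcases lt_or_ge n d with hn | hn
        · have h0 : v = 0 := Γ.pos _ (by omega) v hv
          rw [h0, mul_zero]; exact Submodule.zero_mem _
        have hv' : v ∈ GrLC.comp 𝒜 𝒜 ((n - d : ℕ) : ℤ) := by rw [Nat.cast_sub hn]; exact hv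
        refine Submodule.span_induction (p := fun v _ => f i * v ∈ Submodule.span (GrLC.deg0 𝒜) (T n)) ?_
          (by rw [mul_zero]; exact Submodule.zero_mem _)
          (fun a b _ _ ha hb => by rw [mul_add]; exact Submodule.add_mem _ ha hb)
          (fun c a _ ha => by rw [mul_smul_comm]; exact Submodule.smul_mem _ c ha) (ih _ (by omega) hv')
        rintro _ ⟨α, g, hg, hsum, b, hb, rfl⟩
        refine Submodule.subset_span ⟨α + Pi.single i 1, g, hg, ?_, b, hb, ?_⟩
        · simp only [Pi.add_apply, Finset.sum_add_distrib, Finset.sum_pi_single', Finset.mem_univ, if_true, Nat.mul_add]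
          omega
        · rw [← mul_assoc]
          congr 1
          simp only [Pi.add_apply, pow_add, Finset.prod_mul_distrib]
          rw [Finset.prod_eq_single i (f := fun j => f j ^ (Pi.single i 1 : Fin r → ℕ) j)
            (fun j _ hj => by simp [Pi.single_eq_of_ne hj]) (fun h => absurd (Finset.mem_univ i) h),
            Pi.single_eq_same, pow_one, mul_comm]
  refine ⟨s.card * (N + 1), fun n => ?_⟩
  obtain _ | r' := r
  · have hsub : T n ⊆ ↑((s ×ˢ Finset.range (N + 1)).image fun p => GrSegLib.pr ℬ ℬ (p.2 : ℤ) p.1) := by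
      rintro _ ⟨α, g, hg, -, b, hb, rfl⟩
      exact Finset.mem_coe.2 (Finset.mem_image.2 ⟨(b, g), Finset.mem_product.2 ⟨hb, Finset.mem_range.2 (by omega)⟩, by simp⟩)
    refine (Submodule.finrank_mono ((hT n).trans (Submodule.span_mono hsub))).trans ?_
    refine (finrank_span_finset_le_card _).trans (Finset.card_image_le.trans ?_)
    simp [Finset.card_product, Finset.card_range]
  · let mk : (R × ℕ) × (Fin r' → ℕ) → R := fun p =>
      (∏ i, f i ^ (Fin.cons ((n - p.1.2) / d - ∑ j, p.2 j) p.2 : Fin (r' + 1) → ℕ) i) *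
        GrSegLib.pr ℬ ℬ (p.1.2 : ℤ) p.1.1
    have hsub : T n ⊆ ↑(((s ×ˢ Finset.range (N + 1)) ×ˢ
        Fintype.piFinset fun _ : Fin r' => Finset.range (n + 1)).image mk) := by
      rintro _ ⟨α, g, hg, hsum, b, hb, rfl⟩
      have hbd : ∀ j, α j ≤ n := fun j => by
        have h1 : α j ≤ ∑ i, α i := Finset.single_le_sum (fun i _ => Nat.zero_le (α i)) (Finset.mem_univ j)
        have h2 : ∑ i, α i ≤ d * ∑ i, α i := Nat.le_mul_of_pos_left _ hd
        omega
      refine Finset.mem_coe.2 (Finset.mem_image.2 ⟨((b, g), fun j => α j.succ), Finset.mem_product.2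
        ⟨Finset.mem_product.2 ⟨hb, Finset.mem_range.2 (show g < N + 1 by omega)⟩,
          Fintype.mem_piFinset.2 fun j => Finset.mem_range.2 (show α j.succ < n + 1 by have := hbd j.succ; omega)⟩, ?_⟩)
      have hh : (n - g) / d - ∑ j : Fin r', α j.succ = α 0 := by
        rw [show n - g = d * ∑ i, α i by omega, Nat.mul_div_cancel_left _ hd, Fin.sum_univ_succ]
        omega
      show (∏ i, f i ^ _) * _ = _
      rw [hh, show (Fin.cons (α 0) fun j => α j.succ : Fin (r' + 1) → ℕ) = α from Fin.cons_self_tail α]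
    refine (Submodule.finrank_mono ((hT n).trans (Submodule.span_mono hsub))).trans ?_
    refine (finrank_span_finset_le_card _).trans (Finset.card_image_le.trans ?_)
    simp [Finset.card_product, Finset.card_range, Fintype.card_piFinset]

/-- A polynomial bounded by a power has no larger degree. -/
theorem natDegree_le_of_bound (Q : Polynomial ℚ) (B : ℚ) (e : ℕ) (N : ℕ)
    (h : ∀ n : ℕ, N ≤ n → 0 ≤ Q.eval (n : ℚ) ∧ Q.eval (n : ℚ) ≤ B * ((n : ℚ) + 1) ^ e) : Q.natDegree ≤ e := by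
  by_contra hlt
  rw [not_le] at hlt
  let D : Polynomial ℚ := Q ^ 2 - Polynomial.C (B ^ 2) * (Polynomial.X + 1) ^ (2 * e)
  have hQ0 : Q ≠ 0 := fun h0 => by simp [h0] at hlt
  have hdegR : (Polynomial.C (B ^ 2) * (Polynomial.X + 1) ^ (2 * e)).natDegree ≤ 2 * e := by
    refine (Polynomial.natDegree_C_mul_le _ _).trans (Polynomial.natDegree_pow_le.trans ?_)
    have : (Polynomial.X + 1 : Polynomial ℚ).natDegree ≤ 1 := by
      refine (Polynomial.natDegree_add_le _ _).trans ?_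
      simp
    calc 2 * e * (Polynomial.X + 1 : Polynomial ℚ).natDegree ≤ 2 * e * 1 := Nat.mul_le_mul_left _ this
      _ = 2 * e := Nat.mul_one _
  have hQ2 : (Q ^ 2).natDegree = 2 * Q.natDegree := Polynomial.natDegree_pow Q 2
  have hD : D.natDegree = 2 * Q.natDegree := by
    rw [Polynomial.natDegree_sub_eq_left_of_natDegree_lt (by rw [hQ2]; omega), hQ2]
  have hlead : 0 ≤ D.leadingCoeff := by
    rw [Polynomial.leadingCoeff_sub_of_degree_lt (Polynomial.degree_lt_degree (by rw [hQ2]; omega)),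
      Polynomial.leadingCoeff_pow]
    exact sq_nonneg _
  have ht := (D.tendsto_atTop_of_leadingCoeff_nonneg
    (Polynomial.natDegree_pos_iff_degree_pos.1 (by rw [hD]; omega)) hlead).comp tendsto_natCast_atTop_atTop
  obtain ⟨n, hn1, hn2⟩ := ((ht.eventually (Filter.eventually_ge_atTop 1)).and (Filter.eventually_ge_atTop N)).exists
  obtain ⟨h0, hle⟩ := h n hn2
  have hsq : Q.eval (n : ℚ) ^ 2 ≤ B ^ 2 * ((n : ℚ) + 1) ^ (2 * e) := by
    rw [show B ^ 2 * ((n : ℚ) + 1) ^ (2 * e) = (B * ((n : ℚ) + 1) ^ e) ^ 2 by ring]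
    exact pow_le_pow_left₀ h0 hle 2
  simp only [Function.comp_apply, D, Polynomial.eval_sub, Polynomial.eval_pow, Polynomial.eval_mul, Polynomial.eval_C,
    Polynomial.eval_add, Polynomial.eval_X, Polynomial.eval_one] at hn1
  linarith

variable [LocCoh.IsCohenMacaulayRing R]

/-- With a-invariant minus the dimension there are as many linear forms as the dimension. -/
theorem FieldCtx.finrank_one_of_endDeg (Γ : FieldCtx 𝒜 m)
    (hstd : Ideal.span (⋃ n ∈ Set.Ioi (0 : ℤ), (𝒜 n : Set R)) = Ideal.span (𝒜 1 : Set R))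
    (hr : ringKrullDim R = r) (I : GrLC.StarInjRes 𝒜 𝒜)
    (ha : GrLC.endDeg (I.Hgr m r) = (((-(r : ℤ) : ℤ) : WithTop ℤ) : WithBot (WithTop ℤ))) :
    Module.finrank (GrLC.deg0 𝒜) (GrLC.comp 𝒜 𝒜 (1 : ℤ)) = r := by
  let _ := Γ.isField.toField
  haveI : SetLike.GradedSMul 𝒜 𝒜 := ⟨fun _ _ _ _ hr hx => SetLike.mul_mem_graded hr hx⟩
  haveI : IsArtinianRing (GrLC.deg0 𝒜) := inferInstance
  haveI : Module.Finite R (toGMod 𝒜 𝒜).carrier := inferInstanceAs (Module.Finite R R)
  obtain ⟨Q, hQ⟩ := isPolyFun_defect m r Γ.pos Γ.starLocal hr hstd (toGMod 𝒜 𝒜)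
  let H : ℤ → ℕ := fun g => Module.finrank (GrLC.deg0 𝒜) (GrLC.comp 𝒜 𝒜 g)
  have htop : ∀ g : ℤ, -(r : ℤ) < g → Van m r g (toGMod 𝒜 𝒜) := (endDeg_le_iff_van I r (-(r : ℤ))).1 ha.le
  have hH : ∀ g : ℤ, -(r : ℤ) < g → (H g : ℚ) = Q.eval (g : ℚ) := by
    intro g hg
    rw [← hQ g, defect, chi, Finset.sum_eq_zero fun i _ => ?_]
    · rw [pieceLen_toGMod, len]
      haveI := Γ.isNoetherian_comp (M := R) 𝒜 g
      rw [Module.length_eq_finrank]
      simp [H]
    · rw [Hlen_eq_zero]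
      · simp
      rcases eq_or_ne i r with rfl | hi
      · exact htop g hg
      · exact van_self_of_ne Γ.pos Γ.starLocal hr hi g
  have hneg : ∀ g : ℤ, g < 0 → H g = 0 := fun g hg => by
    haveI : Subsingleton (GrLC.comp 𝒜 𝒜 g) := ⟨fun a b => Subtype.ext (by rw [Γ.pos g hg _ a.2, Γ.pos g hg _ b.2])⟩
    exact Module.finrank_zero_of_subsingleton
  rcases Nat.eq_zero_or_pos r with rfl | hr0
  · -- dimension zero: everything is torsion
    have hall : ∀ x : (toGMod 𝒜 𝒜).carrier, x ∈ GrLC.gam m.toIdeal (toGMod 𝒜 𝒜).carrier := by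
      intro x
      haveI := isMaximal_starMax Γ.pos Γ.starLocal.1
      haveI : Ring.KrullDimLE 0 R := Ring.krullDimLE_iff.2 (by rw [hr])
      have hrad : m.toIdeal ≤ (⊥ : Ideal R).radical := by
        rw [Ideal.radical_eq_sInf]
        refine le_sInf fun P hP => ?_
        haveI := hP.2
        exact le_of_eq (le_antisymm (le_of_isStarLocal Γ.starLocal
          (isHomogeneous_core (𝒜 := 𝒜) P) (isPrime_core (𝒜 := 𝒜) P).ne_top |> fun h =>
            (((Ring.krullDimLE_zero_iff.1 inferInstance) _ (isPrime_core (𝒜 := 𝒜) P)).eq_of_le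
              (Ideal.IsMaximal.ne_top ‹_›) h).symm.le.trans (core_le (𝒜 := 𝒜) P))
          (((Ring.krullDimLE_zero_iff.1 inferInstance) m.toIdeal inferInstance).eq_of_le hP.2.ne_top
            (le_of_isStarLocal Γ.starLocal (isHomogeneous_core (𝒜 := 𝒜) P) (isPrime_core (𝒜 := 𝒜) P).ne_top |> fun h =>
            (((Ring.krullDimLE_zero_iff.1 inferInstance) _ (isPrime_core (𝒜 := 𝒜) P)).eq_of_le
              (Ideal.IsMaximal.ne_top ‹_›) h).symm.le.trans (core_le (𝒜 := 𝒜) P))).symm.le)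
      obtain ⟨N, hN⟩ := Ideal.exists_pow_le_of_le_radical_of_fg hrad (IsNoetherian.noetherian _)
      exact ⟨N, fun a ha => by
        show a • x = (0 : R)
        rw [show a = 0 from (Submodule.mem_bot R).1 (hN ha), zero_smul]⟩
    have h1 : ∀ z ∈ 𝒜 1, z = 0 := fun z hz =>
      Van.zero_iff.1 (htop 1 (by simp)) z hz (hall z)
    haveI : Subsingleton (GrLC.comp 𝒜 𝒜 (1 : ℤ)) := ⟨fun a b => Subtype.ext (by rw [h1 _ a.2, h1 _ b.2])⟩
    exact Module.finrank_zero_of_subsingleton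
  -- positive dimension: the Hilbert polynomial is a binomial coefficient
  obtain ⟨B, hB⟩ := Γ.exists_finrank_bound hstd hr
  have hdeg : Q.natDegree ≤ r - 1 := by
    refine natDegree_le_of_bound Q (B : ℚ) (r - 1) 0 fun n _ => ?_
    have h := hH (n : ℤ) (by omega)
    rw [Int.cast_natCast] at h
    rw [← h]
    exact ⟨Nat.cast_nonneg _, by exact_mod_cast hB n⟩
  have h00 : H 0 = 1 := by
    refine (LinearEquiv.finrank_eq (N := GrLC.deg0 𝒜) ?_).trans (Module.finrank_self _)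
    exact { toFun := fun x => ⟨x.1, x.2⟩, invFun := fun x => ⟨x.1, x.2⟩, map_add' := fun _ _ => rfl
            map_smul' := fun _ _ => rfl, left_inv := fun _ => rfl, right_inv := fun _ => rfl }
  let P : Polynomial ℚ := Polynomial.C (((r - 1).factorial : ℚ)⁻¹) *
    ∏ i ∈ Finset.range (r - 1), (Polynomial.X + Polynomial.C ((i : ℚ) + 1))
  have hPdeg : P.natDegree ≤ r - 1 := by
    refine (Polynomial.natDegree_C_mul_le _ _).trans ((Polynomial.natDegree_prod_le _ _).trans ?_)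
    refine (Finset.sum_le_card_nsmul _ _ 1 fun i _ => (Polynomial.natDegree_X_add_C _).le).trans ?_
    simp
  have hPeval : ∀ x : ℚ, P.eval x = ((r - 1).factorial : ℚ)⁻¹ * ∏ i ∈ Finset.range (r - 1), (x + ((i : ℚ) + 1)) := by
    intro x
    simp [P, Polynomial.eval_prod]
  have hfac : ∀ e : ℕ, ∏ i ∈ Finset.range e, ((i : ℚ) + 1) = (e.factorial : ℚ) := by
    intro e
    induction e with
    | zero => simp
    | succ e ih => rw [Finset.prod_range_succ, ih, Nat.factorial_succ]; push_cast; ring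
  have hfne : ((r - 1).factorial : ℚ) ≠ 0 := by exact_mod_cast (r - 1).factorial_ne_zero
  have heq : Q = P := by
    refine Polynomial.eq_of_natDegree_lt_card_of_eval_eq Q P (f := fun j : Fin r => -((j : ℕ) : ℚ)) ?_ ?_ ?_
    · intro i j hij
      simp only [neg_inj, Nat.cast_inj] at hij
      exact Fin.ext hij
    · intro j
      show Q.eval (-((j : ℕ) : ℚ)) = P.eval (-((j : ℕ) : ℚ))
      have hj := j.isLt
      have h := hH (-((j : ℕ) : ℤ)) (by omega)
      rw [Int.cast_neg, Int.cast_natCast] at h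
      rw [← h, hPeval]
      rcases Nat.eq_zero_or_pos (j : ℕ) with h0 | h0
      · rw [h0, Nat.cast_zero, neg_zero, h00, Nat.cast_one]
        simp only [Nat.cast_zero, neg_zero, zero_add]
        rw [hfac, inv_mul_cancel₀ hfne]
      · rw [hneg _ (by omega), Nat.cast_zero, Finset.prod_eq_zero (Finset.mem_range.2 (show (j : ℕ) - 1 < r - 1 by omega)),
          mul_zero]
        rw [Nat.cast_sub h0, Nat.cast_one]
        ring
    · rw [Fintype.card_fin]
      omega
  have h := hH 1 (by omega)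
  rw [Int.cast_one, heq, hPeval] at h
  have hprod : ∀ e : ℕ, ∏ i ∈ Finset.range e, ((1 : ℚ) + ((i : ℚ) + 1)) = ((e + 1).factorial : ℚ) := by
    intro e
    induction e with
    | zero => simp
    | succ e ih => rw [Finset.prod_range_succ, ih, Nat.factorial_succ (e + 1)]; push_cast; ring
  rw [hprod, Nat.factorial_succ, Nat.cast_mul, mul_comm (((r - 1 + 1 : ℕ) : ℚ)), ← mul_assoc, inv_mul_cancel₀ hfne,
    one_mul, Nat.cast_inj] at h
  show H 1 = r
  omega

/-- A regular local ring at the *maximal ideal bounds the linear forms by the dimension. -/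
theorem FieldCtx.finrank_one_le_of_regular (Γ : FieldCtx 𝒜 m)
    (hstd : Ideal.span (⋃ n ∈ Set.Ioi (0 : ℤ), (𝒜 n : Set R)) = Ideal.span (𝒜 1 : Set R))
    (hr : ringKrullDim R = r) [m.toIdeal.IsMaximal] [IsRegularLocalRing (Localization.AtPrime m.toIdeal)] :
    Module.finrank (GrLC.deg0 𝒜) (GrLC.comp 𝒜 𝒜 (1 : ℤ)) ≤ r := by
  let _ := Γ.isField.toField
  haveI : SetLike.GradedSMul 𝒜 𝒜 := ⟨fun _ _ _ _ hr hx => SetLike.mul_mem_graded hr hx⟩
  let A := Localization.AtPrime m.toIdeal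
  haveI := Γ.isNoetherian_comp (M := R) 𝒜 1
  have hdim : (IsLocalRing.maximalIdeal A).spanFinrank = r := by
    have h := IsRegularLocalRing.spanFinrank_maximalIdeal (R := A)
    rw [IsLocalization.AtPrime.ringKrullDim_eq_height m.toIdeal, ← ringKrullDim_eq_height Γ.pos Γ.starLocal, hr] at h
    exact_mod_cast h
  rw [IsLocalRing.spanFinrank_maximalIdeal_eq_finrank_cotangentSpace] at hdim
  rw [← hdim]
  have hmem : ∀ x : GrLC.comp 𝒜 𝒜 (1 : ℤ), algebraMap R A x ∈ IsLocalRing.maximalIdeal A := fun x =>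
    (IsLocalization.AtPrime.to_map_mem_maximal_iff A m.toIdeal _).2 (Γ.mem_pos one_pos x.2)
  let L : GrLC.comp 𝒜 𝒜 (1 : ℤ) →+ IsLocalRing.CotangentSpace A :=
    AddMonoidHom.mk' (fun x => (IsLocalRing.maximalIdeal A).toCotangent ⟨algebraMap R A x, hmem x⟩) fun x y => by
      rw [← map_add]
      exact congrArg _ (Subtype.ext (map_add (algebraMap R A) (x : R) (y : R)))
  have hL : ∀ x, L x = 0 → x = 0 := by
    intro x hx
    have h : algebraMap R A (x : R) ∈ IsLocalRing.maximalIdeal A ^ 2 := (Ideal.toCotangent_eq_zero _ _).1 hx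
    rw [← Localization.AtPrime.map_eq_maximalIdeal, ← Ideal.map_pow] at h
    obtain ⟨⟨a, s⟩, hs⟩ := (IsLocalization.mem_map_algebraMap_iff m.toIdeal.primeCompl A).1 h
    obtain ⟨t, ht⟩ := (IsLocalization.eq_iff_exists m.toIdeal.primeCompl A).1 ((map_mul _ _ _).trans hs)
    have hsq : ∀ y ∈ m.toIdeal ^ 2, proj 𝒜 1 y = 0 := by
      intro y hy
      rw [pow_two] at hy
      refine Submodule.mul_induction_on hy (fun a ha b hb => ?_) fun a b ha hb => by rw [map_add, ha, hb, add_zero]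
      have key : proj 𝒜 1 (a * b) = proj 𝒜 1 a * proj 𝒜 0 b + proj 𝒜 0 a * proj 𝒜 1 b := by
        refine spans_induction (P := fun a => proj 𝒜 1 (a * b) = proj 𝒜 1 a * proj 𝒜 0 b + proj 𝒜 0 a * proj 𝒜 1 b)
          (spans_of_decomposition 𝒜) a (by simp) (fun u v hu hv => by
            rw [add_mul, map_add, hu, hv, map_add, map_add, add_mul, add_mul]
            abel) fun g u hu => ?_
        rw [← smul_eq_mul u b, proj_smul 𝒜 𝒜 hu, smul_eq_mul]
        rcases lt_trichotomy g 0 with hg | rfl | hg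
        · rw [Γ.pos g hg u hu]; simp
        · rw [proj_of_mem 𝒜 hu, proj_of_mem_ne 𝒜 hu zero_ne_one, sub_zero, zero_mul, zero_add]
        · rcases eq_or_ne g 1 with rfl | hg1
          · rw [proj_of_mem 𝒜 hu, proj_of_mem_ne 𝒜 hu one_ne_zero, sub_self, zero_mul, add_zero]
          · rw [proj_of_mem_ne 𝒜 hu hg1, proj_of_mem_ne 𝒜 hu hg.ne', Γ.pos (1 - g) (by omega) _ (proj_mem 𝒜 _ b),
              mul_zero, zero_mul, zero_mul, add_zero]
      rw [key, Γ.deg0_eq_zero (proj_mem 𝒜 0 a) (by simpa using m.toIdeal.sub_mem ha (Γ.sub_proj_zero_mem a)),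
        Γ.deg0_eq_zero (proj_mem 𝒜 0 b) (by simpa using m.toIdeal.sub_mem hb (Γ.sub_proj_zero_mem b)), mul_zero, zero_mul,
        add_zero]
    have h2 : (t : R) * ((x : R) * (s : R)) ∈ m.toIdeal ^ 2 := ht ▸ Ideal.mul_mem_left _ _ a.2
    have h3 : proj 𝒜 0 ((t : R) * (s : R)) • (x : R) = 0 := by
      rw [← hsq _ h2]
      rw [show (t : R) * ((x : R) * (s : R)) = ((t : R) * (s : R)) • (x : R) by rw [smul_eq_mul]; ring]
      refine spans_induction (spans_of_decomposition 𝒜) ((t : R) * (s : R)) (by simp)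
        (fun a b ha hb => by rw [map_add, add_smul, add_smul, map_add, ha, hb]) fun e u hu => ?_
      rcases eq_or_ne e 0 with rfl | he
      · rw [proj_of_mem 𝒜 hu, proj_of_mem 𝒜 (by simpa using smul_mem 𝒜 𝒜 hu (show (x : R) ∈ 𝒜 1 from x.2))]
      · rw [proj_of_mem_ne 𝒜 hu he, zero_smul,
          proj_of_mem_ne 𝒜 (smul_mem 𝒜 𝒜 hu (show (x : R) ∈ 𝒜 1 from x.2)) (by omega)]
    have hne : proj 𝒜 0 ((t : R) * (s : R)) ≠ 0 := fun e =>
      (t * s).2 (by simpa [e] using Γ.sub_proj_zero_mem ((t : R) * (s : R)))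
    obtain ⟨u, hu⟩ := Γ.isField.mul_inv_cancel
      (a := ⟨proj 𝒜 0 ((t : R) * (s : R)), proj_mem 𝒜 0 _⟩) fun e => hne (congrArg Subtype.val e)
    refine Subtype.ext ?_
    show (x : R) = 0
    rw [← one_smul R (x : R), ← show proj 𝒜 0 ((t : R) * (s : R)) * (u : R) = 1 from congrArg Subtype.val hu,
      mul_comm, mul_smul, h3, smul_zero]
  let b := Module.finBasis (GrLC.deg0 𝒜) (GrLC.comp 𝒜 𝒜 (1 : ℤ))
  have hli : LinearIndependent (IsLocalRing.ResidueField A) fun i => L (b i) := by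
    rw [Fintype.linearIndependent_iff]
    intro g hg i
    have hlift : ∀ z : IsLocalRing.ResidueField A, ∃ c : GrLC.deg0 𝒜, IsLocalRing.residue A (algebraMap R A c) = z := by
      intro z
      obtain ⟨y, rfl⟩ := (IsLocalization.AtPrime.equivQuotMaximalIdeal m.toIdeal A).surjective z
      obtain ⟨y, rfl⟩ := Ideal.Quotient.mk_surjective y
      refine ⟨⟨proj 𝒜 0 y, proj_mem 𝒜 0 y⟩, ?_⟩
      rw [Ideal.Quotient.eq.2 (Γ.sub_proj_zero_mem y), IsLocalization.AtPrime.equivQuotMaximalIdeal_apply_mk]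
      rfl
    choose c hc using fun i => hlift (g i)
    have hz : L (∑ i, c i • b i) = 0 := by
      rw [map_sum, ← hg]
      refine Finset.sum_congr rfl fun i _ => ?_
      rw [← hc i]
      show (IsLocalRing.maximalIdeal A).toCotangent _ =
        algebraMap R A (c i : R) • (IsLocalRing.maximalIdeal A).toCotangent ⟨algebraMap R A (b i : R), hmem (b i)⟩
      rw [← LinearMap.map_smul]
      exact congrArg _ (Subtype.ext (map_mul (algebraMap R A) (c i : R) (b i : R)))
    have h0 := Fintype.linearIndependent_iff.1 b.linearIndependent c (hL _ hz) i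
    rw [← hc i, h0]
    simp
  simpa using hli.fintype_card_le_finrank

set_option maxHeartbeats 800000 in
/-- A Cohen-Macaulay standard graded ring with as many linear forms as its dimension is a polynomial ring,
and its a-invariant is minus the dimension. -/
theorem FieldCtx.polynomial_of_finrank_one (Γ : FieldCtx 𝒜 m)
    (hmsp : m.toIdeal = Ideal.span (⋃ n ∈ Set.Ioi (0 : ℤ), (𝒜 n : Set R)))
    (hstd : Ideal.span (⋃ n ∈ Set.Ioi (0 : ℤ), (𝒜 n : Set R)) = Ideal.span (𝒜 1 : Set R))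
    (hr : ringKrullDim R = r) (h1 : Module.finrank (GrLC.deg0 𝒜) (GrLC.comp 𝒜 𝒜 (1 : ℤ)) ≤ r)
    (I : GrLC.StarInjRes 𝒜 𝒜) :
    Nonempty (R ≃+* MvPolynomial (Fin r) (GrLC.deg0 𝒜)) ∧
      GrLC.endDeg (I.Hgr m r) = (((-(r : ℤ) : ℤ) : WithTop ℤ) : WithBot (WithTop ℤ)) := by
  classical
  let _ := Γ.isField.toField
  haveI : SetLike.GradedSMul 𝒜 𝒜 := ⟨fun _ _ _ _ hr hx => SetLike.mul_mem_graded hr hx⟩
  haveI := Γ.isNoetherian_comp (M := R) 𝒜 1
  let b := Module.finBasis (GrLC.deg0 𝒜) (GrLC.comp 𝒜 𝒜 (1 : ℤ))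
  let f : Fin r → R := fun i => if h : (i : ℕ) < Module.finrank (GrLC.deg0 𝒜) (GrLC.comp 𝒜 𝒜 (1 : ℤ)) then (b ⟨i, h⟩ : R) else 0
  have hf1 : ∀ i, f i ∈ 𝒜 1 := fun i => by
    show (dite _ _ _) ∈ 𝒜 1
    split_ifs with h
    · exact (b ⟨i, h⟩).2
    · exact zero_mem _
  let Φ : MvPolynomial (Fin r) (GrLC.deg0 𝒜) →ₐ[GrLC.deg0 𝒜] R := MvPolynomial.aeval f
  have h1mem : ∀ y ∈ 𝒜 1, y ∈ Φ.range := fun y hy => by
    have h : (⟨y, hy⟩ : GrLC.comp 𝒜 𝒜 (1 : ℤ)) ∈ Submodule.span (GrLC.deg0 𝒜) (Set.range b) := b.span_eq ▸ trivial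
    refine Submodule.span_induction (p := fun (z : GrLC.comp 𝒜 𝒜 (1 : ℤ)) _ => (z : R) ∈ Φ.range) ?_ (zero_mem _)
      (fun a c _ _ ha hc => add_mem ha hc) (fun c a _ ha => Φ.range.smul_mem ha c) h
    rintro _ ⟨i, rfl⟩
    refine ⟨MvPolynomial.X ⟨i, i.isLt.trans_le h1⟩, ?_⟩
    show MvPolynomial.aeval f _ = _
    rw [MvPolynomial.aeval_X]
    exact dif_pos i.isLt
  have hn : ∀ n : ℕ, ∀ y ∈ 𝒜 (n : ℤ), y ∈ Φ.range := by
    intro n
    induction n with
    | zero => exact fun y hy => Φ.range.algebraMap_mem (⟨y, hy⟩ : GrLC.deg0 𝒜)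
    | succ n ih =>
      intro y hy
      rw [Nat.cast_succ] at hy
      refine (AddSubgroup.closure_le (K := Φ.range.toSubring.toAddSubgroup)).2 ?_
        (mem_closure_one_mul hstd (Int.natCast_nonneg n) hy)
      rintro _ ⟨u, hu, v, hv, rfl⟩
      exact Φ.range.mul_mem (h1mem u hu) (ih v hv)
  have hsurj : Function.Surjective Φ := fun y => by
    rw [← AlgHom.mem_range, ← sum_proj 𝒜 y]
    refine Subalgebra.sum_mem _ fun g _ => ?_
    rcases lt_or_ge g 0 with hg | hg
    · rw [Γ.pos g hg _ (proj_mem 𝒜 g y)]; exact zero_mem _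
    · exact hn g.toNat _ (by rw [Int.toNat_of_nonneg hg]; exact proj_mem 𝒜 g y)
  have hinj : Function.Injective Φ := by
    rw [injective_iff_map_eq_zero]
    intro G hG
    by_contra hne
    have h := ringKrullDim_quotient_succ_le_of_nonZeroDivisor
      (mem_nonZeroDivisors_of_ne_zero hne : G ∈ nonZeroDivisors (MvPolynomial (Fin r) (GrLC.deg0 𝒜)))
    have hker : ∀ z ∈ Ideal.span {G}, Φ.toRingHom z = 0 := fun z hz => by
      obtain ⟨c, rfl⟩ := Ideal.mem_span_singleton'.1 hz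
      show Φ (c * G) = 0
      rw [map_mul, hG, mul_zero]
    have hs : Function.Surjective Φ.toRingHom := hsurj
    have hq : ringKrullDim R ≤ ringKrullDim (MvPolynomial (Fin r) (GrLC.deg0 𝒜) ⧸ Ideal.span {G}) :=
      ringKrullDim_le_of_surjective _ (Ideal.Quotient.lift_surjective_of_surjective _ hker hs)
    rw [MvPolynomial.ringKrullDim_of_isNoetherianRing, ringKrullDim_eq_zero_of_field, zero_add, Nat.card_fin] at h
    have h' := le_trans (add_le_add hq le_rfl) h
    rw [hr, ← Nat.cast_one, ← Nat.cast_add, Nat.cast_le] at h'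
    omega
  let e := AlgEquiv.ofBijective Φ ⟨hinj, hsurj⟩
  refine ⟨⟨e.symm.toRingEquiv⟩, ?_⟩
  -- the a-invariant, along the variables
  have hfm : Ideal.span (Set.range f) = m.toIdeal := by
    refine le_antisymm (Ideal.span_le.2 ?_) ?_
    · rintro _ ⟨i, rfl⟩
      exact Γ.mem_pos one_pos (hf1 i)
    · rw [hmsp, hstd, Ideal.span_le]
      intro y hy
      have h : (⟨y, hy⟩ : GrLC.comp 𝒜 𝒜 (1 : ℤ)) ∈ Submodule.span (GrLC.deg0 𝒜) (Set.range b) := b.span_eq ▸ trivial
      refine Submodule.span_induction (p := fun (z : GrLC.comp 𝒜 𝒜 (1 : ℤ)) _ => (z : R) ∈ Ideal.span (Set.range f)) ?_ (Ideal.zero_mem _)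
        (fun a c _ _ ha hc => Ideal.add_mem _ ha hc) (fun (c : GrLC.deg0 𝒜) a _ ha => Ideal.mul_mem_left _ (c : R) ha) h
      rintro _ ⟨i, rfl⟩
      exact Ideal.subset_span ⟨⟨i, i.isLt.trans_le h1⟩, dif_pos i.isLt⟩
  have hreg : IsWeaklyRegular R (List.ofFn f) := by
    have h0 := KoszulH13.isWeaklyRegular_pw_T (A := GrLC.deg0 𝒜) (r := r) 1
    have heq : KoszulH13.pw (KoszulH13.T (GrLC.deg0 𝒜) r) 1 = List.ofFn fun i => MvPolynomial.X i := by
      simp [KoszulH13.pw, KoszulH13.T, List.map_ofFn, Function.comp_def]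
    rw [heq] at h0
    refine (AddEquiv.isWeaklyRegular_congr (e := e.toRingEquiv.toAddEquiv) ?_).1 h0
    rw [List.forall₂_iff_get]
    refine ⟨by simp, fun i h₁ h₂ x => ?_⟩
    simp only [List.get_eq_getElem, List.getElem_ofFn]
    show Φ (MvPolynomial.X _ * x) = _ * Φ x
    rw [map_mul]
    congr 1
    show MvPolynomial.aeval f _ = _
    rw [MvPolynomial.aeval_X]
  let Q := quotMod 𝒜 m
  let fs : List (R × ℤ) := List.ofFn fun i : Fin r => (f i, (1 : ℤ))
  have hfst : fs.map Prod.fst = List.ofFn f := by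
    simp only [fs, List.map_ofFn]; rfl
  have key := fun D => van_regularSequence (a := m) D fs 0 (toGMod 𝒜 𝒜) Q (Submodule.mkQ m.toIdeal)
    (fun p hp => by
      obtain ⟨i, rfl⟩ := List.mem_ofFn.1 hp
      exact ⟨hf1 i, hfm ▸ Ideal.subset_span ⟨i, rfl⟩, zero_le_one⟩)
    (by rw [hfst]; exact hreg) (Submodule.mkQ_surjective _) (fun g x hx => ⟨x, hx, rfl⟩)
    (by
      rw [hfst]
      show LinearMap.ker (Submodule.mkQ m.toIdeal) = Ideal.ofList (List.ofFn f) • (⊤ : Submodule R R)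
      rw [Submodule.ker_mkQ, ← hfm]
      simp [Ideal.ofList, List.mem_ofFn, Set.range])
    (fun j hj g => van_self_of_ne Γ.pos Γ.starLocal hr (by simp [fs] at hj; omega) g)
  have hlen : fs.length = r := List.length_ofFn
  have hsum : (fs.map Prod.snd).sum = (r : ℤ) := by simp [fs, List.map_ofFn, List.sum_ofFn]
  simp only [hlen, hsum, zero_add] at key
  have hbot : ∀ g, I.Hgr m r g = ⊥ ↔ Van m r g (toGMod 𝒜 𝒜) := fun g =>
    (Hgr_eq_bot_iff I m).trans (Hcomp_eq_bot_iff_van I)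
  have hnt : m.toIdeal ≠ ⊤ := (isMaximal_starMax Γ.pos Γ.starLocal.1).ne_top
  have hq1 : ¬ Van m 0 0 Q := fun h => hnt ((Ideal.eq_top_iff_one _).2 (Ideal.Quotient.eq_zero_iff_mem.1
    (Van.zero_iff.1 h _ (⟨1, (SetLike.GradedOne.one_mem : (1 : R) ∈ 𝒜 0), rfl⟩)
      ⟨1, fun x hx => Ideal.Quotient.eq_zero_iff_mem.2 (Ideal.mul_mem_right 1 _ (pow_one m.toIdeal ▸ hx))⟩)))
  have hq : ∀ l : ℤ, 0 < l → Van m 0 l Q := fun l hl => Van.zero_iff.2 (by
    rintro x ⟨y, hy, rfl⟩ -
    exact Ideal.Quotient.eq_zero_iff_mem.2 (Γ.mem_pos hl hy))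
  refine (endDeg_eq_coe_iff _ _).2 ⟨fun h => hq1 ((key (-1)).2 (fun g hg => ?_) 0 (by omega)),
    fun l hl => (hbot l).2 ((key 0).1 hq l (by omega))⟩
  rcases eq_or_lt_of_le (show -(r : ℤ) ≤ g by omega) with e | e
  · rw [← e]; exact (hbot _).1 h
  · exact (key 0).1 hq g (by omega)

end Groth.Agent.GrLC21
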