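import Groth.Agent.Lib.GrLC21.FGHom
import Mathlib.RingTheory.Noetherian.Basic
import Mathlib.RingTheory.Artinian.Module

/-!
# Pieces of Noetherian and Artinian graded modules; positive gradings
-/

universe u

open DirectSum

noncomputable section

set_option linter.unusedSectionVars false

namespace Groth.Agent.GrLC21

section Pieces

variable {ι : Type} [AddCommGroup ι] [DecidableEq ι]
variable {R : Type u} [CommRing R] {σ : Type u} [SetLike σ R] [AddSubgroupClass σ R]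
  (𝒜 : ι → σ) [GradedRing 𝒜]
variable {M : Type u} [AddCommGroup M] [Module R M] {τ : Type u} [SetLike τ M] [AddSubgroupClass τ M]
  (ℳ : ι → τ) [Decomposition ℳ] [SetLike.GradedSMul 𝒜 ℳ]

theorem mem_comp {g : ι} {x : M} : x ∈ GrLC.comp 𝒜 ℳ g ↔ x ∈ ℳ g := Iff.rfl

/-- The `R`-submodule generated by a submodule of a piece meets the piece in it. -/
theorem mem_of_mem_span_piece {g : ι} {W : Submodule (GrLC.deg0 𝒜) M} (hW : W ≤ GrLC.comp 𝒜 ℳ g)
    {x : M} (hx : x ∈ Submodule.span R (W : Set M)) : proj ℳ g x ∈ W := by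
  suffices H : ∀ a : R, proj ℳ g (a • x) ∈ W by simpa using H 1
  induction hx using Submodule.span_induction with
  | mem y hy =>
    intro a
    have e : proj ℳ g (a • y) = proj 𝒜 0 a • y := by
      refine spans_induction (spans_of_decomposition 𝒜) a (by simp)
        (fun p q hp hq => by rw [add_smul, map_add, hp, hq, map_add, add_smul]) fun b s hs => ?_
      have hyg : y ∈ ℳ g := hW hy
      rcases eq_or_ne b 0 with rfl | hb
      · rw [proj_of_mem 𝒜 hs, proj_of_mem ℳ (by simpa using smul_mem 𝒜 ℳ hs hyg)]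
      · rw [proj_of_mem_ne 𝒜 hs hb, zero_smul, proj_of_mem_ne ℳ (smul_mem 𝒜 ℳ hs hyg)]
        intro h
        exact hb (by simpa using h)
    rw [e]
    exact W.smul_mem ⟨_, proj_mem 𝒜 0 a⟩ hy
  | zero => intro a; simp
  | add y z _ _ hy hz => intro a; rw [smul_add, map_add]; exact add_mem (hy a) (hz a)
  | smul r y _ hy => intro a; rw [← mul_smul]; exact hy _

theorem span_piece_le_iff {g : ι} {W V : Submodule (GrLC.deg0 𝒜) (GrLC.comp 𝒜 ℳ g)} :
    Submodule.span R (W.map (GrLC.comp 𝒜 ℳ g).subtype : Set M) ≤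
      Submodule.span R (V.map (GrLC.comp 𝒜 ℳ g).subtype : Set M) ↔ W ≤ V := by
  refine ⟨fun h w hw => ?_, fun h => Submodule.span_mono (Submodule.map_mono h)⟩
  have hle : V.map (GrLC.comp 𝒜 ℳ g).subtype ≤ GrLC.comp 𝒜 ℳ g := by
    rintro _ ⟨v, _, rfl⟩; exact v.2
  have := mem_of_mem_span_piece 𝒜 ℳ hle (h (Submodule.subset_span ⟨w, hw, rfl⟩))
  rw [show proj ℳ g ((GrLC.comp 𝒜 ℳ g).subtype w) = (w : M) from proj_of_mem ℳ w.2] at this
  obtain ⟨v, hv, e⟩ := this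
  rwa [show v = w from Subtype.ext e] at hv

theorem piece_span_strictMono (g : ι) :
    StrictMono fun W : Submodule (GrLC.deg0 𝒜) (GrLC.comp 𝒜 ℳ g) =>
      Submodule.span R (W.map (GrLC.comp 𝒜 ℳ g).subtype : Set M) :=
  fun _ _ h => lt_of_le_not_ge ((span_piece_le_iff 𝒜 ℳ).2 h.le) fun h' =>
    h.not_ge ((span_piece_le_iff 𝒜 ℳ).1 h')

theorem isNoetherian_piece [IsNoetherian R M] (g : ι) :
    IsNoetherian (GrLC.deg0 𝒜) (GrLC.comp 𝒜 ℳ g) :=
  isNoetherian_iff'.2 (piece_span_strictMono 𝒜 ℳ g).wellFoundedGT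

theorem isArtinian_piece [IsArtinian R M] (g : ι) :
    IsArtinian (GrLC.deg0 𝒜) (GrLC.comp 𝒜 ℳ g) :=
  (piece_span_strictMono 𝒜 ℳ g).wellFoundedLT

theorem isNoetherianRing_deg0 [IsNoetherianRing R] : IsNoetherianRing (GrLC.deg0 𝒜) := by
  have : SetLike.GradedSMul 𝒜 𝒜 := ⟨fun _ _ _ _ hr hx => SetLike.mul_mem_graded hr hx⟩
  have := isNoetherian_piece 𝒜 𝒜 (0 : ι)
  let e : GrLC.comp 𝒜 𝒜 (0 : ι) ≃ₗ[GrLC.deg0 𝒜] GrLC.deg0 𝒜 :=
    { toFun := fun x => ⟨x.1, x.2⟩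
      invFun := fun x => ⟨x.1, x.2⟩
      map_add' := fun _ _ => rfl
      map_smul' := fun _ _ => rfl
      left_inv := fun _ => rfl
      right_inv := fun _ => rfl }
  exact isNoetherianRing_iff.2 (isNoetherian_of_linearEquiv e)

end Pieces

section Positive

variable {R : Type u} [CommRing R] {σ : Type u} [SetLike σ R] [AddSubgroupClass σ R]
  {𝒜 : ℤ → σ} [GradedRing 𝒜]

theorem eq_zero_of_neg_degree (hpos : ∀ n : ℤ, n < 0 → ∀ r ∈ 𝒜 n, r = 0) {r : R} {n : ℤ}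
    (hn : n < 0) (hr : r ∈ 𝒜 n) : r = 0 := hpos n hn r hr

/-- Elements of the ideal generated in positive degrees have no component in degree `≤ 0`. -/
theorem proj_eq_zero_of_mem_pos (hpos : ∀ n : ℤ, n < 0 → ∀ r ∈ 𝒜 n, r = 0) {a : Ideal R}
    (ha : a = Ideal.span (⋃ n ∈ Set.Ioi (0 : ℤ), (𝒜 n : Set R))) {x : R} (hx : x ∈ a) {n : ℤ} (hn : n ≤ 0) :
    proj 𝒜 n x = 0 := by
  rw [ha] at hx
  suffices H : ∀ c : R, proj 𝒜 n (c * x) = 0 by simpa using H 1
  induction hx using Submodule.span_induction with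
  | mem y hy =>
    simp only [Set.mem_iUnion, Set.mem_Ioi, SetLike.mem_coe, exists_prop] at hy
    obtain ⟨k, hk, hy⟩ := hy
    intro c
    refine spans_induction (spans_of_decomposition 𝒜) c (by simp)
      (fun p q hp hq => by rw [add_mul, map_add, hp, hq, add_zero]) fun b s hs => ?_
    rcases eq_or_ne (b + k) n with e | e
    · rw [eq_zero_of_neg_degree hpos (by omega : b < 0) hs]; simp
    · exact proj_of_mem_ne 𝒜 (SetLike.mul_mem_graded hs hy) e
  | zero => intro c; simp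
  | add y z _ _ hy hz => intro c; rw [mul_add, map_add, hy, hz, add_zero]
  | smul r y _ hy => intro c; rw [smul_eq_mul, ← mul_assoc]; exact hy _

/-- Homogeneous generators of positive degree of the irrelevant ideal. -/
theorem exists_pos_gens [IsNoetherianRing R] (hpos : ∀ n : ℤ, n < 0 → ∀ r ∈ 𝒜 n, r = 0)
    (a : HomogeneousIdeal 𝒜) (ha : a.toIdeal = Ideal.span (⋃ n ∈ Set.Ioi (0 : ℤ), (𝒜 n : Set R))) :
    ∃ (k : ℕ) (e : Fin k → ℤ) (x : Fin k → R),
      (∀ j, 0 < e j ∧ x j ∈ 𝒜 (e j)) ∧ a.toIdeal = Ideal.span (Set.range x) := by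
  classical
  obtain ⟨s, hs⟩ := (IsNoetherian.noetherian a.toIdeal : a.toIdeal.FG)
  let T : Finset (ℤ × R) := s.biUnion fun m => ((degs 𝒜 m).filter (0 < ·)).image fun g => (g, proj 𝒜 g m)
  refine ⟨T.card, fun i => (T.equivFin.symm i).1.1, fun i => (T.equivFin.symm i).1.2, fun j => ?_,
    le_antisymm ?_ ?_⟩
  · obtain ⟨m, -, hp⟩ := Finset.mem_biUnion.1 (T.equivFin.symm j).2
    obtain ⟨g, hg, e⟩ := Finset.mem_image.1 hp
    dsimp only
    rw [← e]
    exact ⟨(Finset.mem_filter.1 hg).2, proj_mem 𝒜 g m⟩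
  · conv_lhs => rw [← hs]
    refine Submodule.span_le.2 fun m hm => ?_
    rw [SetLike.mem_coe, ← sum_proj 𝒜 m]
    refine Submodule.sum_mem _ fun g hg => Ideal.subset_span ?_
    have hg0 : 0 < g := by
      by_contra h
      exact (mem_degs 𝒜).1 hg (proj_eq_zero_of_mem_pos hpos ha (hs ▸ Submodule.subset_span hm) (not_lt.1 h))
    have hp : (g, proj 𝒜 g m) ∈ T :=
      Finset.mem_biUnion.2 ⟨m, hm, Finset.mem_image.2 ⟨g, Finset.mem_filter.2 ⟨hg, hg0⟩, rfl⟩⟩
    exact ⟨T.equivFin ⟨_, hp⟩, by simp⟩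
  · rw [Ideal.span_le]
    rintro _ ⟨j, rfl⟩
    obtain ⟨m, hm, hp⟩ := Finset.mem_biUnion.1 (T.equivFin.symm j).2
    obtain ⟨g, -, e⟩ := Finset.mem_image.1 hp
    show (T.equivFin.symm j).1.2 ∈ a.toIdeal
    rw [← e]
    exact a.isHomogeneous g (hs ▸ Submodule.subset_span hm)

/-- Large degrees lie in high powers of the irrelevant ideal. -/
theorem exists_degree_bound [IsNoetherianRing R] (hpos : ∀ n : ℤ, n < 0 → ∀ r ∈ 𝒜 n, r = 0)
    (a : HomogeneousIdeal 𝒜) (ha : a.toIdeal = Ideal.span (⋃ n ∈ Set.Ioi (0 : ℤ), (𝒜 n : Set R))) :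
    ∃ D : ℤ, 0 < D ∧ ∀ (N : ℕ) (n : ℤ), (N : ℤ) * D ≤ n → ∀ r ∈ 𝒜 n, r ∈ a.toIdeal ^ N := by
  classical
  obtain ⟨k, e, x, hx, hax⟩ := exists_pos_gens hpos a ha
  refine ⟨1 + ∑ j, e j, ?_, fun N => ?_⟩
  · have : 0 ≤ ∑ j, e j := Finset.sum_nonneg fun j _ => (hx j).1.le
    omega
  induction N with
  | zero => intro n _ r _; rw [pow_zero, Ideal.one_eq_top]; exact Submodule.mem_top
  | succ N ih =>
    intro n hn r hr
    have hsum0 : 0 ≤ ∑ j, e j := Finset.sum_nonneg fun j _ => (hx j).1.le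
    have hn' : ((N : ℤ) + 1) * (1 + ∑ j, e j) ≤ n := by exact_mod_cast hn
    have hra : r ∈ a.toIdeal := by
      rw [ha]
      refine Ideal.subset_span (Set.mem_biUnion (x := n) ?_ hr)
      show 0 < n
      nlinarith
    rw [hax] at hra
    obtain ⟨c, hc⟩ := (Submodule.mem_span_range_iff_exists_fun R).1 hra
    have : r = ∑ j, proj 𝒜 (n - e j) (c j) * x j := by
      conv_lhs => rw [← proj_of_mem 𝒜 hr, ← hc]
      rw [map_sum]
      refine Finset.sum_congr rfl fun j _ => ?_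
      rw [smul_eq_mul, mul_comm (c j), ← smul_eq_mul, proj_smul 𝒜 𝒜 (hx j).2, smul_eq_mul, mul_comm]
    rw [this, pow_succ]
    refine Submodule.sum_mem _ fun j _ => Ideal.mul_mem_mul (ih _ ?_ _ (proj_mem 𝒜 _ _))
      (hax ▸ Ideal.subset_span ⟨j, rfl⟩)
    have h1 : e j ≤ ∑ i, e i := Finset.single_le_sum (fun i _ => (hx i).1.le) (Finset.mem_univ j)
    linarith

variable {M : Type u} [AddCommGroup M] [Module R M] [Module.Finite R M] {τ : Type u} [SetLike τ M]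
  [AddSubgroupClass τ M] (ℳ : ℤ → τ) [Decomposition ℳ] [SetLike.GradedSMul 𝒜 ℳ]

include 𝒜 in
/-- A finite graded module killed by a power of the irrelevant ideal is bounded above. -/
theorem exists_bound_of_killed [IsNoetherianRing R] (hpos : ∀ n : ℤ, n < 0 → ∀ r ∈ 𝒜 n, r = 0)
    (a : HomogeneousIdeal 𝒜) (ha : a.toIdeal = Ideal.span (⋃ n ∈ Set.Ioi (0 : ℤ), (𝒜 n : Set R)))
    (N : ℕ) (hkill : ∀ r ∈ a.toIdeal ^ N, ∀ x : M, r • x = 0) :
    ∃ b : ℤ, ∀ n, b ≤ n → ∀ x ∈ ℳ n, x = 0 := by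
  classical
  obtain ⟨D, hD, hbound⟩ := exists_degree_bound hpos a ha
  obtain ⟨m, c, v, hv, hspan⟩ := exists_homogeneous_gens ℳ (R := R)
  refine ⟨(N : ℤ) * D + ∑ i, |c i|, fun n hn x hx => ?_⟩
  obtain ⟨r, hr⟩ := (Submodule.mem_span_range_iff_exists_fun R).1 (hspan ▸ Submodule.mem_top : x ∈ Submodule.span R (Set.range v))
  rw [← proj_of_mem ℳ hx, ← hr, map_sum]
  refine Finset.sum_eq_zero fun i _ => ?_
  refine spans_induction (spans_of_decomposition 𝒜) (r i) (by simp)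
    (fun p q hp hq => by rw [add_smul, map_add, hp, hq, add_zero]) fun b s hs => ?_
  rcases eq_or_ne (b + c i) n with e | e
  · have h1 : |c i| ≤ ∑ j, |c j| := Finset.single_le_sum (fun j _ => abs_nonneg (c j)) (Finset.mem_univ i)
    rw [hkill s (hbound N b (by linarith [le_abs_self (c i)]) s hs), map_zero]
  · exact proj_of_mem_ne ℳ (smul_mem 𝒜 ℳ hs (hv i)) e

end Positive

end Groth.Agent.GrLC21
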