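import Groth.Agent.Lib.GrLC21.Cofree
import Mathlib.Order.Zorn
import Mathlib.LinearAlgebra.Isomorphisms
import Mathlib.LinearAlgebra.Prod

/-!
# *injective modules, *essential extensions and *injective envelopes
-/

universe u

open DirectSum

noncomputable section

set_option linter.unusedSectionVars false

namespace Groth.Agent.GrLC21

variable {ι : Type} [AddCommGroup ι] [DecidableEq ι]
variable {R : Type u} [CommRing R] {σ : Type u} [SetLike σ R] [AddSubgroupClass σ R]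
  {𝒜 : ι → σ} [GradedRing 𝒜]
variable {I : Type u} [AddCommGroup I] [Module R I] {τ : Type u} [SetLike τ I] [AddSubgroupClass τ I]
  {ℐ : ι → τ} [Decomposition ℐ] [SetLike.GradedSMul 𝒜 ℐ]

/-! ## Extension of maps -/

/-- Extend through a map whose kernel is killed. -/
theorem exists_extend (hI : GrLC.IsStarInj 𝒜 ℐ) {X Y : GrLC.GMod.{u} 𝒜}
    {d : X.carrier →ₗ[R] Y.carrier} (hd : GrLC.IsGrHom X.gr Y.gr d) {u : X.carrier →ₗ[R] I}
    (hu : GrLC.IsGrHom X.gr ℐ u) (hk : LinearMap.ker d ≤ LinearMap.ker u) :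
    ∃ w : Y.carrier →ₗ[R] I, GrLC.IsGrHom Y.gr ℐ w ∧ w ∘ₗ d = u := by
  obtain ⟨u', hu', hu'2⟩ := exists_quot_lift X (isHomogeneous_ker hd) hu hk
  obtain ⟨d', hd', hd'2⟩ := exists_quot_lift X (isHomogeneous_ker hd) hd le_rfl
  have hinj : Function.Injective d' := by
    rw [injective_iff_map_eq_zero]
    intro q hq
    obtain ⟨x, rfl⟩ := quotπ_surjective X _ (isHomogeneous_ker hd) q
    exact (Submodule.Quotient.mk_eq_zero _).2 ((LinearMap.congr_fun hd'2 x).symm.trans hq)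
  obtain ⟨w, hw, hw2⟩ := hI _ Y d' hd' hinj u' hu'
  refine ⟨w, hw, ?_⟩
  rw [← hd'2, ← LinearMap.comp_assoc, hw2, hu'2]

theorem exists_retraction (hI : GrLC.IsStarInj 𝒜 ℐ) {Y : GrLC.GMod.{u} 𝒜} {f : I →ₗ[R] Y.carrier}
    (hf : GrLC.IsGrHom ℐ Y.gr f) (hi : Function.Injective f) :
    ∃ r : Y.carrier →ₗ[R] I, GrLC.IsGrHom Y.gr ℐ r ∧ r ∘ₗ f = LinearMap.id :=
  exists_extend hI (X := toGMod 𝒜 ℐ) (d := f) hf (u := LinearMap.id) (fun _ _ h => h)
    (fun x hx => show x = 0 from hi (hx.trans f.map_zero.symm))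

theorem starInj_of_retract {J : Type u} [AddCommGroup J] [Module R J] {τ' : Type u} [SetLike τ' J]
    [AddSubgroupClass τ' J] {𝒥 : ι → τ'} [Decomposition 𝒥] [SetLike.GradedSMul 𝒜 𝒥]
    (hI : GrLC.IsStarInj 𝒜 ℐ) (i : J →ₗ[R] I) (r : I →ₗ[R] J) (hi : GrLC.IsGrHom 𝒥 ℐ i)
    (hr : GrLC.IsGrHom ℐ 𝒥 r) (h : r ∘ₗ i = LinearMap.id) : GrLC.IsStarInj 𝒜 𝒥 := by
  intro A B f hf hfi g hg
  obtain ⟨w, hw, hw2⟩ := hI A B f hf hfi (i ∘ₗ g) (isGrHom_comp hi hg)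
  refine ⟨r ∘ₗ w, isGrHom_comp hr hw, ?_⟩
  rw [LinearMap.comp_assoc, hw2, ← LinearMap.comp_assoc, h, LinearMap.id_comp]

theorem starInj_prod {X Y : GrLC.GMod.{u} 𝒜} (hX : GrLC.IsStarInj 𝒜 X.gr)
    (hY : GrLC.IsStarInj 𝒜 Y.gr) : GrLC.IsStarInj 𝒜 (prod X Y).gr := by
  intro A B f hf hfi g hg
  obtain ⟨w₁, h₁, e₁⟩ := hX A B f hf hfi (LinearMap.fst R X.carrier Y.carrier ∘ₗ g)
    fun n a ha => (hg n a ha).1
  obtain ⟨w₂, h₂, e₂⟩ := hY A B f hf hfi (LinearMap.snd R X.carrier Y.carrier ∘ₗ g)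
    fun n a ha => (hg n a ha).2
  refine ⟨w₁.prod w₂, fun n b hb => ⟨h₁ n b hb, h₂ n b hb⟩, LinearMap.ext fun a => ?_⟩
  exact Prod.ext (LinearMap.congr_fun e₁ a) (LinearMap.congr_fun e₂ a)

theorem starInj_shift {X : GrLC.GMod.{u} 𝒜} (hX : GrLC.IsStarInj 𝒜 X.gr) (d : ι) :
    GrLC.IsStarInj 𝒜 (shift X d).gr := by
  intro A B f hf hfi g hg
  obtain ⟨w, hw, e⟩ := hX (shift A (-d)) (shift B (-d))
    (toShift B (-d) ∘ₗ f ∘ₗ ofShift A (-d))
    (fun n a ha => hf (n - -d) a ha) hfi (ofShift X d ∘ₗ g ∘ₗ ofShift A (-d))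
    fun n a ha => by
      have h : g (ofShift A (-d) a) ∈ X.gr (n - -d - d) := hg (n - -d) a ha
      rwa [sub_neg_eq_add, add_sub_cancel_right] at h
  refine ⟨toShift X d ∘ₗ w ∘ₗ toShift B (-d), fun n b hb => ?_, LinearMap.ext fun a => LinearMap.congr_fun e a⟩
  exact hw (n - d) b (mem_shift.2 (by rwa [sub_neg_eq_add, sub_add_cancel]))

/-! ## *essential extensions -/

/-- Every nonzero homogeneous element of `E` has a multiple in `M'`. -/
def EssOver {X : GrLC.GMod.{u} 𝒜} (M' E : Submodule R X.carrier) : Prop :=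
  ∀ g, ∀ x ∈ X.gr g, x ∈ E → x ≠ 0 → ∃ r : R, r • x ∈ M' ∧ r • x ≠ 0

theorem EssOver.refl {X : GrLC.GMod.{u} 𝒜} (M' : Submodule R X.carrier) : EssOver M' M' :=
  fun _ x _ hx h0 => ⟨1, by rwa [one_smul], by rwa [one_smul]⟩

theorem EssOver.trans {X : GrLC.GMod.{u} 𝒜} {M' E F : Submodule R X.carrier}
    (hE : E.IsHomogeneous X.gr) (h₁ : EssOver M' E) (h₂ : EssOver E F) : EssOver M' F := by
  intro g x hx hxF h0
  obtain ⟨r, hr, hr0⟩ := h₂ g x hx hxF h0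
  obtain ⟨a, s, hs, hsE, hs0⟩ := exists_homogeneous_smul 𝒜 hE hx hr0 hr
  obtain ⟨t, ht, ht0⟩ := h₁ _ _ (smul_mem 𝒜 X.gr hs hx) hsE hs0
  exact ⟨t * s, by rwa [mul_smul], by rwa [mul_smul]⟩

variable (𝒜) in
include 𝒜 in
/-- The elementwise criterion for *essential. -/
theorem isStarEss_iff {M : Type u} [AddCommGroup M] [Module R M] {τ' : Type u} [SetLike τ' M]
    [AddSubgroupClass τ' M] {ℳ : ι → τ'} {f : M →ₗ[R] I} :
    GrLC.IsStarEss ℳ ℐ f ↔ Function.Injective f ∧ GrLC.IsGrHom ℳ ℐ f ∧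
      ∀ g, ∀ x ∈ ℐ g, x ≠ 0 → ∃ r : R, r • x ∈ LinearMap.range f ∧ r • x ≠ 0 := by
  refine ⟨fun h => ⟨h.injective, h.grHom, fun g x hx h0 => ?_⟩, fun h => ⟨h.1, h.2.1, fun P hP hP0 hbot => ?_⟩⟩
  · have := h.essential (R ∙ x) (isHomogeneous_span_singleton 𝒜 hx)
      (by simpa [Submodule.span_singleton_eq_bot] using h0)
    obtain ⟨y, ⟨hy, hyf⟩, hy0⟩ := (Submodule.ne_bot_iff _).1 this
    obtain ⟨r, rfl⟩ := Submodule.mem_span_singleton.1 hy
    exact ⟨r, hyf, hy0⟩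
  · obtain ⟨g, x, hx, hxP, h0⟩ := exists_homogeneous_ne_zero hP hP0
    obtain ⟨r, hr, hr0⟩ := h.2.2 g x hx h0
    exact hr0 ((Submodule.mem_bot R).1 (hbot ▸ (⟨P.smul_mem r hxP, hr⟩ : r • x ∈ P ⊓ LinearMap.range f)))

theorem injective_of_isStarEss_comp {M : Type u} [AddCommGroup M] [Module R M] {τ' : Type u}
    [SetLike τ' M] [AddSubgroupClass τ' M] {ℳ : ι → τ'} {f : M →ₗ[R] I} (hf : GrLC.IsStarEss ℳ ℐ f)
    {N : Type u} [AddCommGroup N] [Module R N] {τ'' : Type u} [SetLike τ'' N] [AddSubgroupClass τ'' N]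
    {𝒩 : ι → τ''} [Decomposition 𝒩] {h : I →ₗ[R] N} (hh : GrLC.IsGrHom ℐ 𝒩 h)
    (hi : Function.Injective (h ∘ₗ f)) : Function.Injective h := by
  rw [← LinearMap.ker_eq_bot]
  by_contra hne
  refine hf.essential _ (isHomogeneous_ker hh) hne (Submodule.eq_bot_iff _ |>.2 ?_)
  rintro _ ⟨hx, m, rfl⟩
  rw [hi (a₁ := m) (a₂ := 0) (by rw [map_zero]; exact hx), map_zero]

/-- *essential implies essential. -/
theorem exists_smul_of_isStarEss {M : Type u} [AddCommGroup M] [Module R M] {τ' : Type u}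
    [SetLike τ' M] [AddSubgroupClass τ' M] {ℳ : ι → τ'} (hs : Spans ℳ) {f : M →ₗ[R] I}
    (hf : GrLC.IsStarEss ℳ ℐ f) (x : I) (hx : x ≠ 0) :
    ∃ a, ∃ r ∈ 𝒜 a, r • x ∈ LinearMap.range f ∧ r • x ≠ 0 := by
  classical
  have hrange := isHomogeneous_range (𝒩 := ℐ) hs hf.grHom
  suffices H : ∀ (n : ℕ) (x : I), (degs ℐ x).card = n → x ≠ 0 →
      ∃ a, ∃ r ∈ 𝒜 a, r • x ∈ LinearMap.range f ∧ r • x ≠ 0 from H _ x rfl hx
  intro n
  induction n using Nat.strong_induction_on with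
  | _ n ih =>
    intro x hn hx
    obtain ⟨g, hg⟩ : ∃ g, proj ℐ g x ≠ 0 := by
      by_contra! h
      exact hx (eq_zero_of_proj ℐ h)
    obtain ⟨-, -, hel⟩ := (isStarEss_iff 𝒜 (ℳ := ℳ)).1 hf
    obtain ⟨r, hr, hr0⟩ := hel g _ (proj_mem ℐ g x) hg
    obtain ⟨a, s, hs', hsr, hs0⟩ := exists_homogeneous_smul 𝒜 hrange (proj_mem ℐ g x) hr0 hr
    by_cases hy : s • (x - proj ℐ g x) = 0
    · refine ⟨a, s, hs', ?_⟩
      rw [smul_sub, sub_eq_zero] at hy
      rw [hy]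
      exact ⟨hsr, hs0⟩
    · have hzero : proj ℐ g (x - proj ℐ g x) = 0 := by
        rw [map_sub, proj_of_mem ℐ (proj_mem ℐ g x), sub_self]
      have hsub : degs ℐ (x - proj ℐ g x) ⊆ (degs ℐ x).erase g := by
        intro h hh
        rw [mem_degs] at hh
        refine Finset.mem_erase.2 ⟨fun e => hh (e ▸ hzero), (mem_degs ℐ).2 ?_⟩
        intro h0
        refine hh ?_
        rw [map_sub, h0, zero_sub, neg_eq_zero]
        rcases eq_or_ne g h with rfl | e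
        · rw [proj_of_mem ℐ (proj_mem ℐ g x)]; exact h0
        · exact proj_of_mem_ne ℐ (proj_mem ℐ g x) e
      have hy0 : x - proj ℐ g x ≠ 0 := fun e => hy (by rw [e, smul_zero])
      have hmem : g ∈ degs ℐ x := (mem_degs ℐ).2 hg
      have hdeg : degs ℐ (s • (x - proj ℐ g x)) ⊆ ((degs ℐ x).erase g).image (a + ·) := fun h hh => by
        rw [mem_degs, proj_smul 𝒜 ℐ hs'] at hh
        refine Finset.mem_image.2 ⟨h - a, hsub ((mem_degs ℐ).2 fun e => hh (by rw [e, smul_zero])), ?_⟩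
        exact add_sub_cancel a h
      obtain ⟨b, t, ht, hty, hty0⟩ := ih _ (hn ▸ lt_of_le_of_lt
        ((Finset.card_le_card hdeg).trans Finset.card_image_le) (Finset.card_erase_lt_of_mem hmem))
        _ rfl hy
      have hxy : (t * s) • x = t • (s • (x - proj ℐ g x)) + t • (s • proj ℐ g x) := by
        rw [← smul_add, ← smul_add, sub_add_cancel, mul_smul]
      refine ⟨b + a, t * s, SetLike.mul_mem_graded ht hs', ?_, ?_⟩
      · rw [hxy]
        exact add_mem hty ((LinearMap.range f).smul_mem t hsr)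
      · intro e
        rw [hxy] at e
        refine hty0 (eq_zero_of_proj ℐ fun h => ?_)
        have e' := congrArg (proj ℐ h) e
        rw [map_add, map_zero] at e'
        rcases eq_or_ne (b + (a + g)) h with rfl | ne
        · rw [proj_smul 𝒜 ℐ ht, add_sub_cancel_left, proj_smul 𝒜 ℐ hs', add_sub_cancel_left, hzero,
            smul_zero, smul_zero]
        · rwa [proj_of_mem_ne ℐ (smul_mem 𝒜 ℐ ht (smul_mem 𝒜 ℐ hs' (proj_mem ℐ g x))) ne,
            add_zero] at e'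

end Groth.Agent.GrLC21
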