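import Groth.Agent.Lib.GrLC21.Acyclic

/-!
# Comparison of resolutions for two gradings of the same module

A chain map between *injective resolutions over possibly different gradings lifting the identity
induces a bijection on the cohomology of the torsion complexes: its augmented cone is an exact
complex of acyclic modules.
-/

universe u

open DirectSum Groth.Agent.InjHullLib

noncomputable section

set_option linter.unusedSectionVars false

namespace Groth.Agent.GrLC21

section General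

variable {R : Type u} [CommRing R] [IsNoetherianRing R]

/-- No higher local cohomology. -/
def Acyc (I : Ideal R) (N : Type u) [AddCommGroup N] [Module R N] : Prop :=
  ∀ j : ℕ, Subsingleton (LocCoh.H I (j + 1) N)

theorem acyc_prod {I : Ideal R} {A B : Type u} [AddCommGroup A] [Module R A] [AddCommGroup B] [Module R B]
    (hA : Acyc I A) (hB : Acyc I B) : Acyc I (A × B) := fun j =>
  LocCohLib.subsingleton_mid I (f := LinearMap.inl R A B) (g := LinearMap.snd R A B)
    LinearMap.inl_injective LinearMap.snd_surjective Function.Exact.inl_snd (j + 1) (hA j) (hB j)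

theorem acyc_of_equiv {I : Ideal R} {A B : Type u} [AddCommGroup A] [Module R A] [AddCommGroup B]
    [Module R B] (e : A ≃ₗ[R] B) (hA : Acyc I A) : Acyc I B := fun j =>
  have := hA j
  (LocCohLib.hcongr I (j + 1) e).symm.injective.subsingleton

theorem exists_torsion_preimage {I : Ideal R} {A B C : Type u} [AddCommGroup A] [Module R A]
    [AddCommGroup B] [Module R B] [AddCommGroup C] [Module R C] {f : A →ₗ[R] B} {g : B →ₗ[R] C}
    (hf : Function.Injective f) (hg : Function.Surjective g) (hfg : Function.Exact f g)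
    (hA : Acyc I A) (hB : Acyc I B) {c : C} (hc : c ∈ GrLC.gam I C) :
    ∃ b ∈ GrLC.gam I B, g b = c := by
  obtain ⟨e⟩ := LocCohLib.nonempty_h1Equiv I hf hg hfg (hB 0)
  have := hA 0
  have := e.injective.subsingleton
  have hq : (⟨c, by rw [powTors_eq_gam]; exact hc⟩ : powTors I C) ∈ LocCohLib.torsImage I g :=
    (Submodule.Quotient.mk_eq_zero _).1 (Subsingleton.elim _ _)
  obtain ⟨b, hb, e'⟩ := (LocCohLib.mem_torsImage I _).1 hq
  exact ⟨b, by rw [← powTors_eq_gam]; exact hb, e'⟩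

end General

section Cone

variable {ι κ : Type} [AddCommGroup ι] [DecidableEq ι] [AddCommGroup κ] [DecidableEq κ]
variable {R : Type u} [CommRing R] [IsNoetherianRing R] {σ σ' : Type u} [SetLike σ R]
  [AddSubgroupClass σ R] [SetLike σ' R] [AddSubgroupClass σ' R]
  {𝒜 : ι → σ} [GradedRing 𝒜] {𝒜' : κ → σ'} [GradedRing 𝒜']
variable {M : Type u} [AddCommGroup M] [Module R M] {τ τ' : Type u} [SetLike τ M] [AddSubgroupClass τ M]
  [SetLike τ' M] [AddSubgroupClass τ' M]
  {ℳ : ι → τ} [Decomposition ℳ] [SetLike.GradedSMul 𝒜 ℳ]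
  {ℳ' : κ → τ'} [Decomposition ℳ'] [SetLike.GradedSMul 𝒜' ℳ']
  (E : GrLC.StarInjRes 𝒜 ℳ) (E' : GrLC.StarInjRes 𝒜' ℳ')

/-- A chain map lifting the identity, not tested against any grading. -/
structure PlainMap where
  /-- the components -/
  f : ∀ n, (E.X n).carrier →ₗ[R] (E'.X n).carrier
  comm : ∀ n x, E'.d n (f n x) = f (n + 1) (E.d n x)
  aug : ∀ m, f 0 (E.ε m) = E'.ε m

variable {E E'} (F : PlainMap E E')

/-- The differential of the cone. -/
def PlainMap.coneD (n : ℕ) :
    (E.X (n + 1)).carrier × (E'.X n).carrier →ₗ[R] (E.X (n + 2)).carrier × (E'.X (n + 1)).carrier :=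
  LinearMap.prod (-(E.d (n + 1) ∘ₗ LinearMap.fst R _ _))
    (F.f (n + 1) ∘ₗ LinearMap.fst R _ _ + E'.d n ∘ₗ LinearMap.snd R _ _)

theorem PlainMap.coneD_apply (n : ℕ) (x : (E.X (n + 1)).carrier) (x' : (E'.X n).carrier) :
    F.coneD n (x, x') = (-E.d (n + 1) x, F.f (n + 1) x + E'.d n x') := rfl

/-- The first differential of the augmented cone. -/
def PlainMap.cone₀ : (E.X 0).carrier →ₗ[R] (E.X 1).carrier × (E'.X 0).carrier :=
  LinearMap.prod (-E.d 0) (F.f 0)

theorem PlainMap.cone₀_injective : Function.Injective F.cone₀ := by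
  rw [injective_iff_map_eq_zero]
  intro x hx
  have h1 : -E.d 0 x = 0 := congrArg Prod.fst hx
  have h2 : F.f 0 x = 0 := congrArg Prod.snd hx
  have : x ∈ LinearMap.range E.ε := E.exact_zero ▸ LinearMap.mem_ker.2 (neg_eq_zero.1 h1)
  obtain ⟨m, rfl⟩ := this
  rw [F.aug] at h2
  rw [E'.ε_injective (h2.trans (map_zero _).symm), map_zero]

theorem PlainMap.range_cone₀ : LinearMap.range F.cone₀ = LinearMap.ker (F.coneD 0) := by
  refine le_antisymm ?_ fun ⟨x, x'⟩ hx => ?_
  · rintro _ ⟨y, rfl⟩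
    show F.coneD 0 (-E.d 0 y, F.f 0 y) = 0
    rw [F.coneD_apply, map_neg, d_d, neg_zero, neg_zero, map_neg, F.comm, neg_add_cancel]
    rfl
  · have h1 : -E.d 1 x = 0 := congrArg Prod.fst hx
    have h2 : F.f 1 x + E'.d 0 x' = 0 := congrArg Prod.snd hx
    have h : x ∈ LinearMap.range (E.d 0) := E.exact_succ 0 ▸ LinearMap.mem_ker.2 (neg_eq_zero.1 h1)
    obtain ⟨y, rfl⟩ := h
    have h3 : F.f 0 y + x' ∈ LinearMap.range E'.ε := by
      rw [← E'.exact_zero, LinearMap.mem_ker, map_add, F.comm, h2]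
    obtain ⟨m, hm⟩ := h3
    refine ⟨-(y - E.ε m), Prod.ext ?_ ?_⟩
    · show -E.d 0 (-(y - E.ε m)) = E.d 0 y
      have h0 : E.d 0 (E.ε m) = 0 := LinearMap.mem_ker.1 (E.exact_zero ▸ LinearMap.mem_range_self E.ε m)
      rw [map_neg, neg_neg, map_sub, h0, sub_zero]
    · show F.f 0 (-(y - E.ε m)) = x'
      rw [map_neg, map_sub, F.aug, hm]
      abel

theorem PlainMap.range_coneD (n : ℕ) : LinearMap.range (F.coneD n) = LinearMap.ker (F.coneD (n + 1)) := by
  refine le_antisymm ?_ fun ⟨x, x'⟩ hx => ?_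
  · rintro _ ⟨⟨y, y'⟩, rfl⟩
    rw [LinearMap.mem_ker, F.coneD_apply, F.coneD_apply, map_neg, d_d, neg_zero, neg_zero, map_neg,
      map_add, d_d, add_zero, F.comm, neg_add_cancel]
    rfl
  · have h1 : -E.d (n + 2) x = 0 := congrArg Prod.fst hx
    have h2 : F.f (n + 2) x + E'.d (n + 1) x' = 0 := congrArg Prod.snd hx
    have h : x ∈ LinearMap.range (E.d (n + 1)) :=
      E.exact_succ (n + 1) ▸ LinearMap.mem_ker.2 (neg_eq_zero.1 h1)
    obtain ⟨y, rfl⟩ := h
    have h3 : F.f (n + 1) y + x' ∈ LinearMap.range (E'.d n) := by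
      rw [← E'.exact_succ n, LinearMap.mem_ker, map_add, F.comm, h2]
    obtain ⟨w, hw⟩ := h3
    refine ⟨(-y, w), ?_⟩
    rw [F.coneD_apply, map_neg, neg_neg, map_neg, hw]
    exact Prod.ext rfl (by show -F.f (n + 1) y + (F.f (n + 1) y + x') = x'; abel)

/-- The map to the next kernel. -/
def PlainMap.toKer (n : ℕ) :
    (E.X (n + 1)).carrier × (E'.X n).carrier →ₗ[R] LinearMap.ker (F.coneD (n + 1)) :=
  (F.coneD n).codRestrict _ fun x => (F.range_coneD n) ▸ LinearMap.mem_range_self _ x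

theorem PlainMap.toKer_surjective (n : ℕ) : Function.Surjective (F.toKer n) := fun z => by
  obtain ⟨y, hy⟩ := (F.range_coneD n).ge z.2
  exact ⟨y, Subtype.ext hy⟩

theorem PlainMap.exact_toKer (n : ℕ) :
    Function.Exact (LinearMap.ker (F.coneD n)).subtype (F.toKer n) := fun x =>
  ⟨fun h => ⟨⟨x, congrArg Subtype.val h⟩, rfl⟩, by rintro ⟨y, rfl⟩; exact Subtype.ext y.2⟩

variable (a : HomogeneousIdeal 𝒜) (a' : HomogeneousIdeal 𝒜') (ha : a'.toIdeal = a.toIdeal)

include F ha in
theorem PlainMap.acyc_term (n : ℕ) : Acyc a.toIdeal ((E.X (n + 1)).carrier × (E'.X n).carrier) :=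
  acyc_prod (fun j => localCohomology_subsingleton (E.starInj (n + 1)) a j)
    fun j => ha ▸ localCohomology_subsingleton (E'.starInj n) a' j

include ha in
theorem PlainMap.acyc_ker (n : ℕ) : Acyc a.toIdeal (LinearMap.ker (F.coneD n)) := by
  induction n with
  | zero =>
    exact acyc_of_equiv ((LinearEquiv.ofInjective F.cone₀ F.cone₀_injective).trans
      (LinearEquiv.ofEq _ _ F.range_cone₀)) fun j => localCohomology_subsingleton (E.starInj 0) a j
  | succ n ih =>
    exact fun j => LocCohLib.subsingleton_right a.toIdeal (Submodule.subtype_injective _)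
      (F.toKer_surjective n) (F.exact_toKer n) (j + 1) (F.acyc_term a a' ha n j) (ih (j + 1))

theorem PlainMap.exists_gam_zero {z : (E.X 1).carrier × (E'.X 0).carrier}
    (hz : z ∈ GrLC.gam a.toIdeal _) (hD : F.coneD 0 z = 0) :
    ∃ y ∈ GrLC.gam a.toIdeal (E.X 0).carrier, F.cone₀ y = z := by
  obtain ⟨y, rfl⟩ := F.range_cone₀.ge hD
  exact ⟨y, mem_gam_of_injective _ F.cone₀_injective hz, rfl⟩

include ha in
theorem PlainMap.exists_gam_succ (n : ℕ) {z : (E.X (n + 2)).carrier × (E'.X (n + 1)).carrier}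
    (hz : z ∈ GrLC.gam a.toIdeal _) (hD : F.coneD (n + 1) z = 0) :
    ∃ y ∈ GrLC.gam a.toIdeal _, F.coneD n y = z := by
  obtain ⟨y, hy, e⟩ := exists_torsion_preimage (Submodule.subtype_injective _) (F.toKer_surjective n)
    (F.exact_toKer n) (F.acyc_ker a a' ha n) (F.acyc_term a a' ha n) (c := ⟨z, hD⟩)
    (mem_gam_of_injective (LinearMap.ker (F.coneD (n + 1))).subtype (Submodule.subtype_injective _) hz)
  exact ⟨y, hy, congrArg Subtype.val e⟩

theorem mem_gam_prod {I : Ideal R} {A B : Type u} [AddCommGroup A] [Module R A] [AddCommGroup B]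
    [Module R B] {a : A} {b : B} (ha : a ∈ GrLC.gam I A) (hb : b ∈ GrLC.gam I B) :
    (a, b) ∈ GrLC.gam I (A × B) := by
  have h : ((a, b) : A × B) = LinearMap.inl R A B a + LinearMap.inr R A B b := by simp
  rw [h]
  exact add_mem (map_mem_gam _ ha) (map_mem_gam _ hb)

/-- The map on cocycles. -/
def PlainMap.onCocyc (i : ℕ) : E.cocyc a i →ₗ[R] E'.cocyc a' i :=
  ((F.f i).comp (E.cocyc a i).subtype).codRestrict _ fun z =>
    ⟨by rw [ha]; exact map_mem_gam (F.f i) z.2.1,
      (F.comm i z).trans ((congrArg _ (LinearMap.mem_ker.1 z.2.2)).trans (map_zero _))⟩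

/-- The map on cohomology. -/
def PlainMap.onH (i : ℕ) : E.H a i →ₗ[R] E'.H a' i :=
  Submodule.liftQ _ (E'.toH a' i ∘ₗ F.onCocyc a a' ha i) fun z hz => by
    refine (toH_eq_zero_iff E' a' _).2 ?_
    rcases i with _ | n
    · show F.f 0 z.1 ∈ (⊥ : Submodule R (E'.X 0).carrier)
      rw [Submodule.mem_bot, show (z : (E.X 0).carrier) = 0 from (Submodule.mem_bot R).1 hz, map_zero]
    · obtain ⟨y, hy, e⟩ := hz
      exact ⟨F.f n y, by rw [ha]; exact map_mem_gam (F.f n) hy, (F.comm n y).trans (congrArg _ e)⟩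

theorem PlainMap.onH_toH (i : ℕ) (z : E.cocyc a i) :
    F.onH a a' ha i (E.toH a i z) = E'.toH a' i (F.onCocyc a a' ha i z) := rfl

theorem PlainMap.onH_bijective (i : ℕ) : Function.Bijective (F.onH a a' ha i) := by
  constructor
  · rw [injective_iff_map_eq_zero]
    intro x hx
    obtain ⟨z, rfl⟩ := toH_surjective E a i x
    rw [F.onH_toH] at hx
    have hx := (toH_eq_zero_iff E' a' _).1 hx
    refine (toH_eq_zero_iff E a _).2 ?_
    rcases i with _ | n
    · have h1 : F.f 0 z.1 = 0 := (Submodule.mem_bot R).1 hx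
      refine (Submodule.mem_bot R).2 (F.cone₀_injective (Prod.ext ?_ (h1.trans (map_zero (F.f 0)).symm)))
      show -E.d 0 z.1 = -E.d 0 0
      rw [show E.d 0 z.1 = 0 from z.2.2, map_zero]
    · obtain ⟨w, hw, e⟩ := hx
      have e : E'.d n w = F.f (n + 1) z.1 := e
      have hD : F.coneD n (z.1, -w) = 0 := by
        rw [F.coneD_apply, show E.d (n + 1) z.1 = 0 from z.2.2, map_neg, e, add_neg_cancel, neg_zero]
        rfl
      have hg : (z.1, -w) ∈ GrLC.gam a.toIdeal _ :=
        mem_gam_prod z.2.1 (neg_mem (by rw [← ha]; exact hw))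
      rcases n with _ | n
      · obtain ⟨y, hy, e'⟩ := F.exists_gam_zero a hg hD
        exact ⟨-y, neg_mem hy, (map_neg (E.d 0) y).trans (congrArg Prod.fst e')⟩
      · obtain ⟨⟨y, y'⟩, hy, e'⟩ := F.exists_gam_succ a a' ha n hg hD
        exact ⟨-y, neg_mem (map_mem_gam (LinearMap.fst R _ _) hy),
          (map_neg (E.d (n + 1)) y).trans (congrArg Prod.fst e')⟩
  · intro x
    obtain ⟨z, rfl⟩ := toH_surjective E' a' i x
    have hD : F.coneD i (0, z.1) = 0 := by
      rw [F.coneD_apply, show E'.d i z.1 = 0 from z.2.2, map_zero, map_zero, add_zero, neg_zero]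
      rfl
    have hg : ((0 : (E.X (i + 1)).carrier), z.1) ∈ GrLC.gam a.toIdeal _ :=
      mem_gam_prod (zero_mem _) (by rw [← ha]; exact z.2.1)
    rcases i with _ | n
    · obtain ⟨y, hy, e⟩ := F.exists_gam_zero a hg hD
      refine ⟨E.toH a 0 ⟨y, hy, neg_eq_zero.1 (congrArg Prod.fst e)⟩, ?_⟩
      exact congrArg (E'.toH a' 0) (Subtype.ext (congrArg Prod.snd e))
    · obtain ⟨⟨y, w⟩, hy, e⟩ := F.exists_gam_succ a a' ha n hg hD
      refine ⟨E.toH a (n + 1) ⟨y, map_mem_gam (LinearMap.fst R _ _) hy,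
        neg_eq_zero.1 (congrArg Prod.fst e)⟩, ?_⟩
      rw [F.onH_toH]
      refine (Submodule.Quotient.eq _).2 ?_
      show F.f (n + 1) y - z.1 ∈ E'.cobdy a' (n + 1)
      refine ⟨-w, neg_mem ?_, ?_⟩
      · rw [ha]; exact map_mem_gam (LinearMap.snd R _ _) hy
      · have h2 : F.f (n + 1) y + E'.d n w = z.1 := congrArg Prod.snd e
        rw [map_neg, ← h2]
        abel

end Cone

end Groth.Agent.GrLC21
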