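import Groth.Agent.Lib.GrLC21.Van
import Groth.Agent.Lib.GrLC21.Compare

/-!
# Maps factoring through classes of graded modules, and acyclicity
-/

universe u

open DirectSum

noncomputable section

set_option linter.unusedSectionVars false

namespace Groth.Agent.GrLC21

variable {ι : Type} [AddCommGroup ι] [DecidableEq ι]
variable {R : Type u} [CommRing R] {σ : Type u} [SetLike σ R] [AddSubgroupClass σ R]
  {𝒜 : ι → σ} [GradedRing 𝒜]
variable {M : Type u} [AddCommGroup M] [Module R M] {τ : Type u} [SetLike τ M] [AddSubgroupClass τ M]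
  {ℳ : ι → τ} [Decomposition ℳ] [SetLike.GradedSMul 𝒜 ℳ]
variable {N : Type u} [AddCommGroup N] [Module R N] {τ' : Type u} [SetLike τ' N] [AddSubgroupClass τ' N]
  {𝒩 : ι → τ'} [Decomposition 𝒩] [SetLike.GradedSMul 𝒜 𝒩]

theorem isGrHom_zero {M N : Type u} [AddCommGroup M] [Module R M] [AddCommGroup N] [Module R N]
    {τ τ' : Type u} [SetLike τ M] [SetLike τ' N] [AddSubgroupClass τ M] [AddSubgroupClass τ' N]
    (ℳ : ι → τ) (𝒩 : ι → τ') : GrLC.IsGrHom ℳ 𝒩 (0 : M →ₗ[R] N) := fun _ _ _ => zero_mem _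

theorem isGrHom_add {M N : Type u} [AddCommGroup M] [Module R M] [AddCommGroup N] [Module R N]
    {τ τ' : Type u} [SetLike τ M] [SetLike τ' N] [AddSubgroupClass τ M] [AddSubgroupClass τ' N]
    {ℳ : ι → τ} {𝒩 : ι → τ'} {f g : M →ₗ[R] N} (hf : GrLC.IsGrHom ℳ 𝒩 f)
    (hg : GrLC.IsGrHom ℳ 𝒩 g) : GrLC.IsGrHom ℳ 𝒩 (f + g) :=
  fun d m hm => by rw [LinearMap.add_apply]; exact add_mem (hf d m hm) (hg d m hm)

section Hmap

variable {E : GrLC.StarInjRes 𝒜 ℳ} {F : GrLC.StarInjRes 𝒜 𝒩} (a : HomogeneousIdeal 𝒜)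

theorem Hmap_zero (hu : GrLC.IsGrHom ℳ 𝒩 (0 : M →ₗ[R] N)) (i : ℕ) : Hmap E F a hu i = 0 :=
  ResMap.onH_eq_zero a _ (fun m => ((exists_lift E F hu).choose_spec m).trans (map_zero F.ε)) i

theorem Hmap_add {u v : M →ₗ[R] N} (hu : GrLC.IsGrHom ℳ 𝒩 u) (hv : GrLC.IsGrHom ℳ 𝒩 v) (i : ℕ) :
    Hmap E F a (isGrHom_add hu hv) i = Hmap E F a hu i + Hmap E F a hv i := by
  let φ := (exists_lift E F hu).choose
  let ψ := (exists_lift E F hv).choose
  let χ : ResMap E F := ⟨fun n => φ.f n + ψ.f n, fun n => isGrHom_add (φ.grHom n) (ψ.grHom n),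
    fun n x => by rw [LinearMap.add_apply, LinearMap.add_apply, map_add, φ.comm, ψ.comm]⟩
  have hχ : χ.Lifts (u + v) := fun m => by
    show φ.f 0 (E.ε m) + ψ.f 0 (E.ε m) = F.ε ((u + v) m)
    rw [LinearMap.add_apply, map_add, (exists_lift E F hu).choose_spec m, (exists_lift E F hv).choose_spec m]
  rw [Hmap_eq a _ hχ i]
  refine LinearMap.ext fun x => ?_
  obtain ⟨z, rfl⟩ := toH_surjective E a i x
  rfl

end Hmap

/-- Homogeneous maps that are finite sums of maps through objects satisfying `Q`. -/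
inductive FacThrough (Q : GrLC.GMod.{u} 𝒜 → Prop) (X Y : GrLC.GMod.{u} 𝒜) :
    (X.carrier →ₗ[R] Y.carrier) → Prop
  | zero : FacThrough Q X Y 0
  | thru (Z : GrLC.GMod.{u} 𝒜) (hZ : Q Z) (f : X.carrier →ₗ[R] Z.carrier) (g : Z.carrier →ₗ[R] Y.carrier)
      (hf : GrLC.IsGrHom X.gr Z.gr f) (hg : GrLC.IsGrHom Z.gr Y.gr g) : FacThrough Q X Y (g ∘ₗ f)
  | add {φ ψ : X.carrier →ₗ[R] Y.carrier} (h₁ : FacThrough Q X Y φ) (h₂ : FacThrough Q X Y ψ) :
      FacThrough Q X Y (φ + ψ)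

namespace FacThrough

variable {Q Q' : GrLC.GMod.{u} 𝒜 → Prop} {W X Y Z : GrLC.GMod.{u} 𝒜}

theorem grHom {φ : X.carrier →ₗ[R] Y.carrier} (h : FacThrough Q X Y φ) : GrLC.IsGrHom X.gr Y.gr φ := by
  induction h with
  | zero => exact isGrHom_zero _ _
  | thru Z _ f g hf hg => exact isGrHom_comp hg hf
  | add _ _ h₁ h₂ => exact isGrHom_add h₁ h₂

theorem mono (hQ : ∀ Z, Q Z → Q' Z) {φ : X.carrier →ₗ[R] Y.carrier} (h : FacThrough Q X Y φ) :
    FacThrough Q' X Y φ := by
  induction h with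
  | zero => exact .zero
  | thru Z hZ f g hf hg => exact .thru Z (hQ Z hZ) f g hf hg
  | add _ _ h₁ h₂ => exact .add h₁ h₂

theorem comp_left {φ : X.carrier →ₗ[R] Y.carrier} (h : FacThrough Q X Y φ)
    {v : Y.carrier →ₗ[R] W.carrier} (hv : GrLC.IsGrHom Y.gr W.gr v) : FacThrough Q X W (v ∘ₗ φ) := by
  induction h with
  | zero => rw [LinearMap.comp_zero]; exact .zero
  | thru Z hZ f g hf hg => rw [← LinearMap.comp_assoc]; exact .thru Z hZ f _ hf (isGrHom_comp hv hg)
  | add _ _ h₁ h₂ => rw [LinearMap.comp_add]; exact .add h₁ h₂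

theorem comp_right {φ : X.carrier →ₗ[R] Y.carrier} (h : FacThrough Q X Y φ)
    {v : W.carrier →ₗ[R] X.carrier} (hv : GrLC.IsGrHom W.gr X.gr v) : FacThrough Q W Y (φ ∘ₗ v) := by
  induction h with
  | zero => rw [LinearMap.zero_comp]; exact .zero
  | thru Z hZ f g hf hg => rw [LinearMap.comp_assoc]; exact .thru Z hZ _ g (isGrHom_comp hf hv) hg
  | add _ _ h₁ h₂ => rw [LinearMap.add_comp]; exact .add h₁ h₂

theorem refl (hX : Q X) : FacThrough Q X X LinearMap.id := by
  have h := FacThrough.thru (Q := Q) (X := X) (Y := X) X hX LinearMap.id LinearMap.id (isGrHom_id _) (isGrHom_id _)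
  rwa [LinearMap.id_comp] at h

theorem of_zero [Subsingleton X.carrier] : FacThrough Q X X LinearMap.id := by
  have h : (LinearMap.id : X.carrier →ₗ[R] X.carrier) = 0 := LinearMap.ext fun x => Subsingleton.elim _ _
  rw [h]
  exact .zero

end FacThrough

theorem van_of_fac {a : HomogeneousIdeal 𝒜} {i : ℕ} {g : ι} {Q : GrLC.GMod.{u} 𝒜 → Prop}
    {X : GrLC.GMod.{u} 𝒜} (h : FacThrough Q X X LinearMap.id) (hQ : ∀ Z, Q Z → Van a i g Z) :
    Van a i g X := by
  intro E
  have key : ∀ φ : X.carrier →ₗ[R] X.carrier, FacThrough Q X X φ → ∀ hφ : GrLC.IsGrHom X.gr X.gr φ,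
      ∀ x ∈ E.Hgr a i g, Hmap E E a hφ i x = 0 := by
    intro φ hφ'
    induction hφ' with
    | zero => intro hφ x _; rw [Hmap_zero]; rfl
    | thru Z hZ f g' hf hg =>
      intro _ x hx
      obtain ⟨F⟩ := nonempty_res (𝒜 := 𝒜) Z.gr
      rw [Hmap_congr a _ (isGrHom_comp hg hf) rfl i, ← Hmap_comp (F := F) a hf hg i,
        LinearMap.comp_apply, (Hcomp_eq_bot_iff F a).1 (hQ Z hZ F) _ (Hmap_grHom a hf i g x hx), map_zero]
    | @add φ ψ h₁ h₂ i₁ i₂ =>
      intro _ x hx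
      rw [Hmap_congr a _ (isGrHom_add h₁.grHom h₂.grHom) rfl i, Hmap_add a h₁.grHom h₂.grHom i,
        LinearMap.add_apply, i₁ _ x hx, i₂ _ x hx, add_zero]
  refine (Hcomp_eq_bot_iff E a).2 fun x hx => ?_
  have h0 := key _ h (isGrHom_id X.gr) x hx
  rwa [Hmap_id] at h0

section Classes

variable (a : HomogeneousIdeal 𝒜)

/-- Torsion modules. -/
def IsTors (X : GrLC.GMod.{u} 𝒜) : Prop := ∀ x : X.carrier, x ∈ GrLC.gam a.toIdeal X.carrier

/-- A homogeneous element of the ideal acts bijectively. -/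
def IsBij (X : GrLC.GMod.{u} 𝒜) : Prop :=
  ∃ (d : ι) (x : R), x ∈ 𝒜 d ∧ x ∈ a.toIdeal ∧ Function.Bijective fun m : X.carrier => x • m

/-- Torsion modules and modules with a bijective element. -/
def IsBasic (X : GrLC.GMod.{u} 𝒜) : Prop := IsTors a X ∨ IsBij a X

variable {a} {X : GrLC.GMod.{u} 𝒜}

theorem IsBij.eq_zero_of_mem_gam (h : IsBij a X) {m : X.carrier} (hm : m ∈ GrLC.gam a.toIdeal X.carrier) :
    m = 0 := by
  obtain ⟨d, x, -, hxa, hbij⟩ := h
  obtain ⟨n, hn⟩ := hm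
  have h0 := hn (x ^ n) (Ideal.pow_mem_pow hxa n)
  clear hn
  induction n generalizing m with
  | zero => simpa using h0
  | succ n ih =>
    rw [pow_succ', mul_smul] at h0
    exact ih (hbij.1 (h0.trans (smul_zero x).symm))

variable [IsNoetherianRing R]

theorem subsingleton_H_of_bijective {I : Ideal R} {x : R} (hx : x ∈ I) {N : Type u} [AddCommGroup N]
    [Module R N] (hbij : Function.Bijective fun m : N => x • m) (i : ℕ) : Subsingleton (LocCoh.H I i N) := by
  let e : N ≃ₗ[R] N := LinearEquiv.ofBijective (x • LinearMap.id) hbij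
  have hinj : Function.Injective fun y : LocCoh.H I i N => x • y := fun y z hyz => by
    have h1 : LocCohLib.hmap I i e.toLinearMap = x • LinearMap.id := by
      rw [show e.toLinearMap = x • LinearMap.id from rfl, LocCohLib.hmap_smul, LocCohLib.hmap_id]
    have h2 : LocCohLib.hmap I i e.symm.toLinearMap ∘ₗ LocCohLib.hmap I i e.toLinearMap = LinearMap.id := by
      rw [← LocCohLib.hmap_comp, show e.symm.toLinearMap ∘ₗ e.toLinearMap = LinearMap.id from e.symm_comp,
        LocCohLib.hmap_id]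
    rw [h1] at h2
    have hy := LinearMap.congr_fun h2 y
    have hz := LinearMap.congr_fun h2 z
    simp only [LinearMap.comp_apply, LinearMap.smul_apply, LinearMap.id_apply] at hy hz
    rw [← hy, ← hz]
    exact congrArg _ hyz
  refine subsingleton_of_forall_eq 0 fun y => ?_
  obtain ⟨n, hn⟩ := LocCohLib.isPowerTorsion I i N y
  have h0 := hn (x ^ n) (Ideal.pow_mem_pow hx n)
  clear hn
  induction n generalizing y with
  | zero => simpa using h0
  | succ n ih =>
    rw [pow_succ, mul_smul] at h0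
    exact hinj ((ih _ h0).trans (smul_zero x).symm)

theorem IsBij.van (h : IsBij a X) (i : ℕ) (g : ι) : Van a i g X := fun E => by
  obtain ⟨d, x, -, hxa, hbij⟩ := h
  obtain ⟨e⟩ := nonempty_H_equiv E a i
  have := subsingleton_H_of_bijective hxa hbij i
  have := e.injective.subsingleton
  exact (Hcomp_eq_bot_iff E a).2 fun x _ => Subsingleton.elim x 0

theorem IsBasic.van_succ (h : IsBasic a X) (i : ℕ) (g : ι) : Van a (i + 1) g X :=
  h.elim (fun h => van_succ_of_torsion h i g) fun h => h.van (i + 1) g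

theorem acyc_of_van (h : ∀ (i : ℕ) (g : ι), Van a (i + 1) g X) : Acyc a.toIdeal X.carrier := fun j => by
  obtain ⟨E⟩ := nonempty_res (𝒜 := 𝒜) X.gr
  obtain ⟨e⟩ := nonempty_H_equiv E a (j + 1)
  have := (subsingleton_H_iff E a).2 fun g => h j g E
  exact e.symm.toEquiv.subsingleton

theorem acyc_of_fac (h : FacThrough (IsBasic a) X X LinearMap.id) : Acyc a.toIdeal X.carrier :=
  acyc_of_van fun i g => van_of_fac h fun _ hZ => hZ.van_succ i g

end Classes

end Groth.Agent.GrLC21
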