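import Groth.Agent.Lib.GrLC21.Unique

/-!
# Existence of *injective resolutions
-/

universe u

open DirectSum

noncomputable section

set_option linter.unusedSectionVars false

namespace Groth.Agent.GrLC21

variable {ι : Type} [AddCommGroup ι] [DecidableEq ι]
variable {R : Type u} [CommRing R] {σ : Type u} [SetLike σ R] [AddSubgroupClass σ R]
  {𝒜 : ι → σ} [GradedRing 𝒜]

variable (𝒜) in
/-- A term of the resolution together with the image of the preceding one. -/
structure ResStage : Type (u + 1) where
  /-- the term -/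
  C : GrLC.GMod.{u} 𝒜
  /-- the image -/
  K : Submodule R C.carrier
  hK : K.IsHomogeneous C.gr
  hC : GrLC.IsStarInj 𝒜 C.gr

/-- A chosen *injective module containing a given one. -/
def emb (X : GrLC.GMod.{u} 𝒜) : GrLC.GMod.{u} 𝒜 := (exists_embedding X).choose

/-- The chosen embedding. -/
def embMap (X : GrLC.GMod.{u} 𝒜) : X.carrier →ₗ[R] (emb X).carrier := (exists_embedding X).choose_spec.choose

theorem emb_spec (X : GrLC.GMod.{u} 𝒜) :
    GrLC.IsStarInj 𝒜 (emb X).gr ∧ GrLC.IsGrHom X.gr (emb X).gr (embMap X) ∧ Function.Injective (embMap X) :=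
  (exists_embedding X).choose_spec.choose_spec

/-- The map out of a stage. -/
def ResStage.out (s : ResStage 𝒜) : s.C.carrier →ₗ[R] (emb (quot s.C s.K s.hK)).carrier :=
  embMap _ ∘ₗ quotπ s.C s.K s.hK

theorem ResStage.out_grHom (s : ResStage 𝒜) : GrLC.IsGrHom s.C.gr (emb (quot s.C s.K s.hK)).gr s.out :=
  isGrHom_comp (emb_spec _).2.1 (quotπ_grHom _ _ _)

theorem ResStage.ker_out (s : ResStage 𝒜) : LinearMap.ker s.out = s.K := by
  ext x
  refine ⟨fun hx => (Submodule.Quotient.mk_eq_zero s.K).1 ((emb_spec _).2.2 (hx.trans (map_zero _).symm)),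
    fun hx => ?_⟩
  exact (congrArg (embMap (quot s.C s.K s.hK)) ((Submodule.Quotient.mk_eq_zero s.K).2 hx)).trans (map_zero _)

/-- The next stage. -/
def ResStage.next (s : ResStage 𝒜) : ResStage 𝒜 :=
  ⟨emb (quot s.C s.K s.hK), LinearMap.range s.out,
    isHomogeneous_range (spans_of_decomposition _) s.out_grHom, (emb_spec _).1⟩

/-- All stages. -/
def resStages (s : ResStage 𝒜) : ℕ → ResStage 𝒜
  | 0 => s
  | n + 1 => (resStages s n).next

/-- A *injective resolution of a graded module. -/
theorem nonempty_res {M : Type u} [AddCommGroup M] [Module R M] {τ : Type u} [SetLike τ M]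
    [AddSubgroupClass τ M] (ℳ : ι → τ) [Decomposition ℳ] [SetLike.GradedSMul 𝒜 ℳ] :
    Nonempty (GrLC.StarInjRes 𝒜 ℳ) := by
  let X := toGMod 𝒜 ℳ
  let ε : M →ₗ[R] (emb X).carrier := embMap X
  have hε : GrLC.IsGrHom ℳ (emb X).gr ε := (emb_spec X).2.1
  let s : ResStage 𝒜 := ⟨emb X, LinearMap.range ε,
    isHomogeneous_range (spans_of_decomposition ℳ) hε, (emb_spec X).1⟩
  exact ⟨{
    X := fun n => (resStages s n).C
    d := fun n => (resStages s n).out
    ε := ε
    d_grHom := fun n => (resStages s n).out_grHom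
    ε_grHom := hε
    ε_injective := (emb_spec X).2.2
    exact_zero := (resStages s 0).ker_out
    exact_succ := fun n => (resStages s (n + 1)).ker_out
    starInj := fun n => (resStages s n).hC }⟩

end Groth.Agent.GrLC21
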