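import Groth.Agent.Lib.GrLC21.Finite
import Groth.Agent.Lib.LocCoh.Torsion

/-!
# Vanishing of a piece of graded local cohomology, free of the chosen resolution
-/

universe u

open DirectSum

noncomputable section

set_option linter.unusedSectionVars false

namespace Groth.Agent.GrLC21

variable {ι : Type} [AddCommGroup ι] [DecidableEq ι]
variable {R : Type u} [CommRing R] {σ : Type u} [SetLike σ R] [AddSubgroupClass σ R]
  {𝒜 : ι → σ} [GradedRing 𝒜] {a : HomogeneousIdeal 𝒜}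

variable (a) in
/-- The piece of degree `g` of `H^i_a` vanishes. -/
def Van (i : ℕ) (g : ι) (X : GrLC.GMod.{u} 𝒜) : Prop :=
  ∀ E : GrLC.StarInjRes 𝒜 X.gr, E.Hcomp a i g = ⊥

/-- A short exact sequence of graded modules. -/
structure Seq (A B C : GrLC.GMod.{u} 𝒜) where
  /-- the first map -/
  f : A.carrier →ₗ[R] B.carrier
  /-- the second map -/
  g : B.carrier →ₗ[R] C.carrier
  f_grHom : GrLC.IsGrHom A.gr B.gr f
  g_grHom : GrLC.IsGrHom B.gr C.gr g
  f_inj : Function.Injective f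
  g_surj : Function.Surjective g
  exact : LinearMap.range f = LinearMap.ker g

section Invariance

variable {M : Type u} [AddCommGroup M] [Module R M] {τ : Type u} [SetLike τ M] [AddSubgroupClass τ M]
  {ℳ : ι → τ} [Decomposition ℳ] [SetLike.GradedSMul 𝒜 ℳ]
variable {N : Type u} [AddCommGroup N] [Module R N] {τ' : Type u} [SetLike τ' N] [AddSubgroupClass τ' N]
  {𝒩 : ι → τ'} [Decomposition 𝒩] [SetLike.GradedSMul 𝒜 𝒩]

theorem Hcomp_eq_bot_of_equiv (E : GrLC.StarInjRes 𝒜 ℳ) (F : GrLC.StarInjRes 𝒜 𝒩) (e : M ≃ₗ[R] N)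
    (he : GrLC.IsGrHom ℳ 𝒩 e.toLinearMap) {i : ℕ} {g : ι} (h : E.Hcomp a i g = ⊥) :
    F.Hcomp a i g = ⊥ := by
  rw [Hcomp_eq_bot_iff] at h ⊢
  intro y hy
  obtain ⟨x, hx, rfl⟩ := exists_preimage_Hgr (Hmap_grHom a he i) hy ((Hequiv E F a e he i).surjective y)
  rw [h x hx, map_zero]

theorem Hcomp_eq_bot_iff_res (E : GrLC.StarInjRes 𝒜 ℳ) (F : GrLC.StarInjRes 𝒜 ℳ) {i : ℕ} {g : ι} :
    E.Hcomp a i g = ⊥ ↔ F.Hcomp a i g = ⊥ :=
  ⟨Hcomp_eq_bot_of_equiv E F (LinearEquiv.refl R M) (isGrHom_id ℳ),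
    Hcomp_eq_bot_of_equiv F E (LinearEquiv.refl R M) (isGrHom_id ℳ)⟩

/-- A resolution of an unbundled module as one of the bundled module. -/
def toGModRes (E : GrLC.StarInjRes 𝒜 ℳ) : GrLC.StarInjRes 𝒜 (toGMod 𝒜 ℳ).gr where
  X := E.X
  d := E.d
  ε := E.ε
  d_grHom := E.d_grHom
  ε_grHom := E.ε_grHom
  ε_injective := E.ε_injective
  exact_zero := E.exact_zero
  exact_succ := E.exact_succ
  starInj := E.starInj

theorem Hcomp_toGModRes (E : GrLC.StarInjRes 𝒜 ℳ) (i : ℕ) (g : ι) :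
    (toGModRes E).Hcomp a i g = ⊥ ↔ E.Hcomp a i g = ⊥ := by
  rw [Hcomp_eq_bot_iff, Hcomp_eq_bot_iff]
  cases i <;> exact Iff.rfl

theorem Van.iff_of_res {X : GrLC.GMod.{u} 𝒜} (E : GrLC.StarInjRes 𝒜 X.gr) {i : ℕ} {g : ι} :
    Van a i g X ↔ E.Hcomp a i g = ⊥ :=
  ⟨fun h => h E, fun h F => (Hcomp_eq_bot_iff_res E F).1 h⟩

theorem Hcomp_eq_bot_iff_van (E : GrLC.StarInjRes 𝒜 ℳ) {i : ℕ} {g : ι} :
    E.Hcomp a i g = ⊥ ↔ Van a i g (toGMod 𝒜 ℳ) :=
  (Hcomp_toGModRes E i g).symm.trans (Van.iff_of_res (toGModRes E)).symm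

end Invariance

variable {A B C X : GrLC.GMod.{u} 𝒜} {i : ℕ} {g : ι}

theorem Van.of_equiv {Y : GrLC.GMod.{u} 𝒜} (e : X.carrier ≃ₗ[R] Y.carrier)
    (he : GrLC.IsGrHom X.gr Y.gr e.toLinearMap) (h : Van a i g X) : Van a i g Y := fun F => by
  obtain ⟨E⟩ := nonempty_res (𝒜 := 𝒜) X.gr
  exact Hcomp_eq_bot_of_equiv E F e he (h E)

theorem Van.of_equiv' {Y : GrLC.GMod.{u} 𝒜} (e : X.carrier ≃ₗ[R] Y.carrier)
    (he : GrLC.IsGrHom X.gr Y.gr e.toLinearMap) (h : Van a i g Y) : Van a i g X :=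
  Van.of_equiv e.symm (isGrHom_symm he) h

theorem Van.mid (S : Seq A B C) (hA : Van a i g A) (hC : Van a i g C) : Van a i g B := fun E₂ => by
  obtain ⟨E₁⟩ := nonempty_res (𝒜 := 𝒜) A.gr
  obtain ⟨E₃⟩ := nonempty_res (𝒜 := 𝒜) C.gr
  obtain ⟨δ, -, -, h1, -, -⟩ := exists_LES E₁ E₂ E₃ a S.f_grHom S.g_grHom S.f_inj S.g_surj S.exact
  refine (Hcomp_eq_bot_iff E₂ a).2 fun y hy => ?_
  have h0 : Hmap E₂ E₃ a S.g_grHom i y = 0 :=
    (Hcomp_eq_bot_iff E₃ a).1 (hC E₃) _ (Hmap_grHom a S.g_grHom i g y hy)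
  obtain ⟨x, hx, rfl⟩ := exists_preimage_Hgr (Hmap_grHom a S.f_grHom i) hy ((h1 i y).1 h0)
  rw [(Hcomp_eq_bot_iff E₁ a).1 (hA E₁) x hx, map_zero]

theorem Van.left (S : Seq A B C) (hC : Van a i g C) (hB : Van a (i + 1) g B) : Van a (i + 1) g A :=
  fun E₁ => by
  obtain ⟨E₂⟩ := nonempty_res (𝒜 := 𝒜) B.gr
  obtain ⟨E₃⟩ := nonempty_res (𝒜 := 𝒜) C.gr
  obtain ⟨δ, hδ, -, -, -, h3⟩ := exists_LES E₁ E₂ E₃ a S.f_grHom S.g_grHom S.f_inj S.g_surj S.exact
  refine (Hcomp_eq_bot_iff E₁ a).2 fun y hy => ?_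
  have h0 : Hmap E₁ E₂ a S.f_grHom (i + 1) y = 0 :=
    (Hcomp_eq_bot_iff E₂ a).1 (hB E₂) _ (Hmap_grHom a S.f_grHom (i + 1) g y hy)
  obtain ⟨x, hx, rfl⟩ := exists_preimage_Hgr (hδ i) hy ((h3 i y).1 h0)
  rw [(Hcomp_eq_bot_iff E₃ a).1 (hC E₃) x hx, map_zero]

theorem Van.left_zero (S : Seq A B C) (hB : Van a 0 g B) : Van a 0 g A := fun E₁ => by
  obtain ⟨E₂⟩ := nonempty_res (𝒜 := 𝒜) B.gr
  obtain ⟨E₃⟩ := nonempty_res (𝒜 := 𝒜) C.gr
  obtain ⟨δ, -, h0, -, -, -⟩ := exists_LES E₁ E₂ E₃ a S.f_grHom S.g_grHom S.f_inj S.g_surj S.exact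
  refine (Hcomp_eq_bot_iff E₁ a).2 fun y hy => h0 ?_
  rw [map_zero]
  exact (Hcomp_eq_bot_iff E₂ a).1 (hB E₂) _ (Hmap_grHom a S.f_grHom 0 g y hy)

theorem Van.right (S : Seq A B C) (hB : Van a i g B) (hA : Van a (i + 1) g A) : Van a i g C :=
  fun E₃ => by
  obtain ⟨E₁⟩ := nonempty_res (𝒜 := 𝒜) A.gr
  obtain ⟨E₂⟩ := nonempty_res (𝒜 := 𝒜) B.gr
  obtain ⟨δ, hδ, -, -, h2, -⟩ := exists_LES E₁ E₂ E₃ a S.f_grHom S.g_grHom S.f_inj S.g_surj S.exact
  refine (Hcomp_eq_bot_iff E₃ a).2 fun y hy => ?_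
  have h0 : δ i y = 0 := (Hcomp_eq_bot_iff E₁ a).1 (hA E₁) _ (hδ i g y hy)
  obtain ⟨x, hx, rfl⟩ := exists_preimage_Hgr (Hmap_grHom a S.g_grHom i) hy ((h2 i y).1 h0)
  rw [(Hcomp_eq_bot_iff E₂ a).1 (hB E₂) x hx, map_zero]

theorem van_shift_iff (d : ι) : Van a i g (shift X d) ↔ Van a i (g - d) X := by
  obtain ⟨E⟩ := nonempty_res (𝒜 := 𝒜) X.gr
  rw [Van.iff_of_res (shiftRes X d E), Van.iff_of_res E, Hcomp_shift_eq_bot_iff]

theorem van_of_subsingleton [Subsingleton X.carrier] (i : ℕ) (g : ι) : Van a i g X := fun E => by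
  have := subsingleton_H_of_subsingleton (E := E) (a := a) i
  exact (Hcomp_eq_bot_iff E a).2 fun x _ => Subsingleton.elim x 0

/-- The sequence of a product. -/
def prodSeq (X Y : GrLC.GMod.{u} 𝒜) : Seq X (prod X Y) Y where
  f := LinearMap.inl R X.carrier Y.carrier
  g := LinearMap.snd R X.carrier Y.carrier
  f_grHom _ _ hx := ⟨hx, zero_mem _⟩
  g_grHom _ _ hx := hx.2
  f_inj := LinearMap.inl_injective
  g_surj := LinearMap.snd_surjective
  exact := (LinearMap.ker_snd R X.carrier Y.carrier).symm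

theorem Van.prod {Y : GrLC.GMod.{u} 𝒜} (hX : Van a i g X) (hY : Van a i g Y) :
    Van a i g (GrLC21.prod X Y) :=
  Van.mid (prodSeq X Y) hX hY

theorem Van.zero_iff : Van a 0 g X ↔ ∀ m ∈ X.gr g, m ∈ GrLC.gam a.toIdeal X.carrier → m = 0 := by
  obtain ⟨E⟩ := nonempty_res (𝒜 := 𝒜) X.gr
  rw [Van.iff_of_res E, Hcomp_eq_bot_iff]
  constructor
  · intro h m hm hg
    have hc : E.ε m ∈ E.cocyc a 0 :=
      ⟨map_mem_gam E.ε hg, E.exact_zero.ge (LinearMap.mem_range_self E.ε m)⟩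
    have h0 := h (E.toH a 0 ⟨E.ε m, hc⟩) ⟨⟨E.ε m, hc⟩, E.ε_grHom g m hm, rfl⟩
    rw [toH_eq_zero_iff] at h0
    exact E.ε_injective (((Submodule.mem_bot R).1 h0).trans (map_zero E.ε).symm)
  · intro h x hx
    obtain ⟨m, hm, hg, hc, rfl⟩ := exists_Hcomp_zero_lift hx
    have hz : (⟨E.ε m, hc⟩ : E.cocyc a 0) = 0 :=
      Subtype.ext ((congrArg E.ε (h m hm hg)).trans (map_zero E.ε))
    rw [hz, map_zero]

theorem van_succ_of_torsion [IsNoetherianRing R] (h : ∀ x : X.carrier, x ∈ GrLC.gam a.toIdeal X.carrier) (i : ℕ)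
    (g : ι) : Van a (i + 1) g X := fun E => by
  obtain ⟨e⟩ := nonempty_H_equiv E a (i + 1)
  have := LocCohLib.subsingleton_of_isPowerTorsion a.toIdeal i X.carrier fun x => h x
  have := e.injective.subsingleton
  exact (Hcomp_eq_bot_iff E a).2 fun x _ => Subsingleton.elim x 0

theorem mem_gam_H {M : Type u} [AddCommGroup M] [Module R M] {τ : Type u} [SetLike τ M] [AddSubgroupClass τ M]
    {ℳ : ι → τ} [Decomposition ℳ] [SetLike.GradedSMul 𝒜 ℳ] (E : GrLC.StarInjRes 𝒜 ℳ) (i : ℕ) (x : E.H a i) :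
    x ∈ GrLC.gam a.toIdeal (E.H a i) := by
  obtain ⟨z, rfl⟩ := toH_surjective E a i x
  exact map_mem_gam (E.toH a i) (mem_gam_of_injective (E.cocyc a i).subtype (Submodule.subtype_injective _) z.2.1)

/-- A submodule with torsion quotient has the same cohomology in positive degrees (surjectivity). -/
theorem Van.of_torsion_quot [IsNoetherianRing R] (S : Seq A B C)
    (hC : ∀ x : C.carrier, x ∈ GrLC.gam a.toIdeal C.carrier) (hA : Van a (i + 1) g A) : Van a (i + 1) g B :=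
  Van.mid S hA (van_succ_of_torsion hC i g)

/-- Kernel and image of a homogeneous map. -/
def kerSeq {f : A.carrier →ₗ[R] B.carrier} (hf : GrLC.IsGrHom A.gr B.gr f) :
    Seq (sub A (LinearMap.ker f) (isHomogeneous_ker hf)) A
      (sub B (LinearMap.range f) (isHomogeneous_range (spans_of_decomposition A.gr) hf)) where
  f := subι A _ (isHomogeneous_ker hf)
  g := f.rangeRestrict
  f_grHom _ _ hx := hx
  g_grHom d x hx := hf d x hx
  f_inj := Submodule.subtype_injective _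
  g_surj := f.surjective_rangeRestrict
  exact := (Submodule.range_subtype _).trans (LinearMap.ker_rangeRestrict f).symm

/-- A homogeneous submodule and the quotient by it. -/
def quotSeq (P : Submodule R X.carrier) (hP : P.IsHomogeneous X.gr) :
    Seq (sub X P hP) X (quot X P hP) where
  f := subι X P hP
  g := quotπ X P hP
  f_grHom := subι_grHom X P hP
  g_grHom := quotπ_grHom X P hP
  f_inj := subι_injective X P hP
  g_surj := quotπ_surjective X P hP
  exact := (Submodule.range_subtype P).trans (ker_quotπ X P hP).symm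

/-- Pass from a homogeneous submodule to a bigger one with torsion quotient. -/
theorem Van.of_le_of_torsion [IsNoetherianRing R] {P Q : Submodule R X.carrier} (hP : P.IsHomogeneous X.gr)
    (hQ : Q.IsHomogeneous X.gr) (hle : P ≤ Q) (htors : ∀ r ∈ a.toIdeal, ∀ q ∈ Q, r • q ∈ P)
    (h : Van a (i + 1) g (sub X P hP)) : Van a (i + 1) g (sub X Q hQ) := by
  let P' : Submodule R (sub X Q hQ).carrier := P.comap Q.subtype
  have hP' : P'.IsHomogeneous (sub X Q hQ).gr := isHomogeneous_comap (subι_grHom X Q hQ) hP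
  let e : (sub X P hP).carrier ≃ₗ[R] (sub (sub X Q hQ) P' hP').carrier :=
    (Submodule.comapSubtypeEquivOfLe hle).symm
  refine Van.of_torsion_quot (quotSeq P' hP') (fun x => ⟨1, fun r hr => ?_⟩)
    (Van.of_equiv e (fun _ _ hx => hx) h)
  obtain ⟨q, rfl⟩ := quotπ_surjective (sub X Q hQ) P' hP' x
  rw [pow_one] at hr
  rw [← map_smul]
  exact (Submodule.Quotient.mk_eq_zero P').2 (htors r hr _ q.2)

/-- The sequence of a regular homogeneous element. -/
def smulSeq {k : ι} {x : R} (hx : x ∈ 𝒜 k) (hreg : IsSMulRegular X.carrier x) :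
    Seq (shift X k) X (quot X (LinearMap.range (smulMap X (k := k) x))
      (isHomogeneous_range (spans_of_decomposition _) (smulMap_grHom X hx))) where
  f := smulMap X x
  g := quotπ X _ (isHomogeneous_range (spans_of_decomposition _) (smulMap_grHom X hx))
  f_grHom := smulMap_grHom X hx
  g_grHom := quotπ_grHom X _ _
  f_inj := hreg
  g_surj := quotπ_surjective X _ _
  exact := (ker_quotπ X _ _).symm

/-- If the cokernel of multiplication has no cohomology above `g`, neither has the module at `g`. -/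
theorem Van.succ_of_smul {k : ι} {x : R} (hx : x ∈ 𝒜 k) (hxa : x ∈ a.toIdeal)
    (S : Seq (shift X k) X C) (hS : S.f = smulMap X x)
    (hC : ∀ n : ℕ, Van a i (g + (n + 1) • k) C) : Van a (i + 1) g X := fun E => by
  obtain ⟨E₃⟩ := nonempty_res (𝒜 := 𝒜) C.gr
  obtain ⟨δ, hδ, -, -, -, h3⟩ :=
    exists_LES (shiftRes X k E) E E₃ a S.f_grHom S.g_grHom S.f_inj S.g_surj S.exact
  refine (Hcomp_eq_bot_iff E a).2 fun z hz => ?_
  classical
  have hex : ∃ n : ℕ, x ^ n • z = 0 := by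
    obtain ⟨n, hn⟩ := mem_gam_H E (i + 1) z
    exact ⟨n, hn _ (Ideal.pow_mem_pow hxa n)⟩
  rcases Nat.eq_zero_or_eq_succ_pred (Nat.find hex) with h | h
  · simpa [h] using Nat.find_spec hex
  · exfalso
    set m := (Nat.find hex).pred
    refine Nat.find_min hex (show m < Nat.find hex by omega) ?_
    have hw : x ^ m • z ∈ E.Hgr a (i + 1) (m • k + g) :=
      smul_mem_Hgr E a (m • k) g _ _ (SetLike.pow_mem_graded m hx) hz
    have hxw : x • (x ^ m • z) = 0 := by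
      rw [← mul_smul, ← pow_succ']
      have := Nat.find_spec hex
      rwa [h] at this
    let w' := (shiftH X k E a (i + 1)).symm (x ^ m • z)
    have hw' : w' ∈ (shiftRes X k E).Hgr a (i + 1) (g + (m + 1) • k) := by
      rw [mem_Hgr_shift, LinearEquiv.apply_symm_apply]
      convert hw using 2
      rw [succ_nsmul]; abel
    have h0 : Hmap (shiftRes X k E) E a S.f_grHom (i + 1) w' = 0 := by
      rw [Hmap_congr a S.f_grHom (smulMap_grHom X hx) hS (i + 1), Hmap_smul X E a hx, LinearEquiv.apply_symm_apply, hxw]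
    obtain ⟨c, hc, e⟩ := exists_preimage_Hgr (hδ i) hw' ((h3 i w').1 h0)
    rw [(Hcomp_eq_bot_iff E₃ a).1 (hC m E₃) c hc, map_zero] at e
    have := congrArg (shiftH X k E a (i + 1)) e.symm
    rwa [LinearEquiv.apply_symm_apply, map_zero] at this

end Groth.Agent.GrLC21
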