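import Groth.Agent.Lib.GrLC21.Shift
import Groth.Agent.Lib.GrLC21.FGHom
import Groth.Agent.Lib.GrLC21.Fac
import Groth.Agent.Lib.GrLC21.Res
import Groth.Agent.Lib.GrLC21.Van
import Groth.Agent.Lib.GrLC21.Coh
import Groth.Agent.Lib.GrLC21.CMCrit

/-!
# The top graded local cohomology of a module as a right exact functor
-/

universe u

open DirectSum

noncomputable section

set_option linter.unusedSectionVars false
set_option maxHeartbeats 1000000

namespace Groth.Agent.GrLC21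

variable {R : Type u} [CommRing R] {σ : Type u} [SetLike σ R] [AddSubgroupClass σ R]
  {𝒜 : ℤ → σ} [GradedRing 𝒜]

/-- Multiplication by a homogeneous element between two shifts. -/
def scalMap (X : GrLC.GMod.{u} 𝒜) (p q : ℤ) (r : R) : (shift X p).carrier →ₗ[R] (shift X q).carrier :=
  toShift X q ∘ₗ (r • ofShift X p)

theorem scalMap_grHom (X : GrLC.GMod.{u} 𝒜) {p q : ℤ} {r : R} (hr : r ∈ 𝒜 (p - q)) :
    GrLC.IsGrHom (shift X p).gr (shift X q).gr (scalMap X p q r) := fun g x hx => by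
  show r • ofShift X p x ∈ X.gr (g - q)
  have := smul_mem 𝒜 X.gr hr (show ofShift X p x ∈ X.gr (g - p) from hx)
  rwa [show p - q + (g - p) = g - q by ring] at this

theorem Hmap_scal (X : GrLC.GMod.{u} 𝒜) (E : GrLC.StarInjRes 𝒜 X.gr) (a : HomogeneousIdeal 𝒜) {p q : ℤ} {r : R}
    (hr : r ∈ 𝒜 (p - q)) (i : ℕ) (y : (shiftRes X p E).H a i) :
    shiftH X q E a i (Hmap (shiftRes X p E) (shiftRes X q E) a (scalMap_grHom X hr) i y) =
      r • shiftH X p E a i y := by
  let φ : ResMap (shiftRes X p E) (shiftRes X q E) :=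
    ⟨fun n => scalMap (E.X n) p q r, fun n => scalMap_grHom (E.X n) hr, fun n z => map_smul (E.d n) r z⟩
  have hφ : φ.Lifts (scalMap X p q r) := fun m => (map_smul E.ε r m).symm
  rw [Hmap_eq a _ hφ i]
  obtain ⟨z, rfl⟩ := toH_surjective (shiftRes X p E) a i y
  rw [shiftH_toH, ResMap.onH_toH, shiftH_toH]
  exact (congrArg (E.toH a i) (Subtype.ext rfl)).trans (map_smul (E.toH a i) r z)

variable {a : HomogeneousIdeal 𝒜} {n : ℕ}
variable (I : GrLC.StarInjRes 𝒜 (toGMod 𝒜 𝒜).gr)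
variable {M : Type u} [AddCommGroup M] [Module R M] {τ : Type u} [SetLike τ M] [AddSubgroupClass τ M]
  {ℳ : ℤ → τ} [Decomposition ℳ] [SetLike.GradedSMul 𝒜 ℳ] (EM : GrLC.StarInjRes 𝒜 ℳ)

/-- The map from a shift of the ring onto a homogeneous element. -/
def genMap (g : ℤ) (m : M) : (shift (toGMod 𝒜 𝒜) g).carrier →ₗ[R] M :=
  LinearMap.toSpanSingleton R M m ∘ₗ ofShift (toGMod 𝒜 𝒜) g

theorem genMap_grHom {g : ℤ} {m : M} (hm : m ∈ ℳ g) :
    GrLC.IsGrHom (shift (toGMod 𝒜 𝒜) g).gr ℳ (genMap (𝒜 := 𝒜) g m) := fun h (x : R) (hx : x ∈ 𝒜 (h - g)) => by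
  show x • m ∈ ℳ h
  have := smul_mem 𝒜 ℳ hx hm
  rwa [sub_add_cancel] at this

/-- The map on top cohomology given by a homogeneous element. -/
def muPiece (a : HomogeneousIdeal 𝒜) (n : ℕ) (g : ℤ) (m : M) (hm : m ∈ ℳ g) : I.H a n →ₗ[R] EM.H a n :=
  Hmap (shiftRes (toGMod 𝒜 𝒜) g I) EM a (genMap_grHom hm) n ∘ₗ
    (shiftH (toGMod 𝒜 𝒜) g I a n).symm.toLinearMap

/-- `muPiece` as an additive map on a piece. -/
def muHom (a : HomogeneousIdeal 𝒜) (n : ℕ) (g : ℤ) : ℳ g →+ (I.H a n →ₗ[R] EM.H a n) :=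
  AddMonoidHom.mk' (fun m => muPiece I EM a n g m.1 m.2) fun m m' => by
    unfold muPiece
    rw [← LinearMap.add_comp]
    congr 1
    refine (Hmap_congr a _ (isGrHom_add (genMap_grHom m.2) (genMap_grHom m'.2)) ?_ n).trans
      (Hmap_add a _ _ n)
    refine LinearMap.ext fun (x : R) => ?_
    show x • ((m + m' : ℳ g) : M) = x • (m : M) + x • (m' : M)
    rw [AddMemClass.coe_add, smul_add]

/-- The action of the module on the top cohomology of the ring. -/
def muAdd (a : HomogeneousIdeal 𝒜) (n : ℕ) : M →+ (I.H a n →ₗ[R] EM.H a n) :=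
  (DirectSum.toAddMonoid (muHom I EM a n)).comp (DirectSum.decomposeAddEquiv ℳ).toAddMonoidHom

theorem muAdd_of_mem {g : ℤ} {m : M} (hm : m ∈ ℳ g) : muAdd I EM a n m = muPiece I EM a n g m hm := by
  show DirectSum.toAddMonoid _ (decompose ℳ m) = _
  rw [decompose_of_mem ℳ hm, DirectSum.toAddMonoid_of]
  rfl

theorem muAdd_smul (r : R) (m : M) (x : I.H a n) : muAdd I EM a n (r • m) x = muAdd I EM a n m (r • x) := by
  refine spans_induction (spans_of_decomposition 𝒜) r (by simp) (fun p q hp hq => by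
    simp only [add_smul, map_add, LinearMap.add_apply, hp, hq]) fun e s hs => ?_
  refine spans_induction (spans_of_decomposition ℳ) m (by simp) (fun p q hp hq => by
    simp only [smul_add, map_add, LinearMap.add_apply, hp, hq]) fun g b hb => ?_
  rw [muAdd_of_mem I EM (smul_mem 𝒜 ℳ hs hb), muAdd_of_mem I EM hb]
  have hs' : s ∈ 𝒜 (e + g - g) := by rwa [add_sub_cancel_right]
  have hcomp := Hmap_comp (E := shiftRes (toGMod 𝒜 𝒜) (e + g) I)
    (F := shiftRes (toGMod 𝒜 𝒜) g I) (G := EM) a (scalMap_grHom (toGMod 𝒜 𝒜) hs')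
    (genMap_grHom hb) n
  unfold muPiece
  simp only [LinearMap.comp_apply, LinearEquiv.coe_coe]
  rw [Hmap_congr a (genMap_grHom (smul_mem 𝒜 ℳ hs hb))
    (isGrHom_comp (genMap_grHom hb) (scalMap_grHom (toGMod 𝒜 𝒜) hs')) (by
      refine LinearMap.ext fun (z : R) => ?_
      show z • (s • b) = (s • z : R) • b
      rw [smul_eq_mul, mul_comm, mul_smul]) n, ← hcomp, LinearMap.comp_apply]
  congr 1
  apply (shiftH (toGMod 𝒜 𝒜) g I a n).injective
  rw [Hmap_scal, LinearEquiv.apply_symm_apply, LinearEquiv.apply_symm_apply]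
  exact hs'

/-- The action of the module on the top cohomology of the ring, bilinear. -/
def mu (a : HomogeneousIdeal 𝒜) (n : ℕ) : M →ₗ[R] I.H a n →ₗ[R] EM.H a n where
  toFun := muAdd I EM a n
  map_add' := map_add _
  map_smul' r m := LinearMap.ext fun x => by
    rw [muAdd_smul, map_smul, RingHom.id_apply, LinearMap.smul_apply]

theorem mu_of_mem {g : ℤ} {m : M} (hm : m ∈ ℳ g) : mu I EM a n m = muPiece I EM a n g m hm :=
  muAdd_of_mem I EM hm

theorem mu_mem_Hgr {g h : ℤ} {m : M} (hm : m ∈ ℳ g) {x : I.H a n} (hx : x ∈ I.Hgr a n h) :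
    mu I EM a n m x ∈ EM.Hgr a n (g + h) := by
  rw [mu_of_mem I EM hm]
  refine Hmap_grHom a (genMap_grHom hm) n _ _ ?_
  rw [mem_Hgr_shift, LinearEquiv.coe_coe, LinearEquiv.apply_symm_apply, add_sub_cancel_left]
  exact hx

section Natural

variable {N : Type u} [AddCommGroup N] [Module R N] {τ' : Type u} [SetLike τ' N] [AddSubgroupClass τ' N]
  {𝒩 : ℤ → τ'} [Decomposition 𝒩] [SetLike.GradedSMul 𝒜 𝒩] (EN : GrLC.StarInjRes 𝒜 𝒩)

theorem Hmap_mu {u : M →ₗ[R] N} (hu : GrLC.IsGrHom ℳ 𝒩 u) (m : M) (x : I.H a n) :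
    Hmap EM EN a hu n (mu I EM a n m x) = mu I EN a n (u m) x := by
  refine spans_induction (spans_of_decomposition ℳ) m (by simp) (fun p q hp hq => by
    simp only [map_add, LinearMap.add_apply, hp, hq]) fun g b hb => ?_
  rw [mu_of_mem I EM hb, mu_of_mem I EN (hu g b hb)]
  show (Hmap EM EN a hu n ∘ₗ Hmap _ EM a (genMap_grHom hb) n) _ = _
  rw [Hmap_comp]
  refine LinearMap.congr_fun (Hmap_congr a _ (genMap_grHom (hu g b hb)) ?_ n) _
  refine LinearMap.ext fun (z : R) => ?_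
  exact map_smul u z b

end Natural

variable (hvan : ∀ (X : GrLC.GMod.{u} 𝒜), Module.Finite R X.carrier → ∀ g, Van a (n + 1) g X)
  [IsNoetherianRing R]

include hvan in
/-- The top cohomology is right exact. -/
theorem top_exact {F : GrLC.GMod.{u} 𝒜} [Module.Finite R F.carrier] (EF : GrLC.StarInjRes 𝒜 F.gr)
    {π : F.carrier →ₗ[R] M} (hπ : GrLC.IsGrHom F.gr ℳ π) (hs : Function.Surjective π)
    (EL : GrLC.StarInjRes 𝒜 (sub F (LinearMap.ker π) (isHomogeneous_ker hπ)).gr) :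
    Function.Surjective (Hmap EF EM a hπ n) ∧
      Function.Exact (Hmap EL EF a (subι_grHom F _ (isHomogeneous_ker hπ)) n) (Hmap EF EM a hπ n) := by
  obtain ⟨δ, -, -, h1, h2, -⟩ := exists_LES EL EF EM a (subι_grHom F _ (isHomogeneous_ker hπ)) hπ
    (subι_injective _ _ _) hs (by exact Submodule.range_subtype _)
  haveI : Module.Finite R (LinearMap.ker π) := Module.IsNoetherian.finite R _
  have hsub : Subsingleton (EL.H a (n + 1)) := (subsingleton_H_iff EL a).2 fun g =>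
    (Hcomp_eq_bot_iff_van EL).2 (hvan _ (inferInstanceAs (Module.Finite R (LinearMap.ker π))) g)
  exact ⟨fun y => (h2 n y).1 (Subsingleton.elim _ _), h1 n⟩

/-- A standard basis vector of a free module. -/
def basisVec {t : ℕ} (b : Fin t → ℤ) (i : Fin t) : (freeMod 𝒜 b).carrier := (Pi.single i 1 : Fin t → R)

/-- The inclusion of a coordinate. -/
def incl {t : ℕ} (b : Fin t → ℤ) (i : Fin t) :
    (shift (toGMod 𝒜 𝒜) (b i)).carrier →ₗ[R] (freeMod 𝒜 b).carrier :=
  genMap (𝒜 := 𝒜) (b i) (basisVec (𝒜 := 𝒜) b i)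

theorem single_mem {t : ℕ} (b : Fin t → ℤ) (i : Fin t) :
    (basisVec (𝒜 := 𝒜) b i) ∈ (freeMod 𝒜 b).gr (b i) := fun c => by
  rcases eq_or_ne c i with rfl | h
  · show (Pi.single c 1 : Fin t → R) c ∈ 𝒜 (b c - b c)
    rw [Pi.single_eq_same, sub_self]
    exact SetLike.GradedOne.one_mem
  · show (Pi.single i 1 : Fin t → R) c ∈ 𝒜 (b i - b c)
    rw [Pi.single_eq_of_ne h]
    exact zero_mem _

/-- A coordinate of the free module. -/
def coord {t : ℕ} (b : Fin t → ℤ) (i : Fin t) :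
    (freeMod 𝒜 b).carrier →ₗ[R] (shift (toGMod 𝒜 𝒜) (b i)).carrier :=
  toShift (toGMod 𝒜 𝒜) (b i) ∘ₗ (LinearMap.proj i : (Fin t → R) →ₗ[R] R)

theorem coord_grHom {t : ℕ} (b : Fin t → ℤ) (i : Fin t) :
    GrLC.IsGrHom (freeMod 𝒜 b).gr (shift (toGMod 𝒜 𝒜) (b i)).gr (coord b i) :=
  fun _ (_ : Fin t → R) hw => hw i

theorem sum_incl_coord {t : ℕ} (b : Fin t → ℤ) :
    ∑ i, incl (𝒜 := 𝒜) b i ∘ₗ coord b i = LinearMap.id := by
  refine LinearMap.ext fun w0 => ?_
  rw [LinearMap.sum_apply]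
  let w : Fin t → R := w0
  show ∑ i, w i • (Pi.single i 1 : Fin t → R) = w
  rw [Finset.sum_congr rfl fun i _ => ?_]
  · exact Finset.univ_sum_single w
  · rw [← Pi.single_smul', smul_eq_mul, mul_one]

theorem Hmap_incl_coord {t : ℕ} (b : Fin t → ℤ) (EF : GrLC.StarInjRes 𝒜 (freeMod 𝒜 b).gr) (i : Fin t)
    (y : EF.H a n) :
    Hmap EF EF a (isGrHom_comp (genMap_grHom (single_mem (𝒜 := 𝒜) b i)) (coord_grHom b i)) n y =
      mu I EF a n (basisVec (𝒜 := 𝒜) b i)
        (shiftH (toGMod 𝒜 𝒜) (b i) I a n (Hmap EF (shiftRes (toGMod 𝒜 𝒜) (b i) I) a (coord_grHom b i) n y)) := by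
  rw [mu_of_mem I EF (single_mem b i)]
  unfold muPiece
  rw [LinearMap.comp_apply, LinearEquiv.coe_coe, LinearEquiv.symm_apply_apply]
  exact (LinearMap.congr_fun (Hmap_comp (F := shiftRes (toGMod 𝒜 𝒜) (b i) I) a (coord_grHom b i)
    (genMap_grHom (single_mem b i)) n) y).symm

/-- The top cohomology of a free module comes from the ring. -/
theorem free_top {t : ℕ} (b : Fin t → ℤ) (EF : GrLC.StarInjRes 𝒜 (freeMod 𝒜 b).gr) (y : EF.H a n) :
    y = ∑ i, mu I EF a n (basisVec (𝒜 := 𝒜) b i)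
      (shiftH (toGMod 𝒜 𝒜) (b i) I a n
        (Hmap EF (shiftRes (toGMod 𝒜 𝒜) (b i) I) a (coord_grHom b i) n y)) := by
  classical
  have hgr : ∀ s : Finset (Fin t),
      GrLC.IsGrHom (freeMod 𝒜 b).gr (freeMod 𝒜 b).gr (∑ i ∈ s, incl b i ∘ₗ coord b i) := fun s g w hw => by
    rw [LinearMap.sum_apply]
    exact sum_mem fun i _ => genMap_grHom (𝒜 := 𝒜) (R := R) (single_mem b i) g _ (coord_grHom b i g w hw)
  have key : ∀ s : Finset (Fin t), Hmap EF EF a (hgr s) n y =
      ∑ i ∈ s, mu I EF a n (basisVec (𝒜 := 𝒜) b i)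
        (shiftH (toGMod 𝒜 𝒜) (b i) I a n
          (Hmap EF (shiftRes (toGMod 𝒜 𝒜) (b i) I) a (coord_grHom b i) n y)) := by
    intro s
    induction s using Finset.induction_on with
    | empty =>
      refine Eq.trans ?_ Finset.sum_empty.symm
      rw [Hmap_congr a (hgr ∅) (isGrHom_zero _ _) Finset.sum_empty n, Hmap_zero]
      rfl
    | @insert i s hi ih =>
      refine Eq.trans ?_ (Finset.sum_insert hi).symm
      rw [← ih, ← Hmap_incl_coord I b EF i y]
      exact (LinearMap.congr_fun ((Hmap_congr a (hgr (insert i s))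
        (isGrHom_add (isGrHom_comp (genMap_grHom (single_mem b i)) (coord_grHom b i)) (hgr s))
        (Finset.sum_insert hi) n).trans (Hmap_add a _ _ n)) y)
  rw [← key, Hmap_congr a _ (isGrHom_id _) (sum_incl_coord b) n, Hmap_id]
  rfl

variable [Module.Finite R M]

include hvan in
/-- The cohomology classes of the module are sums of classes from the ring. -/
theorem exists_mu_surjective : ∃ (t : ℕ) (b : Fin t → ℤ) (v : Fin t → M), (∀ i, v i ∈ ℳ (b i)) ∧
    Submodule.span R (Set.range v) = ⊤ ∧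
    ∀ y : EM.H a n, ∃ z : Fin t → I.H a n, y = ∑ i, mu I EM a n (v i) (z i) := by
  obtain ⟨t, b, v, hv, hspan⟩ := exists_homogeneous_gens ℳ (R := R)
  refine ⟨t, b, v, hv, hspan, fun y => ?_⟩
  let F := freeMod 𝒜 b
  haveI : Module.Finite R F.carrier := inferInstanceAs (Module.Finite R (Fin t → R))
  have hπ := freeπ_grHom 𝒜 (ℳ := ℳ) b v hv
  obtain ⟨EF⟩ := nonempty_res (𝒜 := 𝒜) F.gr
  obtain ⟨EL⟩ := nonempty_res (𝒜 := 𝒜) (sub F (LinearMap.ker (freeπ 𝒜 b v)) (isHomogeneous_ker hπ)).gr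
  obtain ⟨w, rfl⟩ := (top_exact EM hvan EF hπ (freeπ_surjective 𝒜 b v hspan) EL).1 y
  refine ⟨fun i => shiftH (toGMod 𝒜 𝒜) (b i) I a n
    (Hmap EF (shiftRes (toGMod 𝒜 𝒜) (b i) I) a (coord_grHom b i) n w), ?_⟩
  refine (congrArg _ (free_top I b EF w)).trans ((map_sum _ _ _).trans (Finset.sum_congr rfl fun i _ => ?_))
  rw [Hmap_mu]
  congr 2
  show Fintype.linearCombination R v (Pi.single i 1) = v i
  rw [Fintype.linearCombination_apply_single, one_smul]

include hvan in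
/-- Balanced biadditive maps on the module and the top cohomology of the ring descend. -/
theorem exists_lift_balanced {V : Type u} [AddCommGroup V] (β : M →+ I.H a n →+ V)
    (hβ : ∀ (r : R) m x, β (r • m) x = β m (r • x)) :
    ∃ φ : EM.H a n →+ V, ∀ m x, φ (mu I EM a n m x) = β m x := by
  classical
  obtain ⟨t, b, v, hv, hspan⟩ := exists_homogeneous_gens ℳ (R := R)
  let F := freeMod 𝒜 b
  haveI : Module.Finite R F.carrier := inferInstanceAs (Module.Finite R (Fin t → R))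
  have hπ := freeπ_grHom 𝒜 (ℳ := ℳ) b v hv
  obtain ⟨EF⟩ := nonempty_res (𝒜 := 𝒜) F.gr
  let L := sub F (LinearMap.ker (freeπ 𝒜 b v)) (isHomogeneous_ker hπ)
  obtain ⟨EL⟩ := nonempty_res (𝒜 := 𝒜) L.gr
  obtain ⟨hs, hex⟩ := top_exact EM hvan EF hπ (freeπ_surjective 𝒜 b v hspan) EL
  let e : Fin t → F.carrier := fun i => (Pi.single i 1 : Fin t → R)
  let Φ : EF.H a n →+ V :=
    ∑ i, (β (v i)).comp ((shiftH (toGMod 𝒜 𝒜) (b i) I a n).toLinearMap.toAddMonoidHom.comp
      (Hmap EF (shiftRes (toGMod 𝒜 𝒜) (b i) I) a (coord_grHom b i) n).toAddMonoidHom)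
  have hΦ : ∀ (w : F.carrier) x, Φ (mu I EF a n w x) = β (freeπ 𝒜 b v w) x := by
    intro w x
    have h1 : ∀ i, shiftH (toGMod 𝒜 𝒜) (b i) I a n
        (Hmap EF (shiftRes (toGMod 𝒜 𝒜) (b i) I) a (coord_grHom b i) n (mu I EF a n w x)) =
        (show Fin t → R from w) i • x := by
      intro i
      refine spans_induction (spans_of_decomposition F.gr) w ?_ (fun p q hp hq => ?_) fun g c hc => ?_
      · simp only [map_zero, LinearMap.zero_apply]
        exact (zero_smul R x).symm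
      · simp only [map_add, LinearMap.add_apply, hp, hq]
        exact (add_smul _ _ x).symm
      · rw [mu_of_mem I EF hc]
        unfold muPiece
        have hr : (show Fin t → R from c) i ∈ 𝒜 (g - b i) := hc i
        have hcomp := LinearMap.congr_fun (Hmap_comp (F := EF) (E := shiftRes (toGMod 𝒜 𝒜) g I)
          (G := shiftRes (toGMod 𝒜 𝒜) (b i) I) a (genMap_grHom hc) (coord_grHom b i) n)
          ((shiftH (toGMod 𝒜 𝒜) g I a n).symm x)
        rw [LinearMap.comp_apply] at hcomp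
        rw [LinearMap.comp_apply, LinearEquiv.coe_coe, hcomp]
        rw [Hmap_congr a _ (scalMap_grHom (toGMod 𝒜 𝒜) hr) ?_ n, Hmap_scal, LinearEquiv.apply_symm_apply]
        all_goals first
          | exact hr
          | exact LinearMap.ext fun (z : R) => mul_comm z _
    simp only [Φ, AddMonoidHom.finsetSum_apply, AddMonoidHom.comp_apply, LinearMap.toAddMonoidHom_coe,
      LinearEquiv.coe_coe, h1]
    show _ = β (Fintype.linearCombination R v (show Fin t → R from w)) x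
    rw [Fintype.linearCombination_apply, map_sum, AddMonoidHom.finsetSum_apply]
    exact Finset.sum_congr rfl fun i _ => (hβ _ _ _).symm
  have hker : ∀ w, Hmap EF EM a hπ n w = 0 → Φ w = 0 := by
    intro w hw
    obtain ⟨l, rfl⟩ := (hex w).1 hw
    haveI : Module.Finite R L.carrier := inferInstanceAs (Module.Finite R (LinearMap.ker (freeπ 𝒜 b v)))
    obtain ⟨s, c, u, hu, -, hsur⟩ := exists_mu_surjective I EL hvan
    obtain ⟨z, rfl⟩ := hsur l
    rw [map_sum, map_sum]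
    refine Finset.sum_eq_zero fun j _ => ?_
    rw [Hmap_mu, hΦ, show freeπ 𝒜 b v (subι F _ (isHomogeneous_ker hπ) (u j)) = 0 from
      (u j : LinearMap.ker (freeπ 𝒜 b v)).2, map_zero]
    rfl
  choose sec hsec using hs
  have hwell : ∀ {w w'}, Hmap EF EM a hπ n w = Hmap EF EM a hπ n w' → Φ w = Φ w' := fun {w w'} h =>
    sub_eq_zero.1 (by rw [← map_sub]; exact hker _ (by rw [map_sub, h, sub_self]))
  refine ⟨AddMonoidHom.mk' (fun y => Φ (sec y)) fun y y' => by
    rw [← map_add]; exact hwell (by rw [hsec, map_add, hsec, hsec]), fun m x => ?_⟩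
  obtain ⟨w, rfl⟩ := freeπ_surjective 𝒜 b v hspan m
  show Φ (sec _) = _
  rw [← hΦ w x]
  exact hwell (by rw [hsec, Hmap_mu])

end Groth.Agent.GrLC21
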