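import Groth.Agent.Lib.GrLC21.Fac

/-!
# Graded local cohomology from acyclic resolutions
-/

universe u

open DirectSum

noncomputable section

set_option linter.unusedSectionVars false

namespace Groth.Agent.GrLC21

variable {ι : Type} [AddCommGroup ι] [DecidableEq ι]
variable {R : Type u} [CommRing R] {σ : Type u} [SetLike σ R] [AddSubgroupClass σ R]
  {𝒜 : ι → σ} [GradedRing 𝒜]
variable {M : Type u} [AddCommGroup M] [Module R M] {τ : Type u} [SetLike τ M] [AddSubgroupClass τ M]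
  {ℳ : ι → τ} [Decomposition ℳ] [SetLike.GradedSMul 𝒜 ℳ]

variable (𝒜 ℳ) in
/-- An exact coresolution by graded modules. -/
structure GRes : Type (u + 1) where
  /-- the terms -/
  X : ℕ → GrLC.GMod.{u} 𝒜
  /-- the differentials -/
  d : ∀ n : ℕ, (X n).carrier →ₗ[R] (X (n + 1)).carrier
  /-- the augmentation -/
  ε : M →ₗ[R] (X 0).carrier
  d_grHom : ∀ n : ℕ, GrLC.IsGrHom (X n).gr (X (n + 1)).gr (d n)
  ε_grHom : GrLC.IsGrHom ℳ (X 0).gr ε
  ε_injective : Function.Injective ε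
  exact_zero : LinearMap.ker (d 0) = LinearMap.range ε
  exact_succ : ∀ n : ℕ, LinearMap.ker (d (n + 1)) = LinearMap.range (d n)

namespace GRes

variable (C : GRes 𝒜 ℳ) (a : HomogeneousIdeal 𝒜)

theorem d_d (n : ℕ) (x : (C.X n).carrier) : C.d (n + 1) (C.d n x) = 0 :=
  LinearMap.mem_ker.1 ((C.exact_succ n).ge (LinearMap.mem_range_self _ x))

/-- Torsion cocycles. -/
def cocyc (i : ℕ) : Submodule R (C.X i).carrier :=
  GrLC.gam a.toIdeal (C.X i).carrier ⊓ LinearMap.ker (C.d i)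

/-- Torsion coboundaries. -/
def cobdy : (i : ℕ) → Submodule R (C.X i).carrier
  | 0 => ⊥
  | n + 1 => (GrLC.gam a.toIdeal (C.X n).carrier).map (C.d n)

theorem cocyc_isHomogeneous (i : ℕ) : (C.cocyc a i).IsHomogeneous (C.X i).gr :=
  isHomogeneous_inf (gam_isHomogeneous a (C.X i).gr) (isHomogeneous_ker (C.d_grHom i))

theorem cobdy_isHomogeneous : ∀ i, (C.cobdy a i).IsHomogeneous (C.X i).gr
  | 0 => isHomogeneous_bot _
  | n + 1 => isHomogeneous_map (C.d_grHom n) (gam_isHomogeneous a (C.X n).gr)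

/-- The cocycles as a graded module. -/
abbrev cocycMod (i : ℕ) : GrLC.GMod.{u} 𝒜 := sub (C.X i) (C.cocyc a i) (C.cocyc_isHomogeneous a i)

/-- The coboundaries inside the cocycles. -/
abbrev cobdyIn (i : ℕ) : Submodule R (C.cocycMod a i).carrier :=
  (C.cobdy a i).comap (subι (C.X i) (C.cocyc a i) (C.cocyc_isHomogeneous a i))

theorem cobdyIn_isHomogeneous (i : ℕ) : (C.cobdyIn a i).IsHomogeneous (C.cocycMod a i).gr :=
  isHomogeneous_comap (subι_grHom _ _ _) (C.cobdy_isHomogeneous a i)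

/-- The cohomology of the torsion subcomplex. -/
def Hmod (i : ℕ) : GrLC.GMod.{u} 𝒜 := quot (C.cocycMod a i) (C.cobdyIn a i) (C.cobdyIn_isHomogeneous a i)

/-- The class map. -/
def toH (i : ℕ) : C.cocyc a i →ₗ[R] (C.Hmod a i).carrier :=
  quotπ (C.cocycMod a i) (C.cobdyIn a i) (C.cobdyIn_isHomogeneous a i)

theorem toH_surjective (i : ℕ) : Function.Surjective (C.toH a i) := quotπ_surjective _ _ _

theorem toH_eq_zero_iff {i : ℕ} (z : C.cocyc a i) :
    C.toH a i z = 0 ↔ (z : (C.X i).carrier) ∈ C.cobdy a i :=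
  (Submodule.Quotient.mk_eq_zero _).trans Iff.rfl

theorem mem_Hmod_gr {i : ℕ} {g : ι} {x : (C.Hmod a i).carrier} :
    x ∈ (C.Hmod a i).gr g ↔ ∃ z : C.cocyc a i, (z : (C.X i).carrier) ∈ (C.X i).gr g ∧ C.toH a i z = x :=
  Iff.rfl

variable (E : GrLC.StarInjRes 𝒜 ℳ)

/-- A chain map into a *injective resolution, lifting the identity. -/
structure Lift where
  /-- the components -/
  f : ∀ n, (C.X n).carrier →ₗ[R] (E.X n).carrier
  grHom : ∀ n, GrLC.IsGrHom (C.X n).gr (E.X n).gr (f n)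
  comm : ∀ n x, E.d n (f n x) = f (n + 1) (C.d n x)
  aug : ∀ m, f 0 (C.ε m) = E.ε m

/-- A partial lift. -/
abbrev LStep (n : ℕ) : Type u :=
  {f : (C.X n).carrier →ₗ[R] (E.X n).carrier //
    GrLC.IsGrHom (C.X n).gr (E.X n).gr f ∧ LinearMap.ker (C.d n) ≤ LinearMap.ker (E.d n ∘ₗ f)}

variable {C E} in
theorem LStep.exists_next {n : ℕ} (s : LStep C E n) :
    ∃ t : LStep C E (n + 1), ∀ x, E.d n (s.1 x) = t.1 (C.d n x) := by
  obtain ⟨w, hw, e⟩ := exists_extend (E.starInj (n + 1)) (C.d_grHom n)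
    (isGrHom_comp (E.d_grHom n) s.2.1) s.2.2
  refine ⟨⟨w, hw, fun x hx => ?_⟩, fun x => (LinearMap.congr_fun e x).symm⟩
  rw [C.exact_succ n] at hx
  obtain ⟨y, rfl⟩ := hx
  change E.d (n + 1) (w (C.d n y)) = 0
  exact (congrArg (E.d (n + 1)) (LinearMap.congr_fun e y)).trans (GrLC21.d_d E n _)

theorem nonempty_lift : Nonempty (C.Lift E) := by
  obtain ⟨w, hw, e⟩ := exists_extend (E.starInj 0) (X := toGMod 𝒜 ℳ) (d := C.ε) C.ε_grHom
    (u := E.ε) E.ε_grHom fun x hx => by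
      have h0 : x = 0 := C.ε_injective (hx.trans C.ε.map_zero.symm)
      rw [h0]
      exact Submodule.zero_mem _
  let s₀ : LStep C E 0 := ⟨w, hw, fun x hx => by
    rw [C.exact_zero] at hx
    obtain ⟨m, rfl⟩ := hx
    change E.d 0 (w (C.ε m)) = 0
    refine (congrArg (E.d 0) (LinearMap.congr_fun e m)).trans ?_
    exact LinearMap.mem_ker.1 (E.exact_zero.ge (LinearMap.mem_range_self E.ε m))⟩
  let s : ∀ n, LStep C E n := fun n => Nat.rec s₀ (fun _ t => (LStep.exists_next t).choose) n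
  exact ⟨⟨fun n => (s n).1, fun n => (s n).2.1, fun n x => (LStep.exists_next (s n)).choose_spec x,
    fun m => LinearMap.congr_fun e m⟩⟩

variable {C E} (F : C.Lift E)

/-- The differential of the cone. -/
def Lift.coneD (n : ℕ) :
    (C.X (n + 1)).carrier × (E.X n).carrier →ₗ[R] (C.X (n + 2)).carrier × (E.X (n + 1)).carrier :=
  LinearMap.prod (-(C.d (n + 1) ∘ₗ LinearMap.fst R _ _))
    (F.f (n + 1) ∘ₗ LinearMap.fst R _ _ + E.d n ∘ₗ LinearMap.snd R _ _)

theorem Lift.coneD_apply (n : ℕ) (x : (C.X (n + 1)).carrier) (x' : (E.X n).carrier) :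
    F.coneD n (x, x') = (-C.d (n + 1) x, F.f (n + 1) x + E.d n x') := rfl

/-- The first differential of the augmented cone. -/
def Lift.cone₀ : (C.X 0).carrier →ₗ[R] (C.X 1).carrier × (E.X 0).carrier :=
  LinearMap.prod (-C.d 0) (F.f 0)

theorem Lift.cone₀_injective : Function.Injective F.cone₀ := by
  rw [injective_iff_map_eq_zero]
  intro x hx
  have h1 : -C.d 0 x = 0 := congrArg Prod.fst hx
  have h2 : F.f 0 x = 0 := congrArg Prod.snd hx
  have : x ∈ LinearMap.range C.ε := C.exact_zero ▸ LinearMap.mem_ker.2 (neg_eq_zero.1 h1)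
  obtain ⟨m, rfl⟩ := this
  rw [F.aug] at h2
  rw [E.ε_injective (h2.trans (map_zero _).symm), map_zero]

theorem Lift.range_cone₀ : LinearMap.range F.cone₀ = LinearMap.ker (F.coneD 0) := by
  refine le_antisymm ?_ fun ⟨x, x'⟩ hx => ?_
  · rintro _ ⟨y, rfl⟩
    show F.coneD 0 (-C.d 0 y, F.f 0 y) = 0
    rw [F.coneD_apply, map_neg, C.d_d, neg_zero, neg_zero, map_neg, F.comm, neg_add_cancel]
    rfl
  · have h1 : -C.d 1 x = 0 := congrArg Prod.fst hx
    have h2 : F.f 1 x + E.d 0 x' = 0 := congrArg Prod.snd hx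
    have h : x ∈ LinearMap.range (C.d 0) := C.exact_succ 0 ▸ LinearMap.mem_ker.2 (neg_eq_zero.1 h1)
    obtain ⟨y, rfl⟩ := h
    have h3 : F.f 0 y + x' ∈ LinearMap.range E.ε := by
      rw [← E.exact_zero, LinearMap.mem_ker, map_add, F.comm, h2]
    obtain ⟨m, hm⟩ := h3
    refine ⟨-(y - C.ε m), Prod.ext ?_ ?_⟩
    · show -C.d 0 (-(y - C.ε m)) = C.d 0 y
      have h0 : C.d 0 (C.ε m) = 0 := LinearMap.mem_ker.1 (C.exact_zero ▸ LinearMap.mem_range_self C.ε m)
      rw [map_neg, neg_neg, map_sub, h0, sub_zero]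
    · show F.f 0 (-(y - C.ε m)) = x'
      rw [map_neg, map_sub, F.aug, hm]
      abel

theorem Lift.range_coneD (n : ℕ) : LinearMap.range (F.coneD n) = LinearMap.ker (F.coneD (n + 1)) := by
  refine le_antisymm ?_ fun ⟨x, x'⟩ hx => ?_
  · rintro _ ⟨⟨y, y'⟩, rfl⟩
    rw [LinearMap.mem_ker, F.coneD_apply, F.coneD_apply, map_neg, C.d_d, neg_zero, neg_zero, map_neg,
      map_add, GrLC21.d_d, add_zero, F.comm, neg_add_cancel]
    rfl
  · have h1 : -C.d (n + 2) x = 0 := congrArg Prod.fst hx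
    have h2 : F.f (n + 2) x + E.d (n + 1) x' = 0 := congrArg Prod.snd hx
    have h : x ∈ LinearMap.range (C.d (n + 1)) :=
      C.exact_succ (n + 1) ▸ LinearMap.mem_ker.2 (neg_eq_zero.1 h1)
    obtain ⟨y, rfl⟩ := h
    have h3 : F.f (n + 1) y + x' ∈ LinearMap.range (E.d n) := by
      rw [← E.exact_succ n, LinearMap.mem_ker, map_add, F.comm, h2]
    obtain ⟨w, hw⟩ := h3
    refine ⟨(-y, w), ?_⟩
    rw [F.coneD_apply, map_neg, neg_neg, map_neg, hw]
    exact Prod.ext rfl (by show -F.f (n + 1) y + (F.f (n + 1) y + x') = x'; abel)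

/-- The map to the next kernel. -/
def Lift.toKer (n : ℕ) :
    (C.X (n + 1)).carrier × (E.X n).carrier →ₗ[R] LinearMap.ker (F.coneD (n + 1)) :=
  (F.coneD n).codRestrict _ fun x => (F.range_coneD n) ▸ LinearMap.mem_range_self _ x

theorem Lift.toKer_surjective (n : ℕ) : Function.Surjective (F.toKer n) := fun z => by
  obtain ⟨y, hy⟩ := (F.range_coneD n).ge z.2
  exact ⟨y, Subtype.ext hy⟩

theorem Lift.exact_toKer (n : ℕ) :
    Function.Exact (LinearMap.ker (F.coneD n)).subtype (F.toKer n) := fun x =>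
  ⟨fun h => ⟨⟨x, congrArg Subtype.val h⟩, rfl⟩, by rintro ⟨y, rfl⟩; exact Subtype.ext y.2⟩

/-- The map on cocycles. -/
def Lift.onCocyc (i : ℕ) : C.cocyc a i →ₗ[R] E.cocyc a i :=
  ((F.f i).comp (C.cocyc a i).subtype).codRestrict _ fun z =>
    ⟨map_mem_gam (F.f i) z.2.1,
      (F.comm i z).trans ((congrArg _ (LinearMap.mem_ker.1 z.2.2)).trans (map_zero _))⟩

/-- The map on cohomology. -/
def Lift.onH (i : ℕ) : (C.Hmod a i).carrier →ₗ[R] E.H a i :=
  Submodule.liftQ _ (E.toH a i ∘ₗ F.onCocyc a i) fun z hz => by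
    refine (GrLC21.toH_eq_zero_iff E a _).2 ?_
    rcases i with _ | n
    · show F.f 0 z.1 ∈ (⊥ : Submodule R (E.X 0).carrier)
      rw [Submodule.mem_bot, show (z.1 : (C.X 0).carrier) = 0 from (Submodule.mem_bot R).1 hz, map_zero]
    · obtain ⟨y, hy, e⟩ := hz
      exact ⟨F.f n y, map_mem_gam (F.f n) hy, (F.comm n y).trans (congrArg _ e)⟩

theorem Lift.onH_toH (i : ℕ) (z : C.cocyc a i) :
    F.onH a i (C.toH a i z) = E.toH a i (F.onCocyc a i z) := rfl

theorem Lift.onH_grHom (i : ℕ) : GrLC.IsGrHom (C.Hmod a i).gr (E.Hgr a i) (F.onH a i) := by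
  intro g x hx
  obtain ⟨z, hz, rfl⟩ := (C.mem_Hmod_gr a).1 hx
  exact ⟨F.onCocyc a i z, F.grHom i g _ hz, rfl⟩

variable [IsNoetherianRing R] (hC : ∀ n, Acyc a.toIdeal (C.X n).carrier)

include F hC in
theorem Lift.acyc_term (n : ℕ) : Acyc a.toIdeal ((C.X (n + 1)).carrier × (E.X n).carrier) :=
  acyc_prod (hC (n + 1)) fun j => localCohomology_subsingleton (E.starInj n) a j

include hC in
theorem Lift.acyc_ker (n : ℕ) : Acyc a.toIdeal (LinearMap.ker (F.coneD n)) := by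
  induction n with
  | zero =>
    exact acyc_of_equiv ((LinearEquiv.ofInjective F.cone₀ F.cone₀_injective).trans
      (LinearEquiv.ofEq _ _ F.range_cone₀)) (hC 0)
  | succ n ih =>
    exact fun j => LocCohLib.subsingleton_right a.toIdeal (Submodule.subtype_injective _)
      (F.toKer_surjective n) (F.exact_toKer n) (j + 1) (F.acyc_term a hC n j) (ih (j + 1))

theorem Lift.exists_gam_zero {z : (C.X 1).carrier × (E.X 0).carrier}
    (hz : z ∈ GrLC.gam a.toIdeal _) (hD : F.coneD 0 z = 0) :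
    ∃ y ∈ GrLC.gam a.toIdeal (C.X 0).carrier, F.cone₀ y = z := by
  obtain ⟨y, rfl⟩ := F.range_cone₀.ge hD
  exact ⟨y, mem_gam_of_injective _ F.cone₀_injective hz, rfl⟩

include hC in
theorem Lift.exists_gam_succ (n : ℕ) {z : (C.X (n + 2)).carrier × (E.X (n + 1)).carrier}
    (hz : z ∈ GrLC.gam a.toIdeal _) (hD : F.coneD (n + 1) z = 0) :
    ∃ y ∈ GrLC.gam a.toIdeal _, F.coneD n y = z := by
  obtain ⟨y, hy, e⟩ := exists_torsion_preimage (Submodule.subtype_injective _) (F.toKer_surjective n)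
    (F.exact_toKer n) (F.acyc_ker a hC n) (F.acyc_term a hC n) (c := ⟨z, hD⟩)
    (mem_gam_of_injective (LinearMap.ker (F.coneD (n + 1))).subtype (Submodule.subtype_injective _) hz)
  exact ⟨y, hy, congrArg Subtype.val e⟩

include hC in
theorem Lift.onH_bijective (i : ℕ) : Function.Bijective (F.onH a i) := by
  constructor
  · rw [injective_iff_map_eq_zero]
    intro x hx
    obtain ⟨z, rfl⟩ := C.toH_surjective a i x
    rw [F.onH_toH] at hx
    have hx := (GrLC21.toH_eq_zero_iff E a _).1 hx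
    refine (C.toH_eq_zero_iff a _).2 ?_
    rcases i with _ | n
    · have h1 : F.f 0 z.1 = 0 := (Submodule.mem_bot R).1 hx
      refine (Submodule.mem_bot R).2 (F.cone₀_injective (Prod.ext ?_ (h1.trans (map_zero (F.f 0)).symm)))
      show -C.d 0 z.1 = -C.d 0 0
      rw [show C.d 0 z.1 = 0 from z.2.2, map_zero]
    · obtain ⟨w, hw, e⟩ := hx
      have e : E.d n w = F.f (n + 1) z.1 := e
      have hD : F.coneD n (z.1, -w) = 0 := by
        rw [F.coneD_apply, show C.d (n + 1) z.1 = 0 from z.2.2, map_neg, e, add_neg_cancel, neg_zero]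
        rfl
      have hg : (z.1, -w) ∈ GrLC.gam a.toIdeal _ := mem_gam_prod z.2.1 (neg_mem hw)
      rcases n with _ | n
      · obtain ⟨y, hy, e'⟩ := F.exists_gam_zero a hg hD
        exact ⟨-y, neg_mem hy, (map_neg (C.d 0) y).trans (congrArg Prod.fst e')⟩
      · obtain ⟨⟨y, y'⟩, hy, e'⟩ := F.exists_gam_succ a hC n hg hD
        exact ⟨-y, neg_mem (map_mem_gam (LinearMap.fst R _ _) hy),
          (map_neg (C.d (n + 1)) y).trans (congrArg Prod.fst e')⟩
  · intro x
    obtain ⟨z, rfl⟩ := GrLC21.toH_surjective E a i x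
    have hD : F.coneD i (0, z.1) = 0 := by
      rw [F.coneD_apply, show E.d i z.1 = 0 from z.2.2, map_zero, map_zero, add_zero, neg_zero]
      rfl
    have hg : ((0 : (C.X (i + 1)).carrier), z.1) ∈ GrLC.gam a.toIdeal _ := mem_gam_prod (zero_mem _) z.2.1
    rcases i with _ | n
    · obtain ⟨y, hy, e⟩ := F.exists_gam_zero a hg hD
      refine ⟨C.toH a 0 ⟨y, hy, neg_eq_zero.1 (congrArg Prod.fst e)⟩, ?_⟩
      exact congrArg (E.toH a 0) (Subtype.ext (congrArg Prod.snd e))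
    · obtain ⟨⟨y, w⟩, hy, e⟩ := F.exists_gam_succ a hC n hg hD
      refine ⟨C.toH a (n + 1) ⟨y, map_mem_gam (LinearMap.fst R _ _) hy,
        neg_eq_zero.1 (congrArg Prod.fst e)⟩, ?_⟩
      rw [F.onH_toH]
      refine (Submodule.Quotient.eq _).2 ?_
      show F.f (n + 1) y - z.1 ∈ E.cobdy a (n + 1)
      refine ⟨-w, neg_mem (map_mem_gam (LinearMap.snd R _ _) hy), ?_⟩
      have h2 : F.f (n + 1) y + E.d n w = z.1 := congrArg Prod.snd e
      rw [map_neg, ← h2]
      abel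

variable (C E) in
include hC in
/-- Acyclic resolutions compute graded local cohomology. -/
theorem exists_equiv_H (i : ℕ) : ∃ e : (C.Hmod a i).carrier ≃ₗ[R] E.H a i,
    GrLC.IsGrHom (C.Hmod a i).gr (E.Hgr a i) e.toLinearMap ∧
    ∀ g, ∀ y ∈ E.Hgr a i g, e.symm y ∈ (C.Hmod a i).gr g := by
  obtain ⟨F⟩ := C.nonempty_lift E
  let e := LinearEquiv.ofBijective (F.onH a i) (F.onH_bijective a hC i)
  have he : GrLC.IsGrHom (C.Hmod a i).gr (GrLC21.Hmod E a i).gr e.toLinearMap := F.onH_grHom a i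
  exact ⟨e, F.onH_grHom a i, fun g y hy => isGrHom_symm (N := (GrLC21.Hmod E a i).carrier) (e := e) he g y hy⟩

end GRes

end Groth.Agent.GrLC21
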