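import Groth.Prelude.Def_GrLC

/-!
# Homogeneous submodules, quotients and maps of graded modules
-/

universe u

open DirectSum

noncomputable section

set_option linter.unusedSectionVars false

namespace Groth.Agent.GrLC21

/-! ## Families with projections -/

section Family

variable {ι : Type} [DecidableEq ι] {M : Type u} [AddCommGroup M] {τ : Type u} [SetLike τ M]
  [AddSubgroupClass τ M]

/-- A family with projections which spans is an internal decomposition. -/
theorem isInternal_of_proj (S : ι → τ) (π : ι → M →+ M)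
    (hsame : ∀ g, ∀ x ∈ S g, π g x = x) (hne : ∀ g h, g ≠ h → ∀ x ∈ S h, π g x = 0)
    (hspan : ∀ x : M, x ∈ ⨆ g, AddSubgroup.ofClass (S g)) : IsInternal S := by
  constructor
  · have key : ∀ (v : ⨁ g, S g) (g : ι), π g (DirectSum.coeAddMonoidHom S v) = (v g : M) := by
      intro v g
      induction v using DirectSum.induction_on with
      | zero => simp
      | of i x =>
        rw [DirectSum.coeAddMonoidHom_of]
        rcases eq_or_ne g i with rfl | h
        · rw [hsame _ _ x.2, of_eq_same]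
        · rw [hne _ _ h _ x.2, of_eq_of_ne _ _ _ h, ZeroMemClass.coe_zero]
      | add v w hv hw => rw [map_add, map_add, hv, hw, add_apply, AddMemClass.coe_add]
    exact fun v w e => DFinsupp.ext fun g => Subtype.ext (by rw [← key, ← key, e])
  · intro x
    refine AddSubgroup.iSup_induction (C := fun x => ∃ v, DirectSum.coeAddMonoidHom S v = x) _ (hspan x)
      (fun g y hy => ⟨of _ g ⟨y, hy⟩, DirectSum.coeAddMonoidHom_of _ _ _⟩) ⟨0, map_zero _⟩ ?_
    rintro _ _ ⟨v, rfl⟩ ⟨w, rfl⟩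
    exact ⟨v + w, map_add _ _ _⟩

end Family

section Proj

variable {ι : Type} [DecidableEq ι] {M : Type u} [AddCommGroup M] {τ : Type u} [SetLike τ M]
  [AddSubgroupClass τ M] (ℳ : ι → τ) [Decomposition ℳ]

/-- The component of degree `g`. -/
def proj (g : ι) : M →+ M where
  toFun x := (decompose ℳ x g : M)
  map_zero' := by simp
  map_add' x y := by simp

theorem proj_apply (g : ι) (x : M) : proj ℳ g x = (decompose ℳ x g : M) := rfl

theorem proj_mem (g : ι) (x : M) : proj ℳ g x ∈ ℳ g := (decompose ℳ x g).2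

theorem proj_of_mem {g : ι} {x : M} (hx : x ∈ ℳ g) : proj ℳ g x = x := decompose_of_mem_same ℳ hx

theorem proj_of_mem_ne {g h : ι} {x : M} (hx : x ∈ ℳ h) (e : h ≠ g) : proj ℳ g x = 0 :=
  decompose_of_mem_ne ℳ hx e

/-- The degrees occurring in an element. -/
def degs (x : M) : Finset ι :=
  have : ∀ (i : ι) (y : ℳ i), Decidable (y ≠ 0) := fun _ _ => Classical.dec _
  (decompose ℳ x).support

theorem mem_degs {x : M} {g : ι} : g ∈ degs ℳ x ↔ proj ℳ g x ≠ 0 := by
  classical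
  rw [degs, proj_apply]
  simp only [DFinsupp.mem_support_iff, ne_eq]
  exact not_congr ⟨fun h => by rw [h]; rfl, fun h => Subtype.ext h⟩

theorem sum_proj (x : M) : ∑ g ∈ degs ℳ x, proj ℳ g x = x := by
  classical
  have : degs ℳ x = (decompose ℳ x).support := by
    ext g; rw [mem_degs, DFinsupp.mem_support_iff, proj_apply]
    exact not_congr ⟨fun h => Subtype.ext h, fun h => by rw [h]; rfl⟩
  rw [this]
  exact DirectSum.sum_support_decompose ℳ x

theorem eq_zero_of_proj {x : M} (h : ∀ g, proj ℳ g x = 0) : x = 0 := by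
  rw [← sum_proj ℳ x]
  exact Finset.sum_eq_zero fun g _ => h g

theorem ext_proj {x y : M} (h : ∀ g, proj ℳ g x = proj ℳ g y) : x = y :=
  sub_eq_zero.1 (eq_zero_of_proj ℳ fun g => by rw [map_sub, h g, sub_self])

theorem mem_iSup_pieces (x : M) : x ∈ ⨆ g, AddSubgroup.ofClass (ℳ g) := by
  rw [← sum_proj ℳ x]
  exact sum_mem fun g _ => AddSubgroup.mem_iSup_of_mem g (proj_mem ℳ g x)

end Proj

/-- A bare family of pieces spanning the module. -/
def Spans {ι : Type} {M : Type u} [AddCommGroup M] {τ : Type u} [SetLike τ M] [AddSubgroupClass τ M]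
    (ℳ : ι → τ) : Prop :=
  ∀ x : M, x ∈ ⨆ g, AddSubgroup.ofClass (ℳ g)

theorem spans_of_decomposition {ι : Type} [DecidableEq ι] {M : Type u} [AddCommGroup M] {τ : Type u}
    [SetLike τ M] [AddSubgroupClass τ M] (ℳ : ι → τ) [Decomposition ℳ] : Spans ℳ :=
  mem_iSup_pieces ℳ

@[elab_as_elim]
theorem spans_induction {ι : Type} {M : Type u} [AddCommGroup M] {τ : Type u} [SetLike τ M]
    [AddSubgroupClass τ M] {ℳ : ι → τ} (hs : Spans ℳ) {P : M → Prop} (x : M) (h0 : P 0)
    (hadd : ∀ a b, P a → P b → P (a + b)) (hh : ∀ g, ∀ a ∈ ℳ g, P a) : P x :=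
  AddSubgroup.iSup_induction (C := P) _ (hs x) hh h0 hadd

/-! ## Homogeneous submodules -/

section Homogeneous

variable {ι : Type} [AddCommGroup ι] [DecidableEq ι]
variable {R : Type u} [CommRing R] {σ : Type u} [SetLike σ R] [AddSubgroupClass σ R]
  (𝒜 : ι → σ) [GradedRing 𝒜]
variable {M : Type u} [AddCommGroup M] [Module R M] {τ : Type u} [SetLike τ M] [AddSubgroupClass τ M]
  (ℳ : ι → τ) [Decomposition ℳ] [SetLike.GradedSMul 𝒜 ℳ]

omit [GradedRing 𝒜] [Decomposition ℳ] in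
theorem smul_mem {a g : ι} {r : R} {x : M} (hr : r ∈ 𝒜 a) (hx : x ∈ ℳ g) : r • x ∈ ℳ (a + g) :=
  SetLike.GradedSMul.smul_mem (A := 𝒜) (B := ℳ) hr hx

omit [GradedRing 𝒜] in
theorem proj_smul {a : ι} {r : R} (hr : r ∈ 𝒜 a) (g : ι) (x : M) :
    proj ℳ g (r • x) = r • proj ℳ (g - a) x := by
  refine spans_induction (spans_of_decomposition ℳ) x (by simp) (fun y z hy hz => ?_) fun h y hy => ?_
  · rw [smul_add, map_add, hy, hz, map_add, smul_add]
  · rcases eq_or_ne (a + h) g with rfl | e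
    · rw [proj_of_mem ℳ (smul_mem 𝒜 ℳ hr hy), add_sub_cancel_left, proj_of_mem ℳ hy]
    · rw [proj_of_mem_ne ℳ (smul_mem 𝒜 ℳ hr hy) e, proj_of_mem_ne ℳ hy, smul_zero]
      intro e'
      exact e (by rw [e', add_sub_cancel])

variable {ℳ}

theorem isHomogeneous_iff {P : Submodule R M} :
    P.IsHomogeneous ℳ ↔ ∀ g, ∀ x ∈ P, proj ℳ g x ∈ P :=
  ⟨fun h g _ hx => h g hx, fun h g x hx => h g x hx⟩

theorem proj_mem_of_isHomogeneous {P : Submodule R M} (hP : P.IsHomogeneous ℳ) (g : ι) {x : M}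
    (hx : x ∈ P) : proj ℳ g x ∈ P := hP g hx

theorem eq_bot_of_homogeneous {P : Submodule R M} (hP : P.IsHomogeneous ℳ)
    (h : ∀ g, ∀ x ∈ ℳ g, x ∈ P → x = 0) : P = ⊥ :=
  (Submodule.eq_bot_iff _).2 fun _ hx =>
    eq_zero_of_proj ℳ fun g => h g _ (proj_mem ℳ g _) (hP g hx)

theorem exists_homogeneous_ne_zero {P : Submodule R M} (hP : P.IsHomogeneous ℳ) (h : P ≠ ⊥) :
    ∃ g, ∃ x ∈ ℳ g, x ∈ P ∧ x ≠ 0 := by
  by_contra! H
  exact h (eq_bot_of_homogeneous hP H)

theorem le_of_homogeneous {P Q : Submodule R M} (hP : P.IsHomogeneous ℳ)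
    (h : ∀ g, ∀ x ∈ ℳ g, x ∈ P → x ∈ Q) : P ≤ Q := fun x hx => by
  rw [← sum_proj ℳ x]
  exact Q.sum_mem fun g _ => h g _ (proj_mem ℳ g x) (hP g hx)

variable (ℳ) in
theorem isHomogeneous_bot : (⊥ : Submodule R M).IsHomogeneous ℳ := fun g x hx => by
  rw [Submodule.mem_bot] at hx ⊢
  rw [hx]; simp

variable (ℳ) in
theorem isHomogeneous_top : (⊤ : Submodule R M).IsHomogeneous ℳ := fun _ _ _ => trivial

theorem isHomogeneous_inf {P Q : Submodule R M} (hP : P.IsHomogeneous ℳ) (hQ : Q.IsHomogeneous ℳ) :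
    (P ⊓ Q).IsHomogeneous ℳ := fun g _ hx => ⟨hP g hx.1, hQ g hx.2⟩

theorem isHomogeneous_iSup {κ : Sort*} {P : κ → Submodule R M} (h : ∀ j, (P j).IsHomogeneous ℳ) :
    (⨆ j, P j).IsHomogeneous ℳ := by
  intro g x hx
  refine Submodule.iSup_induction P (motive := fun x => proj ℳ g x ∈ ⨆ j, P j) hx
    (fun j y hy => Submodule.mem_iSup_of_mem j (h j g hy)) (by simp) fun a b ha hb => ?_
  rw [map_add]
  exact Submodule.add_mem _ ha hb

theorem isHomogeneous_sup {P Q : Submodule R M} (hP : P.IsHomogeneous ℳ) (hQ : Q.IsHomogeneous ℳ) :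
    (P ⊔ Q).IsHomogeneous ℳ := by
  intro g x hx
  obtain ⟨p, hp, q, hq, rfl⟩ := Submodule.mem_sup.1 hx
  change proj ℳ g (p + q) ∈ P ⊔ Q
  rw [map_add]
  exact Submodule.add_mem_sup (hP g hp) (hQ g hq)

include 𝒜 in
theorem isHomogeneous_span {s : Set M} (hs : ∀ x ∈ s, ∃ g, x ∈ ℳ g) :
    (Submodule.span R s).IsHomogeneous ℳ := by
  intro g x hx
  change proj ℳ g x ∈ Submodule.span R s
  induction hx using Submodule.span_induction generalizing g with
  | mem x hx =>
    obtain ⟨h, hh⟩ := hs x hx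
    rcases eq_or_ne h g with rfl | e
    · rw [proj_of_mem ℳ hh]; exact Submodule.subset_span hx
    · rw [proj_of_mem_ne ℳ hh e]; exact Submodule.zero_mem _
  | zero => rw [map_zero]; exact Submodule.zero_mem _
  | add x y _ _ hx hy => rw [map_add]; exact Submodule.add_mem _ (hx g) (hy g)
  | smul r x _ ih =>
    rw [← sum_proj 𝒜 r, Finset.sum_smul, map_sum]
    refine Submodule.sum_mem _ fun a _ => ?_
    rw [proj_smul 𝒜 ℳ (proj_mem 𝒜 a r)]
    exact Submodule.smul_mem _ _ (ih _)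

include 𝒜 in
theorem isHomogeneous_span_singleton {g : ι} {x : M} (hx : x ∈ ℳ g) :
    (R ∙ x).IsHomogeneous ℳ :=
  isHomogeneous_span 𝒜 fun y hy => ⟨g, by rw [Set.mem_singleton_iff.1 hy]; exact hx⟩

/-- The homogeneous part of a nonzero multiple of a homogeneous element. -/
theorem exists_homogeneous_smul {P : Submodule R M} (hP : P.IsHomogeneous ℳ) {g : ι} {x : M}
    (hx : x ∈ ℳ g) {r : R} (hr : r • x ≠ 0) (hrP : r • x ∈ P) :
    ∃ a, ∃ s ∈ 𝒜 a, s • x ∈ P ∧ s • x ≠ 0 := by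
  classical
  have key : ∀ a, proj 𝒜 a r • x = proj ℳ (a + g) (r • x) := by
    intro a
    refine spans_induction (spans_of_decomposition 𝒜) r (by simp)
      (fun y z hy hz => by rw [map_add, add_smul, add_smul, map_add, hy, hz]) fun b y hy => ?_
    rcases eq_or_ne b a with rfl | e
    · rw [proj_of_mem 𝒜 hy, proj_of_mem ℳ (smul_mem 𝒜 ℳ hy hx)]
    · rw [proj_of_mem_ne 𝒜 hy e, zero_smul,
        proj_of_mem_ne ℳ (smul_mem 𝒜 ℳ hy hx) fun h => e (add_right_cancel h)]
  by_contra! H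
  refine hr ?_
  rw [← sum_proj 𝒜 r, Finset.sum_smul]
  exact Finset.sum_eq_zero fun a _ =>
    H a _ (proj_mem 𝒜 a r) (by rw [key]; exact hP _ hrP)

variable {N : Type u} [AddCommGroup N] [Module R N] {τ' : Type u} [SetLike τ' N] [AddSubgroupClass τ' N]
  {𝒩 : ι → τ'} [Decomposition 𝒩]

theorem map_proj {f : M →ₗ[R] N} {ℳ' : ι → τ} [Decomposition ℳ'] (hf : GrLC.IsGrHom ℳ' 𝒩 f) (g : ι)
    (x : M) : f (proj ℳ' g x) = proj 𝒩 g (f x) := by
  refine spans_induction (spans_of_decomposition ℳ') x (by simp)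
    (fun y z hy hz => by simp only [map_add, hy, hz]) fun h y hy => ?_
  rcases eq_or_ne h g with rfl | e
  · rw [proj_of_mem ℳ' hy, proj_of_mem 𝒩 (hf _ y hy)]
  · rw [proj_of_mem_ne ℳ' hy e, proj_of_mem_ne 𝒩 (hf _ y hy) e, map_zero]

theorem isHomogeneous_ker {f : M →ₗ[R] N} (hf : GrLC.IsGrHom ℳ 𝒩 f) :
    (LinearMap.ker f).IsHomogeneous ℳ := fun g x hx => by
  change f (proj ℳ g x) = 0
  rw [map_proj hf, LinearMap.mem_ker.1 hx, map_zero]

theorem isHomogeneous_comap {f : M →ₗ[R] N} (hf : GrLC.IsGrHom ℳ 𝒩 f) {Q : Submodule R N}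
    (hQ : Q.IsHomogeneous 𝒩) : (Q.comap f).IsHomogeneous ℳ := fun g x hx => by
  change f (proj ℳ g x) ∈ Q
  rw [map_proj hf]
  exact hQ g hx

theorem isHomogeneous_map {f : M →ₗ[R] N} (hf : GrLC.IsGrHom ℳ 𝒩 f) {P : Submodule R M}
    (hP : P.IsHomogeneous ℳ) : (P.map f).IsHomogeneous 𝒩 := by
  rintro g _ ⟨x, hx, rfl⟩
  exact ⟨proj ℳ g x, hP g hx, map_proj hf g x⟩

theorem isHomogeneous_range {M : Type u} [AddCommGroup M] [Module R M] {τ : Type u} [SetLike τ M]
    [AddSubgroupClass τ M] {ℳ : ι → τ} (hs : Spans ℳ) {f : M →ₗ[R] N}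
    (hf : GrLC.IsGrHom ℳ 𝒩 f) : (LinearMap.range f).IsHomogeneous 𝒩 := by
  rintro g _ ⟨x, rfl⟩
  change proj 𝒩 g (f x) ∈ LinearMap.range f
  refine spans_induction hs x (by simp) (fun y z hy hz => by simp only [map_add]; exact add_mem hy hz)
    fun h y hy => ?_
  rcases eq_or_ne h g with rfl | e
  · rw [proj_of_mem 𝒩 (hf _ y hy)]; exact ⟨y, rfl⟩
  · rw [proj_of_mem_ne 𝒩 (hf _ y hy) e]; exact zero_mem _

/-- A preimage of a homogeneous element can be chosen homogeneous. -/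
theorem exists_homogeneous_preimage {f : M →ₗ[R] N} (hf : GrLC.IsGrHom ℳ 𝒩 f) {g : ι} {y : N}
    (hy : y ∈ 𝒩 g) (h : y ∈ LinearMap.range f) : ∃ x ∈ ℳ g, f x = y := by
  obtain ⟨x, rfl⟩ := h
  exact ⟨proj ℳ g x, proj_mem ℳ g x, by rw [map_proj hf, proj_of_mem 𝒩 hy]⟩

theorem isGrHom_symm {e : M ≃ₗ[R] N} (he : GrLC.IsGrHom ℳ 𝒩 e.toLinearMap) :
    GrLC.IsGrHom 𝒩 ℳ e.symm.toLinearMap := fun g y hy => by
  obtain ⟨x, hx, e'⟩ := exists_homogeneous_preimage he hy ⟨e.symm y, e.apply_symm_apply y⟩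
  rw [← e']
  exact (e.symm_apply_apply x).symm ▸ hx

end Homogeneous

/-! ## Graded modules built from others -/

section Constructions

variable {ι : Type} [AddCommGroup ι] [DecidableEq ι]
variable {R : Type u} [CommRing R] {σ : Type u} [SetLike σ R] [AddSubgroupClass σ R]
  {𝒜 : ι → σ} [GradedRing 𝒜]

omit [DecidableEq ι] in
theorem isGrHom_id {M : Type u} [AddCommGroup M] [Module R M] {τ : Type u} [SetLike τ M]
    (ℳ : ι → τ) [AddSubgroupClass τ M] : GrLC.IsGrHom ℳ ℳ (LinearMap.id : M →ₗ[R] M) :=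
  fun _ _ h => h

omit [DecidableEq ι] in
theorem isGrHom_comp {M N P : Type u} [AddCommGroup M] [Module R M] [AddCommGroup N] [Module R N]
    [AddCommGroup P] [Module R P] {τ τ' τ'' : Type u} [SetLike τ M] [SetLike τ' N] [SetLike τ'' P]
    [AddSubgroupClass τ M] [AddSubgroupClass τ' N] [AddSubgroupClass τ'' P]
    {ℳ : ι → τ} {𝒩 : ι → τ'} {𝒬 : ι → τ''} {g : N →ₗ[R] P} {f : M →ₗ[R] N}
    (hg : GrLC.IsGrHom 𝒩 𝒬 g) (hf : GrLC.IsGrHom ℳ 𝒩 f) : GrLC.IsGrHom ℳ 𝒬 (g ∘ₗ f) :=
  fun d m hm => hg d _ (hf d m hm)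

/-- A graded module from an internal family. -/
def mkGMod (M : Type u) [AddCommGroup M] [Module R M] (S : ι → AddSubgroup M) (h : IsInternal S)
    (hs : ∀ (a g : ι) (r : R) (x : M), r ∈ 𝒜 a → x ∈ S g → r • x ∈ S (a + g)) : GrLC.GMod.{u} 𝒜 :=
  letI := h.chooseDecomposition
  haveI : SetLike.GradedSMul 𝒜 S := ⟨fun a g r x hr hx => hs a g r x hr hx⟩
  GrLC.GMod.of 𝒜 M S

section Of

variable {M : Type u} [AddCommGroup M] [Module R M] {τ : Type u} [SetLike τ M] [AddSubgroupClass τ M]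
  (ℳ : ι → τ) [Decomposition ℳ] [SetLike.GradedSMul 𝒜 ℳ]

/-- The pieces as additive subgroups. -/
def asAdd : ι → AddSubgroup M := fun g => AddSubgroup.ofClass (ℳ g)

variable (𝒜) in
/-- Bundling of a graded module with pieces of any type. -/
def toGMod : GrLC.GMod.{u} 𝒜 :=
  mkGMod M (asAdd ℳ)
    (isInternal_of_proj _ (proj ℳ) (fun _ _ hx => proj_of_mem ℳ hx)
      (fun _ _ e _ hx => proj_of_mem_ne ℳ hx e.symm) (mem_iSup_pieces ℳ))
    fun _ _ _ _ hr hx => smul_mem 𝒜 ℳ hr hx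

theorem mem_toGMod {g : ι} {x : M} : x ∈ (toGMod 𝒜 ℳ).gr g ↔ x ∈ ℳ g := Iff.rfl

end Of

section SubQuot

variable (X : GrLC.GMod.{u} 𝒜)

/-- A homogeneous submodule as a graded module. -/
def sub (P : Submodule R X.carrier) (hP : P.IsHomogeneous X.gr) : GrLC.GMod.{u} 𝒜 :=
  mkGMod P (fun g => (X.gr g).comap P.subtype.toAddMonoidHom)
    (isInternal_of_proj _
      (fun g => (((proj X.gr g).comp P.subtype.toAddMonoidHom).codRestrict P fun x => hP g x.2))
      (fun g x hx => Subtype.ext (proj_of_mem X.gr hx))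
      (fun g h e x hx => Subtype.ext (proj_of_mem_ne X.gr hx e.symm))
      (fun x => by
        have hx : x = ∑ g ∈ degs X.gr (x : X.carrier), (⟨proj X.gr g x, hP g x.2⟩ : P) :=
          Subtype.ext (by rw [Submodule.coe_sum]; exact (sum_proj X.gr _).symm)
        rw [hx]
        exact sum_mem fun g _ => AddSubgroup.mem_iSup_of_mem g
          (show proj X.gr g (x : X.carrier) ∈ X.gr g from proj_mem _ _ _)))
    fun a g r x hr hx => smul_mem 𝒜 X.gr hr hx

theorem mem_sub {P : Submodule R X.carrier} {hP : P.IsHomogeneous X.gr} {g : ι} {x : P} :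
    x ∈ (sub X P hP).gr g ↔ (x : X.carrier) ∈ X.gr g := Iff.rfl

/-- The inclusion of a homogeneous submodule. -/
def subι (P : Submodule R X.carrier) (hP : P.IsHomogeneous X.gr) :
    (sub X P hP).carrier →ₗ[R] X.carrier := P.subtype

theorem subι_grHom (P : Submodule R X.carrier) (hP : P.IsHomogeneous X.gr) :
    GrLC.IsGrHom (sub X P hP).gr X.gr (subι X P hP) := fun _ _ h => h

theorem subι_injective (P : Submodule R X.carrier) (hP : P.IsHomogeneous X.gr) :
    Function.Injective (subι X P hP) := P.subtype_injective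

/-- The quotient by a homogeneous submodule as a graded module. -/
def quot (P : Submodule R X.carrier) (hP : P.IsHomogeneous X.gr) : GrLC.GMod.{u} 𝒜 :=
  mkGMod (X.carrier ⧸ P) (fun g => (X.gr g).map P.mkQ.toAddMonoidHom)
    (isInternal_of_proj _
      (fun g => QuotientAddGroup.lift P.toAddSubgroup (P.mkQ.toAddMonoidHom.comp (proj X.gr g))
        fun x hx => (Submodule.Quotient.mk_eq_zero P).2 (hP g hx))
      (fun g _ hx => by
        obtain ⟨x, hx, rfl⟩ := hx
        exact congrArg P.mkQ (proj_of_mem X.gr hx))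
      (fun g h e _ hx => by
        obtain ⟨x, hx, rfl⟩ := hx
        exact (congrArg P.mkQ (proj_of_mem_ne X.gr hx e.symm)).trans (map_zero _))
      (fun q => by
        obtain ⟨x, rfl⟩ := P.mkQ_surjective q
        rw [← sum_proj X.gr x, map_sum]
        exact sum_mem fun g _ => AddSubgroup.mem_iSup_of_mem g ⟨_, proj_mem X.gr g x, rfl⟩))
    (by
      rintro a g r _ hr ⟨x, hx, rfl⟩
      exact ⟨r • x, smul_mem 𝒜 X.gr hr hx, map_smul P.mkQ r x⟩)

/-- The projection to the quotient. -/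
def quotπ (P : Submodule R X.carrier) (hP : P.IsHomogeneous X.gr) :
    X.carrier →ₗ[R] (quot X P hP).carrier := P.mkQ

theorem quotπ_grHom (P : Submodule R X.carrier) (hP : P.IsHomogeneous X.gr) :
    GrLC.IsGrHom X.gr (quot X P hP).gr (quotπ X P hP) := fun _ x hx => ⟨x, hx, rfl⟩

theorem quotπ_surjective (P : Submodule R X.carrier) (hP : P.IsHomogeneous X.gr) :
    Function.Surjective (quotπ X P hP) := P.mkQ_surjective

theorem ker_quotπ (P : Submodule R X.carrier) (hP : P.IsHomogeneous X.gr) :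
    LinearMap.ker (quotπ X P hP) = P := P.ker_mkQ

/-- Lifting through the quotient. -/
theorem exists_quot_lift {P : Submodule R X.carrier} (hP : P.IsHomogeneous X.gr) {N : Type u}
    [AddCommGroup N] [Module R N] {τ : Type u} [SetLike τ N] [AddSubgroupClass τ N] {𝒩 : ι → τ}
    {f : X.carrier →ₗ[R] N} (hf : GrLC.IsGrHom X.gr 𝒩 f) (h : P ≤ LinearMap.ker f) :
    ∃ f' : (quot X P hP).carrier →ₗ[R] N,
      GrLC.IsGrHom (quot X P hP).gr 𝒩 f' ∧ f' ∘ₗ quotπ X P hP = f :=
  ⟨P.liftQ f h, by rintro g _ ⟨x, hx, rfl⟩; exact hf g x hx, P.liftQ_mkQ f h⟩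

end SubQuot

section Reindex

/-- The same module with degrees moved by `d`. -/
def shift (X : GrLC.GMod.{u} 𝒜) (d : ι) : GrLC.GMod.{u} 𝒜 :=
  mkGMod X.carrier (fun g => X.gr (g - d))
    (isInternal_of_proj _ (fun g => proj X.gr (g - d)) (fun _ _ hx => proj_of_mem X.gr hx)
      (fun g h e _ hx => proj_of_mem_ne X.gr hx fun e' => e (sub_left_injective e').symm)
      (fun x => by
        refine spans_induction (spans_of_decomposition X.gr) x (zero_mem _) (fun _ _ => add_mem)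
          fun g a ha => AddSubgroup.mem_iSup_of_mem (g + d) ?_
        change a ∈ X.gr (g + d - d)
        rwa [add_sub_cancel_right]))
    fun a g r x hr hx => by
      change r • x ∈ X.gr (a + g - d)
      rw [add_sub_assoc]
      exact smul_mem 𝒜 X.gr hr hx

theorem mem_shift {X : GrLC.GMod.{u} 𝒜} {d g : ι} {x : X.carrier} :
    x ∈ (shift X d).gr g ↔ x ∈ X.gr (g - d) := Iff.rfl

variable (X : GrLC.GMod.{u} 𝒜) (d : ι)

/-- The identity, into the shifted module. -/
def toShift : X.carrier →ₗ[R] (shift X d).carrier := LinearMap.id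

/-- The identity, out of the shifted module. -/
def ofShift : (shift X d).carrier →ₗ[R] X.carrier := LinearMap.id

theorem toShift_grHomDeg : GrLC.IsGrHomDeg X.gr (shift X d).gr (toShift X d) d := fun g x hx => by
  show x ∈ X.gr (g + d - d)
  rwa [add_sub_cancel_right]

theorem ofShift_grHomDeg : GrLC.IsGrHomDeg (shift X d).gr X.gr (ofShift X d) (-d) := fun g x hx => by
  rw [← sub_eq_add_neg]
  exact hx

end Reindex

/-- The product of two graded modules. -/
def prod (X Y : GrLC.GMod.{u} 𝒜) : GrLC.GMod.{u} 𝒜 :=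
  mkGMod (X.carrier × Y.carrier) (fun g => (X.gr g).prod (Y.gr g))
    (isInternal_of_proj _ (fun g => (proj X.gr g).prodMap (proj Y.gr g))
      (fun g _ hx => Prod.ext (proj_of_mem X.gr hx.1) (proj_of_mem Y.gr hx.2))
      (fun g h e _ hx => Prod.ext (proj_of_mem_ne X.gr hx.1 e.symm) (proj_of_mem_ne Y.gr hx.2 e.symm))
      (fun x => by
        obtain ⟨a, b⟩ := x
        have h : ((a, b) : X.carrier × Y.carrier) = (a, 0) + (0, b) := by simp
        rw [h]
        refine add_mem ?_ ?_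
        · refine spans_induction (P := fun a => ((a, (0 : Y.carrier)) : X.carrier × Y.carrier) ∈ _)
            (spans_of_decomposition X.gr) a (zero_mem _) (fun a a' ha ha' => ?_) fun g a ha => ?_
          · simpa using add_mem ha ha'
          · exact AddSubgroup.mem_iSup_of_mem g ⟨ha, zero_mem _⟩
        · refine spans_induction (P := fun b => (((0 : X.carrier), b) : X.carrier × Y.carrier) ∈ _)
            (spans_of_decomposition Y.gr) b (zero_mem _) (fun a a' ha ha' => ?_) fun g a ha => ?_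
          · simpa using add_mem ha ha'
          · exact AddSubgroup.mem_iSup_of_mem g ⟨zero_mem _, ha⟩))
    fun a g r x hr hx => ⟨smul_mem 𝒜 X.gr hr hx.1, smul_mem 𝒜 Y.gr hr hx.2⟩

theorem mem_prod {X Y : GrLC.GMod.{u} 𝒜} {g : ι} {x : X.carrier × Y.carrier} :
    x ∈ (prod X Y).gr g ↔ x.1 ∈ X.gr g ∧ x.2 ∈ Y.gr g := Iff.rfl

end Constructions

end Groth.Agent.GrLC21
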