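import Groth.Agent.Lib.Depth.Devissage
import Mathlib.Algebra.Category.ModuleCat.Ext.HasExt
import Mathlib.Algebra.Homology.DerivedCategory.Ext.Linear
import Mathlib.Algebra.Category.ModuleCat.Projective

/-!
# Linear dimension shifting for `Ext`
-/

universe u

open CategoryTheory Abelian

noncomputable section

set_option linter.unusedSectionVars false
set_option backward.isDefEq.respectTransparency false

namespace Groth.Agent.GrLC21

variable {S : Type u} [CommRing S]

/-- `Ext^0` is `Hom`. -/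
def extZeroEquiv (X Y : Type u) [AddCommGroup X] [Module S X] [AddCommGroup Y] [Module S Y] :
    Ext.{u} (ModuleCat.of S X) (ModuleCat.of S Y) 0 ≃ₗ[S] (X →ₗ[S] Y) :=
  Ext.linearEquiv₀ ≪≫ₗ ModuleCat.homLinearEquiv

theorem extZeroEquiv_symm_apply {X Y : Type u} [AddCommGroup X] [Module S X] [AddCommGroup Y] [Module S Y]
    (f : X →ₗ[S] Y) : (extZeroEquiv X Y).symm f = Ext.mk₀ (ModuleCat.ofHom f) :=
  rfl

variable {A B C : Type u} [AddCommGroup A] [Module S A] [AddCommGroup B] [Module S B]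
  [AddCommGroup C] [Module S C] {f : A →ₗ[S] B} {g : B →ₗ[S] C}
  (X : Type u) [AddCommGroup X] [Module S X]

/-- Shifting along a short exact sequence with acyclic middle term. -/
theorem nonempty_ext_succ_equiv (hf : Function.Injective f) (hg : Function.Surjective g) (hfg : Function.Exact f g)
    (i : ℕ) (h1 : Subsingleton (Ext.{u} (ModuleCat.of S X) (ModuleCat.of S B) i))
    (h2 : Subsingleton (Ext.{u} (ModuleCat.of S X) (ModuleCat.of S B) (i + 1))) :
    Nonempty (Ext.{u} (ModuleCat.of S X) (ModuleCat.of S C) i ≃ₗ[S]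
      Ext.{u} (ModuleCat.of S X) (ModuleCat.of S A) (i + 1)) := by
  have hS := DepthLib.shortExact_of_linearMap hf hg hfg
  let δ := Ext.postcompOfLinear hS.extClass S (ModuleCat.of S X) (a := i) (b := i + 1) rfl
  refine ⟨LinearEquiv.ofBijective δ ⟨?_, fun y => ?_⟩⟩
  · refine (injective_iff_map_eq_zero δ).2 fun x hx => ?_
    obtain ⟨y, hy⟩ := Ext.covariant_sequence_exact₃ (ModuleCat.of S X) hS x (n₁ := i + 1) rfl hx
    rw [← hy, show y = 0 from h1.elim y 0, Ext.zero_comp]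
  · exact Ext.covariant_sequence_exact₁ (ModuleCat.of S X) hS y (h2.elim _ _) rfl

/-- `Ext^1` as a quotient of `Hom`. -/
theorem exists_ext_one (hf : Function.Injective f) (hg : Function.Surjective g) (hfg : Function.Exact f g)
    (h2 : Subsingleton (Ext.{u} (ModuleCat.of S X) (ModuleCat.of S B) 1)) :
    ∃ δ : (X →ₗ[S] C) →ₗ[S] Ext.{u} (ModuleCat.of S X) (ModuleCat.of S A) 1,
      Function.Surjective δ ∧ ∀ φ, δ φ = 0 ↔ ∃ ψ : X →ₗ[S] B, g ∘ₗ ψ = φ := by
  have hS := DepthLib.shortExact_of_linearMap hf hg hfg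
  let δ₀ := Ext.postcompOfLinear hS.extClass S (ModuleCat.of S X) (a := 0) (b := 1) rfl
  refine ⟨δ₀ ∘ₗ (extZeroEquiv X C).symm.toLinearMap, fun y => ?_, fun φ => ⟨fun h => ?_, ?_⟩⟩
  · obtain ⟨x, hx⟩ := Ext.covariant_sequence_exact₁ (ModuleCat.of S X) hS y (h2.elim _ _) (n₀ := 0) rfl
    refine ⟨extZeroEquiv X C x, ?_⟩
    show δ₀ ((extZeroEquiv X C).symm (extZeroEquiv X C x)) = y
    rw [LinearEquiv.symm_apply_apply]
    exact hx
  · obtain ⟨y, hy⟩ := Ext.covariant_sequence_exact₃ (ModuleCat.of S X) hS _ (n₁ := 1) rfl h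
    obtain ⟨ψ, rfl⟩ := (Ext.mk₀_bijective _ _).2 y
    refine ⟨ψ.hom, ?_⟩
    rw [Ext.mk₀_comp_mk₀] at hy
    exact congrArg ModuleCat.Hom.hom ((Ext.mk₀_bijective _ _).1 (hy.trans (extZeroEquiv_symm_apply φ)))
  · rintro ⟨ψ, rfl⟩
    show ((extZeroEquiv X C).symm (g ∘ₗ ψ)).comp hS.extClass rfl = 0
    rw [extZeroEquiv_symm_apply, show ModuleCat.ofHom (g ∘ₗ ψ) = ModuleCat.ofHom ψ ≫ ModuleCat.ofHom g from rfl,
      ← Ext.mk₀_comp_mk₀, Ext.comp_assoc (a₁₂ := 0) (a₂₃ := 1) (h₁₂ := rfl) (h₂₃ := rfl) (h := rfl),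
      hS.comp_extClass, Ext.comp_zero]

variable {P : Type u} [AddCommGroup P] [Module S P]

/-- The descent of a free `Ext` module along a regular element. -/
theorem nonempty_ext_quotient (Q : Type u) [AddCommGroup Q] [Module S Q] {x : S} {π : X →ₗ[S] Q}
    (hx : IsSMulRegular X x) (hπ : Function.Surjective π)
    (hπk : LinearMap.ker π = LinearMap.range (x • (LinearMap.id : X →ₗ[S] X))) (i : ℕ)
    (hreg : IsSMulRegular (Ext.{u} (ModuleCat.of S X) (ModuleCat.of S P) (i + 1)) x) :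
    Nonempty (Ext.{u} (ModuleCat.of S Q) (ModuleCat.of S P) (i + 1) ≃ₗ[S]
      (Ext.{u} (ModuleCat.of S X) (ModuleCat.of S P) i ⧸
        LinearMap.range (x • (LinearMap.id : Ext.{u} (ModuleCat.of S X) (ModuleCat.of S P) i →ₗ[S] _)))) := by
  have hS := DepthLib.shortExact_of_linearMap (f := x • (LinearMap.id : X →ₗ[S] X)) (g := π) hx hπ
    (LinearMap.exact_iff.2 hπk)
  let δ := Ext.precompOfLinear hS.extClass S (ModuleCat.of S P) (a := i) (b := i + 1) (add_comm 1 i)
  have hmx : ModuleCat.ofHom (x • (LinearMap.id : X →ₗ[S] X)) = x • 𝟙 (ModuleCat.of S X) := rfl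
  have hmul : ∀ {j : ℕ} (e : Ext.{u} (ModuleCat.of S X) (ModuleCat.of S P) j),
      (Ext.mk₀ (ModuleCat.ofHom (x • (LinearMap.id : X →ₗ[S] X)))).comp e (zero_add j) = x • e := fun e => by
    rw [hmx, Ext.mk₀_smul, Ext.smul_comp, Ext.mk₀_id_comp]
  have hker : LinearMap.ker δ =
      LinearMap.range (x • (LinearMap.id : Ext.{u} (ModuleCat.of S X) (ModuleCat.of S P) i →ₗ[S] _)) := by
    ext e
    constructor
    · intro he
      obtain ⟨y, hy⟩ := Ext.contravariant_sequence_exact₁ hS _ e (n₁ := i + 1) (add_comm 1 i) he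
      exact ⟨y, (hmul y).symm.trans hy⟩
    · rintro ⟨y, rfl⟩
      show hS.extClass.comp ((x • LinearMap.id : _ →ₗ[S] Ext.{u} (ModuleCat.of S X) (ModuleCat.of S P) i) y) (add_comm 1 i) = 0
      rw [LinearMap.smul_apply, LinearMap.id_apply, ← hmul y, hS.extClass_comp_assoc]
  have hsurj : Function.Surjective δ := fun y => by
    refine Ext.contravariant_sequence_exact₃ hS _ y ?_ (n₀ := i) (add_comm 1 i)
    have h : x • ((Ext.mk₀ (ModuleCat.ofHom π)).comp y (zero_add (i + 1))) = 0 := by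
      rw [← hmul]
      have hz : ModuleCat.ofHom (x • (LinearMap.id : X →ₗ[S] X)) ≫ ModuleCat.ofHom π = 0 :=
        ModuleCat.hom_ext (LinearMap.range_le_ker_iff.1 hπk.ge)
      refine (Ext.mk₀_comp_mk₀_assoc _ _ y).trans ?_
      refine (congrArg (fun t => (Ext.mk₀ t).comp y (zero_add (i + 1))) hz).trans ?_
      simp
    exact hreg (h.trans (smul_zero x).symm)
  exact ⟨(LinearMap.quotKerEquivOfSurjective δ hsurj).symm.trans (Submodule.quotEquivOfEq _ _ hker)⟩

/-- The lowest degree. -/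
theorem subsingleton_ext_zero_quotient (Q : Type u) [AddCommGroup Q] [Module S Q] {x : S} {π : X →ₗ[S] Q}
    (hπ : Function.Surjective π)
    (hπk : LinearMap.ker π = LinearMap.range (x • (LinearMap.id : X →ₗ[S] X)))
    (hreg : IsSMulRegular (Ext.{u} (ModuleCat.of S X) (ModuleCat.of S P) 0) x) :
    Subsingleton (Ext.{u} (ModuleCat.of S Q) (ModuleCat.of S P) 0) := by
  refine subsingleton_of_forall_eq 0 fun e => (extZeroEquiv Q P).injective ?_
  rw [map_zero]
  refine LinearMap.ext fun q => ?_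
  obtain ⟨m, rfl⟩ := hπ q
  have h : x • (extZeroEquiv X P).symm (extZeroEquiv Q P e ∘ₗ π) = 0 := by
    rw [← map_smul, LinearEquiv.map_eq_zero_iff]
    refine LinearMap.ext fun z => ?_
    show x • extZeroEquiv Q P e (π z) = 0
    rw [← map_smul, ← map_smul]
    have : x • z ∈ LinearMap.ker π := hπk ▸ ⟨z, rfl⟩
    rw [LinearMap.mem_ker.1 this, map_zero]
  have h' := (extZeroEquiv X P).symm.map_eq_zero_iff.1 (hreg (h.trans (smul_zero x).symm))
  exact LinearMap.congr_fun h' m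

end Groth.Agent.GrLC21
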