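import Groth.Agent.Lib.GrLC21.CoreHeight
import Mathlib.Algebra.Module.Torsion.Basic
import Mathlib.LinearAlgebra.LinearIndependent.Lemmas
import Mathlib.RingTheory.Localization.BaseChange
import Mathlib.Algebra.Module.LocalizedModule.Exact

/-!
# Graded modules killed by a homogeneous prime are generically free
-/

universe u

open DirectSum

noncomputable section

set_option linter.unusedSectionVars false
set_option backward.isDefEq.respectTransparency false

namespace Groth.Agent.GrLC21

variable {ι : Type} [AddCommGroup ι] [DecidableEq ι] [Module.Free ℤ ι] [Module.Finite ℤ ι]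
variable {R : Type u} [CommRing R] {σ : Type u} [SetLike σ R] [AddSubgroupClass σ R]
  {𝒜 : ι → σ} [GradedRing 𝒜]
variable {N : Type u} [AddCommGroup N] [Module R N] {τ : Type u} [SetLike τ N] [AddSubgroupClass τ N]

/-- A graded module killed by a homogeneous prime becomes free, with a basis independent of the prime,
after localisation at primes with that core. -/
theorem exists_generic_basis (ℳ : ι → τ) [Decomposition ℳ] [SetLike.GradedSMul 𝒜 ℳ] (c : HomogeneousIdeal 𝒜) (hc : c.toIdeal.IsPrime)
    (hN : ∀ r ∈ c.toIdeal, ∀ x : N, r • x = 0) :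
    ∃ κ : Type u, ∀ (P : Ideal R) [P.IsPrime], core 𝒜 P = c.toIdeal →
      Nonempty (LocalizedModule P.primeCompl N ≃ₗ[Localization P.primeCompl]
        (κ →₀ LocalizedModule P.primeCompl (R ⧸ c.toIdeal))) := by
  let inst : Module (R ⧸ c.toIdeal) N := Module.IsTorsionBySet.module (fun x r => hN r r.2 x)
  have hsmul : ∀ (r : R) (x : N), (Ideal.Quotient.mk c.toIdeal r) • x = r • x := fun _ _ => rfl
  let v : {x : N // SetLike.IsHomogeneousElem ℳ x} → N := Subtype.val
  obtain ⟨s, hs, hmax⟩ := exists_maximal_linearIndepOn (R ⧸ c.toIdeal) v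
  let Φ : (s →₀ R ⧸ c.toIdeal) →ₗ[R] N := Finsupp.lsum R fun i : s =>
    Submodule.liftQ c.toIdeal (LinearMap.toSpanSingleton R N i.1.1) fun r hr => hN r hr _
  have hΦ : ∀ l, Φ l = Finsupp.linearCombination (R ⧸ c.toIdeal) (fun i : s => v i.1) l := by
    intro l
    induction l using Finsupp.induction_linear with
    | zero => simp
    | add a b ha hb => rw [map_add, map_add, ha, hb]
    | single i b =>
      obtain ⟨r, rfl⟩ := Ideal.Quotient.mk_surjective b
      rw [Finsupp.linearCombination_single, hsmul, Finsupp.lsum_single]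
      rfl
  have hΦi : Function.Injective Φ := fun a b h =>
    hs.linearIndependent (by rw [← hΦ, ← hΦ]; exact h)
  have hspan : ∀ x ∈ Submodule.span (R ⧸ c.toIdeal) (v '' s), x ∈ LinearMap.range Φ := by
    intro x hx
    obtain ⟨l, hl⟩ : x ∈ LinearMap.range (Finsupp.linearCombination (R ⧸ c.toIdeal) (fun i : s => v i.1)) := by
      rw [Finsupp.range_linearCombination]
      rwa [Set.image_eq_range] at hx
    exact ⟨l, (hΦ l).trans hl⟩
  have hhom : (LinearMap.range Φ).IsHomogeneous ℳ := by
    have e : LinearMap.range Φ = Submodule.span R (v '' s) := by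
      refine le_antisymm ?_ (Submodule.span_le.2 ?_)
      · rintro _ ⟨l, rfl⟩
        induction l using Finsupp.induction_linear with
        | zero => rw [map_zero]; exact zero_mem _
        | add a b ha hb => rw [map_add]; exact add_mem ha hb
        | single i b =>
          obtain ⟨r, rfl⟩ := Ideal.Quotient.mk_surjective b
          rw [hΦ, Finsupp.linearCombination_single, hsmul]
          exact Submodule.smul_mem _ r (Submodule.subset_span ⟨i.1, i.2, rfl⟩)
      · rintro _ ⟨i, hi, rfl⟩
        exact hspan _ (Submodule.subset_span ⟨i, hi, rfl⟩)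
    rw [e]
    exact isHomogeneous_span 𝒜 (by rintro _ ⟨i, -, rfl⟩; exact i.2)
  -- homogeneous elements come into the range after multiplication by a homogeneous element outside
  have hhit : ∀ g, ∀ x ∈ ℳ g, ∃ a : R, SetLike.IsHomogeneousElem 𝒜 a ∧ a ∉ c.toIdeal ∧ a • x ∈ LinearMap.range Φ := by
    intro g x hx
    by_cases hi : (⟨x, g, hx⟩ : {x : N // SetLike.IsHomogeneousElem ℳ x}) ∈ s
    · refine ⟨1, ⟨0, SetLike.GradedOne.one_mem⟩, fun h => hc.ne_top ((Ideal.eq_top_iff_one _).2 h), ?_⟩
      rw [one_smul]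
      exact hspan _ (Submodule.subset_span ⟨_, hi, rfl⟩)
    obtain ⟨r', hr', hrx⟩ := hmax _ hi
    obtain ⟨r, rfl⟩ := Ideal.Quotient.mk_surjective r'
    obtain ⟨e, he⟩ : ∃ e, proj 𝒜 e r ∉ c.toIdeal := by
      by_contra! h
      refine hr' (Ideal.Quotient.eq_zero_iff_mem.2 ?_)
      rw [← sum_proj 𝒜 r]
      exact sum_mem fun e _ => h e
    refine ⟨proj 𝒜 e r, ⟨e, proj_mem 𝒜 e r⟩, he, ?_⟩
    rw [proj_smul_homogeneous hx]
    refine hhom (e + g) ?_
    have h := hspan _ hrx
    rwa [hsmul] at h
  refine ⟨s, fun P _ hcore => ?_⟩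
  let f := Finsupp.mapRange.linearMap (α := s) (LocalizedModule.mkLinearMap P.primeCompl (R ⧸ c.toIdeal))
  have hbij : Function.Bijective (LocalizedModule.map P.primeCompl Φ) := by
    refine ⟨LocalizedModule.map_injective _ _ hΦi, fun z => ?_⟩
    induction z using LocalizedModule.induction_on with
    | h m t =>
      obtain ⟨a, ha, hm⟩ : ∃ a : R, a ∉ P ∧ a • m ∈ LinearMap.range Φ := by
        refine spans_induction (spans_of_decomposition ℳ) m ?_ ?_ ?_
        · exact ⟨1, fun h => (‹P.IsPrime›).ne_top ((Ideal.eq_top_iff_one _).2 h), by rw [smul_zero]; exact zero_mem _⟩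
        · rintro u w ⟨a, ha, hu⟩ ⟨b, hb, hw⟩
          refine ⟨a * b, fun h => ((‹P.IsPrime›).mem_or_mem h).elim ha hb, ?_⟩
          rw [smul_add]
          refine add_mem ?_ ?_
          · rw [mul_comm, mul_smul]
            exact Submodule.smul_mem _ b hu
          · rw [mul_smul]
            exact Submodule.smul_mem _ a hw
        · intro g x hx
          obtain ⟨a, ha, hac, hax⟩ := hhit g x hx
          exact ⟨a, fun h => hac (hcore ▸ Ideal.mem_homogeneousCore_of_homogeneous_of_mem ha h), hax⟩
      obtain ⟨l, hl⟩ := hm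
      refine ⟨LocalizedModule.mk l (⟨a, ha⟩ * t), ?_⟩
      rw [LocalizedModule.map_mk, hl]
      exact LocalizedModule.mk_cancel_common_left ⟨a, ha⟩ t m
  exact ⟨(LinearEquiv.ofBijective _ hbij).symm.trans
    ((IsLocalizedModule.iso P.primeCompl f).extendScalarsOfIsLocalization P.primeCompl (Localization P.primeCompl))⟩

end Groth.Agent.GrLC21
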