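import Groth.Agent.Lib.GrLC21.ExtVanish
import Mathlib.Algebra.Module.FinitePresentation
import Mathlib.Algebra.Module.LocalizedModule.Exact
import Mathlib.RingTheory.LocalProperties.Projective

/-!
# Localisations of *injective modules are acyclic for localised graded modules
-/

universe u

open DirectSum CategoryTheory Abelian

noncomputable section

set_option linter.unusedSectionVars false
set_option backward.isDefEq.respectTransparency false

namespace Groth.Agent.GrLC21

variable {ι : Type} [AddCommGroup ι] [DecidableEq ι]
variable {R : Type u} [CommRing R] [IsNoetherianRing R] {σ : Type u} [SetLike σ R]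
  [AddSubgroupClass σ R] {𝒜 : ι → σ} [GradedRing 𝒜]
variable (S : Submonoid R)

theorem exists_lift_localized {K I : Type u} [AddCommGroup K] [Module R K] [Module.Finite R K]
    [AddCommGroup I] [Module R I] (φ : LocalizedModule S K →ₗ[Localization S] LocalizedModule S I) :
    ∃ (ψ : K →ₗ[R] I) (s : S), (s : R) • φ = LocalizedModule.map S ψ := by
  have : Module.FinitePresentation R K := Module.finitePresentation_of_finite R K
  obtain ⟨ψ, s, hψ⟩ := Module.FinitePresentation.exists_lift_of_isLocalizedModule S
    (LocalizedModule.mkLinearMap S I) (M := K) ((φ.restrictScalars R).comp (LocalizedModule.mkLinearMap S K))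
  refine ⟨ψ, s, LinearMap.ext fun z => ?_⟩
  induction z using LocalizedModule.induction_on with
  | h m t =>
    refine (Module.End.isUnit_iff _).1 (IsLocalizedModule.map_units (LocalizedModule.mkLinearMap S I) t) |>.injective ?_
    show (t : R) • ((s : R) • φ) (LocalizedModule.mk m t) = (t : R) • LocalizedModule.map S ψ (LocalizedModule.mk m t)
    rw [LocalizedModule.map_mk, ← LinearMap.map_smul_of_tower ((s : R) • φ), LocalizedModule.smul'_mk,
      LocalizedModule.smul'_mk, ← Submonoid.smul_def t m, ← Submonoid.smul_def t (ψ m),
      LocalizedModule.mk_cancel, LocalizedModule.mk_cancel]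
    exact (LinearMap.congr_fun hψ m).symm

variable {I : Type u} [AddCommGroup I] [Module R I] {τ' : Type u} [SetLike τ' I] [AddSubgroupClass τ' I]
  {ℐ : ι → τ'} [Decomposition ℐ] [SetLike.GradedSMul 𝒜 ℐ]

/-- Every localised map into the localisation of a *injective module extends. -/
theorem exists_extend_localized (hI : GrLC.IsStarInj 𝒜 ℐ) {A B : GrLC.GMod.{u} 𝒜} [Module.Finite R A.carrier]
    [Module.Finite R B.carrier] {f : A.carrier →ₗ[R] B.carrier} (hf : GrLC.IsGrHom A.gr B.gr f)
    (hfi : Function.Injective f) (φ : LocalizedModule S A.carrier →ₗ[Localization S] LocalizedModule S I) :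
    ∃ ψ : LocalizedModule S B.carrier →ₗ[Localization S] LocalizedModule S I,
      ψ ∘ₗ LocalizedModule.map S f = φ := by
  obtain ⟨g, s, hg⟩ := exists_lift_localized S φ
  obtain ⟨χ, hχ⟩ := exists_extend_any hI hf hfi g
  obtain ⟨u, hu⟩ := IsLocalization.map_units (M := S) (Localization S) s
  refine ⟨((u⁻¹ : (Localization S)ˣ) : Localization S) • LocalizedModule.map S χ, ?_⟩
  have h : (LocalizedModule.map S χ) ∘ₗ LocalizedModule.map S f = (u : Localization S) • φ := by
    refine LinearMap.ext fun z => ?_
    rw [hu, LinearMap.smul_apply, algebraMap_smul, ← LinearMap.smul_apply, hg, ← hχ]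
    induction z using LocalizedModule.induction_on with
    | h m t => simp [LocalizedModule.map_mk]
  rw [LinearMap.smul_comp, h, ← mul_smul, Units.inv_mul, one_smul]

/-- Localisations of *injective modules have no higher `Ext` from localised finite graded modules. -/
theorem ext_localized_subsingleton (hI : GrLC.IsStarInj 𝒜 ℐ) (i : ℕ) :
    ∀ (M : GrLC.GMod.{u} 𝒜) [Module.Finite R M.carrier],
      Subsingleton (Ext.{u} (ModuleCat.of (Localization S) (LocalizedModule S M.carrier))
        (ModuleCat.of (Localization S) (LocalizedModule S I)) (i + 1)) := by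
  induction i with
  | zero =>
    intro M _
    obtain ⟨n, a, v, hv, hspan⟩ := exists_homogeneous_gens M.gr (R := R)
    let F := freeMod 𝒜 a
    have : Module.Finite R F.carrier := (inferInstance : Module.Finite R (Fin n → R))
    have : Module.Free R F.carrier := (inferInstance : Module.Free R (Fin n → R))
    have : Module.Free (Localization S) (LocalizedModule S F.carrier) :=
      Module.free_of_isLocalizedModule S (LocalizedModule.mkLinearMap S F.carrier)
    have : Projective (ModuleCat.of (Localization S) (LocalizedModule S F.carrier)) :=
      (IsProjective.iff_projective _).1 inferInstance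
    let π := freeπ 𝒜 a v
    have hπ := freeπ_grHom 𝒜 a v hv
    let K := sub F (LinearMap.ker π) (isHomogeneous_ker hπ)
    have : Module.Finite R K.carrier := Module.Finite.iff_fg.2 (IsNoetherian.noetherian _)
    let j := subι F (LinearMap.ker π) (isHomogeneous_ker hπ)
    have hex : Function.Exact j π := LinearMap.exact_subtype_ker_map π
    have hS := DepthLib.shortExact_of_linearMap (LocalizedModule.map_injective S j (subι_injective F _ _))
      (LocalizedModule.map_surjective S π (freeπ_surjective 𝒜 a v hspan)) (LocalizedModule.map_exact S j π hex)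
    refine subsingleton_of_forall_eq 0 fun y => ?_
    obtain ⟨z, rfl⟩ := Ext.contravariant_sequence_exact₃ hS _ y (Ext.eq_zero_of_projective _)
      (n₀ := 0) rfl
    obtain ⟨g, rfl⟩ := (Ext.mk₀_bijective _ _).2 z
    obtain ⟨ψ, hψ⟩ := exists_extend_localized S hI (subι_grHom F _ (isHomogeneous_ker hπ))
      (subι_injective F _ _) g.hom
    rw [show g = ModuleCat.ofHom (LocalizedModule.map S j) ≫ ModuleCat.ofHom ψ from
      ModuleCat.hom_ext hψ.symm, ← Ext.mk₀_comp_mk₀]
    exact hS.extClass_comp_assoc _
  | succ i ih =>
    intro M _
    obtain ⟨n, a, v, hv, hspan⟩ := exists_homogeneous_gens M.gr (R := R)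
    let F := freeMod 𝒜 a
    have : Module.Finite R F.carrier := (inferInstance : Module.Finite R (Fin n → R))
    have : Module.Free R F.carrier := (inferInstance : Module.Free R (Fin n → R))
    have : Module.Free (Localization S) (LocalizedModule S F.carrier) :=
      Module.free_of_isLocalizedModule S (LocalizedModule.mkLinearMap S F.carrier)
    have : Projective (ModuleCat.of (Localization S) (LocalizedModule S F.carrier)) :=
      (IsProjective.iff_projective _).1 inferInstance
    let π := freeπ 𝒜 a v
    have hπ := freeπ_grHom 𝒜 a v hv
    let K := sub F (LinearMap.ker π) (isHomogeneous_ker hπ)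
    have : Module.Finite R K.carrier := Module.Finite.iff_fg.2 (IsNoetherian.noetherian _)
    let j := subι F (LinearMap.ker π) (isHomogeneous_ker hπ)
    have hex : Function.Exact j π := LinearMap.exact_subtype_ker_map π
    have hS := DepthLib.shortExact_of_linearMap (LocalizedModule.map_injective S j (subι_injective F _ _))
      (LocalizedModule.map_surjective S π (freeπ_surjective 𝒜 a v hspan)) (LocalizedModule.map_exact S j π hex)
    refine subsingleton_of_forall_eq 0 fun y => ?_
    obtain ⟨z, rfl⟩ := Ext.contravariant_sequence_exact₃ hS _ y (Ext.eq_zero_of_projective _)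
      (n₀ := i + 1) (add_comm 1 (i + 1))
    rw [(ih K).elim z 0, Ext.comp_zero]

end Groth.Agent.GrLC21
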