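import Groth.Agent.Lib.GrLC21.Res
import Groth.Agent.Lib.GrLC21.LocAcyclic
import Groth.Agent.Lib.GrLC21.ExtShift
import Groth.Agent.Lib.GrLC21.GenFree
import Mathlib.Algebra.Module.Torsion.Basic

/-!
# `Ext` from a homogeneous prime quotient, localised at primes with that core
-/

universe u

open DirectSum CategoryTheory Abelian

noncomputable section

set_option linter.unusedSectionVars false
set_option backward.isDefEq.respectTransparency false

namespace Groth.Agent.GrLC21

section Hom

variable {R : Type u} [CommRing R] (S : Submonoid R) (c : Ideal R)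

/-- The elements killed by `c`. -/
abbrev killed (Y : Type u) [AddCommGroup Y] [Module R Y] : Submodule R Y :=
  Submodule.torsionBySet R Y (c : Set R)

/-- Maps out of `R ⧸ c` are the elements killed by `c`. -/
def killedEquivHom (Y : Type u) [AddCommGroup Y] [Module R Y] : killed c Y ≃ₗ[R] ((R ⧸ c) →ₗ[R] Y) where
  toFun y := Submodule.liftQ c (LinearMap.toSpanSingleton R Y y.1) fun r hr =>
    (Submodule.mem_torsionBySet_iff _ _).1 y.2 ⟨r, hr⟩
  map_add' x y := Submodule.linearMap_qext _ (LinearMap.ext fun r => smul_add r x.1 y.1)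
  map_smul' a x := Submodule.linearMap_qext _ (LinearMap.ext fun r => smul_comm r a x.1)
  invFun φ := ⟨φ 1, (Submodule.mem_torsionBySet_iff _ _).2 fun r => by
    show (r : R) • φ 1 = 0
    rw [← map_smul, show (r : R) • (1 : R ⧸ c) = 0 from ?_, map_zero]
    rw [Algebra.smul_def, mul_one]
    exact Ideal.Quotient.eq_zero_iff_mem.2 r.2⟩
  left_inv y := Subtype.ext (one_smul R y.1)
  right_inv φ := Submodule.linearMap_qext _ (LinearMap.ext_ring (by
    show (1 : R) • φ 1 = φ 1
    rw [one_smul]))

@[simp]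
theorem killedEquivHom_apply_one {Y : Type u} [AddCommGroup Y] [Module R Y] (y : killed c Y) :
    killedEquivHom c Y y 1 = y.1 :=
  one_smul R y.1

variable [IsNoetherianRing R]

/-- Maps of the localisations are the localisation of the elements killed by `c`. -/
def killedLocEquiv (Y : Type u) [AddCommGroup Y] [Module R Y] :
    LocalizedModule S (killed c Y) ≃ₗ[Localization S]
      (LocalizedModule S (R ⧸ c) →ₗ[Localization S] LocalizedModule S Y) :=
  haveI : Module.FinitePresentation R (R ⧸ c) := Module.finitePresentation_of_finite R _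
  (IsLocalizedModule.iso S ((LocalizedModule.map S).comp (killedEquivHom c Y).toLinearMap)
    ).extendScalarsOfIsLocalization S (Localization S)

theorem killedLocEquiv_mk {Y : Type u} [AddCommGroup Y] [Module R Y] (y : killed c Y) :
    killedLocEquiv S c Y (LocalizedModule.mk y 1) = LocalizedModule.map S (killedEquivHom c Y y) := by
  have : Module.FinitePresentation R (R ⧸ c) := Module.finitePresentation_of_finite R _
  exact IsLocalizedModule.iso_mk_one S ((LocalizedModule.map S).comp (killedEquivHom c Y).toLinearMap) y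

variable {X Z N : Type u} [AddCommGroup X] [Module R X] [AddCommGroup Z] [Module R Z] [AddCommGroup N] [Module R N]

theorem killedLocEquiv_natural (f : X →ₗ[R] Z) (fc : killed c X →ₗ[R] killed c Z) (hfc : ∀ x, (fc x).1 = f x.1)
    (w : LocalizedModule S (killed c X)) :
    killedLocEquiv S c Z (LocalizedModule.map S fc w) = LocalizedModule.map S f ∘ₗ killedLocEquiv S c X w := by
  induction w using LocalizedModule.induction_on with
  | h x s =>
    have e : ∀ {Y : Type u} [AddCommGroup Y] [Module R Y] (y : killed c Y) (t : S),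
        (t : R) • killedLocEquiv S c Y (LocalizedModule.mk y t) = killedLocEquiv S c Y (LocalizedModule.mk y 1) := by
      intro Y _ _ y t
      rw [← algebraMap_smul (Localization S) (t : R), ← map_smul, algebraMap_smul, LocalizedModule.smul'_mk,
        ← Submonoid.smul_def, LocalizedModule.mk_cancel]
    refine LinearMap.ext fun q => ?_
    refine (Module.End.isUnit_iff _).1 (IsLocalizedModule.map_units (LocalizedModule.mkLinearMap S Z) s) |>.injective ?_
    show (s : R) • killedLocEquiv S c Z (LocalizedModule.map S fc (LocalizedModule.mk x s)) q =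
      (s : R) • LocalizedModule.map S f (killedLocEquiv S c X (LocalizedModule.mk x s) q)
    rw [← LinearMap.map_smul_of_tower (LocalizedModule.map S f), ← LinearMap.smul_apply, ← LinearMap.smul_apply,
      LocalizedModule.map_mk, e, e, killedLocEquiv_mk, killedLocEquiv_mk]
    induction q using LocalizedModule.induction_on with
    | h r t =>
      rw [LocalizedModule.map_mk, LocalizedModule.map_mk, LocalizedModule.map_mk]
      congr 1
      obtain ⟨r, rfl⟩ := Ideal.Quotient.mk_surjective r
      show r • (fc x).1 = f (r • x.1)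
      rw [map_smul, hfc]

/-- A quotient of maps between localisations is the localisation of a quotient. -/
theorem nonempty_equiv_of_killed_exact (f : X →ₗ[R] Z) (fc : killed c X →ₗ[R] killed c Z)
    (hfc : ∀ x, (fc x).1 = f x.1) (π : killed c Z →ₗ[R] N) (hπ : Function.Surjective π)
    (hex : Function.Exact fc π) {W : Type u} [AddCommGroup W] [Module (Localization S) W]
    (δ : (LocalizedModule S (R ⧸ c) →ₗ[Localization S] LocalizedModule S Z) →ₗ[Localization S] W)
    (hδ : Function.Surjective δ)
    (hker : ∀ φ, δ φ = 0 ↔ ∃ ψ, LocalizedModule.map S f ∘ₗ ψ = φ) :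
    Nonempty (LocalizedModule S N ≃ₗ[Localization S] W) := by
  let p := LocalizedModule.map S π ∘ₗ (killedLocEquiv S c Z).symm.toLinearMap
  have hp : Function.Surjective p :=
    (LocalizedModule.map_surjective S π hπ).comp (killedLocEquiv S c Z).symm.surjective
  have hk : LinearMap.ker p = LinearMap.ker δ := by
    ext φ
    rw [LinearMap.mem_ker, LinearMap.mem_ker, hker]
    constructor
    · intro h
      obtain ⟨w, hw⟩ := (LocalizedModule.map_exact S fc π hex _).1 h
      refine ⟨killedLocEquiv S c X w, ?_⟩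
      exact (killedLocEquiv_natural S c f fc hfc w).symm.trans
        ((congrArg (killedLocEquiv S c Z) hw).trans ((killedLocEquiv S c Z).apply_symm_apply φ))
    · rintro ⟨ψ, rfl⟩
      refine (LocalizedModule.map_exact S fc π hex _).2 ⟨(killedLocEquiv S c X).symm ψ, ?_⟩
      apply (killedLocEquiv S c Z).injective
      refine (killedLocEquiv_natural S c f fc hfc _).trans ?_
      rw [LinearEquiv.apply_symm_apply]
      exact ((killedLocEquiv S c Z).apply_symm_apply _).symm
  exact ⟨(LinearMap.quotKerEquivOfSurjective p hp).symm.trans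
    ((Submodule.quotEquivOfEq _ _ hk).trans (LinearMap.quotKerEquivOfSurjective δ hδ))⟩

end Hom

variable {ι : Type} [AddCommGroup ι] [DecidableEq ι]
variable {R : Type u} [CommRing R] [IsNoetherianRing R] {σ : Type u} [SetLike σ R] [AddSubgroupClass σ R]
  {𝒜 : ι → σ} [GradedRing 𝒜]
variable {M : Type u} [AddCommGroup M] [Module R M] {τ : Type u} [SetLike τ M] [AddSubgroupClass τ M]

theorem isHomogeneous_killed {c : Ideal R} (hc : c.IsHomogeneous 𝒜) (Y : GrLC.GMod.{u} 𝒜) :
    (killed c Y.carrier).IsHomogeneous Y.gr := by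
  intro g x hx
  rw [Submodule.mem_torsionBySet_iff] at hx ⊢
  intro r
  show (r : R) • proj Y.gr g x = 0
  rw [← sum_proj 𝒜 (r : R), Finset.sum_smul]
  refine Finset.sum_eq_zero fun a _ => ?_
  have h := proj_smul 𝒜 Y.gr (proj_mem 𝒜 a (r : R)) (g + a) x
  have h0 : proj 𝒜 a (r : R) • x = 0 := hx ⟨_, hc a r.2⟩
  rw [h0, map_zero, add_sub_cancel_right] at h
  exact h.symm

variable (𝒜) in
theorem isHomogeneous_toGMod {ℳ : ι → τ} [Decomposition ℳ] [SetLike.GradedSMul 𝒜 ℳ] {P : Submodule R M}
    (hP : P.IsHomogeneous ℳ) : Submodule.IsHomogeneous (M := (toGMod 𝒜 ℳ).carrier) P (toGMod 𝒜 ℳ).gr := by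
  intro g x hx
  show proj (M := (toGMod 𝒜 ℳ).carrier) (toGMod 𝒜 ℳ).gr g x ∈ P
  rw [show proj (M := (toGMod 𝒜 ℳ).carrier) (toGMod 𝒜 ℳ).gr g x = proj ℳ g x from
    map_proj (ℳ' := ℳ) (N := (toGMod 𝒜 ℳ).carrier) (𝒩 := (toGMod 𝒜 ℳ).gr)
      (f := (LinearMap.id : M →ₗ[R] (toGMod 𝒜 ℳ).carrier)) (fun _ _ h => h) g x |>.symm]
  exact hP g hx

/-- The differential onto the cocycles. -/
def resG {ℳ : ι → τ} [Decomposition ℳ] [SetLike.GradedSMul 𝒜 ℳ] (E : GrLC.StarInjRes 𝒜 ℳ) (n : ℕ) :
    (E.X n).carrier →ₗ[R] LinearMap.ker (E.d (n + 1)) :=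
  (E.d n).codRestrict (LinearMap.ker (E.d (n + 1))) fun x => by
    rw [E.exact_succ n]; exact ⟨x, rfl⟩

theorem resG_surjective {ℳ : ι → τ} [Decomposition ℳ] [SetLike.GradedSMul 𝒜 ℳ] (E : GrLC.StarInjRes 𝒜 ℳ)
    (n : ℕ) : Function.Surjective (resG E n) := fun z => by
  obtain ⟨x, hx⟩ : (z.1 : (E.X (n + 1)).carrier) ∈ LinearMap.range (E.d n) := E.exact_succ n ▸ z.2
  exact ⟨x, Subtype.ext hx⟩

theorem ker_resG {ℳ : ι → τ} [Decomposition ℳ] [SetLike.GradedSMul 𝒜 ℳ] (E : GrLC.StarInjRes 𝒜 ℳ) (n : ℕ) :
    LinearMap.ker (resG E n) = LinearMap.ker (E.d n) :=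
  LinearMap.ker_codRestrict _ _ _

set_option maxHeartbeats 1000000 in
/-- The localised `Ext` out of `R ⧸ c`, read off a *injective resolution. -/
theorem exists_ext_res_delta {ℳ : ι → τ} [Decomposition ℳ] [SetLike.GradedSMul 𝒜 ℳ] (E : GrLC.StarInjRes 𝒜 ℳ)
    {c : Ideal R} (hc : c.IsHomogeneous 𝒜) (S : Submonoid R) (k : ℕ) :
    ∃ δ : (LocalizedModule S (R ⧸ c) →ₗ[Localization S] LocalizedModule S (LinearMap.ker (E.d (k + 1))))
        →ₗ[Localization S] Ext.{u} (ModuleCat.of (Localization S) (LocalizedModule S (R ⧸ c)))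
          (ModuleCat.of (Localization S) (LocalizedModule S M)) (k + 1),
      Function.Surjective δ ∧ ∀ φ, δ φ = 0 ↔ ∃ ψ, LocalizedModule.map S (resG E k) ∘ₗ ψ = φ := by
  let Q := quot (toGMod 𝒜 𝒜) c (isHomogeneous_toGMod 𝒜 hc)
  have : Module.Finite R Q.carrier := Module.Finite.of_surjective (Submodule.mkQ c) (Submodule.mkQ_surjective _)
  have hacy : ∀ n m : ℕ, Subsingleton (Ext.{u} (ModuleCat.of (Localization S) (LocalizedModule S (R ⧸ c)))
      (ModuleCat.of (Localization S) (LocalizedModule S (E.X n).carrier)) (m + 1)) := fun n m =>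
    ext_localized_subsingleton S (E.starInj n) m Q
  have hex0 : Function.Exact E.ε (resG E 0) := LinearMap.exact_iff.2 (by rw [ker_resG, E.exact_zero])
  have hex : ∀ n, Function.Exact (LinearMap.ker (E.d (n + 1))).subtype (resG E (n + 1)) := fun n =>
    LinearMap.exact_iff.2 (by rw [ker_resG, Submodule.range_subtype])
  -- shifting
  have hshift : ∀ n m : ℕ, Nonempty (
      Ext.{u} (ModuleCat.of (Localization S) (LocalizedModule S (R ⧸ c)))
        (ModuleCat.of (Localization S) (LocalizedModule S (LinearMap.ker (E.d (n + 1))))) (m + 1) ≃ₗ[Localization S]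
      Ext.{u} (ModuleCat.of (Localization S) (LocalizedModule S (R ⧸ c)))
        (ModuleCat.of (Localization S) (LocalizedModule S M)) (m + n + 2)) := by
    intro n
    induction n with
    | zero =>
      intro m
      exact nonempty_ext_succ_equiv _ (LocalizedModule.map_injective S E.ε E.ε_injective)
        (LocalizedModule.map_surjective S _ (resG_surjective E 0)) (LocalizedModule.map_exact S E.ε _ hex0)
        (m + 1) (hacy 0 m) (hacy 0 (m + 1))
    | succ n ih =>
      intro m
      obtain ⟨e⟩ := nonempty_ext_succ_equiv (LocalizedModule S (R ⧸ c))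
        (LocalizedModule.map_injective S _ (Submodule.injective_subtype _))
        (LocalizedModule.map_surjective S _ (resG_surjective E (n + 1)))
        (LocalizedModule.map_exact S _ _ (hex n)) (m + 1) (hacy (n + 1) m) (hacy (n + 1) (m + 1))
      obtain ⟨e'⟩ := ih (m + 1)
      rw [show m + (n + 1) + 2 = m + 1 + n + 2 by omega]
      exact ⟨e.trans e'⟩
  cases k with
  | zero =>
    exact exists_ext_one (LocalizedModule S (R ⧸ c)) (LocalizedModule.map_injective S E.ε E.ε_injective)
      (LocalizedModule.map_surjective S _ (resG_surjective E 0)) (LocalizedModule.map_exact S E.ε _ hex0) (hacy 0 0)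
  | succ k =>
    have h2 := hacy (k + 1) 0
    obtain ⟨δ, hδ, hker⟩ := exists_ext_one
      (f := LocalizedModule.map S (LinearMap.ker (E.d (k + 1))).subtype)
      (g := LocalizedModule.map S (resG E (k + 1))) (LocalizedModule S (R ⧸ c))
      (LocalizedModule.map_injective S _ (Submodule.injective_subtype _))
      (LocalizedModule.map_surjective S _ (resG_surjective E (k + 1)))
      (LocalizedModule.map_exact S _ _ (hex k)) h2
    have h3 := hshift k 0
    rw [show 0 + k + 2 = k + 1 + 1 by omega] at h3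
    obtain ⟨e'⟩ := h3
    exact ⟨e'.toLinearMap ∘ₗ δ, e'.surjective.comp hδ, fun φ => e'.map_eq_zero_iff.trans (hker φ)⟩

/-- `Ext` from the localisation of `R ⧸ c` into a localised graded module: each is the localisation of a
graded module killed by `c`, which does not depend on the localisation. -/
theorem exists_bass_modules (ℳ : ι → τ) [Decomposition ℳ] [SetLike.GradedSMul 𝒜 ℳ] (c : HomogeneousIdeal 𝒜)
    (i : ℕ) :
    ∃ N : GrLC.GMod.{u} 𝒜, (∀ r ∈ c.toIdeal, ∀ x : N.carrier, r • x = 0) ∧ ∀ S : Submonoid R,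
      Nonempty (Ext.{u} (ModuleCat.of (Localization S) (LocalizedModule S (R ⧸ c.toIdeal)))
        (ModuleCat.of (Localization S) (LocalizedModule S M)) i ≃ₗ[Localization S]
          LocalizedModule S N.carrier) := by
  cases i with
  | zero =>
    refine ⟨sub (toGMod 𝒜 ℳ) (killed c.toIdeal M) (isHomogeneous_killed c.isHomogeneous (toGMod 𝒜 ℳ)),
      fun r hr x => Subtype.ext ((Submodule.mem_torsionBySet_iff _ _).1 x.2 ⟨r, hr⟩), fun S => ?_⟩
    exact ⟨(extZeroEquiv _ _).trans (killedLocEquiv S c.toIdeal M).symm⟩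
  | succ k =>
  obtain ⟨E⟩ := nonempty_res (𝒜 := 𝒜) ℳ
  let Zk := sub (E.X (k + 1)) (LinearMap.ker (E.d (k + 1))) (isHomogeneous_ker (E.d_grHom (k + 1)))
  let KX := sub (E.X k) (killed c.toIdeal _) (isHomogeneous_killed c.isHomogeneous (E.X k))
  let KZ := sub Zk (killed c.toIdeal _) (isHomogeneous_killed c.isHomogeneous Zk)
  let fc : KX.carrier →ₗ[R] KZ.carrier := ((resG E k).comp (killed c.toIdeal _).subtype).codRestrict _ fun x =>
    (Submodule.mem_torsionBySet_iff _ _).2 fun r => by
      show (r : R) • resG E k x.1 = 0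
      rw [← map_smul, (Submodule.mem_torsionBySet_iff _ _).1 x.2 r, map_zero]
  have hfc : GrLC.IsGrHom KX.gr KZ.gr fc := fun a x hx => E.d_grHom k a x.1 hx
  refine ⟨quot KZ (LinearMap.range fc) (isHomogeneous_range (spans_of_decomposition KX.gr) hfc), fun r hr x => ?_, fun S => ?_⟩
  · obtain ⟨z, rfl⟩ := quotπ_surjective KZ (LinearMap.range fc) (isHomogeneous_range (spans_of_decomposition KX.gr) hfc) x
    rw [← map_smul, show r • z = 0 from Subtype.ext ((Submodule.mem_torsionBySet_iff _ _).1 z.2 ⟨r, hr⟩), map_zero]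
  have hπex : Function.Exact fc (quotπ KZ (LinearMap.range fc) (isHomogeneous_range (spans_of_decomposition KX.gr) hfc)) :=
    LinearMap.exact_iff.2 (ker_quotπ _ _ _)
  obtain ⟨δ, hδ, hker⟩ := exists_ext_res_delta E c.isHomogeneous S k
  obtain ⟨e⟩ := nonempty_equiv_of_killed_exact S c.toIdeal (resG E k) fc (fun _ => rfl) _
    (quotπ_surjective _ _ _) hπex δ hδ hker
  exact ⟨e.symm⟩

/-- `Ext` from `R ⧸ c` at primes with core `c` is free, with rank independent of the prime. -/
theorem exists_bass_basis [Module.Free ℤ ι] [Module.Finite ℤ ι] (ℳ : ι → τ) [Decomposition ℳ]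
    [SetLike.GradedSMul 𝒜 ℳ] (c : HomogeneousIdeal 𝒜) (hc : c.toIdeal.IsPrime) (i : ℕ) :
    ∃ κ : Type u, ∀ (P : Ideal R) [P.IsPrime], core 𝒜 P = c.toIdeal →
      Nonempty (Ext.{u} (ModuleCat.of (Localization P.primeCompl) (LocalizedModule P.primeCompl (R ⧸ c.toIdeal)))
        (ModuleCat.of (Localization P.primeCompl) (LocalizedModule P.primeCompl M)) i ≃ₗ[Localization P.primeCompl]
          (κ →₀ LocalizedModule P.primeCompl (R ⧸ c.toIdeal))) := by
  obtain ⟨N, hN, he⟩ := exists_bass_modules ℳ c i
  obtain ⟨κ, hκ⟩ := exists_generic_basis N.gr c hc hN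
  refine ⟨κ, fun P _ hP => ?_⟩
  obtain ⟨e⟩ := he P.primeCompl
  obtain ⟨e'⟩ := hκ P hP
  exact ⟨e.trans e'⟩

end Groth.Agent.GrLC21
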