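import Groth.Agent.Lib.GrLC21.ExtShift
import Mathlib.Algebra.Homology.DerivedCategory.Ext.EnoughProjectives
import Mathlib.Algebra.Category.ModuleCat.Projective

/-!
# Linear dimension shifting for `Ext` in the first variable
-/

universe u

open CategoryTheory Abelian

noncomputable section

namespace Groth.Agent.GrLC21

variable {S : Type u} [CommRing S]
variable {A B C : Type u} [AddCommGroup A] [Module S A] [AddCommGroup B] [Module S B]
  [AddCommGroup C] [Module S C] {f : A →ₗ[S] B} {g : B →ₗ[S] C}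
  (Y : Type u) [AddCommGroup Y] [Module S Y]

/-- `Ext` out of a free module vanishes in positive degrees. -/
theorem subsingleton_ext_free (P : Type u) [AddCommGroup P] [Module S P] [Module.Free S P] (i : ℕ) :
    Subsingleton (Ext.{u} (ModuleCat.of S P) (ModuleCat.of S Y) (i + 1)) :=
  have : Projective (ModuleCat.of S P) :=
    (IsProjective.iff_projective (ModuleCat.of S P)).1 (Module.Projective.of_free (R := S) (P := P))
  Ext.subsingleton_of_projective _ _ i

/-- Shifting in the first variable along a short exact sequence with acyclic middle term. -/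
theorem nonempty_ext_succ_equiv_left (hf : Function.Injective f) (hg : Function.Surjective g)
    (hfg : Function.Exact f g) (i : ℕ) (h1 : Subsingleton (Ext.{u} (ModuleCat.of S B) (ModuleCat.of S Y) i))
    (h2 : Subsingleton (Ext.{u} (ModuleCat.of S B) (ModuleCat.of S Y) (i + 1))) :
    Nonempty (Ext.{u} (ModuleCat.of S A) (ModuleCat.of S Y) i ≃ₗ[S]
      Ext.{u} (ModuleCat.of S C) (ModuleCat.of S Y) (i + 1)) := by
  have hS := DepthLib.shortExact_of_linearMap hf hg hfg
  let δ := Ext.precompOfLinear hS.extClass S (ModuleCat.of S Y) (a := i) (b := i + 1) (add_comm 1 i)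
  refine ⟨LinearEquiv.ofBijective δ ⟨?_, fun y => ?_⟩⟩
  · refine (injective_iff_map_eq_zero δ).2 fun x hx => ?_
    obtain ⟨y, hy⟩ := Ext.contravariant_sequence_exact₁ hS _ x (n₁ := i + 1) (add_comm 1 i) hx
    rw [← hy, show y = 0 from h1.elim y 0, Ext.comp_zero]
  · exact Ext.contravariant_sequence_exact₃ hS _ y (h2.elim _ _) (n₀ := i) (add_comm 1 i)

/-- `Ext^1` as the cokernel of the restriction of maps. -/
theorem exists_ext_one_left (hf : Function.Injective f) (hg : Function.Surjective g) (hfg : Function.Exact f g)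
    (h2 : Subsingleton (Ext.{u} (ModuleCat.of S B) (ModuleCat.of S Y) 1)) :
    ∃ δ : (A →ₗ[S] Y) →ₗ[S] Ext.{u} (ModuleCat.of S C) (ModuleCat.of S Y) 1,
      Function.Surjective δ ∧ ∀ φ, δ φ = 0 ↔ ∃ ψ : B →ₗ[S] Y, ψ ∘ₗ f = φ := by
  have hS := DepthLib.shortExact_of_linearMap hf hg hfg
  let δ₀ := Ext.precompOfLinear hS.extClass S (ModuleCat.of S Y) (a := 0) (b := 1) (add_comm 1 0)
  refine ⟨δ₀ ∘ₗ (extZeroEquiv A Y).symm.toLinearMap, fun y => ?_, fun φ => ⟨fun h => ?_, ?_⟩⟩
  · obtain ⟨x, hx⟩ := Ext.contravariant_sequence_exact₃ hS _ y (h2.elim _ _) (n₀ := 0) (add_comm 1 0)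
    refine ⟨extZeroEquiv A Y x, ?_⟩
    show δ₀ ((extZeroEquiv A Y).symm (extZeroEquiv A Y x)) = y
    rw [LinearEquiv.symm_apply_apply]
    exact hx
  · obtain ⟨y, hy⟩ := Ext.contravariant_sequence_exact₁ hS _ _ (n₁ := 1) (add_comm 1 0) h
    obtain ⟨ψ, rfl⟩ := (Ext.mk₀_bijective _ _).2 y
    refine ⟨ψ.hom, ?_⟩
    erw [Ext.mk₀_comp_mk₀] at hy
    exact congrArg ModuleCat.Hom.hom ((Ext.mk₀_bijective _ _).1 (hy.trans (extZeroEquiv_symm_apply φ)))
  · rintro ⟨ψ, rfl⟩
    show hS.extClass.comp ((extZeroEquiv A Y).symm (ψ ∘ₗ f)) (add_comm 1 0) = 0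
    rw [extZeroEquiv_symm_apply, show ModuleCat.ofHom (ψ ∘ₗ f) = ModuleCat.ofHom f ≫ ModuleCat.ofHom ψ from rfl,
      ← Ext.mk₀_comp_mk₀]
    exact hS.extClass_comp_assoc _

end Groth.Agent.GrLC21
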