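import Groth.Agent.Lib.GrLC21.DualFun
import Groth.Agent.Lib.GrLC21.ExtShiftContra
import Groth.Agent.Lib.GrLC21.StarCM

/-!
# Graded local duality over a Cohen-Macaulay graded ring over a field

`Ext^i(M, K) ≅ *Hom(H^{n-i}_m(M), *E(R/m))` linearly over the ring, for finite graded modules `M`, with
`K = *Hom(H^n_m(R), *E(R/m))`.
-/

universe u

open DirectSum CategoryTheory Abelian

noncomputable section

set_option linter.unusedSectionVars false
set_option backward.isDefEq.respectTransparency false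

namespace Groth.Agent.GrLC21

variable {R : Type u} [CommRing R] {σ : Type u} [SetLike σ R] [AddSubgroupClass σ R]
  {𝒜 : ℤ → σ} [GradedRing 𝒜]

/-- A free graded module is acyclic where the ring is. -/
theorem van_freeMod' [IsNoetherianRing R] {a : HomogeneousIdeal 𝒜} {t : ℕ} (b : Fin t → ℤ) {l : ℕ}
    (h : ∀ g, Van a l g (toGMod 𝒜 𝒜)) (g : ℤ) : Van a l g (freeMod 𝒜 b) := by
  classical
  refine van_of_fac (Q := fun Z => Van a l g Z) ?_ fun _ hZ => hZ
  rw [← sum_incl_coord (𝒜 := 𝒜) b]
  induction (Finset.univ : Finset (Fin t)) using Finset.induction with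
  | empty => rw [Finset.sum_empty]; exact .zero
  | @insert i s hi ih =>
    rw [Finset.sum_insert hi]
    exact .add (.thru _ ((van_shift_iff (b i)).2 (h (g - b i))) (coord b i) (incl b i) (coord_grHom b i)
      (genMap_grHom (single_mem b i))) ih

theorem subsingleton_H_of_van {a : HomogeneousIdeal 𝒜} {X : GrLC.GMod.{u} 𝒜} (EX : GrLC.StarInjRes 𝒜 X.gr)
    {i : ℕ} (h : ∀ g, Van a i g X) : Subsingleton (EX.H a i) :=
  (subsingleton_H_iff EX a).2 fun g => h g EX

variable [LocCoh.IsCohenMacaulayRing R] {m : HomogeneousIdeal 𝒜} (Γ : FieldCtx 𝒜 m)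
  {E : Type u} [AddCommGroup E] [Module R E] {τ' : Type u} [SetLike τ' E] [AddSubgroupClass τ' E]
  {𝓔 : ℤ → τ'} [Decomposition 𝓔] [SetLike.GradedSMul 𝒜 𝓔] {e : (R ⧸ m.toIdeal) →ₗ[R] E}
  (he : GrLC.IsStarInjHull 𝒜 (GrLC.quotGr 𝒜 m) 𝓔 e)
  {n : ℕ} (hn : ringKrullDim R = n) (I : GrLC.StarInjRes 𝒜 𝒜)

set_option maxHeartbeats 1000000 in
include Γ he hn in
/-- Local duality. -/
theorem FieldCtx.nonempty_ext_equiv_dual : ∀ (i j : ℕ), i + j = n →
    ∀ (M : GrLC.GMod.{u} 𝒜) [Module.Finite R M.carrier] (EM : GrLC.StarInjRes 𝒜 M.gr),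
      Nonempty (Ext.{u} (ModuleCat.of R M.carrier) (ModuleCat.of R (homMod (Hmod I m n) 𝓔).carrier) i ≃ₗ[R]
        (homMod (Hmod EM m j) 𝓔).carrier) := by
  intro i
  induction i with
  | zero =>
    intro j hj M _ EM
    obtain rfl : j = n := by omega
    exact ⟨(extZeroEquiv _ _).trans (topEquiv hn EM).symm⟩
  | succ i ih =>
    intro j hj M _ EM
    obtain ⟨t, b, v, hv, hspan⟩ := exists_homogeneous_gens M.gr (R := R)
    let F := freeMod 𝒜 b
    have : Module.Free R F.carrier := inferInstanceAs (Module.Free R (Fin t → R))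
    have : Module.Finite R F.carrier := inferInstanceAs (Module.Finite R (Fin t → R))
    have hπ := freeπ_grHom 𝒜 (ℳ := M.gr) b v hv
    have hπs := freeπ_surjective 𝒜 b v hspan
    let L := sub F (LinearMap.ker (freeπ 𝒜 b v)) (isHomogeneous_ker hπ)
    let u : L.carrier →ₗ[R] F.carrier := subι F _ (isHomogeneous_ker hπ)
    have hu : GrLC.IsGrHom L.gr F.gr u := subι_grHom _ _ _
    have hui : Function.Injective u := subι_injective _ _ _
    have hur : LinearMap.range u = LinearMap.ker (freeπ 𝒜 b v) := Submodule.range_subtype _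
    have hex : Function.Exact u (freeπ 𝒜 b v) := LinearMap.exact_iff.2 hur.symm
    have : Module.Finite R L.carrier := inferInstanceAs (Module.Finite R (LinearMap.ker (freeπ 𝒜 b v)))
    obtain ⟨EF⟩ := nonempty_res (𝒜 := 𝒜) F.gr
    obtain ⟨EL⟩ := nonempty_res (𝒜 := 𝒜) L.gr
    obtain ⟨δ, hδ, -, -, h2, h3⟩ := exists_LES EL EF EM m hu hπ hui hπs hur
    have hF : ∀ l, l ≠ n → Subsingleton (EF.H m l) := fun l hl =>
      subsingleton_H_of_van EF (van_freeMod' b fun g => van_self_of_ne Γ.pos Γ.starLocal hn hl g)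
    have hFj := hF j (by omega)
    let δ' : (Hmod EM m j).carrier →ₗ[R] (Hmod EL m (j + 1)).carrier := δ j
    have hδ' : GrLC.IsGrHom (Hmod EM m j).gr (Hmod EL m (j + 1)).gr δ' := hδ j
    have hδi : Function.Injective δ' := by
      refine (injective_iff_map_eq_zero δ').2 fun x hx => ?_
      obtain ⟨y, rfl⟩ := (h2 j x).1 hx
      exact (congrArg (Hmap EF EM m hπ j) (Subsingleton.elim y 0)).trans (map_zero _)
    obtain ⟨eL⟩ := ih (j + 1) (by omega) L EL
    rcases i with _ | i
    · obtain rfl : n = j + 1 := by omega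
      obtain ⟨del, hdels, hdel⟩ := exists_ext_one_left (f := u) (g := freeπ 𝒜 b v)
        (homMod (Hmod I m (j + 1)) 𝓔).carrier hui hπs hex (subsingleton_ext_free _ _ 0)
      let D : (L.carrier →ₗ[R] (homMod (Hmod I m (j + 1)) 𝓔).carrier) →ₗ[R] (homMod (Hmod EM m j) 𝓔).carrier :=
        dual0 δ' hδ' ∘ₗ (topEquiv hn EL).symm.toLinearMap
      have hDs : Function.Surjective D :=
        (Γ.dual0_surjective he δ' hδ' hδi).comp (topEquiv hn EL).symm.surjective
      have hker : LinearMap.ker del = LinearMap.ker D := by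
        ext φ
        rw [LinearMap.mem_ker, LinearMap.mem_ker, hdel φ]
        obtain ⟨f, rfl⟩ := (topEquiv hn EL).surjective φ
        show (∃ ψ, ψ ∘ₗ u = _) ↔ dual0 δ' hδ' ((topEquiv hn EL).symm _) = 0
        rw [LinearEquiv.symm_apply_apply]
        let w : (Hmod EL m (j + 1)).carrier →ₗ[R] (Hmod EF m (j + 1)).carrier := Hmap EL EF m hu (j + 1)
        have hw : GrLC.IsGrHom (Hmod EL m (j + 1)).gr (Hmod EF m (j + 1)).gr w := Hmap_grHom m hu (j + 1)
        constructor
        · rintro ⟨ψ, hψ⟩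
          obtain ⟨h, rfl⟩ := (topEquiv hn EF).surjective ψ
          have hf : f = dual0 w hw h := by
            refine (topEquiv hn EL).injective (hψ.symm.trans ?_)
            exact (topHom_natural EF EL hu h).symm
          refine dualVal_injective (LinearMap.ext fun x => ?_)
          rw [hf]
          show dualVal h (w (δ' x)) = 0
          rw [show w (δ' x) = 0 from (h3 j).apply_apply_eq_zero x, map_zero]
        · intro h0
          obtain ⟨h, hh⟩ := Γ.exists_dual_comp he w hw f fun y hy => by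
            obtain ⟨x, rfl⟩ := (h3 j y).1 hy
            exact LinearMap.congr_fun (congrArg dualVal h0) x
          refine ⟨topEquiv hn EF h, ?_⟩
          rw [← hh]
          exact (topHom_natural EF EL hu h).symm
      exact ⟨(del.quotKerEquivOfSurjective hdels).symm.trans
        ((Submodule.quotEquivOfEq _ _ hker).trans (D.quotKerEquivOfSurjective hDs))⟩
    · obtain ⟨eExt⟩ := nonempty_ext_succ_equiv_left (f := u) (g := freeπ 𝒜 b v)
        (homMod (Hmod I m n) 𝓔).carrier hui hπs hex (i + 1) (subsingleton_ext_free _ _ i)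
        (subsingleton_ext_free _ _ (i + 1))
      have hFj' := hF (j + 1) (by omega)
      have hδs : Function.Surjective δ' := fun y => (h3 j y).1 (Subsingleton.elim _ _)
      exact ⟨eExt.symm.trans (eL.trans (dualEquiv (LinearEquiv.ofBijective δ' ⟨hδi, hδs⟩) hδ'))⟩

end Groth.Agent.GrLC21
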