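import Groth.Agent.Lib.GrLC21.FinChange
import Groth.Agent.Lib.GrLC21.LocalDuality
import Mathlib.RingTheory.Ideal.GoingUp

/-!
# The *canonical module of a finite graded extension
-/

universe u

open DirectSum CategoryTheory Abelian

noncomputable section

set_option linter.unusedSectionVars false
set_option backward.isDefEq.respectTransparency false

namespace Groth.Agent.GrLC21

theorem ringKrullDim_le_of_finite (R S : Type u) [CommRing R] [CommRing S] [Algebra R S] [Module.Finite R S] :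
    ringKrullDim S ≤ ringKrullDim R :=
  Order.krullDim_le_of_strictMono
    (fun p : PrimeSpectrum S => PrimeSpectrum.comap (algebraMap R S) p)
    fun p q hpq => Ideal.IsIntegral.comap_lt_comap (A := S) (R := R) (I := p.asIdeal) (J := q.asIdeal) hpq

variable {R : Type u} [CommRing R] {σ : Type u} [SetLike σ R] [AddSubgroupClass σ R]
  {𝒜 : ℤ → σ} [GradedRing 𝒜]
  {S : Type u} [CommRing S] [Algebra R S] {σ' : Type u} [SetLike σ' S] [AddSubgroupClass σ' S]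
  {𝒜' : ℤ → σ'} [GradedRing 𝒜']

theorem map_mem_irrelevant (hmap : ∀ (j : ℤ) (r : R), r ∈ 𝒜 j → algebraMap R S r ∈ 𝒜' j) :
    (Ideal.span (⋃ n ∈ Set.Ioi (0 : ℤ), (𝒜 n : Set R))).map (algebraMap R S) ≤
      Ideal.span (⋃ n ∈ Set.Ioi (0 : ℤ), (𝒜' n : Set S)) := by
  rw [Ideal.map_span, Ideal.span_le]
  rintro _ ⟨r, hr, rfl⟩
  obtain ⟨j, hj, hr⟩ := Set.mem_iUnion₂.1 hr
  exact Ideal.subset_span (Set.mem_iUnion₂.2 ⟨j, hj, hmap j r hr⟩)

theorem irrelevant_le_radical [Module.Finite R S]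
    (hmap : ∀ (j : ℤ) (r : R), r ∈ 𝒜 j → algebraMap R S r ∈ 𝒜' j) :
    Ideal.span (⋃ n ∈ Set.Ioi (0 : ℤ), (𝒜' n : Set S)) ≤
      ((Ideal.span (⋃ n ∈ Set.Ioi (0 : ℤ), (𝒜 n : Set R))).map (algebraMap R S)).radical := by
  rw [Ideal.span_le]
  intro s hs
  obtain ⟨j, hj, hs⟩ := Set.mem_iUnion₂.1 hs
  have hproj : ∀ (g : ℤ) (r : R), proj 𝒜' g (algebraMap R S r) = algebraMap R S (proj 𝒜 g r) := fun g r => by
    refine spans_induction (spans_of_decomposition 𝒜) r (by simp)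
      (fun a b ha hb => by simp only [map_add, ha, hb]) fun h a ha => ?_
    rcases eq_or_ne h g with rfl | hne
    · rw [proj_of_mem 𝒜 ha, proj_of_mem 𝒜' (hmap h a ha)]
    · rw [proj_of_mem_ne 𝒜 ha hne, proj_of_mem_ne 𝒜' (hmap h a ha) hne, map_zero]
  obtain ⟨p, hp, hps⟩ := Algebra.IsIntegral.isIntegral (R := R) s
  refine ⟨p.natDegree, ?_⟩
  have hsum : s ^ p.natDegree + ∑ i ∈ Finset.range p.natDegree, s ^ i • algebraMap R S (p.coeff i) = 0 := by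
    rw [← hps, Polynomial.eval₂_eq_sum_range, Finset.sum_range_succ, hp.coeff_natDegree, map_one, one_mul, add_comm]
    refine congrArg (· + s ^ p.natDegree) (Finset.sum_congr rfl fun i _ => ?_)
    rw [smul_eq_mul, mul_comm]
  have hd : ∀ i : ℕ, s ^ i ∈ 𝒜' ((i : ℤ) * j) := fun i => by
    have := SetLike.pow_mem_graded i hs
    rwa [nsmul_eq_mul] at this
  have h0 := congrArg (proj 𝒜' ((p.natDegree : ℤ) * j)) hsum
  rw [map_zero, map_add, proj_of_mem 𝒜' (hd p.natDegree), map_sum, add_eq_zero_iff_eq_neg] at h0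
  rw [h0]
  refine neg_mem (Submodule.sum_mem _ fun i hi => ?_)
  rw [proj_smul 𝒜' 𝒜' (hd i), hproj, smul_eq_mul]
  refine Ideal.mul_mem_left _ _ (Ideal.mem_map_of_mem _ (Ideal.subset_span
    (Set.mem_iUnion₂.2 ⟨_, ?_, proj_mem 𝒜 _ _⟩)))
  have hlt : (i : ℤ) < p.natDegree := by exact_mod_cast Finset.mem_range.1 hi
  have : 0 < j := hj
  simp only [Set.mem_Ioi]
  nlinarith

/-- Postcomposition with an isomorphism. -/
def extCongrRight (X : ModuleCat.{u} R) {Y Z : ModuleCat.{u} R} (e : Y ≅ Z) (i : ℕ) :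
    Ext.{u} X Y i ≃ₗ[R] Ext.{u} X Z i :=
  LinearEquiv.ofLinearMap (Ext.postcompOfLinear (Ext.mk₀ e.hom) R X (add_zero i))
    (Ext.postcompOfLinear (Ext.mk₀ e.inv) R X (add_zero i))
    (LinearMap.ext fun α => by
      show (α.comp (Ext.mk₀ e.inv) (add_zero i)).comp (Ext.mk₀ e.hom) (add_zero i) = α
      rw [Ext.comp_assoc_of_second_deg_zero, Ext.mk₀_comp_mk₀, e.inv_hom_id, Ext.comp_mk₀_id])
    (LinearMap.ext fun α => by
      show (α.comp (Ext.mk₀ e.hom) (add_zero i)).comp (Ext.mk₀ e.inv) (add_zero i) = α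
      rw [Ext.comp_assoc_of_second_deg_zero, Ext.mk₀_comp_mk₀, e.hom_inv_id, Ext.comp_mk₀_id])

variable [LocCoh.IsCohenMacaulayRing R] [IsNoetherianRing S] [Module.Finite R S]
  {m : HomogeneousIdeal 𝒜} {m' : HomogeneousIdeal 𝒜'} (Γ : FieldCtx 𝒜 m) (Γ' : FieldCtx 𝒜' m')
  (hm : m.toIdeal = Ideal.span (⋃ n ∈ Set.Ioi (0 : ℤ), (𝒜 n : Set R)))
  (hm' : m'.toIdeal = Ideal.span (⋃ n ∈ Set.Ioi (0 : ℤ), (𝒜' n : Set S)))
  (hmap : ∀ (j : ℤ) (r : R), r ∈ 𝒜 j → algebraMap R S r ∈ 𝒜' j)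
  (hf0 : ∀ s : S, s ∈ 𝒜' 0 → ∃ r ∈ 𝒜 0, algebraMap R S r = s)
  {E : Type u} [AddCommGroup E] [Module R E] {τ₁ : Type u} [SetLike τ₁ E] [AddSubgroupClass τ₁ E]
  {𝓔 : ℤ → τ₁} [Decomposition 𝓔] [SetLike.GradedSMul 𝒜 𝓔] {e : (R ⧸ m.toIdeal) →ₗ[R] E}
  (he : GrLC.IsStarInjHull 𝒜 (GrLC.quotGr 𝒜 m) 𝓔 e)
  {E'' : GrLC.GMod.{u} 𝒜'} {e' : (S ⧸ m'.toIdeal) →ₗ[S] E''.carrier}
  (he' : GrLC.IsStarInjHull 𝒜' (GrLC.quotGr 𝒜' m') E''.gr e')
  {n n' : ℕ} (hn : ringKrullDim R = n) (hn' : ringKrullDim S = n')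
  (I : GrLC.StarInjRes 𝒜 𝒜) (I' : GrLC.StarInjRes 𝒜' 𝒜') [SetLike.GradedSMul 𝒜 𝒜']

set_option maxHeartbeats 1000000 in
include Γ Γ' hm hm' hmap hf0 he he' hn hn' in
/-- `K_S = Ext^{n-n'}_R(S, K_R)`. -/
theorem nonempty_dual_finite_equiv_ext :
    Nonempty ((resMod hmap (homMod (Hmod I' m' n') E''.gr)).carrier ≃ₗ[R]
      Ext.{u} (ModuleCat.of R S) (ModuleCat.of R (homMod (Hmod I m n) 𝓔).carrier) (n - n')) := by
  have hle : m.toIdeal.map (algebraMap R S) ≤ m'.toIdeal := by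
    rw [hm, hm']; exact map_mem_irrelevant hmap
  have hrad : m'.toIdeal ≤ (m.toIdeal.map (algebraMap R S)).radical := by
    rw [hm, hm']; exact irrelevant_le_radical hmap
  have hle' : n' ≤ n := by
    have := ringKrullDim_le_of_finite R S
    rw [hn, hn'] at this
    exact_mod_cast this
  obtain ⟨Θ⟩ := nonempty_dual_res_equiv hmap hle Γ Γ' hf0 he he' (hmap 0) (Hmod I' m' n')
  let M : GrLC.GMod.{u} 𝒜 := toGMod 𝒜 𝒜'
  obtain ⟨F⟩ := nonempty_res (𝒜 := 𝒜) 𝒜'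
  obtain ⟨ε, hε⟩ := exists_H_res_equiv hmap hle hrad I' F n'
  have : Module.Finite R M.carrier := inferInstanceAs (Module.Finite R S)
  obtain ⟨D⟩ := Γ.nonempty_ext_equiv_dual he hn I (n - n') n' (by omega) M (toGModRes F)
  exact ⟨Θ.trans ((dualEquiv ε hε).trans D.symm)⟩

end Groth.Agent.GrLC21
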