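import Groth.Agent.Lib.GrLC21.GradedDual

/-!
# The pairing of a *canonical module with the top graded local cohomology
-/

universe u

open DirectSum

noncomputable section

set_option linter.unusedSectionVars false
set_option backward.isDefEq.respectTransparency false

namespace Groth.Agent.GrLC21

variable {R : Type u} [CommRing R] {σ : Type u} [SetLike σ R] [AddSubgroupClass σ R]
  {𝒜 : ℤ → σ} [GradedRing 𝒜] {m : HomogeneousIdeal 𝒜} (Γ : FieldCtx 𝒜 m)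
  {E : Type u} [AddCommGroup E] [Module R E] {τ' : Type u} [SetLike τ' E] [AddSubgroupClass τ' E]
  {𝓔 : ℤ → τ'} [Decomposition 𝓔] [SetLike.GradedSMul 𝒜 𝓔] {e : (R ⧸ m.toIdeal) →ₗ[R] E}
  (he : GrLC.IsStarInjHull 𝒜 (GrLC.quotGr 𝒜 m) 𝓔 e)

/-- The trace of the component of degree zero. -/
def FieldCtx.trace0 : E →+ GrLC.deg0 𝒜 :=
  AddMonoidHom.mk' (fun y => Γ.trace he ⟨proj 𝓔 0 y, proj_mem 𝓔 0 y⟩) fun a b => by
    rw [← map_add]
    exact congrArg _ (Subtype.ext (map_add _ _ _))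

theorem FieldCtx.trace0_of_mem {y : E} (hy : y ∈ 𝓔 0) : Γ.trace0 he y = Γ.trace he ⟨y, hy⟩ :=
  congrArg (Γ.trace he) (Subtype.ext (proj_of_mem 𝓔 hy))

theorem FieldCtx.trace0_of_mem_ne {d : ℤ} (hd : d ≠ 0) {y : E} (hy : y ∈ 𝓔 d) : Γ.trace0 he y = 0 := by
  show Γ.trace he _ = 0
  rw [show (⟨proj 𝓔 0 y, proj_mem 𝓔 0 y⟩ : GrLC.comp 𝒜 𝓔 (0 : ℤ)) = 0 from
    Subtype.ext (proj_of_mem_ne 𝓔 hy hd), map_zero]

theorem FieldCtx.trace0_smul (s : GrLC.deg0 𝒜) (y : E) :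
    Γ.trace0 he ((s : R) • y) = s * Γ.trace0 he y := by
  show Γ.trace he _ = s • Γ.trace he _
  rw [← map_smul]
  refine congrArg _ (Subtype.ext ?_)
  show proj 𝓔 0 ((s : R) • y) = (s : R) • proj 𝓔 0 y
  rw [proj_smul 𝒜 𝓔 (show (s : R) ∈ 𝒜 0 from s.2), sub_zero]

variable {C : Type u} [AddCommGroup C] [Module R C] {τ : Type u} [SetLike τ C] [AddSubgroupClass τ C]
  {𝒞 : ℤ → τ} [Decomposition 𝒞] [SetLike.GradedSMul 𝒜 𝒞]
  {n : ℕ} {I : GrLC.StarInjRes 𝒜 𝒜} (φ : (C →ₗ[R] E) ≃ₗ[R] I.H m n)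
  (hφ : GrLC.IsGrHom (fun d => (GrLC.homDeg 𝒜 𝒞 𝓔 d).toAddSubgroup) (I.Hgr m n) φ.toLinearMap)

/-- The pairing of a *canonical module with the top cohomology. -/
def FieldCtx.pairing (c : C) : I.H m n →+ GrLC.deg0 𝒜 :=
  (Γ.trace0 he).comp (AddMonoidHom.mk' (fun h => φ.symm h c) fun a b => by rw [map_add]; rfl)

theorem FieldCtx.pairing_apply (c : C) (h : I.H m n) : Γ.pairing he φ c h = Γ.trace0 he (φ.symm h c) := rfl

theorem FieldCtx.pairing_zero_left (h : I.H m n) : Γ.pairing he φ 0 h = 0 := by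
  rw [FieldCtx.pairing_apply, map_zero, map_zero]

theorem FieldCtx.pairing_add_left (c c' : C) (h : I.H m n) :
    Γ.pairing he φ (c + c') h = Γ.pairing he φ c h + Γ.pairing he φ c' h := by
  simp only [FieldCtx.pairing_apply, map_add]

theorem FieldCtx.pairing_smul (r : R) (c : C) (h : I.H m n) :
    Γ.pairing he φ (r • c) h = Γ.pairing he φ c (r • h) := by
  simp only [FieldCtx.pairing_apply, map_smul, LinearMap.smul_apply]

theorem FieldCtx.pairing_deg0_smul (s : GrLC.deg0 𝒜) (c : C) (h : I.H m n) :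
    Γ.pairing he φ c ((s : R) • h) = s * Γ.pairing he φ c h := by
  simp only [FieldCtx.pairing_apply, map_smul, LinearMap.smul_apply, Γ.trace0_smul]

include hφ in
theorem symm_homDeg [Module.Finite R C] {d : ℤ} {h : I.H m n} (hh : h ∈ I.Hcomp m n d) :
    GrLC.IsGrHomDeg 𝒞 𝓔 (φ.symm h) d := by
  obtain ⟨f, hf⟩ := (FieldCtx.pieceMapCanon_bijective hφ d).2 ⟨h, hh⟩
  have e' : φ f.1 = h := congrArg Subtype.val hf
  rw [← e', LinearEquiv.symm_apply_apply]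
  exact f.2

theorem FieldCtx.canonDual_apply [Module.Finite R C] (j : ℤ) (h : I.Hcomp m n (-j)) (c : GrLC.comp 𝒜 𝒞 j) :
    Γ.canonDual he hφ j h c = Γ.pairing he φ c.1 h.1 := by
  obtain ⟨f, rfl⟩ := (FieldCtx.pieceMapCanon_bijective hφ (-j)).2 h
  show Γ.dualMap he j ((LinearEquiv.ofBijective _ (FieldCtx.pieceMapCanon_bijective hφ (-j))).symm _) c = _
  rw [LinearEquiv.ofBijective_symm_apply_apply, Γ.dualMap_apply he, FieldCtx.pairing_apply]
  show Γ.trace he (FieldCtx.restrictPiece j f c) = Γ.trace0 he (φ.symm (φ f.1) c.1)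
  rw [LinearEquiv.symm_apply_apply, Γ.trace0_of_mem he (add_neg_cancel j ▸ f.2 j c.1 c.2)]
  rfl

include hφ in
/-- The pairing sees only opposite degrees. -/
theorem FieldCtx.pairing_eq_zero [Module.Finite R C] {i j : ℤ} (hij : i + j ≠ 0) {c : C} (hc : c ∈ 𝒞 i)
    {h : I.H m n} (hh : h ∈ I.Hcomp m n j) : Γ.pairing he φ c h = 0 :=
  Γ.trace0_of_mem_ne he hij (symm_homDeg φ hφ hh i c hc)

include hφ in
theorem FieldCtx.eq_zero_of_pairing [Module.Finite R C] {j : ℤ} {c : C} (hc : c ∈ 𝒞 j)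
    (h0 : ∀ h ∈ I.Hcomp m n (-j), Γ.pairing he φ c h = 0) : c = 0 := by
  let _ := Γ.isField.toField
  refine congrArg Subtype.val ((Module.forall_dual_apply_eq_zero_iff (GrLC.deg0 𝒜) (⟨c, hc⟩ : GrLC.comp 𝒜 𝒞 j)).1
    fun f => ?_)
  obtain ⟨h, rfl⟩ := (Γ.canonDual he hφ j).surjective f
  rw [Γ.canonDual_apply he φ hφ j]
  exact h0 h.1 h.2

include hφ in
theorem FieldCtx.exists_pairing_eq [IsNoetherianRing R] [Module.Finite R C] (j : ℤ)
    (lam : I.Hcomp m n (-j) →ₗ[GrLC.deg0 𝒜] GrLC.deg0 𝒜) :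
    ∃ c ∈ 𝒞 j, ∀ h : I.Hcomp m n (-j), Γ.pairing he φ c h.1 = lam h := by
  let _ := Γ.isField.toField
  have := Γ.isNoetherian_comp 𝒞 j
  let D := Γ.canonDual he hφ j
  let c := (Module.evalEquiv (GrLC.deg0 𝒜) (GrLC.comp 𝒜 𝒞 j)).symm (lam ∘ₗ D.symm.toLinearMap)
  refine ⟨c.1, c.2, fun h => ?_⟩
  rw [← Γ.canonDual_apply he φ hφ j]
  have h1 := LinearMap.congr_fun ((Module.evalEquiv (GrLC.deg0 𝒜) (GrLC.comp 𝒜 𝒞 j)).apply_symm_apply
    (lam ∘ₗ D.symm.toLinearMap)) (D h)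
  rw [Module.evalEquiv_apply, Module.Dual.eval_apply, LinearMap.comp_apply, LinearEquiv.coe_coe,
    LinearEquiv.symm_apply_apply] at h1
  exact h1

end Groth.Agent.GrLC21
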