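import Groth.Agent.Lib.GrLC21.CanonLocal
import Groth.Agent.Lib.CanonMod.Unique
import Mathlib.LinearAlgebra.TensorProduct.Quotient
import Mathlib.RingTheory.Length

/-!
# The type of a Cohen-Macaulay graded ring is the number of generators of its *canonical module
-/

universe u

open DirectSum CategoryTheory Abelian TensorProduct

noncomputable section

set_option linter.unusedSectionVars false
set_option backward.isDefEq.respectTransparency false

namespace Groth.Agent.GrLC21

variable {R : Type u} [CommRing R] [IsNoetherianRing R] {σ : Type u} [SetLike σ R] [AddSubgroupClass σ R]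
  {𝒜 : ℤ → σ} [GradedRing 𝒜] {m : HomogeneousIdeal 𝒜}

theorem length_eq_of_smul (S : Type u) [CommRing S] [Algebra R S] (W : Type u) [AddCommGroup W] [Module R W]
    [Module S W] [IsScalarTower R S W] (h : ∀ (z : W) (c : S), ∃ r : R, r • z = c • z) :
    Module.length R W = Module.length S W := by
  let e : Submodule S W ≃o Submodule R W :=
    { toFun := fun N => N.restrictScalars R
      invFun := fun N =>
        { carrier := (N : Set W)
          add_mem' := N.add_mem
          zero_mem' := N.zero_mem
          smul_mem' := fun c z hz => by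
            obtain ⟨r, hr⟩ := h z c
            exact hr ▸ N.smul_mem r hz }
      left_inv := fun N => rfl
      right_inv := fun N => rfl
      map_rel_iff' := Iff.rfl }
  rw [← WithBot.coe_inj, Module.coe_length, Module.coe_length]
  exact (Order.krullDim_eq_of_orderIso e).symm

/-- A module killed by a maximal ideal is its own localisation there. -/
theorem length_localized_of_killed {P : Ideal R} [P.IsMaximal] {V : Type u} [AddCommGroup V] [Module R V]
    (hV : ∀ r ∈ P, ∀ v : V, r • v = 0) [Module.Finite R V] :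
    Module.length (Localization.AtPrime P) (LocalizedModule P.primeCompl V) =
      (Module.finrank (R ⧸ P) ((R ⧸ P) ⊗[R] V) : ℕ∞) := by
  haveI : P.IsPrime := Ideal.IsMaximal.isPrime' P
  let _ : Module (R ⧸ P) V :=
    Module.IsTorsionBySet.module (I := P) fun v r => hV r r.2 v
  have : IsScalarTower R (R ⧸ P) V := Module.IsTorsionBySet.isScalarTower _
  have hunit : ∀ s : P.primeCompl, ∃ t : R, ∀ v : V, t • (s : R) • v = v := fun s => by
    obtain ⟨t, i, hi, h1⟩ := Ideal.IsMaximal.exists_inv ‹_› s.2
    refine ⟨t, fun v => ?_⟩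
    conv_rhs => rw [← one_smul R v, ← h1, add_smul, hV i hi, add_zero]
    rw [mul_smul]
  have hb : Function.Bijective (LocalizedModule.mkLinearMap P.primeCompl V) := by
    refine ⟨(injective_iff_map_eq_zero _).2 fun v hv => ?_, fun z => ?_⟩
    · obtain ⟨s, hs, h⟩ := exists_smul_eq_zero_of_mk hv
      obtain ⟨t, ht⟩ := hunit ⟨s, hs⟩
      rw [← ht v, h, smul_zero]
    · induction z using LocalizedModule.induction_on with
      | h v s =>
        obtain ⟨t, ht⟩ := hunit s
        refine ⟨t • v, ?_⟩
        rw [LocalizedModule.mkLinearMap_apply, LocalizedModule.mk_eq]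
        refine ⟨1, ?_⟩
        simp only [one_smul, Submonoid.smul_def]
        rw [smul_comm, ht]
  have hA : Module.length (Localization.AtPrime P) (LocalizedModule P.primeCompl V) =
      Module.length R (LocalizedModule P.primeCompl V) := by
    haveI : Module.Finite R (LocalizedModule P.primeCompl V) :=
      Module.Finite.equiv (LinearEquiv.ofBijective _ hb)
    refine (length_eq_of_smul (Localization.AtPrime P) _ ?_).symm
    exact fun z c => by
      induction c using Localization.induction_on with
      | H w =>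
        obtain ⟨r, s⟩ := w
        obtain ⟨v, rfl⟩ := hb.2 z
        obtain ⟨t, ht⟩ := hunit s
        refine ⟨t * r, ?_⟩
        rw [LocalizedModule.mkLinearMap_apply, LocalizedModule.smul'_mk, LocalizedModule.mk_smul_mk,
          LocalizedModule.mk_eq]
        refine ⟨1, ?_⟩
        simp only [one_smul, mul_one, Submonoid.smul_def]
        rw [mul_smul, smul_comm, ht]
  rw [hA, ← (LinearEquiv.ofBijective _ hb).length_eq,
    length_eq_of_smul (R ⧸ P) V fun z c => by
      obtain ⟨r, rfl⟩ := Ideal.Quotient.mk_surjective c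
      exact ⟨r, (algebraMap_smul (R ⧸ P) r z).symm⟩]
  let _ := Ideal.Quotient.field P
  haveI : Module.Finite (R ⧸ P) V := Module.Finite.of_restrictScalars_finite R _ _
  rw [Module.length_eq_finrank]
  have e : ((R ⧸ P) ⊗[R] V) ≃ₗ[R ⧸ P] V := LinearEquiv.extendScalarsOfSurjective Ideal.Quotient.mk_surjective
    ((TensorProduct.quotTensorEquivQuotSMul V P).trans (Submodule.quotEquivOfEqBot _
      ((Submodule.eq_bot_iff _).2 fun v hv => Submodule.smul_induction_on hv (fun r hr x _ => hV r hr x)
        fun a b ha hb => by rw [ha, hb, add_zero])))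
  rw [e.finrank_eq]

variable {M : Type u} [AddCommGroup M] [Module R M] {τ : Type u} [SetLike τ M] [AddSubgroupClass τ M]
  {ℳ : ℤ → τ} [Decomposition ℳ] [SetLike.GradedSMul 𝒜 ℳ]

/-- Cycles killed by `m` are classes killed by `m`. -/
def killedCycle (J : GrLC.StarInjRes 𝒜 ℳ) (n : ℕ) :
    killed m.toIdeal (LinearMap.ker (J.d n)) →ₗ[R] killed m.toIdeal (J.H m n) where
  toFun y := ⟨J.toH m n ⟨y.1.1, ⟨1, fun r hr => congrArg Subtype.val
      ((Submodule.mem_torsionBySet_iff _ _).1 y.2 ⟨r, by rwa [pow_one] at hr⟩)⟩, y.1.2⟩,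
    (Submodule.mem_torsionBySet_iff _ _).2 fun r => by
      show (r : R) • J.toH m n _ = 0
      rw [← map_smul, ← map_zero (J.toH m n)]
      exact congrArg _ (Subtype.ext (show (r : R) • y.1.1 = 0 from
        congrArg Subtype.val ((Submodule.mem_torsionBySet_iff _ _).1 y.2 r)))⟩
  map_add' x y := Subtype.ext (map_add (J.toH m n) ⟨x.1.1, _⟩ ⟨y.1.1, _⟩)
  map_smul' c y := Subtype.ext (map_smul (J.toH m n) c ⟨y.1.1, _⟩)

theorem killedCycle_bijective {J : GrLC.StarInjRes 𝒜 ℳ} {n : ℕ} (hb : Function.Bijective (J.toH m n)) :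
    Function.Bijective (killedCycle (m := m) J n) := by
  refine ⟨fun x y h => ?_, fun z => ?_⟩
  · exact Subtype.ext (Subtype.ext (congrArg (fun w : J.cocyc m n => w.1) (hb.1 (congrArg Subtype.val h))))
  · obtain ⟨w, hw⟩ := hb.2 z.1
    refine ⟨⟨⟨w.1, w.2.2⟩, (Submodule.mem_torsionBySet_iff _ _).2 fun r => Subtype.ext ?_⟩, Subtype.ext hw⟩
    show (r : R) • w.1 = 0
    have h : J.toH m n ((r : R) • w) = 0 := by
      rw [map_smul, hw]; exact (Submodule.mem_torsionBySet_iff _ _).1 z.2 r
    exact congrArg Subtype.val (hb.1 (h.trans (map_zero _).symm))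

/-- The Bass number of a graded module at the *maximal ideal in the first degree of nonzero local
cohomology is the length of the localised socle of that cohomology. -/
theorem bassNum_eq_length_killed_H [m.toIdeal.IsPrime] {E : GrLC.StarInjRes 𝒜 ℳ} (hE : IsMinimal E) {n : ℕ}
    (hlow : ∀ i < n, Subsingleton (E.H m i)) :
    GrLC.bassNum m.toIdeal M n =
      Module.length (Localization.AtPrime m.toIdeal) (LocalizedModule m.toIdeal.primeCompl (killed m.toIdeal (E.H m n))) := by
  have hb : Function.Bijective (E.toH m n) := by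
    refine ⟨(injective_iff_map_eq_zero _).2 fun z hz => Subtype.ext ?_, toH_surjective E m n⟩
    have h := (toH_eq_zero_iff E m z).1 hz
    rwa [hE.cobdy_eq_bot m hlow, Submodule.mem_bot] at h
  let t := LinearEquiv.ofBijective _ (killedCycle_bijective (m := m) hb)
  have hlen : Module.length (Localization.AtPrime m.toIdeal)
      (LocalizedModule m.toIdeal.primeCompl (killed m.toIdeal (LinearMap.ker (E.d n)))) =
      Module.length (Localization.AtPrime m.toIdeal) (LocalizedModule m.toIdeal.primeCompl (killed m.toIdeal (E.H m n))) :=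
    (LinearEquiv.ofBijective (LocalizedModule.map m.toIdeal.primeCompl t.toLinearMap)
      ⟨LocalizedModule.map_injective _ _ t.injective, LocalizedModule.map_surjective _ _ t.surjective⟩).length_eq
  rw [← hlen]
  cases n with
  | succ k => exact bassNum_succ_eq_length E m k (hE.essential k)
  | zero =>
    rw [bassNum_zero_eq_length]
    let u : killed m.toIdeal M →ₗ[R] killed m.toIdeal (LinearMap.ker (E.d 0)) :=
      { toFun := fun x => ⟨⟨E.ε x.1, E.exact_zero.symm ▸ ⟨x.1, rfl⟩⟩,
          (Submodule.mem_torsionBySet_iff _ _).2 fun r => Subtype.ext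
            ((map_smul E.ε (r : R) x.1).symm.trans
              ((congrArg E.ε ((Submodule.mem_torsionBySet_iff _ _).1 x.2 r)).trans (map_zero _)))⟩
        map_add' := fun x y => Subtype.ext (Subtype.ext (map_add E.ε x.1 y.1))
        map_smul' := fun c x => Subtype.ext (Subtype.ext (map_smul E.ε c x.1)) }
    have hu : Function.Bijective u := by
      refine ⟨fun x y h => Subtype.ext (E.ε_injective (congrArg (fun w => w.1.1) h)), fun z => ?_⟩
      obtain ⟨x, hx⟩ : z.1.1 ∈ LinearMap.range E.ε := E.exact_zero ▸ z.1.2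
      refine ⟨⟨x, (Submodule.mem_torsionBySet_iff _ _).2 fun r => E.ε_injective ?_⟩, Subtype.ext (Subtype.ext hx)⟩
      rw [map_smul, map_zero, hx]
      exact congrArg Subtype.val ((Submodule.mem_torsionBySet_iff _ _).1 z.2 r)
    exact (LinearEquiv.ofBijective (LocalizedModule.map m.toIdeal.primeCompl u)
      ⟨LocalizedModule.map_injective _ _ hu.1, LocalizedModule.map_surjective _ _ hu.2⟩).length_eq

variable [LocCoh.IsCohenMacaulayRing R] (Γ : FieldCtx 𝒜 m)
variable {E : Type u} [AddCommGroup E] [Module R E] {τ' : Type u} [SetLike τ' E] [AddSubgroupClass τ' E]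
  {𝓔 : ℤ → τ'} [Decomposition 𝓔] [SetLike.GradedSMul 𝒜 𝓔] {e : (R ⧸ m.toIdeal) →ₗ[R] E}
  (he : GrLC.IsStarInjHull 𝒜 (GrLC.quotGr 𝒜 m) 𝓔 e) {n : ℕ} (hn : ringKrullDim R = n)
  {I : GrLC.StarInjRes 𝒜 𝒜} (hC : GrLC.IsStarCanonical 𝒜 ℳ 𝓔 m n I)

set_option maxHeartbeats 1000000 in
include Γ he hn hC in
theorem FieldCtx.type_eq_finrank [m.toIdeal.IsMaximal] :
    GrLC.bassNum m.toIdeal R n = (Module.finrank (R ⧸ m.toIdeal) ((R ⧸ m.toIdeal) ⊗[R] M) : ℕ∞) := by
  haveI : m.toIdeal.IsPrime := Ideal.IsMaximal.isPrime' _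
  haveI := hC.1
  haveI := LocCoh.IsCohenMacaulayRing.isCohenMacaulayLocalRing_localization (R := R) m.toIdeal
  let A := Localization.AtPrime m.toIdeal
  let S := m.toIdeal.primeCompl
  obtain ⟨J, hJ⟩ := exists_minimal_res (𝒜 := 𝒜) 𝒜
  rw [bassNum_eq_length_killed_H hJ fun i hi =>
    subsingleton_H_of_cm Γ.starLocal (Γ.ringKrullDim_localized hn) J hi.ne]
  obtain ⟨eH⟩ := nonempty_localized_H m.toIdeal J rfl n
  obtain ⟨g, hg⟩ := exists_isInjectiveHull_localized he
  obtain ⟨eK⟩ := nonempty_canonical_localized he hC hg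
  obtain ⟨ρ⟩ := nonempty_localized_residue m.toIdeal
  let K := LocalizedModule S M
  obtain ⟨d⟩ := InjHullLib.nonempty_dual_quotient (E := LocalizedModule S E) (IsLocalRing.maximalIdeal A) K
  let T : LocalizedModule S (killed m.toIdeal (J.H m n)) ≃ₗ[A]
      ((K ⧸ (IsLocalRing.maximalIdeal A • ⊤ : Submodule A K)) →ₗ[A] LocalizedModule S E) :=
    (((killedLocEquiv S m.toIdeal (J.H m n)).trans
      (LinearEquiv.arrowCongr ρ (eH.trans eK.symm))).trans
      (InjHullLib.homQuotientEquiv (IsLocalRing.maximalIdeal A) _)).trans d.symm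
  have hfl : IsFiniteLength A (K ⧸ (IsLocalRing.maximalIdeal A • ⊤ : Submodule A K)) := by
    have h := InjHullLib.isFiniteLength_quotient_smul_top (R := A) 1 K
    rwa [pow_one] at h
  rw [T.length_eq, InjHullLib.length_dual hg hfl]
  let V := M ⧸ (m.toIdeal • ⊤ : Submodule R M)
  have hV : ∀ r ∈ m.toIdeal, ∀ v : V, r • v = 0 := fun r hr v => by
    obtain ⟨x, rfl⟩ := Submodule.Quotient.mk_surjective _ v
    rw [← Submodule.Quotient.mk_smul, Submodule.Quotient.mk_eq_zero]
    exact Submodule.smul_mem_smul hr Submodule.mem_top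
  let q := LocalizedModule.map S (m.toIdeal • ⊤ : Submodule R M).mkQ
  have hqs : Function.Surjective q := LocalizedModule.map_surjective _ _ (Submodule.mkQ_surjective _)
  have hqk : LinearMap.ker q = IsLocalRing.maximalIdeal A • (⊤ : Submodule A K) := by
    refine le_antisymm (fun z hz => ?_) (Submodule.smul_le.2 fun r hr z _ => ?_)
    · induction z using LocalizedModule.induction_on with
      | h x s =>
        rw [LinearMap.mem_ker, LocalizedModule.map_mk, ← LocalizedModule.zero_mk s, LocalizedModule.mk_eq] at hz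
        obtain ⟨t, ht⟩ := hz
        simp only [smul_zero, Submonoid.smul_def, Submodule.mkQ_apply, ← Submodule.Quotient.mk_smul,
          Submodule.Quotient.mk_eq_zero] at ht
        rw [show LocalizedModule.mk x s = (Localization.mk 1 (t * s * s) : A) •
          LocalizedModule.mk ((t : R) • (s : R) • x) (1 : S) by
          rw [LocalizedModule.mk_smul_mk, one_smul, mul_one, LocalizedModule.mk_eq]
          exact ⟨1, by simp only [Submonoid.smul_def, one_smul, Submonoid.coe_mul, mul_smul]; rw [smul_comm (t : R) (s : R)]⟩]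
        refine Submodule.smul_mem _ _ ?_
        refine Submodule.smul_induction_on ht (fun r hr y _ => ?_) fun a b ha hb => ?_
        · rw [← LocalizedModule.smul'_mk, ← algebraMap_smul A r]
          exact Submodule.smul_mem_smul
            ((IsLocalization.AtPrime.to_map_mem_maximal_iff A m.toIdeal r).2 hr) Submodule.mem_top
        · rw [← LocalizedModule.mkLinearMap_apply, map_add]
          exact add_mem ha hb
    · rw [← Localization.AtPrime.map_eq_maximalIdeal] at hr
      refine Submodule.span_induction (p := fun c _ => c • z ∈ LinearMap.ker q) ?_ (by simp)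
        (fun a b _ _ ha hb => by rw [add_smul]; exact add_mem ha hb)
        (fun a b _ hb => by rw [smul_eq_mul, mul_smul]; exact Submodule.smul_mem _ _ hb) hr
      rintro _ ⟨c, hc, rfl⟩
      rw [LinearMap.mem_ker, map_smul, algebraMap_smul]
      induction q z using LocalizedModule.induction_on with
      | h v s => rw [LocalizedModule.smul'_mk, hV c hc, LocalizedModule.zero_mk]
  rw [(((Submodule.quotEquivOfEq _ _ hqk.symm).trans (LinearMap.quotKerEquivOfSurjective q hqs))).length_eq,
    length_localized_of_killed hV]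
  congr 1
  let _ := Ideal.Quotient.field m.toIdeal
  refine LinearEquiv.finrank_eq ?_
  refine LinearEquiv.ofBijective ((Submodule.mkQ (m.toIdeal • ⊤ : Submodule R M)).baseChange (R ⧸ m.toIdeal)) ?_ |>.symm
  refine ⟨?_, LinearMap.lTensor_surjective _ (Submodule.mkQ_surjective _)⟩
  rw [injective_iff_map_eq_zero]
  intro x hx
  apply (TensorProduct.quotTensorEquivQuotSMul M m.toIdeal).injective
  obtain ⟨y, hy⟩ : ∃ y : M, x = (1 : R ⧸ m.toIdeal) ⊗ₜ[R] y := by
    clear hx
    induction x using TensorProduct.induction_on with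
    | zero => exact ⟨0, (TensorProduct.tmul_zero _ _).symm⟩
    | tmul a b =>
      obtain ⟨r, rfl⟩ := Ideal.Quotient.mk_surjective a
      exact ⟨r • b, by rw [TensorProduct.tmul_smul, TensorProduct.smul_tmul', Algebra.smul_def, mul_one]; rfl⟩
    | add a b ha hb =>
      obtain ⟨u, rfl⟩ := ha
      obtain ⟨v, rfl⟩ := hb
      exact ⟨u + v, (TensorProduct.tmul_add _ _ _).symm⟩
  subst hy
  rw [LinearMap.baseChange_tmul] at hx
  have h2 := congrArg (TensorProduct.quotTensorEquivQuotSMul V m.toIdeal) hx
  simp only [map_zero] at h2 ⊢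
  rw [show (1 : R ⧸ m.toIdeal) = Ideal.Quotient.mk m.toIdeal 1 from (map_one _).symm,
    TensorProduct.quotTensorEquivQuotSMul_mk_tmul, one_smul, Submodule.Quotient.mk_eq_zero]
  rw [show (1 : R ⧸ m.toIdeal) = Ideal.Quotient.mk m.toIdeal 1 from (map_one _).symm,
    TensorProduct.quotTensorEquivQuotSMul_mk_tmul, one_smul, Submodule.Quotient.mk_eq_zero] at h2
  have h3 : (Submodule.mkQ (m.toIdeal • ⊤ : Submodule R M)) y = 0 := by
    have hbot : (m.toIdeal • ⊤ : Submodule R V) = ⊥ := (Submodule.eq_bot_iff _).2 fun v hv =>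
      Submodule.smul_induction_on hv (fun r hr x _ => hV r hr x) fun a b ha hb => by rw [ha, hb, add_zero]
    exact (Submodule.mem_bot R).1 (hbot ▸ h2)
  exact (Submodule.Quotient.mk_eq_zero _).1 h3

end Groth.Agent.GrLC21
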