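import Groth.Agent.Lib.GrLC21.Compare
import Groth.Agent.Lib.GrLC21.Map

/-!
# Coarsening of the grading
-/

universe u

open DirectSum

noncomputable section

set_option linter.unusedSectionVars false

namespace Groth.Agent.GrLC21

variable {ι κ : Type} [AddCommGroup ι] [DecidableEq ι] [AddCommGroup κ] [DecidableEq κ] (φ : ι →+ κ)
variable {R : Type u} [CommRing R]

section Family

variable {M : Type u} [AddCommGroup M] {τ : Type u} [SetLike τ M] [AddSubgroupClass τ M] (ℳ : ι → τ)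

/-- The coarsened family. -/
def coarseGr : κ → AddSubgroup M := fun h => ⨆ g ∈ φ ⁻¹' {h}, AddSubgroup.ofClass (ℳ g)

theorem mem_coarseGr_of_mem {g : ι} {x : M} (hx : x ∈ ℳ g) : x ∈ coarseGr φ ℳ (φ g) :=
  AddSubgroup.mem_iSup_of_mem g (AddSubgroup.mem_iSup_of_mem rfl hx)

theorem coarseGr_induction {h : κ} {x : M} (hx : x ∈ coarseGr φ ℳ h) {P : M → Prop} (h0 : P 0)
    (hadd : ∀ a b, P a → P b → P (a + b)) (hh : ∀ g, φ g = h → ∀ a ∈ ℳ g, P a) : P x := by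
  refine AddSubgroup.iSup_induction (C := P) _ hx (fun g y hy => ?_) h0 hadd
  by_cases hg : φ g = h
  · rw [iSup_pos (show g ∈ φ ⁻¹' {h} from hg)] at hy
    exact hh g hg y hy
  · rw [iSup_neg (show ¬ g ∈ φ ⁻¹' {h} from hg), AddSubgroup.mem_bot] at hy
    exact hy ▸ h0

variable [Decomposition ℳ]

/-- The coarse projection. -/
def coarseProj (h : κ) : M →+ M :=
  (DirectSum.toAddMonoid fun g => if φ g = h then AddSubmonoidClass.subtype (ℳ g) else 0).comp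
    (decomposeAddEquiv ℳ).toAddMonoidHom

theorem coarseProj_of_mem {h : κ} {g : ι} {x : M} (hx : x ∈ ℳ g) :
    coarseProj φ ℳ h x = if φ g = h then x else 0 := by
  show (DirectSum.toAddMonoid fun g => if φ g = h then AddSubmonoidClass.subtype (ℳ g) else 0)
    (decompose ℳ x) = _
  rw [decompose_of_mem ℳ hx, DirectSum.toAddMonoid_of]
  by_cases e : φ g = h
  · rw [if_pos e, if_pos e]; rfl
  · rw [if_neg e, if_neg e]; rfl

theorem isInternal_coarse : IsInternal (coarseGr φ ℳ) :=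
  isInternal_of_proj _ (coarseProj φ ℳ)
    (fun h x hx => coarseGr_induction φ ℳ (P := fun x => coarseProj φ ℳ h x = x) hx (map_zero _) (fun a b ha hb => by rw [map_add, ha, hb])
      fun g hg a ha => by rw [coarseProj_of_mem φ ℳ ha, if_pos hg])
    (fun g h e x hx => coarseGr_induction φ ℳ (P := fun x => coarseProj φ ℳ g x = 0) hx (map_zero _)
      (fun a b ha hb => by rw [map_add, ha, hb, add_zero])
      fun d hd a ha => by rw [coarseProj_of_mem φ ℳ ha, if_neg (hd ▸ e.symm)])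
    fun x => by
      refine spans_induction (spans_of_decomposition ℳ) x (zero_mem _) (fun _ _ => add_mem) fun g a ha => ?_
      exact AddSubgroup.mem_iSup_of_mem (φ g) (mem_coarseGr_of_mem φ ℳ ha)

end Family

variable {σ σ' : Type u} [SetLike σ R] [AddSubgroupClass σ R] [SetLike σ' R] [AddSubgroupClass σ' R]
  {𝒜 : ι → σ} [GradedRing 𝒜] {𝒜' : κ → σ'} [GradedRing 𝒜']

/-- A graded module with coarsened grading. -/
def coarse (h𝒜 : ∀ h (r : R), r ∈ 𝒜' h → r ∈ coarseGr φ 𝒜 h) (X : GrLC.GMod.{u} 𝒜) : GrLC.GMod.{u} 𝒜' :=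
  mkGMod X.carrier (coarseGr φ X.gr) (isInternal_coarse φ X.gr) fun h k r x hr hx => by
    refine coarseGr_induction φ 𝒜 (P := fun r => r • x ∈ coarseGr φ X.gr (h + k)) (h𝒜 h r hr)
      (by rw [zero_smul]; exact zero_mem _) (fun a b ha hb => by rw [add_smul]; exact add_mem ha hb)
      fun g hg a ha => ?_
    refine coarseGr_induction φ X.gr (P := fun x => a • x ∈ coarseGr φ X.gr (h + k)) hx
      (by rw [smul_zero]; exact zero_mem _) (fun b c hb hc => by rw [smul_add]; exact add_mem hb hc)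
      fun d hd b hb => ?_
    rw [← hg, ← hd, ← map_add]
    exact mem_coarseGr_of_mem φ X.gr (smul_mem 𝒜 X.gr ha hb)

theorem coarse_grHom {M N : Type u} [AddCommGroup M] [Module R M] [AddCommGroup N] [Module R N]
    {τ τ' : Type u} [SetLike τ M] [AddSubgroupClass τ M] [SetLike τ' N] [AddSubgroupClass τ' N]
    {ℳ : ι → τ} {𝒩 : ι → τ'} {f : M →ₗ[R] N} (hf : GrLC.IsGrHom ℳ 𝒩 f) :
    GrLC.IsGrHom (coarseGr φ ℳ) (coarseGr φ 𝒩) f := fun _ x hx => by
  refine coarseGr_induction φ ℳ (P := fun x => f x ∈ coarseGr φ 𝒩 _) hx (by rw [map_zero]; exact zero_mem _)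
    (fun a b ha hb => by rw [map_add]; exact add_mem ha hb) fun g hg a ha => ?_
  exact hg ▸ mem_coarseGr_of_mem φ 𝒩 (hf g a ha)

variable {M : Type u} [AddCommGroup M] [Module R M] {τ τ' : Type u} [SetLike τ M] [AddSubgroupClass τ M]
  [SetLike τ' M] [AddSubgroupClass τ' M]
  {ℳ : ι → τ} [Decomposition ℳ] [SetLike.GradedSMul 𝒜 ℳ]
  {ℳ' : κ → τ'} [Decomposition ℳ'] [SetLike.GradedSMul 𝒜' ℳ']
  (E : GrLC.StarInjRes 𝒜 ℳ) (E' : GrLC.StarInjRes 𝒜' ℳ')

/-- A partial lift into the resolution for the coarser grading. -/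
abbrev CoarseStep (n : ℕ) : Type u :=
  {f : (E.X n).carrier →ₗ[R] (E'.X n).carrier //
    GrLC.IsGrHom (coarseGr φ (E.X n).gr) (E'.X n).gr f ∧ LinearMap.ker (E.d n) ≤ LinearMap.ker (E'.d n ∘ₗ f)}

theorem exists_coarse_lift (h𝒜 : ∀ h (r : R), r ∈ 𝒜' h → r ∈ coarseGr φ 𝒜 h)
    (hℳ : ∀ h (m : M), m ∈ ℳ' h → m ∈ coarseGr φ ℳ h) :
    ∃ F : PlainMap E E', ∀ n, GrLC.IsGrHom (coarseGr φ (E.X n).gr) (E'.X n).gr (F.f n) := by
  have hε : GrLC.IsGrHom (toGMod 𝒜' ℳ').gr (coarse φ h𝒜 (E.X 0)).gr E.ε := fun h m hm =>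
    coarse_grHom φ E.ε_grHom h m (hℳ h m hm)
  obtain ⟨w, hw, e⟩ := exists_extend (E'.starInj 0) (X := toGMod 𝒜' ℳ') (Y := coarse φ h𝒜 (E.X 0))
    (d := E.ε) hε (u := E'.ε) E'.ε_grHom (fun x hx => by
      have h0 : x = 0 := E.ε_injective (hx.trans E.ε.map_zero.symm)
      rw [h0]
      exact Submodule.zero_mem _)
  let w' : (E.X 0).carrier →ₗ[R] (E'.X 0).carrier := w
  have e' : ∀ m, w' (E.ε m) = E'.ε m := fun m => LinearMap.congr_fun e m
  let s₀ : CoarseStep φ E E' 0 := ⟨w', hw, fun x hx => by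
    rw [E.exact_zero] at hx
    obtain ⟨m, rfl⟩ := hx
    rw [LinearMap.mem_ker, LinearMap.comp_apply, e' m]
    exact LinearMap.mem_ker.1 (E'.exact_zero ▸ LinearMap.mem_range_self E'.ε m)⟩
  have next : ∀ {n} (s : CoarseStep φ E E' n),
      ∃ t : CoarseStep φ E E' (n + 1), ∀ x, E'.d n (s.1 x) = t.1 (E.d n x) := fun {n} s => by
    obtain ⟨w, hw, e⟩ := exists_extend (E'.starInj (n + 1)) (X := coarse φ h𝒜 (E.X n))
      (Y := coarse φ h𝒜 (E.X (n + 1))) (d := E.d n) (coarse_grHom φ (E.d_grHom n))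
      (u := E'.d n ∘ₗ s.1) (isGrHom_comp (E'.d_grHom n) s.2.1) s.2.2
    refine ⟨⟨w, hw, fun x hx => ?_⟩, fun x => (LinearMap.congr_fun e x).symm⟩
    rw [E.exact_succ n] at hx
    obtain ⟨y, rfl⟩ := hx
    change E'.d (n + 1) (w (E.d n y)) = 0
    exact (congrArg (E'.d (n + 1)) (LinearMap.congr_fun e y)).trans (d_d E' n _)
  let s : ∀ n, CoarseStep φ E E' n := fun n => Nat.rec s₀ (fun _ t => (next t).choose) n
  exact ⟨⟨fun n => (s n).1, fun n x => (next (s n)).choose_spec x, e'⟩, fun n => (s n).2.1⟩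

theorem exists_coarse_equiv [IsNoetherianRing R] (h𝒜 : ∀ h (r : R), r ∈ 𝒜' h → r ∈ coarseGr φ 𝒜 h)
    (hℳ : ∀ h (m : M), m ∈ ℳ' h → m ∈ coarseGr φ ℳ h) (a : HomogeneousIdeal 𝒜)
    (a' : HomogeneousIdeal 𝒜') (ha : a'.toIdeal = a.toIdeal) (i : ℕ) :
    ∃ ψ : E.H a i ≃ₗ[R] E'.H a' i,
      GrLC.IsGrHom (coarseGr φ (E.Hgr a i)) (E'.Hgr a' i) ψ.toLinearMap := by
  obtain ⟨F, hF⟩ := exists_coarse_lift φ E E' h𝒜 hℳ
  refine ⟨LinearEquiv.ofBijective _ (F.onH_bijective a a' ha i), fun h x hx => ?_⟩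
  refine coarseGr_induction φ (E.Hgr a i) (P := fun x => F.onH a a' ha i x ∈ E'.Hgr a' i h) hx (by rw [map_zero]; exact zero_mem _)
    (fun p q hp hq => by rw [map_add]; exact add_mem hp hq) fun g hg y hy => ?_
  obtain ⟨z, hz, rfl⟩ := hy
  exact ⟨F.onCocyc a a' ha i z, hF i h _ (hg ▸ mem_coarseGr_of_mem φ _ hz), rfl⟩

end Groth.Agent.GrLC21
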