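import Groth.Agent.Lib.GrLC21.Basic
import Mathlib.Algebra.Module.CharacterModule

/-!
# Cofree *injective graded modules
-/

universe u

open DirectSum

noncomputable section

set_option linter.unusedSectionVars false

namespace Groth.Agent.GrLC21

variable {ι : Type} [AddCommGroup ι] [DecidableEq ι]
variable {R : Type u} [CommRing R] {σ : Type u} [SetLike σ R] [AddSubgroupClass σ R]
  (𝒜 : ι → σ) [GradedRing 𝒜] {J : Type u} (d : J → ι)

/-- Families of functionals homogeneous of degree `h`. -/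
def cofPiece (h : ι) : AddSubgroup (J → CharacterModule R) where
  carrier := {φ | ∀ j g, g + h ≠ d j → ∀ x ∈ 𝒜 g, φ j x = 0}
  zero_mem' := fun _ _ _ _ _ => rfl
  add_mem' := fun {a b} ha hb j g e x hx => by
    show a j x + b j x = 0
    rw [ha j g e x hx, hb j g e x hx, add_zero]
  neg_mem' := fun {a} ha j g e x hx => by
    show -(a j x) = 0
    rw [ha j g e x hx, neg_zero]

theorem smul_mem_cofPiece {a h : ι} {r : R} {φ : J → CharacterModule R} (hr : r ∈ 𝒜 a)
    (hφ : φ ∈ cofPiece 𝒜 d h) : r • φ ∈ cofPiece 𝒜 d (a + h) := fun j g e x hx => by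
  show φ j (r • x) = 0
  exact hφ j (a + g) (by rwa [add_comm a g, add_assoc]) _ (SetLike.mul_mem_graded hr hx)

/-- The elements which are finite sums of homogeneous families. -/
def cofSub : Submodule R (J → CharacterModule R) where
  carrier := (⨆ h, cofPiece 𝒜 d h : AddSubgroup (J → CharacterModule R))
  zero_mem' := zero_mem _
  add_mem' := add_mem
  smul_mem' r φ hφ := by
    refine spans_induction (P := fun r => r • φ ∈ ⨆ h, cofPiece 𝒜 d h) (spans_of_decomposition 𝒜) r
      (by rw [zero_smul]; exact zero_mem _) (fun a b ha hb => by rw [add_smul]; exact add_mem ha hb)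
      fun a s hs => ?_
    refine AddSubgroup.iSup_induction (C := fun φ => s • φ ∈ ⨆ h, cofPiece 𝒜 d h) _ hφ
      (fun h ψ hψ => AddSubgroup.mem_iSup_of_mem (a + h) (smul_mem_cofPiece 𝒜 d hs hψ))
      (by rw [smul_zero]; exact zero_mem _) fun x y hx hy => by rw [smul_add]; exact add_mem hx hy

theorem cofPiece_le (h : ι) : ∀ φ ∈ cofPiece 𝒜 d h, φ ∈ cofSub 𝒜 d :=
  fun _ hφ => AddSubgroup.mem_iSup_of_mem h hφ

/-- The projection on families. -/
def cofProj (h : ι) : (J → CharacterModule R) →+ (J → CharacterModule R) where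
  toFun φ j := AddMonoidHom.comp (φ j) (proj 𝒜 (d j - h))
  map_zero' := by funext j; ext x; rfl
  map_add' φ ψ := by funext j; ext x; rfl

theorem cofProj_mem (h : ι) (φ : J → CharacterModule R) : cofProj 𝒜 d h φ ∈ cofPiece 𝒜 d h :=
  fun j g e x hx => by
    show φ j (proj 𝒜 (d j - h) x) = 0
    rw [proj_of_mem_ne 𝒜 hx fun e' => e (by rw [e', sub_add_cancel]), map_zero]

theorem cofProj_of_mem {h : ι} {φ : J → CharacterModule R} (hφ : φ ∈ cofPiece 𝒜 d h) :
    cofProj 𝒜 d h φ = φ := by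
  funext j
  ext x
  show φ j (proj 𝒜 (d j - h) x) = φ j x
  refine spans_induction (spans_of_decomposition 𝒜) x (by simp)
    (fun a b ha hb => by simp only [map_add, ha, hb]) fun g a ha => ?_
  rcases eq_or_ne g (d j - h) with rfl | e
  · rw [proj_of_mem 𝒜 ha]
  · rw [proj_of_mem_ne 𝒜 ha e, map_zero, hφ j g (fun e' => e (eq_sub_of_add_eq e')) a ha]

theorem cofProj_of_mem_ne {h h' : ι} {φ : J → CharacterModule R} (hφ : φ ∈ cofPiece 𝒜 d h') (e : h ≠ h') :
    cofProj 𝒜 d h φ = 0 := by
  funext j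
  ext x
  show φ j (proj 𝒜 (d j - h) x) = 0
  refine hφ j (d j - h) (fun e' => e ?_) _ (proj_mem 𝒜 _ x)
  rw [sub_add_eq_add_sub, sub_eq_iff_eq_add] at e'
  exact (add_left_cancel e').symm

/-- The cofree graded module on a family of degrees. -/
def cofree : GrLC.GMod.{u} 𝒜 :=
  mkGMod (cofSub 𝒜 d) (fun h => (cofPiece 𝒜 d h).comap (cofSub 𝒜 d).subtype.toAddMonoidHom)
    (isInternal_of_proj _
      (fun h => ((cofProj 𝒜 d h).comp (cofSub 𝒜 d).subtype.toAddMonoidHom).codRestrict (cofSub 𝒜 d)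
        fun x => cofPiece_le 𝒜 d h _ (cofProj_mem 𝒜 d h _))
      (fun g x hx => Subtype.ext (cofProj_of_mem 𝒜 d hx))
      (fun g h e x hx => Subtype.ext (cofProj_of_mem_ne 𝒜 d hx e))
      (fun x => by
        obtain ⟨x, hx⟩ := x
        refine AddSubgroup.iSup_induction' (C := fun y hy =>
          (⟨y, hy⟩ : cofSub 𝒜 d) ∈ ⨆ g, AddSubgroup.ofClass
            ((cofPiece 𝒜 d g).comap (cofSub 𝒜 d).subtype.toAddMonoidHom)) _
          (fun h y hy => AddSubgroup.mem_iSup_of_mem h hy) (zero_mem _)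
          (fun y z hy hz py pz => add_mem py pz) hx))
    fun a h r x hr hx => smul_mem_cofPiece 𝒜 d hr hx

/-- The functional of degree `d j`. -/
def cofEval (j : J) : (cofree 𝒜 d).carrier →+ AddCircle (1 : ℚ) where
  toFun φ := φ.1 j 1
  map_zero' := rfl
  map_add' _ _ := rfl

/-- The homogeneous map given by functionals. -/
def cofLift (A : GrLC.GMod.{u} 𝒜) (χ : J → CharacterModule A.carrier)
    (hχ : ∀ j g, g ≠ d j → ∀ a ∈ A.gr g, χ j a = 0) : A.carrier →ₗ[R] (cofree 𝒜 d).carrier :=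
  LinearMap.codRestrict (cofSub 𝒜 d)
    { toFun := fun a j => AddMonoidHom.comp (χ j) (LinearMap.toSpanSingleton R A.carrier a).toAddMonoidHom
      map_add' := fun a b => by
        funext j; ext x
        show χ j (x • (a + b)) = χ j (x • a) + χ j (x • b)
        rw [smul_add, map_add]
      map_smul' := fun r a => by
        funext j; ext x
        show χ j (x • r • a) = χ j ((r • x) • a)
        rw [smul_eq_mul, mul_comm, mul_smul] }
    fun a => by
      refine spans_induction (P := fun a => (fun j => AddMonoidHom.comp (χ j)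
          (LinearMap.toSpanSingleton R A.carrier a).toAddMonoidHom : J → CharacterModule R) ∈ cofSub 𝒜 d)
        (spans_of_decomposition A.gr) a ?_ (fun a b ha hb => ?_) fun g a ha => ?_
      · refine Eq.subst (motive := (· ∈ cofSub 𝒜 d)) ?_ (cofSub 𝒜 d).zero_mem
        funext j; ext x
        show 0 = χ j (x • 0)
        rw [smul_zero, map_zero]
      · refine Eq.subst (motive := (· ∈ cofSub 𝒜 d)) ?_ ((cofSub 𝒜 d).add_mem ha hb)
        funext j; ext x
        show χ j (x • a) + χ j (x • b) = χ j (x • (a + b))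
        rw [smul_add, map_add]
      · exact cofPiece_le 𝒜 d g _ fun j b e x hx =>
          hχ j (b + g) e _ (smul_mem 𝒜 A.gr hx ha)

theorem cofLift_apply (A : GrLC.GMod.{u} 𝒜) (χ : J → CharacterModule A.carrier) (hχ) (a : A.carrier)
    (j : J) (x : R) : (cofLift 𝒜 d A χ hχ a).1 j x = χ j (x • a) := rfl

theorem cofLift_grHom (A : GrLC.GMod.{u} 𝒜) (χ : J → CharacterModule A.carrier) (hχ) :
    GrLC.IsGrHom A.gr (cofree 𝒜 d).gr (cofLift 𝒜 d A χ hχ) := fun g a ha j b e x hx =>
  hχ j (b + g) e _ (smul_mem 𝒜 A.gr hx ha)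

theorem cofree_starInj : GrLC.IsStarInj 𝒜 (cofree 𝒜 d).gr := by
  intro A B f hf hfi g hg
  let χ : J → CharacterModule A.carrier := fun j => AddMonoidHom.comp (cofEval 𝒜 d j) g.toAddMonoidHom
  have hχ : ∀ j h, h ≠ d j → ∀ a ∈ A.gr h, χ j a = 0 := fun j h e a ha =>
    hg h a ha j 0 (by rwa [zero_add]) 1 SetLike.GradedOne.one_mem
  choose ψ hψ using fun j => CharacterModule.dual_surjective_of_injective f hfi (χ j)
  let χ' : J → CharacterModule B.carrier := fun j => AddMonoidHom.comp (ψ j) (proj B.gr (d j))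
  have hχ' : ∀ j h, h ≠ d j → ∀ b ∈ B.gr h, χ' j b = 0 := fun j h e b hb => by
    show ψ j (proj B.gr (d j) b) = 0
    rw [proj_of_mem_ne B.gr hb e, map_zero]
  have hkey : ∀ j a, χ' j (f a) = χ j a := by
    intro j a
    show ψ j (proj B.gr (d j) (f a)) = χ j a
    refine spans_induction (spans_of_decomposition A.gr) a (by simp)
      (fun a b ha hb => by simp only [map_add, ha, hb]) fun h a ha => ?_
    rcases eq_or_ne h (d j) with rfl | e
    · rw [proj_of_mem B.gr (hf _ a ha)]
      exact congrArg (fun c : CharacterModule A.carrier => c a) (hψ j)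
    · rw [proj_of_mem_ne B.gr (hf _ a ha) e, map_zero, hχ j h e a ha]
  refine ⟨cofLift 𝒜 d B χ' hχ', cofLift_grHom 𝒜 d B χ' hχ', ?_⟩
  refine LinearMap.ext fun a => Subtype.ext (funext fun j => ?_)
  ext x
  rw [LinearMap.comp_apply, cofLift_apply, ← map_smul, hkey]
  show (g (x • a)).1 j 1 = (g a).1 j x
  rw [map_smul]
  show (g a).1 j (x • 1) = (g a).1 j x
  rw [smul_eq_mul, mul_one]

variable {𝒜}

/-- Every graded module embeds into a *injective one. -/
theorem exists_embedding (X : GrLC.GMod.{u} 𝒜) :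
    ∃ (C : GrLC.GMod.{u} 𝒜) (f : X.carrier →ₗ[R] C.carrier),
      GrLC.IsStarInj 𝒜 C.gr ∧ GrLC.IsGrHom X.gr C.gr f ∧ Function.Injective f := by
  let dd : ι × CharacterModule X.carrier → ι := Prod.fst
  let χ : ι × CharacterModule X.carrier → CharacterModule X.carrier := fun p =>
    AddMonoidHom.comp p.2 (proj X.gr p.1)
  have hχ : ∀ j g, g ≠ dd j → ∀ a ∈ X.gr g, χ j a = 0 := fun j g e a ha => by
    show j.2 (proj X.gr j.1 a) = 0
    rw [proj_of_mem_ne X.gr ha e, map_zero]
  refine ⟨cofree 𝒜 dd, cofLift 𝒜 dd X χ hχ, cofree_starInj 𝒜 dd, cofLift_grHom 𝒜 dd X χ hχ, ?_⟩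
  rw [injective_iff_map_eq_zero]
  intro a ha
  refine eq_zero_of_proj X.gr fun g => CharacterModule.eq_zero_of_character_apply fun c => ?_
  have h := congrArg (fun φ : (cofree 𝒜 dd).carrier => φ.1 (g, c) 1) ha
  have h' := cofLift_apply 𝒜 dd X χ hχ a (g, c) 1
  rw [one_smul] at h'
  exact (h'.symm.trans h).trans rfl

end Groth.Agent.GrLC21
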