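import Groth.Agent.Lib.GrLC21.CoreHeight
import Groth.Agent.Lib.Depth.CM

/-!
# Dimension of the localisations of a graded module
-/

universe u

open DirectSum Order

noncomputable section

set_option linter.unusedSectionVars false
set_option backward.isDefEq.respectTransparency false

namespace Groth.Agent.GrLC21

theorem supportDim_localizedModule_eq_primesBetween {R : Type u} [CommRing R] [IsNoetherianRing R] {M : Type u}
    [AddCommGroup M] [Module R M] [Module.Finite R M] (p : Ideal R) [hp : p.IsPrime] :
    Module.supportDim (Localization.AtPrime p) (LocalizedModule p.primeCompl M) =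
      krullDim (primesBetween (Module.annihilator R M) p) := by
  let e := IsLocalization.AtPrime.primeSpectrumOrderIso (Localization.AtPrime p) p
  have he : ∀ Q, (e Q : PrimeSpectrum R) = PrimeSpectrum.comap (algebraMap R (Localization.AtPrime p)) Q :=
    fun Q => rfl
  have hmem : ∀ Q : PrimeSpectrum (Localization.AtPrime p),
      Q ∈ Module.support (Localization.AtPrime p) (LocalizedModule p.primeCompl M) ↔
        (e Q : PrimeSpectrum R) ∈ Module.support R M := by
    intro Q
    rw [he]
    refine ⟨fun h => DepthLib.mem_support_comap (R := R) (M := M) p h, fun hq => ?_⟩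
    obtain ⟨m, hm⟩ := Module.mem_support_iff_exists_annihilator.1 hq
    refine Module.mem_support_iff_exists_annihilator.2 ⟨LocalizedModule.mk m 1, fun z hz => ?_⟩
    obtain ⟨⟨r, s⟩, hzs⟩ := IsLocalization.surj p.primeCompl z
    have hz' : (algebraMap R (Localization.AtPrime p) r) • (LocalizedModule.mk m 1 : LocalizedModule p.primeCompl M) = 0 := by
      rw [← hzs, mul_comm, mul_smul, (Submodule.mem_annihilator_span_singleton _ _).1 hz, smul_zero]
    rw [algebraMap_smul, LocalizedModule.smul'_mk, ← LocalizedModule.zero_mk 1, LocalizedModule.mk_eq] at hz'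
    obtain ⟨t, ht⟩ := hz'
    simp only [one_smul, smul_zero, Submonoid.smul_def, smul_smul] at ht
    have hr : (t : R) * r ∈ Q.asIdeal.comap (algebraMap R (Localization.AtPrime p)) :=
      hm ((Submodule.mem_annihilator_span_singleton _ _).2 ht)
    have hr' : algebraMap R (Localization.AtPrime p) r ∈ Q.asIdeal := by
      rw [Ideal.mem_comap, map_mul] at hr
      exact (Ideal.IsPrime.mem_or_mem Q.isPrime hr).resolve_left fun h =>
        Q.isPrime.ne_top (Ideal.eq_top_of_isUnit_mem _ h (IsLocalization.map_units _ t))
    rw [← hzs] at hr'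
    exact (Ideal.IsPrime.mem_or_mem Q.isPrime hr').resolve_right fun h =>
      Q.isPrime.ne_top (Ideal.eq_top_of_isUnit_mem _ h (IsLocalization.map_units _ s))
  have hsupp : ∀ q : PrimeSpectrum R, q ∈ Module.support R M ↔ Module.annihilator R M ≤ q.asIdeal := fun q => by
    rw [Module.support_eq_zeroLocus]
    exact Iff.rfl
  apply le_antisymm
  · refine Order.krullDim_le_of_strictMono
      (fun Q => ⟨(e Q.1).1, (hsupp _).1 ((hmem Q.1).1 Q.2), (e Q.1).2⟩) fun a b hab => ?_
    exact e.strictMono hab
  · refine Order.krullDim_le_of_strictMono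
      (fun q => (⟨e.symm ⟨q.1, q.2.2⟩, (hmem _).2 (by rw [OrderIso.apply_symm_apply]; exact (hsupp _).2 q.2.1)⟩ :
        Module.support (Localization.AtPrime p) (LocalizedModule p.primeCompl M))) fun a b hab => ?_
    exact e.symm.strictMono hab

theorem isHomogeneous_module_annihilator {ι : Type} [AddCommGroup ι] [DecidableEq ι]
    {R : Type u} [CommRing R] {σ : Type u} [SetLike σ R] [AddSubgroupClass σ R]
    {𝒜 : ι → σ} [GradedRing 𝒜] {M : Type u} [AddCommGroup M] [Module R M] {τ : Type u} [SetLike τ M]
    [AddSubgroupClass τ M] (ℳ : ι → τ) [Decomposition ℳ] [SetLike.GradedSMul 𝒜 ℳ] : (Module.annihilator R M).IsHomogeneous 𝒜 := by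
  intro a r hr
  rw [Module.mem_annihilator] at hr ⊢
  intro x
  change proj 𝒜 a r • x = 0
  refine spans_induction (spans_of_decomposition ℳ) x (smul_zero _)
    (fun y z hy hz => by rw [smul_add, hy, hz, add_zero]) fun g m hm => ?_
  rw [proj_smul_homogeneous hm, hr, map_zero]

end Groth.Agent.GrLC21
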