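import Groth.Agent.Lib.GrLC21.PolyLC
import Groth.Agent.Lib.GrSyz.Reg
import Groth.Agent.Lib.GrSyz.PD
import Groth.Agent.Lib.GrSyz.Exist

/-!
# Regularity through free resolutions and through graded local cohomology
-/

universe u

open DirectSum MvPolynomial GrSyz

noncomputable section

set_option linter.unusedSectionVars false
set_option backward.isDefEq.respectTransparency false

namespace Groth.Agent.GrLC21

variable {k : Type u} [Field k] {d : ℕ}
variable {M : Type u} [AddCommGroup M] [Module k M] [Module (MvPolynomial (Fin d) k) M]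
  [IsScalarTower k (MvPolynomial (Fin d) k) M]
  {ℳ : ℤ → Submodule k M} [Decomposition ℳ] [SetLike.GradedSMul (stdGr k (Fin d)) ℳ]

local notation "𝒮" => stdGr k (Fin d)
local notation "𝔞" => irrel (stdGr k (Fin d))

variable (F : FreeRes (stdGr k (Fin d)) ℳ)

/-- A term of the resolution. -/
def resTerm (j : ℕ) : GrLC.GMod.{u} 𝒮 := freeMod 𝒮 (F.deg j)

/-- A differential, between the graded terms. -/
def dMap (j : ℕ) : (resTerm F (j + 1)).carrier →ₗ[MvPolynomial (Fin d) k] (resTerm F j).carrier := F.dLin j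

theorem dLin_grHom (j : ℕ) : GrLC.IsGrHom (resTerm F (j + 1)).gr (resTerm F j).gr (dMap F j) := by
  intro g (v : Fin (F.rk (j + 1)) → MvPolynomial (Fin d) k) hv a
  show (∑ b, F.d j a b * v b) ∈ stdGr k (Fin d) (g - F.deg j a)
  refine Submodule.sum_mem _ fun b _ => ?_
  have h := SetLike.mul_mem_graded (F.d_mem j a b) (hv b)
  rwa [show F.deg (j + 1) b - F.deg j a + (g - F.deg (j + 1) b) = g - F.deg j a by ring] at h

theorem hsyz (j : ℕ) : (LinearMap.range (dMap F j)).IsHomogeneous (resTerm F j).gr :=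
  isHomogeneous_range (spans_of_decomposition (resTerm F (j + 1)).gr) (dLin_grHom F j)

/-- The syzygy modules, starting from the module itself. -/
def syz : ℕ → GrLC.GMod.{u} 𝒮
  | 0 => toGMod 𝒮 ℳ
  | j + 1 => sub (resTerm F j) (LinearMap.range (dMap F j))
      (hsyz F j)

/-- The syzygy sequences. -/
def syzSeq : ∀ j, Seq (syz F (j + 1)) (resTerm F j) (syz F j)
  | 0 => {
      f := subι (resTerm F 0) (LinearMap.range (dMap F 0)) (hsyz F 0)
      g := F.augLin
      f_grHom := subι_grHom _ _ (hsyz F 0)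
      g_grHom := fun g v hv => by
        show Fintype.linearCombination _ F.aug v ∈ ℳ g
        rw [Fintype.linearCombination_apply]
        refine Submodule.sum_mem _ fun b _ => ?_
        have h := smul_mem 𝒮 ℳ (hv b) (F.aug_mem b)
        rwa [sub_add_cancel] at h
      f_inj := subι_injective _ _ (hsyz F 0)
      g_surj := F.aug_surjective
      exact := (Submodule.range_subtype _).trans F.exact_zero.symm }
  | j + 1 => {
      f := subι (resTerm F (j + 1)) (LinearMap.range (dMap F (j + 1))) (hsyz F (j + 1))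
      g := (dMap F j).rangeRestrict
      f_grHom := subι_grHom _ _ (hsyz F (j + 1))
      g_grHom := fun g v hv => dLin_grHom F j g v hv
      f_inj := subι_injective _ _ (hsyz F (j + 1))
      g_surj := (dMap F j).surjective_rangeRestrict
      exact := (Submodule.range_subtype _).trans
        ((F.exact_succ j).symm.trans (LinearMap.ker_rangeRestrict (dMap F j)).symm) }

theorem syzSeq_f : ∀ (j : ℕ) (y : LinearMap.range (dMap F j)), (syzSeq F j).f y = (y : (resTerm F j).carrier)
  | 0, _ => rfl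
  | _ + 1, _ => rfl

theorem exists_length [Module.Finite (MvPolynomial (Fin d) k) M] (hF : F.IsMinimal (irrel (stdGr k (Fin d))).toIdeal) :
    F.HasLengthLE d :=
  (GrSyzLib.hasLengthLE_iff_pd hF d).2 (GrSyzLib.pd_polynomial d M)

theorem subsingleton_syz {n j : ℕ} (hn : F.HasLengthLE n) (hj : n + 1 ≤ j) : Subsingleton (syz F j).carrier := by
  obtain ⟨i, rfl⟩ : ∃ i, j = i + 1 := ⟨j - 1, by omega⟩
  have h0 := hn (i + 1) (by omega)
  have : IsEmpty (Fin (F.rk (i + 1))) := ⟨fun x => by rw [h0] at x; exact x.elim0⟩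
  have : Subsingleton (resTerm F (i + 1)).carrier :=
    (inferInstance : Subsingleton (Fin (F.rk (i + 1)) → MvPolynomial (Fin d) k))
  exact (dMap F i).surjective_rangeRestrict.subsingleton

/-- Degree bounds on the resolution bound the cohomology. -/
theorem van_of_isGenLE {n : ℕ} (hn : F.HasLengthLE n) {D : ℤ} (hD : F.IsGenLE D) :
    ∀ (j i : ℕ) (g : ℤ), D + j < g + i → Van 𝔞 i g (syz F j) := by
  suffices H : ∀ m j : ℕ, n + 1 ≤ j + m → ∀ (i : ℕ) (g : ℤ), D + j < g + i → Van 𝔞 i g (syz F j) from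
    fun j => H (n + 1) j (by omega)
  intro m
  induction m with
  | zero =>
    intro j hj i g _
    have := subsingleton_syz F hn hj
    exact van_of_subsingleton i g
  | succ m ih =>
    intro j hj i g hg
    refine Van.right (syzSeq F j) (van_freeMod _ fun c => ?_) (ih (j + 1) (by omega) (i + 1) g (by push_cast; omega))
    by_cases hi : i = d
    · subst hi
      exact van_polyMod.2.1 _ (by have := hD j c; omega)
    · exact van_polyMod.1 _ _ hi

/-- A generator of extremal degree is seen by the local cohomology. -/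
theorem exists_not_van (hF : F.IsMinimal (irrel (stdGr k (Fin d))).toIdeal) {j : ℕ} (b : Fin (F.rk j))
    (hmax : ∀ c : Fin (F.rk (j + 1)), F.deg (j + 1) c ≤ F.deg j b) :
    ¬ Van 𝔞 d (F.deg j b - d) (syz F j) := by
  intro hvan
  have hrow : ∀ c, F.d j b c = 0 := fun c => by
    by_contra h
    have := GrSyzLib.pos_of_mem_irrel (F.d_mem j b c) (hF j b c) h
    have := hmax c
    omega
  let p : (resTerm F j).carrier →ₗ[MvPolynomial (Fin d) k] (shift (polyMod k d) (F.deg j b)).carrier :=
    LinearMap.proj (R := MvPolynomial (Fin d) k) (φ := fun _ : Fin (F.rk j) => MvPolynomial (Fin d) k) b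
  have hker : LinearMap.ker (syzSeq F j).g ≤ LinearMap.ker p := by
    rw [← (syzSeq F j).exact]
    rintro _ ⟨⟨w, v, rfl⟩, rfl⟩
    rw [LinearMap.mem_ker, syzSeq_f]
    change Fin (F.rk (j + 1)) → MvPolynomial (Fin d) k at v
    show (∑ c, F.d j b c * v c) = 0
    exact Finset.sum_eq_zero fun c _ => by rw [hrow c, zero_mul]
  let e := LinearMap.quotKerEquivOfSurjective (syzSeq F j).g (syzSeq F j).g_surj
  let q : (syz F j).carrier →ₗ[MvPolynomial (Fin d) k] (shift (polyMod k d) (F.deg j b)).carrier :=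
    (LinearMap.ker (syzSeq F j).g).liftQ p hker ∘ₗ e.symm.toLinearMap
  have hq : ∀ v, q ((syzSeq F j).g v) = p v := fun v => by
    show (LinearMap.ker (syzSeq F j).g).liftQ p hker (e.symm (e (Submodule.Quotient.mk v))) = p v
    rw [LinearEquiv.symm_apply_apply]
    rfl
  let s₀ : (shift (polyMod k d) (F.deg j b)).carrier →ₗ[MvPolynomial (Fin d) k] (resTerm F j).carrier :=
    LinearMap.single (MvPolynomial (Fin d) k) (fun _ : Fin (F.rk j) => MvPolynomial (Fin d) k) b
  have hs₀ : GrLC.IsGrHom (shift (polyMod k d) (F.deg j b)).gr (resTerm F j).gr s₀ := fun g x hx c => by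
    change MvPolynomial (Fin d) k at x
    rcases eq_or_ne c b with rfl | h
    · show Pi.single (M := fun _ : Fin (F.rk j) => MvPolynomial (Fin d) k) c x c ∈ stdGr k (Fin d) (g - F.deg j c)
      rw [Pi.single_eq_same]
      exact hx
    · show Pi.single (M := fun _ : Fin (F.rk j) => MvPolynomial (Fin d) k) b x c ∈ stdGr k (Fin d) (g - F.deg j c)
      rw [Pi.single_eq_of_ne h]
      exact zero_mem _
  have hqgr : GrLC.IsGrHom (syz F j).gr (shift (polyMod k d) (F.deg j b)).gr q := fun g y hy => by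
    obtain ⟨v, hv, rfl⟩ := exists_homogeneous_preimage (syzSeq F j).g_grHom hy
      (LinearMap.mem_range.2 ((syzSeq F j).g_surj y))
    rw [hq]
    exact hv b
  have h := Van.retract ((syzSeq F j).g ∘ₗ s₀) q (isGrHom_comp (syzSeq F j).g_grHom hs₀) hqgr
    (LinearMap.ext fun x => by
      show q ((syzSeq F j).g (s₀ x)) = x
      rw [hq]
      exact Pi.single_eq_same (M := fun _ : Fin (F.rk j) => MvPolynomial (Fin d) k) b x) hvan
  rw [van_shift_iff, show F.deg j b - (d : ℤ) - F.deg j b = -(d : ℤ) by ring] at h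
  exact van_polyMod.2.2 h

/-- Bounds on the cohomology bound the resolution. -/
theorem isGenLE_of_van [Module.Finite (MvPolynomial (Fin d) k) M]
    (hF : F.IsMinimal (irrel (stdGr k (Fin d))).toIdeal) {D : ℤ}
    (h : ∀ (i : ℕ) (g : ℤ), D < g + i → Van 𝔞 i g (syz F 0)) : F.IsGenLE D := by
  classical
  have hlen := exists_length F hF
  by_contra hgen
  simp only [FreeRes.IsGenLE, not_forall, not_le] at hgen
  obtain ⟨i₁, b₁, hb₁⟩ := hgen
  let T : Finset (Σ i : Fin (d + 1), Fin (F.rk i)) := Finset.univ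
  have hi₁ : i₁ < d + 1 := by
    by_contra hlt
    have := hlen i₁ (by omega)
    rw [this] at b₁
    exact b₁.elim0
  -- maximise the degree defect, then the homological index
  obtain ⟨⟨i, b⟩, -, hmax⟩ := Finset.exists_max_image T
    (fun p => (F.deg p.1 p.2 - p.1) * ((d : ℤ) + 1) + p.1) ⟨⟨⟨i₁, hi₁⟩, b₁⟩, Finset.mem_univ _⟩
  have hdef : ∀ (j : ℕ) (c : Fin (F.rk j)), F.deg j c - j ≤ F.deg i b - (i : ℕ) ∧
      ((i : ℕ) < j → F.deg j c - j < F.deg i b - (i : ℕ)) := fun j c => by
    have hjd : j < d + 1 := by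
      by_contra hlt
      have := hlen j (by omega)
      rw [this] at c
      exact c.elim0
    have := hmax ⟨⟨j, hjd⟩, c⟩ (Finset.mem_univ _)
    simp only at this
    have hi' : (i : ℕ) < d + 1 := i.2
    constructor
    · by_contra hlt
      nlinarith
    · intro hij
      by_contra hlt
      nlinarith
  set R0 := F.deg i b - (i : ℕ) with hR0
  have hR0D : D < R0 := by
    have := (hdef i₁ b₁).1
    omega
  refine exists_not_van F hF b (fun c => ?_) ?_
  · have := (hdef _ c).2 (Nat.lt_succ_self _)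
    push_cast at this
    omega
  set t := F.deg i b - (d : ℤ)
  have hfree : ∀ (j l : ℕ), j < (i : ℕ) → Van 𝔞 l t (resTerm F j) := fun j l hj => van_freeMod _ fun c => by
    by_cases hl : l = d
    · subst hl
      exact van_polyMod.2.1 _ (by have := (hdef j c).1; omega)
    · exact van_polyMod.1 _ _ hl
  have climb : ∀ (m j l : ℕ), j + m ≤ (i : ℕ) → Van 𝔞 l t (syz F j) → Van 𝔞 (l + m) t (syz F (j + m)) := by
    intro m
    induction m with
    | zero => exact fun j l _ h => h
    | succ m ih =>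
      intro j l hj h
      exact Van.left (syzSeq F (j + m)) (ih j l (by omega) h) (hfree _ _ (by omega))
  rcases le_or_gt (i : ℕ) d with hid | hid
  · have h0 := climb i 0 (d - i) (by omega) (h _ _ (by push_cast [Nat.cast_sub hid]; omega))
    rw [Nat.sub_add_cancel hid, zero_add] at h0
    exact h0
  · obtain ⟨j, hj⟩ : ∃ j, (i : ℕ) = j + 1 + d := ⟨i - d - 1, by omega⟩
    have h0 := climb d (j + 1) 0 (by omega) (Van.left_zero (syzSeq F j) (hfree j 0 (by omega)))
    rw [zero_add, ← hj] at h0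
    exact h0

theorem isGenLE_iff_van [Module.Finite (MvPolynomial (Fin d) k) M]
    (hF : F.IsMinimal (irrel (stdGr k (Fin d))).toIdeal) (D : ℤ) :
    F.IsGenLE D ↔ ∀ (i : ℕ) (g : ℤ), D < g + i → Van 𝔞 i g (toGMod 𝒮 ℳ) :=
  ⟨fun h i g hg => van_of_isGenLE F (exists_length F hF) h 0 i g (by simpa using hg), isGenLE_of_van F hF⟩

theorem isRegLE_iff_van [Module.Finite (MvPolynomial (Fin d) k) M] (D : ℤ) :
    IsRegLE 𝒮 ℳ (𝔞).toIdeal D ↔ ∀ (i : ℕ) (g : ℤ), D < g + i → Van 𝔞 i g (toGMod 𝒮 ℳ) := by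
  obtain ⟨F, hF⟩ := GrSyzLib.exists_freeRes_isMinimal (k := k) (σ := Fin d) (M := M) (ℳ := ℳ)
  exact (GrSyzLib.isRegLE_iff hF D).trans (isGenLE_iff_van F hF D)

theorem endDeg_add_le_iff (E : GrLC.StarInjRes 𝒮 ℳ) (i : ℕ) (D : ℤ) :
    GrLC.endDeg (E.Hgr 𝔞 i) + (((i : ℤ) : WithTop ℤ) : WithBot (WithTop ℤ)) ≤ ((D : WithTop ℤ) : WithBot (WithTop ℤ)) ↔
      ∀ g : ℤ, D < g + i → Van 𝔞 i g (toGMod 𝒮 ℳ) := by
  have key : ∀ y : WithBot (WithTop ℤ), y + (((i : ℤ) : WithTop ℤ) : WithBot (WithTop ℤ)) ≤ ((D : WithTop ℤ) : WithBot (WithTop ℤ)) ↔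
      y ≤ (((D - i : ℤ) : WithTop ℤ) : WithBot (WithTop ℤ)) := fun y => by
    cases y with
    | bot => simp
    | coe y =>
      cases y with
      | top =>
        rw [← WithBot.coe_add, WithBot.coe_le_coe, WithBot.coe_le_coe]
        simp
      | coe a =>
        rw [← WithBot.coe_add, ← WithTop.coe_add, WithBot.coe_le_coe, WithBot.coe_le_coe, WithTop.coe_le_coe,
          WithTop.coe_le_coe]
        omega
  rw [key, GrLC.endDeg, iSup₂_le_iff]
  refine forall_congr' fun g => ?_
  rw [WithBot.coe_le_coe, WithTop.coe_le_coe, ← Hcomp_eq_bot_iff_van E, ← Hgr_eq_bot_iff]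
  constructor
  · intro h hg
    by_contra hne
    have := h hne
    omega
  · intro h hne
    by_contra hlt
    exact hne (h (by omega))

end Groth.Agent.GrLC21
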