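import Groth.Agent.Lib.GrLC21.DepthVan
import Groth.Agent.Lib.GrLC21.RegLC

/-!
# The length of a minimal free resolution and the vanishing of graded local cohomology
-/

universe u

open DirectSum MvPolynomial GrSyz CategoryTheory

noncomputable section

set_option linter.unusedSectionVars false
set_option backward.isDefEq.respectTransparency false

namespace Groth.Agent.GrLC21

section general

variable {ι : Type} [AddCommGroup ι] [DecidableEq ι]
variable {R : Type u} [CommRing R] [IsNoetherianRing R] {σ : Type u} [SetLike σ R] [AddSubgroupClass σ R]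
  {𝒜 : ι → σ} [GradedRing 𝒜] {a : HomogeneousIdeal 𝒜}

theorem subsingleton_H_iff_van' (X : GrLC.GMod.{u} 𝒜) (i : ℕ) :
    Subsingleton (LocCoh.H a.toIdeal i X.carrier) ↔ ∀ g, Van a i g X := by
  obtain ⟨E⟩ := nonempty_res (𝒜 := 𝒜) X.gr
  obtain ⟨e⟩ := nonempty_H_equiv E a i
  rw [← e.toEquiv.subsingleton_congr, subsingleton_H_iff]
  exact forall_congr' fun g => (Van.iff_of_res E).symm

/-- Vanishing in every degree does not depend on the grading. -/
theorem van_all_of_equiv {X Y : GrLC.GMod.{u} 𝒜} (e : X.carrier ≃ₗ[R] Y.carrier) {i : ℕ}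
    (h : ∀ g, Van a i g X) : ∀ g, Van a i g Y :=
  (subsingleton_H_iff_van' Y i).1
    ((((localCohomology a.toIdeal i).mapIso e.toModuleIso).toLinearEquiv.toEquiv.subsingleton_congr).1
      ((subsingleton_H_iff_van' X i).2 h))

end general

variable {k : Type u} [Field k] {d : ℕ}
variable {M : Type u} [AddCommGroup M] [Module k M] [Module (MvPolynomial (Fin d) k) M]
  [IsScalarTower k (MvPolynomial (Fin d) k) M]
  {ℳ : ℤ → Submodule k M} [Decomposition ℳ] [SetLike.GradedSMul (stdGr k (Fin d)) ℳ]

local notation "𝒮" => stdGr k (Fin d)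
local notation "𝔞" => irrel (stdGr k (Fin d))

variable (F : FreeRes (stdGr k (Fin d)) ℳ)

theorem van_resTerm_of_ne {j l : ℕ} (hl : l ≠ d) (g : ℤ) : Van 𝔞 l g (resTerm F j) :=
  van_freeMod _ fun _ => van_polyMod.1 _ _ hl

theorem van_resTerm_of_lt {j : ℕ} {g : ℤ} (h : ∀ c, F.deg j c < g + d) : Van 𝔞 d g (resTerm F j) :=
  van_freeMod _ fun c => van_polyMod.2.1 _ (by have := h c; omega)

/-- Vanishing on the terms of the resolution gives vanishing on the resolved module. -/
theorem van_of_terms {n i : ℕ} {g : ℤ} (hn : F.HasLengthLE n)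
    (h : ∀ j ≤ n, Van 𝔞 (i + j) g (resTerm F j)) : Van 𝔞 i g (toGMod 𝒮 ℳ) := by
  suffices H : ∀ m j : ℕ, n + 1 ≤ j + m → Van 𝔞 (i + j) g (syz F j) from H (n + 1) 0 (by omega)
  intro m
  induction m with
  | zero =>
    intro j hj
    have := subsingleton_syz F hn hj
    exact van_of_subsingleton _ g
  | succ m ih =>
    intro j hj
    rcases lt_or_ge n j with hnj | hnj
    · have := subsingleton_syz F hn hnj
      exact van_of_subsingleton _ g
    · exact Van.right (syzSeq F j) (h j hnj) (ih (j + 1) (by omega))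

theorem van_of_add_lt {n i : ℕ} (hn : F.HasLengthLE n) (hi : i + n < d) (g : ℤ) :
    Van 𝔞 i g (toGMod 𝒮 ℳ) :=
  van_of_terms F hn fun j hj => van_resTerm_of_ne F (by omega) g

/-- The penultimate syzygy module has cohomology just below the top. -/
theorem not_forall_van_syz (hF : F.IsMinimal (irrel (stdGr k (Fin d))).toIdeal) {j l : ℕ}
    (hn : F.HasLengthLE (j + 1)) (hrk : F.rk (j + 1) ≠ 0) (hl : l + 1 = d) :
    ¬ ∀ g, Van 𝔞 l g (syz F j) := by
  classical
  intro hvan
  obtain ⟨b, -, hb⟩ := Finset.exists_max_image Finset.univ (fun c => F.deg (j + 1) c)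
    ⟨(⟨0, Nat.pos_of_ne_zero hrk⟩ : Fin (F.rk (j + 1))), Finset.mem_univ _⟩
  -- the target with the generators of high degree pushed down
  let deg' : Fin (F.rk j) → ℤ := fun c => min (F.deg j c) (F.deg (j + 1) b - 1)
  let f : (resTerm F (j + 1)).carrier →ₗ[MvPolynomial (Fin d) k] (freeMod 𝒮 deg').carrier := F.dLin j
  have hf : GrLC.IsGrHom (resTerm F (j + 1)).gr (freeMod 𝒮 deg').gr f := by
    intro g (v : Fin (F.rk (j + 1)) → MvPolynomial (Fin d) k) hv c
    show (∑ b', F.d j c b' * v b') ∈ stdGr k (Fin d) (g - deg' c)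
    refine Submodule.sum_mem _ fun b' _ => ?_
    rcases eq_or_ne (F.d j c b') 0 with h0 | h0
    · rw [h0, zero_mul]
      exact zero_mem _
    have hpos := GrSyzLib.pos_of_mem_irrel (F.d_mem j c b') (hF j c b') h0
    have hle : F.deg (j + 1) b' ≤ F.deg (j + 1) b := hb b' (Finset.mem_univ _)
    have hd' : deg' c = F.deg j c := min_eq_left (by omega)
    rw [hd']
    have h := SetLike.mul_mem_graded (F.d_mem j c b') (hv b')
    rwa [show F.deg (j + 1) b' - F.deg j c + (g - F.deg (j + 1) b') = g - F.deg j c by ring] at h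
  let P : Submodule (MvPolynomial (Fin d) k) (freeMod 𝒮 deg').carrier := LinearMap.range f
  have hP : P.IsHomogeneous (freeMod 𝒮 deg').gr :=
    isHomogeneous_range (spans_of_decomposition (resTerm F (j + 1)).gr) hf
  let S : Seq (syz F (j + 1)) (freeMod 𝒮 deg') (quot (freeMod 𝒮 deg') P hP) :=
    { f := P.subtype
      g := quotπ (freeMod 𝒮 deg') P hP
      f_grHom := by
        rintro g y (hy : (y : LinearMap.range (dMap F j)).1 ∈ (resTerm F j).gr g)
        obtain ⟨v, hv, e⟩ := exists_homogeneous_preimage (dLin_grHom F j) hy y.2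
        show y.1 ∈ (freeMod 𝒮 deg').gr g
        rw [← e]
        exact hf g v hv
      g_grHom := quotπ_grHom _ _ _
      f_inj := Submodule.subtype_injective P
      g_surj := quotπ_surjective _ _ _
      exact := (Submodule.range_subtype P).trans (ker_quotπ _ P hP).symm }
  have hker : LinearMap.ker (syzSeq F j).g = LinearMap.range (dMap F j) := by
    rw [← (syzSeq F j).exact]
    refine le_antisymm ?_ fun x hx => ⟨⟨x, hx⟩, syzSeq_f F j _⟩
    rintro _ ⟨y, rfl⟩
    rw [syzSeq_f]
    exact (y : LinearMap.range (dMap F j)).2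
  let e : (syz F j).carrier ≃ₗ[MvPolynomial (Fin d) k] (quot (freeMod 𝒮 deg') P hP).carrier :=
    (LinearMap.quotKerEquivOfSurjective (syzSeq F j).g (syzSeq F j).g_surj).symm.trans
      (Submodule.quotEquivOfEq _ _ hker)
  refine exists_not_van F hF b (fun c => ?_) ?_
  · have h0 := hn (j + 1 + 1) (by omega)
    have := c.isLt
    omega
  subst hl
  refine Van.left S (van_all_of_equiv e hvan _) (van_freeMod _ fun c => van_polyMod.2.1 _ ?_)
  have : deg' c ≤ F.deg (j + 1) b - 1 := min_le_right _ _
  push_cast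
  omega

/-- A module with a minimal resolution of length `n` has cohomology in degree `d - n`. -/
theorem not_forall_van_of_length (hF : F.IsMinimal (irrel (stdGr k (Fin d))).toIdeal) {n l : ℕ}
    (hn : F.HasLengthLE n) (hrk : F.rk n ≠ 0) (hl : l + n = d) :
    ¬ ∀ g, Van 𝔞 l g (toGMod 𝒮 ℳ) := by
  intro hvan
  rcases n with _ | m
  · obtain rfl : l = d := by omega
    refine exists_not_van F hF (⟨0, Nat.pos_of_ne_zero hrk⟩ : Fin (F.rk 0)) (fun c => ?_) (hvan _)
    have := c.isLt
    have : F.rk (0 + 1) = 0 := hn 1 (by omega)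
    omega
  have hclimb : ∀ j ≤ m, ∀ g, Van 𝔞 (l + j) g (syz F j) := by
    intro j
    induction j with
    | zero => exact fun _ g => hvan g
    | succ j ih =>
      intro hj g
      exact Van.left (syzSeq F j) (ih (by omega) g) (van_resTerm_of_ne F (l := l + j + 1) (by omega) g)
  exact not_forall_van_syz F hF hn hrk (l := l + m) (by omega) (hclimb m le_rfl)

theorem length_le (hn : F.IsMinimal (irrel (stdGr k (Fin d))).toIdeal)
    [Module.Finite (MvPolynomial (Fin d) k) M] {n : ℕ} (hrk : F.rk n ≠ 0) : n ≤ d := by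
  by_contra h
  exact hrk (exists_length F hn n (by omega))

/-- The Auslander-Buchsbaum formula for graded modules over a polynomial ring. -/
theorem length_add_idealDepth [Module.Finite (MvPolynomial (Fin d) k) M]
    (hF : F.IsMinimal (irrel (stdGr k (Fin d))).toIdeal) {n : ℕ} (hn : F.HasLengthLE n) (hrk : F.rk n ≠ 0) :
    (n : ℕ∞) + LocCoh.idealDepth (irrel (stdGr k (Fin d))).toIdeal M = (d : ℕ∞) := by
  have hnd := length_le F hF hrk
  have h1 : ((d - n : ℕ) : ℕ∞) ≤ LocCoh.idealDepth (irrel (stdGr k (Fin d))).toIdeal M :=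
    (natCast_le_idealDepth_iff_van (a := irrel (stdGr k (Fin d))) (ℳ := ℳ) _).2
      fun i hi g => van_of_add_lt F hn (by omega) g
  have h2 : ¬ ((d - n + 1 : ℕ) : ℕ∞) ≤ LocCoh.idealDepth (irrel (stdGr k (Fin d))).toIdeal M := fun h =>
    not_forall_van_of_length F hF hn hrk (Nat.sub_add_cancel hnd)
      fun g => (natCast_le_idealDepth_iff_van (a := irrel (stdGr k (Fin d))) (ℳ := ℳ) _).1 h _ (by omega) g
  generalize LocCoh.idealDepth (irrel (stdGr k (Fin d))).toIdeal M = D at h1 h2 ⊢
  induction D using ENat.recTopCoe with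
  | top => exact absurd le_top h2
  | coe D =>
    simp only [Nat.cast_le] at h1 h2
    norm_cast
    omega

end Groth.Agent.GrLC21
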