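import Groth.Agent.Lib.GrLC21.TopRightExact
import Groth.Agent.Lib.GrLC21.CanonExist
import Groth.Agent.Lib.GrLC21.CanonPair
import Groth.Agent.Lib.GrLC21.CMCrit

/-!
# The dual functor into the envelope of the residue field, and duality in the top degree

`homMod X 𝓔` as a contravariant exact functor, and the identification of the dual of the top cohomology of a
finite module with the maps into a *canonical module.
-/

universe u

open DirectSum

noncomputable section

set_option linter.unusedSectionVars false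
set_option backward.isDefEq.respectTransparency false

namespace Groth.Agent.GrLC21

variable {R : Type u} [CommRing R] {σ : Type u} [SetLike σ R] [AddSubgroupClass σ R]
  {𝒜 : ℤ → σ} [GradedRing 𝒜]
  {E : Type u} [AddCommGroup E] [Module R E] {τ' : Type u} [SetLike τ' E] [AddSubgroupClass τ' E]
  {𝓔 : ℤ → τ'} [Decomposition 𝓔] [SetLike.GradedSMul 𝒜 𝓔]
  {X Y Z : GrLC.GMod.{u} 𝒜}

theorem comp_mem_homSub {g : ℤ} {u : X.carrier →ₗ[R] Y.carrier} (hu : GrLC.IsGrHomDeg X.gr Y.gr u g)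
    {f : Y.carrier →ₗ[R] E} (hf : f ∈ homSub Y 𝓔) : f ∘ₗ u ∈ homSub X 𝓔 := by
  refine AddSubgroup.iSup_induction (C := fun f => f ∘ₗ u ∈ homSub X 𝓔) _ hf (fun d h hh => ?_) ?_ ?_
  · refine AddSubgroup.mem_iSup_of_mem (g + d) fun a x hx => ?_
    rw [← add_assoc]
    exact hh (a + g) (u x) (hu a x hx)
  · rw [LinearMap.zero_comp]
    exact zero_mem _
  · intro a b ha hb
    rw [LinearMap.add_comp]
    exact add_mem ha hb

/-- An element of the dual from a sum of homogeneous maps. -/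
def mkDual {f : X.carrier →ₗ[R] E} (hf : f ∈ homSub X 𝓔) : (homMod X 𝓔).carrier := (⟨f, hf⟩ : homSub X 𝓔)

/-- The underlying map of an element of the dual. -/
def dualVal : (homMod X 𝓔).carrier →ₗ[R] (X.carrier →ₗ[R] E) where
  toFun f := (f : homSub X 𝓔).1
  map_add' _ _ := rfl
  map_smul' _ _ := rfl

theorem dualVal_mem (f : (homMod X 𝓔).carrier) : dualVal f ∈ homSub X 𝓔 := (f : homSub X 𝓔).2

@[simp] theorem dualVal_mkDual {f : X.carrier →ₗ[R] E} (hf : f ∈ homSub X 𝓔) : dualVal (mkDual hf) = f := rfl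

theorem dualVal_injective : Function.Injective (dualVal (X := X) (𝓔 := 𝓔)) := fun _ _ h => Subtype.ext h

/-- Precomposition with a homogeneous map. -/
def dualOf {g : ℤ} (u : X.carrier →ₗ[R] Y.carrier) (hu : GrLC.IsGrHomDeg X.gr Y.gr u g) :
    (homMod Y 𝓔).carrier →ₗ[R] (homMod X 𝓔).carrier where
  toFun f := mkDual (comp_mem_homSub hu (dualVal_mem f))
  map_add' _ _ := Subtype.ext (LinearMap.add_comp _ _ _)
  map_smul' _ _ := Subtype.ext (LinearMap.smul_comp _ _ _)

theorem dualVal_dualOf {g : ℤ} (u : X.carrier →ₗ[R] Y.carrier) (hu : GrLC.IsGrHomDeg X.gr Y.gr u g)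
    (f : (homMod Y 𝓔).carrier) : dualVal (dualOf u hu f) = dualVal f ∘ₗ u := rfl

theorem isGrHomDeg_zero_of_grHom {u : X.carrier →ₗ[R] Y.carrier} (hu : GrLC.IsGrHom X.gr Y.gr u) :
    GrLC.IsGrHomDeg X.gr Y.gr u 0 := fun g x hx => by
  rw [add_zero]
  exact hu g x hx

/-- The dual of a degree preserving map. -/
abbrev dual0 (u : X.carrier →ₗ[R] Y.carrier) (hu : GrLC.IsGrHom X.gr Y.gr u) :
    (homMod Y 𝓔).carrier →ₗ[R] (homMod X 𝓔).carrier :=
  dualOf u (isGrHomDeg_zero_of_grHom hu)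

/-- The dual of an isomorphism. -/
def dualEquiv (e : X.carrier ≃ₗ[R] Y.carrier) (he : GrLC.IsGrHom X.gr Y.gr e.toLinearMap) :
    (homMod Y 𝓔).carrier ≃ₗ[R] (homMod X 𝓔).carrier :=
  LinearEquiv.ofLinearMap (dual0 e.toLinearMap he) (dual0 e.symm.toLinearMap (isGrHom_symm he))
    (LinearMap.ext fun f => dualVal_injective (LinearMap.ext fun x => congrArg (dualVal f) (e.symm_apply_apply x)))
    (LinearMap.ext fun f => dualVal_injective (LinearMap.ext fun x => congrArg (dualVal f) (e.apply_symm_apply x)))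

variable {m : HomogeneousIdeal 𝒜} (Γ : FieldCtx 𝒜 m) {e : (R ⧸ m.toIdeal) →ₗ[R] E}
  (he : GrLC.IsStarInjHull 𝒜 (GrLC.quotGr 𝒜 m) 𝓔 e)

include Γ he in
/-- A homogeneous map killing the kernel of a homogeneous map factors through it. -/
theorem FieldCtx.exists_comp_of_deg (w : Y.carrier →ₗ[R] Z.carrier) (hw : GrLC.IsGrHom Y.gr Z.gr w) {j : ℤ}
    {g : Y.carrier →ₗ[R] E} (hg : GrLC.IsGrHomDeg Y.gr 𝓔 g (-j)) (hker : ∀ x ∈ Y.gr j, w x = 0 → g x = 0) :
    ∃ h : Z.carrier →ₗ[R] E, GrLC.IsGrHomDeg Z.gr 𝓔 h (-j) ∧ h ∘ₗ w = g := by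
  let _ := Γ.isField.toField
  let wj : GrLC.comp 𝒜 Y.gr j →ₗ[GrLC.deg0 𝒜] GrLC.comp 𝒜 Z.gr j :=
    { toFun := fun x => ⟨w x, hw j x x.2⟩
      map_add' := fun x y => Subtype.ext (map_add w _ _)
      map_smul' := fun c x => Subtype.ext (map_smul w (c : R) (x : Y.carrier)) }
  let lam : Module.Dual (GrLC.deg0 𝒜) (GrLC.comp 𝒜 Y.gr j) := Γ.dualMap (ℳ := Y.gr) he j ⟨g, hg⟩
  have hlam : lam ∈ (LinearMap.ker wj).dualAnnihilator := by
    rw [Submodule.mem_dualAnnihilator]
    intro x hx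
    show Γ.dualMap (ℳ := Y.gr) he j ⟨g, hg⟩ x = 0
    rw [Γ.dualMap_apply he]
    exact (Γ.trace he).map_eq_zero_iff.2 (Subtype.ext (hker x x.2 (congrArg Subtype.val (LinearMap.mem_ker.1 hx))))
  rw [← LinearMap.range_dualMap_eq_dualAnnihilator_ker] at hlam
  obtain ⟨μ, hμ⟩ := hlam
  obtain ⟨h, hh⟩ := (Γ.dualMap_bijective (ℳ := Z.gr) he j).2 μ
  have hhw : GrLC.IsGrHomDeg Y.gr 𝓔 (h.1 ∘ₗ w) (-j) := fun a x hx => h.2 a (w x) (hw a x hx)
  refine ⟨h.1, h.2, Γ.eq_of_grHomDeg Y he hhw hg fun x hx => ?_⟩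
  have h1 := LinearMap.congr_fun hμ ⟨x, hx⟩
  rw [LinearMap.dualMap_apply, ← hh] at h1
  replace h1 : Γ.dualMap (ℳ := Z.gr) he j h (wj ⟨x, hx⟩) = Γ.dualMap (ℳ := Y.gr) he j ⟨g, hg⟩ ⟨x, hx⟩ := h1
  rw [Γ.dualMap_apply he, Γ.dualMap_apply he] at h1
  exact congrArg Subtype.val ((Γ.trace he).injective h1)

include Γ he in
/-- The dual functor is exact. -/
theorem FieldCtx.exists_dual_comp (w : Y.carrier →ₗ[R] Z.carrier) (hw : GrLC.IsGrHom Y.gr Z.gr w)
    (f : (homMod Y 𝓔).carrier) (hker : ∀ x, w x = 0 → dualVal f x = 0) :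
    ∃ h : (homMod Z 𝓔).carrier, dual0 w hw h = f := by
  classical
  have hd : ∀ d : ℤ, ∃ h : (homMod Z 𝓔).carrier, dual0 w hw h = GrLC21.proj (homMod Y 𝓔).gr d f := by
    intro d
    have hfd : GrLC.IsGrHomDeg Y.gr 𝓔 (dualVal (GrLC21.proj (homMod Y 𝓔).gr d f)) (-(-d)) := by
      rw [neg_neg]
      exact (mem_homMod_gr Y 𝓔).1 (proj_mem (homMod Y 𝓔).gr d f)
    have hval : ∀ x ∈ Y.gr (-d),
        dualVal (GrLC21.proj (homMod Y 𝓔).gr d f) x = proj 𝓔 0 (dualVal f x) := by
      intro x hx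
      refine spans_induction (P := fun f => dualVal (GrLC21.proj (homMod Y 𝓔).gr d f) x = proj 𝓔 0 (dualVal f x))
        (spans_of_decomposition (homMod Y 𝓔).gr) f (by simp)
        (fun a b ha hb => by simp only [map_add, LinearMap.add_apply, ha, hb]) fun l a ha => ?_
      have hax : dualVal a x ∈ 𝓔 (-d + l) := (mem_homMod_gr Y 𝓔).1 ha (-d) x hx
      rcases eq_or_ne l d with rfl | hne
      · rw [proj_of_mem (homMod Y 𝓔).gr ha, proj_of_mem 𝓔 (by rwa [neg_add_cancel] at hax)]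
      · rw [proj_of_mem_ne (homMod Y 𝓔).gr ha hne, proj_of_mem_ne 𝓔 hax (by omega), map_zero]
        rfl
    obtain ⟨h, hh, e'⟩ := Γ.exists_comp_of_deg he w hw hfd fun x hx hwx => by
      rw [hval x hx, hker x hwx, map_zero]
    exact ⟨mkDual (AddSubgroup.mem_iSup_of_mem _ hh), dualVal_injective e'⟩
  choose h hh using hd
  refine ⟨∑ d ∈ degs (homMod Y 𝓔).gr f, h d, ?_⟩
  rw [map_sum]
  simp only [hh]
  exact sum_proj _ f

include Γ he in
theorem FieldCtx.dual0_surjective (w : Y.carrier →ₗ[R] Z.carrier) (hw : GrLC.IsGrHom Y.gr Z.gr w)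
    (hinj : Function.Injective w) : Function.Surjective (dual0 (𝓔 := 𝓔) w hw) := fun f =>
  Γ.exists_dual_comp he w hw f fun x hx => by rw [hinj (hx.trans (map_zero w).symm), map_zero]

section Canon

variable {C : Type u} [AddCommGroup C] [Module R C] {τ : Type u} [SetLike τ C] [AddSubgroupClass τ C]
  {𝒞 : ℤ → τ} [Decomposition 𝒞] [SetLike.GradedSMul 𝒜 𝒞]
  {n : ℕ} {I : GrLC.StarInjRes 𝒜 𝒜} (φ : (C →ₗ[R] E) ≃ₗ[R] I.H m n)

/-- Evaluation of the inverse of the *canonical isomorphism. -/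
def canonEval : C →ₗ[R] ((Hmod I m n).carrier →ₗ[R] E) where
  toFun c :=
    { toFun := fun h => φ.symm h c
      map_add' := fun a b => (congrArg (fun f : C →ₗ[R] E => f c) (φ.symm.map_add a b)).trans rfl
      map_smul' := fun r a => (congrArg (fun f : C →ₗ[R] E => f c) (φ.symm.map_smul r a)).trans rfl }
  map_add' a b := LinearMap.ext fun h => map_add (φ.symm h) a b
  map_smul' r a := LinearMap.ext fun h => map_smul (φ.symm h) r a

variable (hφ : GrLC.IsGrHom (fun d => (GrLC.homDeg 𝒜 𝒞 𝓔 d).toAddSubgroup) (I.Hgr m n) φ.toLinearMap)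
  [Module.Finite R C]

include hφ in
theorem canonEval_grHomDeg {i : ℤ} {c : C} (hc : c ∈ 𝒞 i) :
    GrLC.IsGrHomDeg (Hmod I m n).gr 𝓔 (canonEval φ c) i := fun g h hh => by
  rw [add_comm]
  exact symm_homDeg φ hφ hh i c hc

include hφ in
theorem canonEval_mem (c : C) : canonEval φ c ∈ homSub (Hmod I m n) 𝓔 := by
  refine spans_induction (P := fun c => canonEval φ c ∈ homSub (Hmod I m n) 𝓔) (spans_of_decomposition 𝒞) c
    (by rw [map_zero]; exact zero_mem _) (fun a b ha hb => by rw [map_add]; exact add_mem ha hb) fun i a ha => ?_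
  exact AddSubgroup.mem_iSup_of_mem i (canonEval_grHomDeg φ hφ ha)

/-- A *canonical module maps to the dual of the top cohomology. -/
def canonHom : C →ₗ[R] (homMod (Hmod I m n) 𝓔).carrier where
  toFun c := mkDual (canonEval_mem φ hφ c)
  map_add' a b := dualVal_injective (map_add (canonEval φ) a b)
  map_smul' r a := dualVal_injective (map_smul (canonEval φ) r a)

theorem canonHom_mem {i : ℤ} {c : C} (hc : c ∈ 𝒞 i) : canonHom φ hφ c ∈ (homMod (Hmod I m n) 𝓔).gr i :=
  (mem_homMod_gr _ 𝓔).2 (canonEval_grHomDeg φ hφ hc)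

include Γ he in
theorem FieldCtx.canonHom_bijective [IsNoetherianRing R] : Function.Bijective (canonHom φ hφ) := by
  have hgr : GrLC.IsGrHom 𝒞 (homMod (Hmod I m n) 𝓔).gr (canonHom φ hφ) := fun i c hc => canonHom_mem φ hφ hc
  refine ⟨(injective_iff_map_eq_zero _).2 fun c hc => eq_zero_of_proj 𝒞 fun i => ?_, fun f => ?_⟩
  · refine Γ.eq_zero_of_pairing he φ hφ (proj_mem 𝒞 i c) fun h _ => ?_
    have h0 : canonHom φ hφ (proj 𝒞 i c) = 0 := by
      refine (map_proj (𝒩 := (homMod (Hmod I m n) 𝓔).gr) (ℳ' := 𝒞) hgr i c).trans ?_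
      rw [hc, map_zero]
    have h1 : φ.symm h (proj 𝒞 i c) = 0 := LinearMap.congr_fun (congrArg dualVal h0) h
    rw [Γ.pairing_apply, h1, map_zero]
  · refine spans_induction (P := fun f => ∃ c, canonHom φ hφ c = f)
      (spans_of_decomposition (homMod (Hmod I m n) 𝓔).gr) f ⟨0, map_zero _⟩
      (fun a b ⟨c, hc⟩ ⟨c', hc'⟩ => ⟨c + c', by rw [map_add, hc, hc']⟩) fun i f hf => ?_
    let H := Hmod I m n
    have hf' : GrLC.IsGrHomDeg H.gr 𝓔 (dualVal f) (-(-i)) := by
      rw [neg_neg]; exact (mem_homMod_gr H 𝓔).1 hf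
    let lam : I.Hcomp m n (-i) →ₗ[GrLC.deg0 𝒜] GrLC.deg0 𝒜 :=
      { toFun := fun h => Γ.dualMap (ℳ := H.gr) he (-i) ⟨dualVal f, hf'⟩ ⟨h.1, h.2⟩
        map_add' := fun a b =>
          map_add (Γ.dualMap (ℳ := H.gr) he (-i) ⟨dualVal f, hf'⟩)
            (⟨a.1, a.2⟩ : GrLC.comp 𝒜 H.gr (-i)) ⟨b.1, b.2⟩
        map_smul' := fun c a =>
          map_smul (Γ.dualMap (ℳ := H.gr) he (-i) ⟨dualVal f, hf'⟩) c
            (⟨a.1, a.2⟩ : GrLC.comp 𝒜 H.gr (-i)) }
    obtain ⟨c, hc, hlam⟩ := Γ.exists_pairing_eq he φ hφ i lam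
    refine ⟨c, dualVal_injective (Γ.eq_of_grHomDeg H he (j := -i) ?_ hf' fun h hh => ?_)⟩
    · rw [neg_neg]
      exact canonEval_grHomDeg φ hφ hc
    · have h1 : Γ.trace0 he (φ.symm h c) = Γ.trace he ⟨dualVal f h, _⟩ := hlam ⟨h, hh⟩
      have hmem : φ.symm h c ∈ 𝓔 0 := by
        have := symm_homDeg φ hφ hh i c hc
        rwa [add_neg_cancel] at this
      rw [Γ.trace0_of_mem he hmem] at h1
      exact congrArg Subtype.val ((Γ.trace he).injective h1)

/-- A *canonical module is the dual of the top cohomology. -/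
def FieldCtx.canonEquiv [IsNoetherianRing R] : C ≃ₗ[R] (homMod (Hmod I m n) 𝓔).carrier :=
  LinearEquiv.ofBijective (canonHom φ hφ) (Γ.canonHom_bijective he φ hφ)

end Canon

section Top

variable [IsNoetherianRing R] {n : ℕ} (hn : ringKrullDim R = n) {I : GrLC.StarInjRes 𝒜 𝒜}
  {M : GrLC.GMod.{u} 𝒜} (EM : GrLC.StarInjRes 𝒜 M.gr)

include hn in
theorem van_top_succ (N : GrLC.GMod.{u} 𝒜) [Module.Finite R N.carrier] (g : ℤ) : Van m (n + 1) g N :=
  Van.of_equiv (X := toGMod 𝒜 N.gr) (LinearEquiv.refl R N.carrier) (fun _ _ h => h)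
    (van_of_supportDim_lt m N.gr (lt_of_le_of_lt (Module.supportDim_le_ringKrullDim R N.carrier) (by
      rw [hn]; exact_mod_cast Nat.lt_succ_self n)) g)

/-- The action of a module on the top cohomology, between the bundled cohomology modules. -/
def muH : M.carrier →ₗ[R] ((Hmod I m n).carrier →ₗ[R] (Hmod EM m n).carrier) := mu (toGModRes I) EM m n

theorem muH_grHomDeg {g : ℤ} {x : M.carrier} (hx : x ∈ M.gr g) :
    GrLC.IsGrHomDeg (Hmod I m n).gr (Hmod EM m n).gr (muH (I := I) EM x) g := fun h _ hy => by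
  rw [add_comm]
  exact mu_mem_Hgr (toGModRes I) EM hx hy

theorem muH_natural {L : GrLC.GMod.{u} 𝒜} (EL : GrLC.StarInjRes 𝒜 L.gr) {u : L.carrier →ₗ[R] M.carrier}
    (hu : GrLC.IsGrHom L.gr M.gr u) (x : L.carrier) (y : (Hmod I m n).carrier) :
    (Hmap EL EM m hu n : (Hmod EL m n).carrier →ₗ[R] (Hmod EM m n).carrier) (muH (I := I) EL x y) =
      muH (I := I) EM (u x) y :=
  Hmap_mu (toGModRes I) EL EM hu x y

theorem muH_proj {g b : ℤ} {x : M.carrier} (hx : x ∈ M.gr b) (w : (Hmod I m n).carrier) :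
    proj (Hmod EM m n).gr g (muH (I := I) EM x w) = muH (I := I) EM x (proj (Hmod I m n).gr (g - b) w) := by
  refine spans_induction (P := fun w => proj (Hmod EM m n).gr g (muH (I := I) EM x w) =
      muH (I := I) EM x (proj (Hmod I m n).gr (g - b) w))
    (spans_of_decomposition (Hmod I m n).gr) w (by simp only [map_zero])
    (fun p q hp hq => by simp only [map_add, hp, hq]) fun h a ha => ?_
  have hm := muH_grHomDeg (I := I) EM hx h a ha
  rcases eq_or_ne (h + b) g with e' | e'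
  · rw [proj_of_mem (Hmod EM m n).gr (e' ▸ hm : _ ∈ (Hmod EM m n).gr g),
      proj_of_mem (Hmod I m n).gr (show a ∈ (Hmod I m n).gr (g - b) by rwa [show g - b = h by omega])]
  · rw [proj_of_mem_ne (Hmod EM m n).gr hm e', proj_of_mem_ne (Hmod I m n).gr ha (by omega), map_zero]

theorem muComp_mem (f : (homMod (Hmod EM m n) 𝓔).carrier) (x : M.carrier) :
    (dualVal f).comp (muH (I := I) EM x) ∈ homSub (Hmod I m n) 𝓔 := by
  refine spans_induction (P := fun x => (dualVal f).comp (muH (I := I) EM x) ∈ homSub (Hmod I m n) 𝓔)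
    (spans_of_decomposition M.gr) x ?_ (fun a b ha hb => ?_) fun g a ha => ?_
  · rw [map_zero, LinearMap.comp_zero]
    exact zero_mem _
  · rw [map_add, LinearMap.comp_add]
    exact add_mem ha hb
  · exact comp_mem_homSub (muH_grHomDeg EM ha) (dualVal_mem f)

/-- The duality map in the top degree. -/
def topHom : (homMod (Hmod EM m n) 𝓔).carrier →ₗ[R] (M.carrier →ₗ[R] (homMod (Hmod I m n) 𝓔).carrier) where
  toFun f :=
    { toFun := fun x => mkDual (muComp_mem (I := I) EM f x)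
      map_add' := fun a b => dualVal_injective (LinearMap.ext fun y => by
        simp only [map_add, dualVal_mkDual, LinearMap.comp_apply, LinearMap.add_apply])
      map_smul' := fun r a => dualVal_injective (LinearMap.ext fun y => by
        simp only [map_smul, dualVal_mkDual, LinearMap.comp_apply, LinearMap.smul_apply, RingHom.id_apply]) }
  map_add' f g := LinearMap.ext fun x => dualVal_injective (LinearMap.ext fun y => rfl)
  map_smul' r f := LinearMap.ext fun x => dualVal_injective (LinearMap.ext fun y => rfl)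

theorem topHom_apply (f : (homMod (Hmod EM m n) 𝓔).carrier) (x : M.carrier) (y : (Hmod I m n).carrier) :
    dualVal (topHom (I := I) EM f x) y = dualVal f (muH (I := I) EM x y) := rfl

variable [Module.Finite R M.carrier]

set_option maxHeartbeats 1000000 in
include hn in
theorem topHom_bijective : Function.Bijective (topHom (𝓔 := 𝓔) (m := m) (n := n) (I := I) EM) := by
  classical
  have hvan : ∀ X : GrLC.GMod.{u} 𝒜, Module.Finite R X.carrier → ∀ g, Van m (n + 1) g X :=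
    fun X _ g => van_top_succ hn X g
  obtain ⟨t, b, v, hv, -, hsur₀⟩ := exists_mu_surjective (toGModRes I) EM hvan
  have hsur : ∀ y : (Hmod EM m n).carrier, ∃ z : Fin t → (Hmod I m n).carrier,
      y = ∑ i, muH (I := I) EM (v i) (z i) := hsur₀
  refine ⟨(injective_iff_map_eq_zero _).2 fun f hf => dualVal_injective (LinearMap.ext fun y => ?_), fun Φ => ?_⟩
  · obtain ⟨z, rfl⟩ := hsur y
    rw [map_zero, LinearMap.zero_apply, map_sum]
    refine Finset.sum_eq_zero fun i _ => ?_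
    rw [← topHom_apply (I := I) EM f, hf]
    simp only [LinearMap.zero_apply, map_zero]
  obtain ⟨S, hS⟩ := exists_sum_homComp 𝒜 M.gr (homMod (Hmod I m n) 𝓔).gr Φ
  suffices h : ∀ (d : ℤ) (Φ : M.carrier →ₗ[R] (homMod (Hmod I m n) 𝓔).carrier),
      GrLC.IsGrHomDeg M.gr (homMod (Hmod I m n) 𝓔).gr Φ d → ∃ f, topHom (I := I) EM f = Φ by
    choose f hf using fun d => h d _ (homComp_grHomDeg 𝒜 M.gr (homMod (Hmod I m n) 𝓔).gr Φ d)
    exact ⟨∑ d ∈ S, f d, by rw [map_sum]; simp only [hf]; exact hS.symm⟩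
  intro d Φ hΦ
  let β : M.carrier →+ (Hmod I m n).carrier →+ E :=
    AddMonoidHom.mk' (fun x => (dualVal (Φ x)).toAddMonoidHom) fun a a' => AddMonoidHom.ext fun y =>
      LinearMap.congr_fun ((congrArg dualVal (map_add Φ a a')).trans (map_add dualVal _ _)) y
  have hβ : ∀ (r : R) (x : M.carrier) (y : (Hmod I m n).carrier), β (r • x) y = β x (r • y) := fun r x y => by
    show dualVal (Φ (r • x)) y = dualVal (Φ x) (r • y)
    simp only [map_smul, LinearMap.smul_apply]
  obtain ⟨φ₀, hφ₀⟩ := exists_lift_balanced (toGModRes I) EM hvan β hβ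
  let φ : (Hmod EM m n).carrier →+ E := φ₀
  have hφ' : ∀ x y, φ (muH (I := I) EM x y) = dualVal (Φ x) y := fun x y => hφ₀ x y
  let φR : (Hmod EM m n).carrier →ₗ[R] E :=
    { toFun := φ
      map_add' := map_add φ
      map_smul' := fun c y => by
        obtain ⟨z, rfl⟩ := hsur y
        rw [Finset.smul_sum, map_sum, map_sum, Finset.smul_sum]
        refine Finset.sum_congr rfl fun i _ => ?_
        rw [← map_smul (muH (I := I) EM (v i)), hφ', hφ', map_smul, RingHom.id_apply] }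
  have hdeg : GrLC.IsGrHomDeg (Hmod EM m n).gr 𝓔 φR d := by
    intro g y hy
    obtain ⟨z, hz⟩ := hsur y
    have key : y = ∑ i, muH (I := I) EM (v i) (proj (Hmod I m n).gr (g - b i) (z i)) := by
      rw [← proj_of_mem (Hmod EM m n).gr hy, hz, map_sum]
      exact Finset.sum_congr rfl fun i _ => muH_proj EM (hv i) (z i)
    rw [key]
    show φ _ ∈ 𝓔 (g + d)
    rw [map_sum]
    refine sum_mem fun i _ => ?_
    rw [hφ', show g + d = g - b i + (b i + d) by ring]
    exact (mem_homMod_gr _ 𝓔).1 (hΦ (b i) (v i) (hv i)) _ _ (proj_mem _ _ _)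
  exact ⟨mkDual (AddSubgroup.mem_iSup_of_mem d hdeg), LinearMap.ext fun x => dualVal_injective
    (LinearMap.ext fun y => hφ' x y)⟩

/-- Duality in the top degree. -/
def topEquiv : (homMod (Hmod EM m n) 𝓔).carrier ≃ₗ[R] (M.carrier →ₗ[R] (homMod (Hmod I m n) 𝓔).carrier) :=
  LinearEquiv.ofBijective (topHom EM) (topHom_bijective hn EM)

omit [Module.Finite R M.carrier] in
/-- The duality map is natural. -/
theorem topHom_natural {L : GrLC.GMod.{u} 𝒜} (EL : GrLC.StarInjRes 𝒜 L.gr) {u : L.carrier →ₗ[R] M.carrier}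
    (hu : GrLC.IsGrHom L.gr M.gr u) (f : (homMod (Hmod EM m n) 𝓔).carrier) :
    topHom (I := I) EL (dual0 (X := Hmod EL m n) (Y := Hmod EM m n) (Hmap EL EM m hu n)
      (Hmap_grHom m hu n) f) = topHom (I := I) EM f ∘ₗ u :=
  LinearMap.ext fun x => dualVal_injective (LinearMap.ext fun y =>
    congrArg (dualVal f) (muH_natural EM EL hu x y))

end Top

end Groth.Agent.GrLC21
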