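import Groth.Agent.Lib.GrLC21.Split
import Groth.Agent.Lib.GrLC21.AcyclicRes
import Groth.Agent.Lib.GrLC21.DualFun
import Groth.Agent.Lib.LocCoh.TopTensor

/-!
# Change of rings along a graded finite map

Restriction of scalars of graded modules along `R → S`, independence of graded local cohomology of the base ring,
and comparison of the duals into the two envelopes of the residue field.
-/

universe u

open DirectSum

noncomputable section

set_option linter.unusedSectionVars false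
set_option backward.isDefEq.respectTransparency false

namespace Groth.Agent.GrLC21

variable {R : Type u} [CommRing R] {σ : Type u} [SetLike σ R] [AddSubgroupClass σ R]
  {𝒜 : ℤ → σ} [GradedRing 𝒜]
  {S : Type u} [CommRing S] [Algebra R S] {σ' : Type u} [SetLike σ' S] [AddSubgroupClass σ' S]
  {𝒜' : ℤ → σ'} [GradedRing 𝒜']

variable (hmap : ∀ (j : ℤ) (r : R), r ∈ 𝒜 j → algebraMap R S r ∈ 𝒜' j)

/-- Restriction of scalars of a graded module. -/
def resMod (X : GrLC.GMod.{u} 𝒜') : GrLC.GMod.{u} 𝒜 :=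
  letI : Module R X.carrier := Module.compHom X.carrier (algebraMap R S)
  mkGMod X.carrier X.gr (DirectSum.Decomposition.isInternal X.gr) fun a g r x hr hx =>
    smul_mem 𝒜' X.gr (hmap a r hr) hx

/-- The identity between a module and its restriction. -/
def resι (X : GrLC.GMod.{u} 𝒜') : (resMod hmap X).carrier ≃+ X.carrier := AddEquiv.refl _

theorem resι_smul (X : GrLC.GMod.{u} 𝒜') (r : R) (x : (resMod hmap X).carrier) :
    resι hmap X (r • x) = algebraMap R S r • resι hmap X x := rfl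

theorem mem_resMod_gr (X : GrLC.GMod.{u} 𝒜') {g : ℤ} {x : (resMod hmap X).carrier} :
    x ∈ (resMod hmap X).gr g ↔ resι hmap X x ∈ X.gr g := Iff.rfl

/-- A linear map between the restrictions. -/
def resMap {X Y : GrLC.GMod.{u} 𝒜'} (f : X.carrier →ₗ[S] Y.carrier) :
    (resMod hmap X).carrier →ₗ[R] (resMod hmap Y).carrier where
  toFun x := (resι hmap Y).symm (f (resι hmap X x))
  map_add' x y := map_add f _ _
  map_smul' r x := map_smul f (algebraMap R S r) (resι hmap X x)

theorem resMap_grHom {X Y : GrLC.GMod.{u} 𝒜'} {f : X.carrier →ₗ[S] Y.carrier}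
    (hf : GrLC.IsGrHom X.gr Y.gr f) : GrLC.IsGrHom (resMod hmap X).gr (resMod hmap Y).gr (resMap hmap f) :=
  fun g x hx => hf g (resι hmap X x) hx

/-- Multiplication by an element of the larger ring. -/
def resSMul (X : GrLC.GMod.{u} 𝒜') (s : S) : (resMod hmap X).carrier →ₗ[R] (resMod hmap X).carrier :=
  resMap hmap (s • LinearMap.id)

theorem resSMul_mul (X : GrLC.GMod.{u} 𝒜') (s t : S) :
    resSMul hmap X (s * t) = resSMul hmap X s ∘ₗ resSMul hmap X t :=
  LinearMap.ext fun x => mul_smul s t (resι hmap X x)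

theorem resSMul_add (X : GrLC.GMod.{u} 𝒜') (s t : S) :
    resSMul hmap X (s + t) = resSMul hmap X s + resSMul hmap X t :=
  LinearMap.ext fun x => add_smul s t (resι hmap X x)

theorem resSMul_algebraMap (X : GrLC.GMod.{u} 𝒜') (r : R) :
    resSMul hmap X (algebraMap R S r) = r • LinearMap.id := LinearMap.ext fun _ => rfl

variable {m : HomogeneousIdeal 𝒜} {m' : HomogeneousIdeal 𝒜'}
  (hle : m.toIdeal.map (algebraMap R S) ≤ m'.toIdeal)
  (hrad : m'.toIdeal ≤ (m.toIdeal.map (algebraMap R S)).radical)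

include hle hrad in
theorem mem_gam_res [IsNoetherianRing S] (X : GrLC.GMod.{u} 𝒜') (x : (resMod hmap X).carrier) :
    x ∈ GrLC.gam m.toIdeal (resMod hmap X).carrier ↔ resι hmap X x ∈ GrLC.gam m'.toIdeal X.carrier := by
  constructor
  · rintro ⟨N, hN⟩
    obtain ⟨k, hk⟩ := Ideal.exists_pow_le_of_le_radical_of_fg hrad (IsNoetherian.noetherian _)
    refine ⟨k * N, fun s hs => ?_⟩
    have hs' : s ∈ (m.toIdeal ^ N).map (algebraMap R S) := by
      rw [Ideal.map_pow]
      exact Ideal.pow_right_mono hk N (by rwa [← pow_mul])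
    change s ∈ Submodule.span S (algebraMap R S '' ((m.toIdeal ^ N : Ideal R) : Set R)) at hs'
    refine Submodule.span_induction (p := fun s _ => s • resι hmap X x = 0) ?_ (zero_smul _ _)
      (fun a b _ _ ha hb => by rw [add_smul, ha, hb, add_zero])
      (fun a b _ hb => by rw [smul_eq_mul, mul_smul, hb, smul_zero]) hs'
    rintro _ ⟨r, hr, rfl⟩
    rw [← resι_smul, hN r hr, map_zero]
  · rintro ⟨N, hN⟩
    refine ⟨N, fun r hr => (resι hmap X).injective ?_⟩
    rw [resι_smul, map_zero]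
    refine hN _ (Ideal.pow_right_mono hle N ?_)
    rw [← Ideal.map_pow]
    exact Ideal.mem_map_of_mem _ hr

include hrad in
theorem subsingleton_H_res_of_bijective [IsNoetherianRing R] (X : GrLC.GMod.{u} 𝒜') {x : S}
    (hx : x ∈ m'.toIdeal) (hbij : Function.Bijective fun v : X.carrier => x • v) (i : ℕ) :
    Subsingleton (LocCoh.H m.toIdeal i (resMod hmap X).carrier) := by
  classical
  obtain ⟨t, ht⟩ := hrad hx
  have hbt : Function.Bijective fun v : X.carrier => x ^ t • v := by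
    rw [show (fun v : X.carrier => x ^ t • v) = (fun v : X.carrier => x • v)^[t] from (smul_iterate x t).symm]
    exact hbij.iterate t
  let ψ : S → (LocCoh.H m.toIdeal i (resMod hmap X).carrier →ₗ[R] LocCoh.H m.toIdeal i (resMod hmap X).carrier) :=
    fun s => LocCohLib.hmap m.toIdeal i (resSMul hmap X s)
  let e : (resMod hmap X).carrier ≃ₗ[R] (resMod hmap X).carrier :=
    LinearEquiv.ofBijective (resSMul hmap X (x ^ t)) hbt
  have hinj : Function.Injective (ψ (x ^ t)) := (LocCohLib.hcongr m.toIdeal i e).injective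
  have key : ∀ w ∈ m.toIdeal.map (algebraMap R S), ∀ (N : ℕ) (y : LocCoh.H m.toIdeal i (resMod hmap X).carrier),
      (∀ q ∈ m.toIdeal ^ (N + 1), q • y = 0) → ∀ q ∈ m.toIdeal ^ N, q • ψ w y = 0 := by
    intro w hw
    change w ∈ Submodule.span S (algebraMap R S '' (m.toIdeal : Set R)) at hw
    refine Submodule.span_induction (p := fun w _ => ∀ (N : ℕ) (y : LocCoh.H m.toIdeal i (resMod hmap X).carrier),
      (∀ q ∈ m.toIdeal ^ (N + 1), q • y = 0) → ∀ q ∈ m.toIdeal ^ N, q • ψ w y = 0) ?_ ?_ ?_ ?_ hw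
    · rintro _ ⟨r, hr, rfl⟩ N y hy q hq
      have : ψ (algebraMap R S r) = r • LinearMap.id := by
        show LocCohLib.hmap _ _ _ = _
        rw [resSMul_algebraMap, LocCohLib.hmap_smul, LocCohLib.hmap_id]
      rw [this, LinearMap.smul_apply, LinearMap.id_apply, ← mul_smul]
      exact hy _ (by rw [pow_succ]; exact Ideal.mul_mem_mul hq hr)
    · intro N y _ q _
      have : ψ 0 = (0 : R) • LinearMap.id := by
        show LocCohLib.hmap _ _ _ = _
        rw [show (0 : S) = algebraMap R S 0 from (map_zero _).symm, resSMul_algebraMap, LocCohLib.hmap_smul,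
          LocCohLib.hmap_id]
      rw [this, zero_smul, LinearMap.zero_apply, smul_zero]
    · intro a b _ _ ha hb N y hy q hq
      have : ψ (a + b) = ψ a + ψ b := by
        show LocCohLib.hmap _ _ _ = _
        rw [resSMul_add, LocCohLib.hmap_add]
      rw [this, LinearMap.add_apply, smul_add, ha N y hy q hq, hb N y hy q hq, add_zero]
    · intro a b _ hb N y hy q hq
      have : ψ (a • b) = ψ a ∘ₗ ψ b := by
        show LocCohLib.hmap _ _ _ = _
        rw [smul_eq_mul, resSMul_mul, LocCohLib.hmap_comp]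
      rw [this, LinearMap.comp_apply, ← map_smul, hb N y hy q hq, map_zero]
  have hall : ∀ (N : ℕ) (y : LocCoh.H m.toIdeal i (resMod hmap X).carrier),
      (∀ q ∈ m.toIdeal ^ N, q • y = 0) → y = 0 := by
    intro N
    induction N with
    | zero => intro y hy; simpa using hy 1 (by simp)
    | succ N ih => exact fun y hy => hinj ((ih _ (key _ ht N y hy)).trans (map_zero _).symm)
  refine subsingleton_of_forall_eq 0 fun y => ?_
  obtain ⟨N, hN⟩ := LocCohLib.isPowerTorsion m.toIdeal i (resMod hmap X).carrier y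
  exact hall N y hN

include hle hrad in
theorem van_succ_res [IsNoetherianRing R] [IsNoetherianRing S] {X : GrLC.GMod.{u} 𝒜'} (h : IsBasic m' X) (i : ℕ)
    (g : ℤ) : Van m (i + 1) g (resMod hmap X) := by
  rcases h with h | ⟨d, x, -, hx, hbij⟩
  · exact van_succ_of_torsion (fun v => (mem_gam_res hmap hle hrad X v).2 (h _)) i g
  · intro E
    obtain ⟨e⟩ := nonempty_H_equiv E m (i + 1)
    have := subsingleton_H_res_of_bijective hmap hrad X hx hbij (i + 1)
    have := e.injective.subsingleton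
    exact (Hcomp_eq_bot_iff E m).2 fun z _ => Subsingleton.elim z 0

include hle hrad in
/-- The restriction of a *injective module is acyclic. -/
theorem acyc_res [IsNoetherianRing R] [IsNoetherianRing S] {X : GrLC.GMod.{u} 𝒜'}
    (hX : GrLC.IsStarInj 𝒜' X.gr) : Acyc m.toIdeal (resMod hmap X).carrier := by
  have key : ∀ {X Y : GrLC.GMod.{u} 𝒜'} {f : X.carrier →ₗ[S] Y.carrier},
      FacThrough (IsBasic m') X Y f → FacThrough (fun Z => ∀ (i : ℕ) (g : ℤ), Van m (i + 1) g Z)
        (resMod hmap X) (resMod hmap Y) (resMap hmap f) := by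
    intro X Y f hf
    induction hf with
    | zero => exact .zero
    | thru Z hZ f g hf hg =>
      exact .thru (resMod hmap Z) (van_succ_res hmap hle hrad hZ) (resMap hmap f) (resMap hmap g)
        (resMap_grHom hmap hf) (resMap_grHom hmap hg)
    | add _ _ i₁ i₂ => exact .add i₁ i₂
  have h := key (fac_basic_of_starInj hX m')
  exact acyc_of_van fun i g => van_of_fac (show FacThrough _ _ _ LinearMap.id from h) fun _ hZ => hZ i g

variable {M : Type u} [AddCommGroup M] [Module S M] [Module R M] [IsScalarTower R S M]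
  {τ : Type u} [SetLike τ M] [AddSubgroupClass τ M] {ℳ : ℤ → τ} [Decomposition ℳ]
  [SetLike.GradedSMul 𝒜' ℳ] [SetLike.GradedSMul 𝒜 ℳ]

/-- A resolution over the larger ring, restricted. -/
def resRes (E : GrLC.StarInjRes 𝒜' ℳ) : GRes 𝒜 ℳ where
  X n := resMod hmap (E.X n)
  d n := resMap hmap (E.d n)
  ε := { toFun := fun x => (resι hmap (E.X 0)).symm (E.ε x)
         map_add' := map_add E.ε
         map_smul' := fun r x => by
           rw [RingHom.id_apply]
           apply (resι hmap (E.X 0)).injective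
           rw [resι_smul, AddEquiv.apply_symm_apply, AddEquiv.apply_symm_apply, ← algebraMap_smul S r x, map_smul] }
  d_grHom n := resMap_grHom hmap (E.d_grHom n)
  ε_grHom := fun g x hx => E.ε_grHom g x hx
  ε_injective := fun _ _ h => E.ε_injective h
  exact_zero := SetLike.ext fun z => Iff.trans (SetLike.ext_iff.1 E.exact_zero (resι hmap (E.X 0) z)) Iff.rfl
  exact_succ n := SetLike.ext fun z =>
    Iff.trans (SetLike.ext_iff.1 (E.exact_succ n) (resι hmap (E.X (n + 1)) z)) Iff.rfl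

include hle hrad in
/-- Graded local cohomology does not depend on the base ring. -/
theorem exists_H_res_equiv [IsNoetherianRing R] [IsNoetherianRing S] (E : GrLC.StarInjRes 𝒜' ℳ)
    (F : GrLC.StarInjRes 𝒜 ℳ) (i : ℕ) :
    ∃ e : (Hmod F m i).carrier ≃ₗ[R] (resMod hmap (Hmod E m' i)).carrier,
      GrLC.IsGrHom (Hmod F m i).gr (resMod hmap (Hmod E m' i)).gr e.toLinearMap := by
  let G := resRes hmap (𝒜 := 𝒜) E
  obtain ⟨θ, hθ, -⟩ := G.exists_equiv_H m F (fun n => acyc_res hmap hle hrad (E.starInj n)) i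
  have hcoc : ∀ z : (G.X i).carrier, z ∈ G.cocyc m i ↔ resι hmap (E.X i) z ∈ E.cocyc m' i := fun z =>
    and_congr (mem_gam_res hmap hle hrad (E.X i) z) Iff.rfl
  have hcob : ∀ z : (G.X i).carrier, z ∈ G.cobdy m i ↔ resι hmap (E.X i) z ∈ E.cobdy m' i := by
    intro z
    rcases i with _ | l
    · exact (Submodule.mem_bot R (M := (G.X 0).carrier)).trans (Submodule.mem_bot S (M := (E.X 0).carrier) (x := resι hmap (E.X 0) z)).symm
    · constructor
      · rintro ⟨y, hy, rfl⟩
        exact ⟨_, (mem_gam_res hmap hle hrad (E.X l) y).1 hy, rfl⟩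
      · rintro ⟨y, hy, e⟩
        refine ⟨(resι hmap (E.X l)).symm y, (mem_gam_res hmap hle hrad (E.X l) _).2 hy, ?_⟩
        exact e
  let toE : G.cocyc m i → E.cocyc m' i := fun z => ⟨resι hmap (E.X i) z.1, (hcoc z.1).1 z.2⟩
  let ψ₀ : G.cocyc m i →ₗ[R] (resMod hmap (Hmod E m' i)).carrier :=
    { toFun := fun z => (resι hmap (Hmod E m' i)).symm (E.toH m' i (toE z))
      map_add' := fun a b => map_add (E.toH m' i) (toE a) (toE b)
      map_smul' := fun r z => map_smul (E.toH m' i) (algebraMap R S r) (toE z) }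
  let ψ : (G.Hmod m i).carrier →ₗ[R] (resMod hmap (Hmod E m' i)).carrier :=
    Submodule.liftQ (G.cobdyIn m i) ψ₀ fun z hz => (GrLC21.toH_eq_zero_iff E m' _).2 ((hcob _).1 hz)
  have hψ : ∀ z, ψ (G.toH m i z) = ψ₀ z := fun z => rfl
  have hψb : Function.Bijective ψ := by
    refine ⟨(injective_iff_map_eq_zero ψ).2 fun x hx => ?_, fun y => ?_⟩
    · obtain ⟨z, rfl⟩ := G.toH_surjective m i x
      exact (G.toH_eq_zero_iff m z).2 ((hcob _).2 ((GrLC21.toH_eq_zero_iff E m' _).1 hx))
    · obtain ⟨z, rfl⟩ := GrLC21.toH_surjective E m' i y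
      exact ⟨G.toH m i ⟨(resι hmap (E.X i)).symm z.1, (hcoc _).2 z.2⟩, rfl⟩
  have hψg : GrLC.IsGrHom (G.Hmod m i).gr (resMod hmap (Hmod E m' i)).gr ψ := by
    intro g x hx
    obtain ⟨z, hz, rfl⟩ := (G.mem_Hmod_gr m).1 hx
    exact ⟨toE z, hz, rfl⟩
  let θ' : (Hmod F m i).carrier ≃ₗ[R] (G.Hmod m i).carrier := θ.symm
  have hθ' : GrLC.IsGrHom (Hmod F m i).gr (G.Hmod m i).gr θ'.toLinearMap :=
    isGrHom_symm (N := (Hmod F m i).carrier) (e := θ) hθ
  exact ⟨θ'.trans (LinearEquiv.ofBijective ψ hψb), isGrHom_comp hψg hθ'⟩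

/-! ## The duals -/

section Theta

variable (Γ : FieldCtx 𝒜 m) (Γ' : FieldCtx 𝒜' m')
  (hf0 : ∀ s : S, s ∈ 𝒜' 0 → ∃ r ∈ 𝒜 0, algebraMap R S r = s)
  {E : Type u} [AddCommGroup E] [Module R E] {τ₁ : Type u} [SetLike τ₁ E] [AddSubgroupClass τ₁ E]
  {𝓔 : ℤ → τ₁} [Decomposition 𝓔] [SetLike.GradedSMul 𝒜 𝓔] {e : (R ⧸ m.toIdeal) →ₗ[R] E}
  (he : GrLC.IsStarInjHull 𝒜 (GrLC.quotGr 𝒜 m) 𝓔 e)
  {E'' : GrLC.GMod.{u} 𝒜'} {e' : (S ⧸ m'.toIdeal) →ₗ[S] E''.carrier}
  (he' : GrLC.IsStarInjHull 𝒜' (GrLC.quotGr 𝒜' m') E''.gr e')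

include hle Γ Γ' he he' in
theorem exists_tau [IsNoetherianRing R] : ∃ τ : (resMod hmap E'').carrier →ₗ[R] E,
    GrLC.IsGrHom (resMod hmap E'').gr 𝓔 τ ∧
      ∀ r : R, τ ((resι hmap E'').symm (e' (Ideal.Quotient.mk m'.toIdeal (algebraMap R S r)))) =
        e (Ideal.Quotient.mk m.toIdeal r) := by
  let j₀ : R →ₗ[R] (resMod hmap E'').carrier :=
    { toFun := fun r => (resι hmap E'').symm (e' (Ideal.Quotient.mk m'.toIdeal (algebraMap R S r)))
      map_add' := fun a b => by simp only [map_add]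
      map_smul' := fun a b => by
        apply (resι hmap E'').injective
        rw [RingHom.id_apply, resι_smul, AddEquiv.apply_symm_apply, AddEquiv.apply_symm_apply, smul_eq_mul, map_mul,
          ← map_smul e']
        rfl }
  have hj₀ : ∀ r ∈ m.toIdeal, j₀ r = 0 := fun r hr => by
    show (resι hmap E'').symm (e' _) = 0
    rw [Ideal.Quotient.eq_zero_iff_mem.2 (hle (Ideal.mem_map_of_mem _ hr)), map_zero, map_zero]
  let j : (quotMod 𝒜 m).carrier →ₗ[R] (resMod hmap E'').carrier :=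
    Submodule.liftQ m.toIdeal j₀ fun r hr => LinearMap.mem_ker.2 (hj₀ r hr)
  have hj : ∀ r, j (Ideal.Quotient.mk m.toIdeal r) = j₀ r := fun r => rfl
  have hjg : GrLC.IsGrHom (quotMod 𝒜 m).gr (resMod hmap E'').gr j := by
    rintro g _ ⟨r, hr, rfl⟩
    exact he'.grHom g _ ⟨algebraMap R S r, hmap g r hr, rfl⟩
  have hmax : m.toIdeal.IsMaximal := isMaximal_starMax Γ.pos Γ.starLocal.1
  have hji : Function.Injective j := by
    refine (injective_iff_map_eq_zero j).2 fun x hx => ?_
    obtain ⟨r, rfl⟩ := Ideal.Quotient.mk_surjective x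
    rw [hj] at hx
    by_contra hne
    have hr : r ∉ m.toIdeal := fun h => hne (Ideal.Quotient.eq_zero_iff_mem.2 h)
    obtain ⟨t, i, hi, h1⟩ := hmax.exists_inv hr
    have h0 : j₀ 1 = 0 := by
      rw [← h1, map_add, ← smul_eq_mul, map_smul, hx, smul_zero, zero_add]
      exact hj₀ i hi
    have h0' : (1 : S) ∈ m'.toIdeal := by
      have := he'.injective (a₁ := Ideal.Quotient.mk m'.toIdeal (algebraMap R S 1)) (a₂ := 0)
        (((resι hmap E'').symm.injective (h0.trans (map_zero _).symm)).trans (map_zero e').symm)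
      rwa [map_one, Ideal.Quotient.eq_zero_iff_mem] at this
    exact Γ'.starLocal.1.1 (HomogeneousIdeal.ext
      (((Ideal.eq_top_iff_one _).2 h0').trans (HomogeneousIdeal.toIdeal_top (𝒜 := 𝒜')).symm))
  obtain ⟨τ, hτ, hτe⟩ := he.starInj (quotMod 𝒜 m) (resMod hmap E'') j hjg hji e he.grHom
  exact ⟨τ, hτ, fun r => LinearMap.congr_fun hτe (Ideal.Quotient.mk m.toIdeal r)⟩

variable (hf0R : ∀ r : R, r ∈ 𝒜 0 → algebraMap R S r ∈ 𝒜' 0)

include hle Γ Γ' hf0 hf0R he he' in
/-- The two duals agree. -/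
theorem nonempty_dual_res_equiv [IsNoetherianRing R] (X : GrLC.GMod.{u} 𝒜') :
    Nonempty ((resMod hmap (homMod X E''.gr)).carrier ≃ₗ[R] (homMod (resMod hmap X) 𝓔).carrier) := by
  classical
  obtain ⟨τ, hτ, hτe⟩ := exists_tau hmap hle Γ Γ' he he'
  let H := homMod X E''.gr
  have hdeg : ∀ {d : ℤ} {f : H.carrier}, f ∈ H.gr d →
      GrLC.IsGrHomDeg (resMod hmap X).gr 𝓔 (τ ∘ₗ resMap hmap (dualVal f)) d := fun hf g x hx =>
    hτ _ _ ((mem_homMod_gr X E''.gr).1 hf g (resι hmap X x) hx)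
  have hmem : ∀ f : H.carrier, τ ∘ₗ resMap hmap (dualVal f) ∈ homSub (resMod hmap X) 𝓔 := by
    intro f
    refine spans_induction (P := fun f : H.carrier => τ ∘ₗ resMap hmap (dualVal f) ∈ homSub (resMod hmap X) 𝓔)
      (spans_of_decomposition H.gr) f ?_ (fun a b ha hb => ?_)
      (fun d a ha => AddSubgroup.mem_iSup_of_mem d (hdeg ha))
    · rw [show τ ∘ₗ resMap hmap (dualVal (0 : H.carrier)) = 0 from LinearMap.ext fun x => map_zero τ]
      exact zero_mem _
    · rw [show τ ∘ₗ resMap hmap (dualVal (a + b)) = τ ∘ₗ resMap hmap (dualVal a) + τ ∘ₗ resMap hmap (dualVal b) from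
        LinearMap.ext fun x => map_add τ ((resι hmap E'').symm (dualVal a (resι hmap X x))) _]
      exact add_mem ha hb
  let Θ : (resMod hmap H).carrier →ₗ[R] (homMod (resMod hmap X) 𝓔).carrier :=
    { toFun := fun f => mkDual (hmem (resι hmap H f))
      map_add' := fun a b => dualVal_injective (LinearMap.ext fun x =>
        map_add τ ((resι hmap E'').symm (dualVal (resι hmap H a) (resι hmap X x))) _)
      map_smul' := fun r a => dualVal_injective (LinearMap.ext fun x =>
        map_smul τ r ((resι hmap E'').symm (dualVal (resι hmap H a) (resι hmap X x)))) }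
  have hΘ : ∀ f x, dualVal (Θ f) x = τ ((resι hmap E'').symm (dualVal (resι hmap H f) (resι hmap X x))) :=
    fun _ _ => rfl
  have hΘg : GrLC.IsGrHom (resMod hmap H).gr (homMod (resMod hmap X) 𝓔).gr Θ :=
    fun d f hf => (mem_homMod_gr _ 𝓔).2 (hdeg hf)
  have hsoc : ∀ y : E''.carrier, y ∈ E''.gr 0 →
      ∃ r ∈ 𝒜 0, e' (Ideal.Quotient.mk m'.toIdeal (algebraMap R S r)) = y := by
    intro y hy
    obtain ⟨c, hc⟩ := (Γ'.socleMap_bijective he').2 ⟨y, hy⟩
    obtain ⟨r, hr, hrc⟩ := hf0 c.1 c.2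
    exact ⟨r, hr, by rw [hrc]; exact congrArg Subtype.val hc⟩
  have hinj : ∀ d, ∀ f : H.carrier, f ∈ H.gr d → Θ ((resι hmap H).symm f) = 0 → f = 0 := by
    intro d f hf h0
    have hf' : GrLC.IsGrHomDeg X.gr E''.gr (dualVal f) (-(-d)) := by
      rw [neg_neg]; exact (mem_homMod_gr X E''.gr).1 hf
    refine dualVal_injective ((Γ'.eq_of_grHomDeg X he' hf' (g := 0) (fun _ _ _ => zero_mem _) fun x hx => ?_).trans
      (map_zero dualVal).symm)
    have hy : dualVal f x ∈ E''.gr 0 := by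
      have := hf' _ x hx
      rwa [add_neg_cancel] at this
    obtain ⟨r, hr, hry⟩ := hsoc _ hy
    have h1 : τ ((resι hmap E'').symm (dualVal f x)) = 0 :=
      LinearMap.congr_fun (congrArg dualVal h0) ((resι hmap X).symm x)
    rw [← hry, hτe] at h1
    rw [LinearMap.zero_apply, ← hry,
      Γ.deg0_eq_zero hr (Ideal.Quotient.eq_zero_iff_mem.1 (he.injective (h1.trans (map_zero e).symm))),
      map_zero, map_zero, map_zero]
  refine ⟨LinearEquiv.ofBijective Θ ⟨(injective_iff_map_eq_zero Θ).2 fun f hf => ?_, fun g => ?_⟩⟩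
  · refine eq_zero_of_proj (resMod hmap H).gr fun d => ?_
    have h0 : Θ (proj (resMod hmap H).gr d f) = 0 := by
      rw [map_proj (𝒩 := (homMod (resMod hmap X) 𝓔).gr) hΘg d f, hf, map_zero]
    exact hinj d (resι hmap H (proj (resMod hmap H).gr d f)) (proj_mem (resMod hmap H).gr d f) h0
  · refine spans_induction (P := fun g => ∃ f, Θ f = g) (spans_of_decomposition (homMod (resMod hmap X) 𝓔).gr) g
      ⟨0, map_zero _⟩ (fun a b ⟨p, hp⟩ ⟨q, hq⟩ => ⟨p + q, by rw [map_add, hp, hq]⟩) fun d g hg => ?_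
    have hg' : GrLC.IsGrHomDeg (resMod hmap X).gr 𝓔 (dualVal g) (-(-d)) := by
      rw [neg_neg]; exact (mem_homMod_gr _ 𝓔).1 hg
    let σ₀ : GrLC.deg0 𝒜 → GrLC.deg0 𝒜' := fun c => ⟨algebraMap R S c, hf0R c c.2⟩
    let lam₀ : GrLC.comp 𝒜 (resMod hmap X).gr (-d) →ₗ[GrLC.deg0 𝒜] GrLC.deg0 𝒜 :=
      Γ.dualMap (ℳ := (resMod hmap X).gr) he (-d) ⟨dualVal g, hg'⟩
    let tox : GrLC.comp 𝒜' X.gr (-d) → GrLC.comp 𝒜 (resMod hmap X).gr (-d) := fun x => ⟨(resι hmap X).symm x.1, x.2⟩
    let lam : Module.Dual (GrLC.deg0 𝒜') (GrLC.comp 𝒜' X.gr (-d)) :=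
      { toFun := fun x => σ₀ (lam₀ (tox x))
        map_add' := fun a b => Subtype.ext (by
          show algebraMap R S (lam₀ (tox (a + b))) = algebraMap R S (lam₀ (tox a)) + algebraMap R S (lam₀ (tox b))
          rw [show tox (a + b) = tox a + tox b from Subtype.ext rfl, map_add, Subring.coe_add, map_add])
        map_smul' := fun c a => Subtype.ext (by
          obtain ⟨r, hr, hrc⟩ := hf0 c.1 c.2
          show algebraMap R S (lam₀ (tox (c • a))) = (c : S) * algebraMap R S (lam₀ (tox a))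
          rw [show tox (c • a) = (⟨r, hr⟩ : GrLC.deg0 𝒜) • tox a from Subtype.ext ((resι hmap X).injective (by
              show (c : S) • (a : X.carrier) = algebraMap R S r • (a : X.carrier)
              rw [hrc])), map_smul, smul_eq_mul, Subring.coe_mul, map_mul, hrc]) }
    obtain ⟨f, hf⟩ := (Γ'.dualMap_bijective (ℳ := X.gr) he' (-d)).2 lam
    have hfd : GrLC.IsGrHomDeg X.gr E''.gr f.1 d := by
      have h : GrLC.IsGrHomDeg X.gr E''.gr f.1 (-(-d)) := f.2
      intro g x hx
      have e : g + -(-d) = g + d := by ring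
      exact e ▸ h g x hx
    let F : H.carrier := mkDual (AddSubgroup.mem_iSup_of_mem d hfd)
    have hF : F ∈ H.gr d := (mem_homMod_gr X E''.gr).2 hfd
    refine ⟨(resι hmap H).symm F, dualVal_injective (Γ.eq_of_grHomDeg (resMod hmap X) he (j := -d) ?_ hg'
      fun x hx => ?_)⟩
    · rw [neg_neg]; exact hdeg hF
    · have h1 := LinearMap.congr_fun hf ⟨resι hmap X x, hx⟩
      rw [Γ'.dualMap_apply he'] at h1
      replace h1 := congrArg ((Γ'.trace he').symm) h1
      rw [LinearEquiv.symm_apply_apply] at h1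
      have h2 : f.1 (resι hmap X x) =
          e' (Ideal.Quotient.mk m'.toIdeal (algebraMap R S (lam₀ ⟨x, hx⟩))) := congrArg Subtype.val h1
      show τ ((resι hmap E'').symm (f.1 (resι hmap X x))) = dualVal g x
      rw [h2, hτe]
      exact congrArg Subtype.val ((Γ.trace he).symm_apply_apply
        (FieldCtx.restrictPiece (-d) ⟨dualVal g, hg'⟩ ⟨x, hx⟩))

end Theta

end Groth.Agent.GrLC21
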