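import Groth.Agent.Lib.GrLC21.Unique
import Mathlib.RingTheory.GradedAlgebra.Radical
import Mathlib.RingTheory.Noetherian.Basic
import Mathlib.LinearAlgebra.Dimension.Free
import Mathlib.LinearAlgebra.Dimension.Finite
import Mathlib.Algebra.Order.Group.PiLex
import Mathlib.Data.Fintype.Order

/-!
# Homogeneous associated primes and graded dévissage
-/

universe u

open DirectSum

noncomputable section

set_option linter.unusedSectionVars false

namespace Groth.Agent.GrLC21

section Order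

variable {ι : Type} [AddCommGroup ι] [Module.Free ℤ ι] [Module.Finite ℤ ι] {R : Type u} [CommRing R]
  {σ : Type u} [SetLike σ R] [AddSubgroupClass σ R]

theorem isPrime_of_homogeneous [hd : DecidableEq ι] (𝒜 : ι → σ) [GradedRing 𝒜] {I : Ideal R}
    (hI : I.IsHomogeneous 𝒜) (hne : I ≠ ⊤)
    (h : ∀ (a b : ι) (x y : R), x ∈ 𝒜 a → y ∈ 𝒜 b → x * y ∈ I → x ∈ I ∨ y ∈ I) : I.IsPrime := by
  let n := Module.finrank ℤ ι
  let f : ι → Lex (Fin n → ℤ) := fun a => toLex ((Module.finBasis ℤ ι).equivFun a)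
  have hf : Function.Injective f := fun a b e =>
    (Module.finBasis ℤ ι).equivFun.injective (toLex.injective e)
  have hadd : ∀ a b, f (a + b) = f a + f b := fun a b => by
    show toLex _ = toLex _ + toLex _
    rw [map_add]
    rfl
  let L : LinearOrder ι := LinearOrder.lift' f hf
  obtain rfl : hd = L.toDecidableEq := Subsingleton.elim _ _
  have : IsOrderedCancelAddMonoid ι :=
    { add_le_add_left := fun a b hab c => by
        show f (a + c) ≤ f (b + c)
        rw [hadd, hadd]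
        exact add_le_add_left (show f a ≤ f b from hab) (f c)
      le_of_add_le_add_left := fun a b c hbc => by
        show f b ≤ f c
        have h' : f (a + b) ≤ f (a + c) := hbc
        rw [hadd, hadd] at h'
        exact le_of_add_le_add_left h' }
  exact Ideal.IsHomogeneous.isPrime_of_homogeneous_mem_or_mem hI hne
    fun {x y} ⟨a, ha⟩ ⟨b, hb⟩ hxy => h a b x y ha hb hxy

end Order

variable {ι : Type} [AddCommGroup ι] [DecidableEq ι]
variable {R : Type u} [CommRing R] {σ : Type u} [SetLike σ R] [AddSubgroupClass σ R]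
  {𝒜 : ι → σ} [GradedRing 𝒜]
variable {M : Type u} [AddCommGroup M] [Module R M] {τ : Type u} [SetLike τ M] [AddSubgroupClass τ M]
  {ℳ : ι → τ} [Decomposition ℳ] [SetLike.GradedSMul 𝒜 ℳ]

theorem proj_smul_homogeneous {g : ι} {x : M} (hx : x ∈ ℳ g) (a : ι) (r : R) :
    proj 𝒜 a r • x = proj ℳ (a + g) (r • x) := by
  refine spans_induction (spans_of_decomposition 𝒜) r (by simp)
    (fun y z hy hz => by rw [map_add, add_smul, add_smul, map_add, hy, hz]) fun b y hy => ?_
  rcases eq_or_ne b a with rfl | e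
  · rw [proj_of_mem 𝒜 hy, proj_of_mem ℳ (smul_mem 𝒜 ℳ hy hx)]
  · rw [proj_of_mem_ne 𝒜 hy e, zero_smul,
      proj_of_mem_ne ℳ (smul_mem 𝒜 ℳ hy hx) fun h => e (add_right_cancel h)]

variable (ℳ) in
include ℳ in
/-- The annihilator of a homogeneous element. -/
theorem isHomogeneous_annihilator {g : ι} {x : M} (hx : x ∈ ℳ g) :
    ((R ∙ x).annihilator).IsHomogeneous 𝒜 := by
  intro a r hr
  rw [Submodule.mem_annihilator_span_singleton] at hr ⊢
  change proj 𝒜 a r • x = 0
  rw [proj_smul_homogeneous hx, hr, map_zero]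

variable (ℳ) in
/-- A nonzero graded module has a homogeneous element with prime annihilator. -/
theorem exists_prime_annihilator [IsNoetherianRing R] [Module.Free ℤ ι] [Module.Finite ℤ ι]
    [Nontrivial M] :
    ∃ (g : ι) (x : M) (p : HomogeneousIdeal 𝒜),
      x ∈ ℳ g ∧ p.toIdeal.IsPrime ∧ (R ∙ x).annihilator = p.toIdeal := by
  let S : Set (Ideal R) := {I | ∃ g, ∃ x ∈ ℳ g, x ≠ 0 ∧ (R ∙ x).annihilator = I}
  have hne : S.Nonempty := by
    obtain ⟨y, hy⟩ := exists_ne (0 : M)
    by_contra h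
    refine hy (eq_zero_of_proj ℳ fun g => by_contra fun h0 => h ⟨_, g, _, proj_mem ℳ g y, h0, rfl⟩)
  obtain ⟨I, ⟨g, x, hx, hx0, rfl⟩, hmax⟩ := set_has_maximal_iff_noetherian.2 inferInstance S hne
  refine ⟨g, x, ⟨_, isHomogeneous_annihilator ℳ hx⟩, hx, ?_, rfl⟩
  show ((R ∙ x).annihilator).IsPrime
  refine isPrime_of_homogeneous 𝒜 (isHomogeneous_annihilator ℳ hx) (fun h => ?_) fun a b r s hr hs hrs => ?_
  · have h1 : (1 : R) ∈ (R ∙ x).annihilator := h ▸ Submodule.mem_top
    exact hx0 (by simpa using (Submodule.mem_annihilator_span_singleton x (1 : R)).1 h1)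
  · by_contra! hh
    have hsx : s • x ≠ 0 := fun e => hh.2 ((Submodule.mem_annihilator_span_singleton _ _).2 e)
    have hle : (R ∙ x).annihilator ≤ (R ∙ s • x).annihilator := fun t ht =>
      (Submodule.mem_annihilator_span_singleton _ _).2
        (by rw [smul_comm, (Submodule.mem_annihilator_span_singleton _ _).1 ht, smul_zero])
    refine hmax (R ∙ s • x).annihilator ⟨_, _, smul_mem 𝒜 ℳ hs hx, hsx, rfl⟩ (lt_of_le_of_ne hle fun e => hh.1 ?_)
    rw [e, Submodule.mem_annihilator_span_singleton, ← mul_smul]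
    exact (Submodule.mem_annihilator_span_singleton _ _).1 hrs

/-- The cyclic submodule on such an element. -/
theorem exists_cyclic_equiv (X : GrLC.GMod.{u} 𝒜) {g : ι} {x : X.carrier} (hx : x ∈ X.gr g)
    (p : HomogeneousIdeal 𝒜) (hp : (R ∙ x).annihilator = p.toIdeal) :
    ∃ e : (shift (quotMod 𝒜 p) g).carrier ≃ₗ[R]
        (sub X (R ∙ x) (isHomogeneous_span_singleton 𝒜 hx)).carrier,
      GrLC.IsGrHom (shift (quotMod 𝒜 p) g).gr (sub X (R ∙ x) (isHomogeneous_span_singleton 𝒜 hx)).gr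
        e.toLinearMap := by
  let f : R →ₗ[R] (R ∙ x) := (LinearMap.toSpanSingleton R X.carrier x).codRestrict _ fun r =>
    Submodule.smul_mem _ r (Submodule.mem_span_singleton_self x)
  have hker : LinearMap.ker f = p.toIdeal := by
    ext r
    rw [← hp, Submodule.mem_annihilator_span_singleton]
    exact ⟨fun h => congrArg Subtype.val h, fun h => Subtype.ext h⟩
  have hsur : Function.Surjective f := fun ⟨y, hy⟩ => by
    obtain ⟨r, rfl⟩ := Submodule.mem_span_singleton.1 hy
    exact ⟨r, rfl⟩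
  let e : (R ⧸ p.toIdeal) ≃ₗ[R] (R ∙ x) :=
    (Submodule.quotEquivOfEq _ _ hker.symm).trans (f.quotKerEquivOfSurjective hsur)
  refine ⟨e, ?_⟩
  rintro d _ ⟨r, hr, rfl⟩
  show r • x ∈ X.gr d
  have := smul_mem 𝒜 X.gr hr hx
  rwa [sub_add_cancel] at this

/-- Dévissage for finite graded modules. -/
theorem devissage [IsNoetherianRing R] [Module.Free ℤ ι] [Module.Finite ℤ ι]
    (P : GrLC.GMod.{u} 𝒜 → Prop)
    (hzero : ∀ X : GrLC.GMod.{u} 𝒜, Subsingleton X.carrier → P X)
    (hiso : ∀ (X Y : GrLC.GMod.{u} 𝒜) (e : X.carrier ≃ₗ[R] Y.carrier),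
      GrLC.IsGrHom X.gr Y.gr e.toLinearMap → P X → P Y)
    (hprime : ∀ (p : HomogeneousIdeal 𝒜), p.toIdeal.IsPrime → ∀ g, P (shift (quotMod 𝒜 p) g))
    (hext : ∀ (A B C : GrLC.GMod.{u} 𝒜) (f : A.carrier →ₗ[R] B.carrier) (g : B.carrier →ₗ[R] C.carrier),
      GrLC.IsGrHom A.gr B.gr f → GrLC.IsGrHom B.gr C.gr g → Function.Injective f → Function.Surjective g →
        LinearMap.range f = LinearMap.ker g → P A → P C → P B)
    (X : GrLC.GMod.{u} 𝒜) [Module.Finite R X.carrier] : P X := by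
  let S : Set (Submodule R X.carrier) := {N | ∃ h : N.IsHomogeneous X.gr, P (sub X N h)}
  have hne : S.Nonempty :=
    ⟨⊥, isHomogeneous_bot _, hzero _ (Unique.instSubsingleton (α := (⊥ : Submodule R X.carrier)))⟩
  obtain ⟨N, ⟨hN, hPN⟩, hmax⟩ := set_has_maximal_iff_noetherian.2
    (inferInstance : IsNoetherian R X.carrier) S hne
  by_cases htop : N = ⊤
  · subst htop
    exact hiso _ X Submodule.topEquiv (fun _ _ h => h) hPN
  exfalso
  have : Nontrivial (quot X N hN).carrier := Submodule.Quotient.nontrivial_iff.2 htop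
  obtain ⟨g, x, p, hx, hp, hann⟩ := exists_prime_annihilator (𝒜 := 𝒜) (quot X N hN).gr
  let Q : Submodule R (quot X N hN).carrier := R ∙ x
  have hQ : Q.IsHomogeneous (quot X N hN).gr := isHomogeneous_span_singleton 𝒜 hx
  have hN' := isHomogeneous_comap (quotπ_grHom X N hN) hQ
  obtain ⟨e, he⟩ := exists_cyclic_equiv (quot X N hN) hx p hann
  let N' := Q.comap (quotπ X N hN)
  have hle : N ≤ N' := fun y hy => by
    show quotπ X N hN y ∈ Q
    rw [show quotπ X N hN y = 0 from (Submodule.Quotient.mk_eq_zero N).2 hy]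
    exact zero_mem _
  have hlt : N < N' := lt_of_le_of_ne hle fun h => by
    obtain ⟨y, rfl⟩ := quotπ_surjective X N hN x
    have hy : y ∈ N' := Submodule.mem_span_singleton_self _
    rw [← h] at hy
    have h0 : quotπ X N hN y = 0 := (Submodule.Quotient.mk_eq_zero N).2 hy
    refine hp.ne_top (hann ▸ ?_)
    rw [Ideal.eq_top_iff_one, Submodule.mem_annihilator_span_singleton, h0, smul_zero]
  refine hmax N' ⟨hN', hext (sub X N hN) (sub X N' hN') (sub (quot X N hN) Q hQ)
    (Submodule.inclusion hle) ((quotπ X N hN).restrict fun y hy => hy)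
    (fun d y hy => hy) (fun d y hy => quotπ_grHom X N hN d _ hy) (Submodule.inclusion_injective hle)
    (fun ⟨z, hz⟩ => ?_) ?_ hPN (hiso _ _ e he (hprime p hp g))⟩ hlt
  · obtain ⟨y, rfl⟩ := quotπ_surjective X N hN z
    exact ⟨⟨y, hz⟩, rfl⟩
  · refine le_antisymm ?_ fun y hy => ?_
    · rintro _ ⟨y, rfl⟩
      exact Subtype.ext ((Submodule.Quotient.mk_eq_zero N).2 y.2)
    · exact ⟨⟨y.1, (Submodule.Quotient.mk_eq_zero N).1 (congrArg Subtype.val hy)⟩, rfl⟩

end Groth.Agent.GrLC21
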