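import Groth.Agent.Lib.GrLC21.Shift
import Groth.Agent.Lib.GrLC21.Res
import Groth.Agent.Lib.GrLC21.Primes
import Groth.Agent.Lib.GrLC21.Pieces
import Groth.Agent.Lib.GrLC21.Acyclic
import Groth.Agent.Lib.GrLC21.FGHom

/-!
# Finiteness and vanishing in high degrees of graded local cohomology at the irrelevant ideal
-/

universe u

open DirectSum

noncomputable section

set_option linter.unusedSectionVars false

namespace Groth.Agent.GrLC21

section General

variable {ι : Type} [AddCommGroup ι] [DecidableEq ι]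
variable {R : Type u} [CommRing R] {σ : Type u} [SetLike σ R] [AddSubgroupClass σ R]
  {𝒜 : ι → σ} [GradedRing 𝒜]
variable {M : Type u} [AddCommGroup M] [Module R M] {τ : Type u} [SetLike τ M] [AddSubgroupClass τ M]
  {ℳ : ι → τ} [Decomposition ℳ] [SetLike.GradedSMul 𝒜 ℳ]
variable {N : Type u} [AddCommGroup N] [Module R N] {τ' : Type u} [SetLike τ' N] [AddSubgroupClass τ' N]
  {𝒩 : ι → τ'} [Decomposition 𝒩] [SetLike.GradedSMul 𝒜 𝒩]
variable {E : GrLC.StarInjRes 𝒜 ℳ} {F : GrLC.StarInjRes 𝒜 𝒩} {a : HomogeneousIdeal 𝒜} {i j : ℕ}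

/-- A homogeneous map on one piece. -/
def pieceMap (φ : E.H a i →ₗ[R] F.H a j) (hφ : GrLC.IsGrHom (E.Hgr a i) (F.Hgr a j) φ) (g : ι) :
    E.Hcomp a i g →ₗ[GrLC.deg0 𝒜] F.Hcomp a j g :=
  ((φ.restrictScalars (GrLC.deg0 𝒜)).comp (E.Hcomp a i g).subtype).codRestrict _ fun x => hφ g _ x.2

theorem pieceMap_apply (φ : E.H a i →ₗ[R] F.H a j) (hφ : GrLC.IsGrHom (E.Hgr a i) (F.Hgr a j) φ) (g : ι)
    (x : E.Hcomp a i g) : (pieceMap φ hφ g x : F.H a j) = φ x := rfl

theorem exact_pieceMap {P : Type u} [AddCommGroup P] [Module R P] {τ'' : Type u} [SetLike τ'' P]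
    [AddSubgroupClass τ'' P] {𝒫' : ι → τ''} [Decomposition 𝒫'] [SetLike.GradedSMul 𝒜 𝒫']
    {G : GrLC.StarInjRes 𝒜 𝒫'} {l : ℕ} {φ : E.H a i →ₗ[R] F.H a j}
    {ψ : F.H a j →ₗ[R] G.H a l} (hφ : GrLC.IsGrHom (E.Hgr a i) (F.Hgr a j) φ)
    (hψ : GrLC.IsGrHom (F.Hgr a j) (G.Hgr a l) ψ) (h : Function.Exact φ ψ) (g : ι) :
    Function.Exact (pieceMap φ hφ g) (pieceMap ψ hψ g) := fun y => by
  refine ⟨fun hy => ?_, ?_⟩
  · obtain ⟨x, hx, e⟩ := exists_preimage_Hgr hφ y.2 ((h y.1).1 (congrArg Subtype.val hy))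
    exact ⟨⟨x, hx⟩, Subtype.ext e⟩
  · rintro ⟨x, rfl⟩
    exact Subtype.ext ((h _).2 ⟨x.1, rfl⟩)

theorem Hcomp_subsingleton_iff (g : ι) : Subsingleton (E.Hcomp a i g) ↔ E.Hcomp a i g = ⊥ :=
  Submodule.subsingleton_iff_eq_bot

theorem subsingleton_H_of_subsingleton [Subsingleton M] (i : ℕ) : Subsingleton (E.H a i) := by
  refine subsingleton_of_forall_eq 0 fun x => ?_
  have h := (ResMap.id E).onH_eq_zero a (fun m => by
    rw [Subsingleton.elim m 0, map_zero, map_zero]) i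
  rw [ResMap.onH_id] at h
  exact LinearMap.congr_fun h x

theorem exists_Hcomp_zero_lift {g : ι} {x : E.H a 0} (hx : x ∈ E.Hgr a 0 g) :
    ∃ m ∈ ℳ g, m ∈ GrLC.gam a.toIdeal M ∧ ∃ h : E.ε m ∈ E.cocyc a 0, E.toH a 0 ⟨E.ε m, h⟩ = x := by
  obtain ⟨z, hz, rfl⟩ := hx
  have hr : (z : (E.X 0).carrier) ∈ LinearMap.range E.ε := E.exact_zero ▸ z.2.2
  obtain ⟨m, hm, e⟩ := exists_homogeneous_preimage E.ε_grHom hz hr
  refine ⟨m, hm, mem_gam_of_injective E.ε E.ε_injective (e ▸ z.2.1), e ▸ z.2, congrArg _ (Subtype.ext e)⟩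

/-- The piece of the module maps onto the piece of `H^0`. -/
theorem finite_Hcomp_zero [IsNoetherianRing R] [Module.Finite R M] (g : ι) :
    Module.Finite (GrLC.deg0 𝒜) (E.Hcomp a 0 g) := by
  have := isNoetherianRing_deg0 𝒜
  have := isNoetherian_piece 𝒜 ℳ g
  let W : Submodule (GrLC.deg0 𝒜) (GrLC.comp 𝒜 ℳ g) :=
    ((GrLC.gam a.toIdeal M).restrictScalars (GrLC.deg0 𝒜)).comap (GrLC.comp 𝒜 ℳ g).subtype
  let f : W →ₗ[GrLC.deg0 𝒜] E.Hcomp a 0 g :=
    (((E.toH a 0).restrictScalars (GrLC.deg0 𝒜)).comp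
      (((E.ε.restrictScalars (GrLC.deg0 𝒜)).comp ((GrLC.comp 𝒜 ℳ g).subtype.comp W.subtype)).codRestrict
        ((E.cocyc a 0).restrictScalars (GrLC.deg0 𝒜)) fun w =>
        ⟨map_mem_gam E.ε w.2, E.exact_zero.ge (LinearMap.mem_range_self E.ε _)⟩)).codRestrict _
      fun w => ⟨_, E.ε_grHom g _ w.1.2, rfl⟩
  refine Module.Finite.of_surjective f fun x => ?_
  obtain ⟨m, hm, hmg, h, e⟩ := exists_Hcomp_zero_lift x.2
  exact ⟨⟨⟨m, hm⟩, hmg⟩, Subtype.ext e⟩

/-- A power of the ideal kills the torsion of a Noetherian module. -/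
theorem exists_pow_kills_gam [IsNoetherianRing R] [Module.Finite R M] (a : Ideal R) :
    ∃ N : ℕ, ∀ r ∈ a ^ N, ∀ x ∈ GrLC.gam a M, r • x = 0 := by
  let F : ℕ →o Submodule R M :=
    { toFun := fun n => Submodule.torsionBySet R M ((a ^ n : Ideal R) : Set R)
      monotone' := fun m n h => Submodule.torsionBySet_le_torsionBySet_of_subset (Ideal.pow_le_pow_right h) }
  obtain ⟨N, hN⟩ := monotone_stabilizes_iff_noetherian.2 (inferInstance : IsNoetherian R M) F
  refine ⟨N, fun r hr x ⟨n, hn⟩ => ?_⟩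
  have hx : x ∈ F (max N n) := (InjHullLib.mem_torsion_iff).2 fun s hs =>
    hn s (Ideal.pow_le_pow_right (le_max_right N n) hs)
  rw [← hN _ (le_max_left N n)] at hx
  exact (InjHullLib.mem_torsion_iff).1 hx r hr

end General

section Irrelevant

variable {R : Type u} [CommRing R] [IsNoetherianRing R] {σ : Type u} [SetLike σ R] [AddSubgroupClass σ R]
  {𝒜 : ℤ → σ} [GradedRing 𝒜]

theorem exists_bound_of_killed_gmod (hpos : ∀ n : ℤ, n < 0 → ∀ r ∈ 𝒜 n, r = 0) (a : HomogeneousIdeal 𝒜)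
    (ha : a.toIdeal = Ideal.span (⋃ n ∈ Set.Ioi (0 : ℤ), (𝒜 n : Set R))) (T : GrLC.GMod.{u} 𝒜)
    [Module.Finite R T.carrier] (N : ℕ) (hkill : ∀ r ∈ a.toIdeal ^ N, ∀ x : T.carrier, r • x = 0) :
    ∃ b : ℤ, ∀ n, b ≤ n → ∀ x ∈ T.gr n, x = 0 :=
  exists_bound_of_killed (𝒜 := 𝒜) T.gr hpos a ha N hkill

theorem exists_Hcomp_zero_bound (hpos : ∀ n : ℤ, n < 0 → ∀ r ∈ 𝒜 n, r = 0) (a : HomogeneousIdeal 𝒜)
    (ha : a.toIdeal = Ideal.span (⋃ n ∈ Set.Ioi (0 : ℤ), (𝒜 n : Set R))) (X : GrLC.GMod.{u} 𝒜)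
    [Module.Finite R X.carrier] (E : GrLC.StarInjRes 𝒜 X.gr) :
    ∃ b : ℤ, ∀ n, b ≤ n → E.Hcomp a 0 n = ⊥ := by
  obtain ⟨N, hN⟩ := exists_pow_kills_gam (M := X.carrier) a.toIdeal
  let T := sub X (GrLC.gam a.toIdeal X.carrier) (gam_isHomogeneous a X.gr)
  have : Module.Finite R T.carrier := Module.Finite.iff_fg.2 (IsNoetherian.noetherian _)
  obtain ⟨b, hb⟩ := exists_bound_of_killed_gmod hpos a ha T N fun r hr x => Subtype.ext (hN r hr x.1 x.2)
  refine ⟨b, fun n hn => (Hcomp_eq_bot_iff E a).2 fun x hx => ?_⟩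
  obtain ⟨m, hm, hmg, h, rfl⟩ := exists_Hcomp_zero_lift hx
  have hm0 : m = 0 := congrArg Subtype.val (hb n hn ⟨m, hmg⟩ hm)
  refine (congrArg (E.toH a 0) (Subtype.ext ?_ : (⟨E.ε m, h⟩ : E.cocyc a 0) = 0)).trans (map_zero _)
  subst hm0
  exact map_zero E.ε

/-- The two properties in degree `i`. -/
def Bounded (a : HomogeneousIdeal 𝒜) (i : ℕ) (X : GrLC.GMod.{u} 𝒜) : Prop :=
  ∀ E : GrLC.StarInjRes 𝒜 X.gr, (∀ n, Module.Finite (GrLC.deg0 𝒜) (E.Hcomp a i n)) ∧
    ∃ b : ℤ, ∀ n, b ≤ n → E.Hcomp a i n = ⊥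

theorem bounded_of_subsingleton (a : HomogeneousIdeal 𝒜) (i : ℕ) (X : GrLC.GMod.{u} 𝒜)
    (h : ∀ E : GrLC.StarInjRes 𝒜 X.gr, Subsingleton (E.H a i)) : Bounded a i X := fun E => by
  have hb := (subsingleton_H_iff E a).1 (h E)
  refine ⟨fun n => ?_, 0, fun n _ => hb n⟩
  have := h E
  exact inferInstance

theorem bounded_of_iso (a : HomogeneousIdeal 𝒜) (i : ℕ) (X Y : GrLC.GMod.{u} 𝒜)
    (e : X.carrier ≃ₗ[R] Y.carrier) (he : GrLC.IsGrHom X.gr Y.gr e.toLinearMap) (h : Bounded a i X) :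
    Bounded a i Y := fun F => by
  obtain ⟨E⟩ := nonempty_res (𝒜 := 𝒜) X.gr
  have hf : ∀ n, Function.Surjective (pieceMap (Hmap E F a he i) (Hmap_grHom a he i) n) := fun n y => by
    obtain ⟨x, hx, hxy⟩ := exists_preimage_Hgr (Hmap_grHom a he i) y.2
      ((Hequiv E F a e he i).surjective y.1)
    exact ⟨⟨x, hx⟩, Subtype.ext hxy⟩
  obtain ⟨hfin, b, hb⟩ := h E
  refine ⟨fun n => ?_, b, fun n hn => ?_⟩
  · have := hfin n
    exact Module.Finite.of_surjective _ (hf n)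
  · have := (Hcomp_subsingleton_iff n).2 (hb n hn)
    exact (Hcomp_subsingleton_iff n).1 ((hf n).subsingleton)

theorem bounded_of_ext (a : HomogeneousIdeal 𝒜) (i : ℕ) (A B C : GrLC.GMod.{u} 𝒜)
    (f : A.carrier →ₗ[R] B.carrier) (g : B.carrier →ₗ[R] C.carrier) (hf : GrLC.IsGrHom A.gr B.gr f)
    (hg : GrLC.IsGrHom B.gr C.gr g) (hfi : Function.Injective f) (hgs : Function.Surjective g)
    (hex : LinearMap.range f = LinearMap.ker g) (hA : Bounded a i A) (hC : Bounded a i C) :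
    Bounded a i B := fun E₂ => by
  obtain ⟨E₁⟩ := nonempty_res (𝒜 := 𝒜) A.gr
  obtain ⟨E₃⟩ := nonempty_res (𝒜 := 𝒜) C.gr
  obtain ⟨δ, -, -, hexact, -, -⟩ := exists_LES E₁ E₂ E₃ a hf hg hfi hgs hex
  have hp := fun n => exact_pieceMap (Hmap_grHom a hf i) (Hmap_grHom a hg i) (hexact i) n
  obtain ⟨hAf, bA, hbA⟩ := hA E₁
  obtain ⟨hCf, bC, hbC⟩ := hC E₃
  have := isNoetherianRing_deg0 𝒜
  refine ⟨fun n => ?_, max bA bC, fun n hn => (Hcomp_subsingleton_iff n).1 ?_⟩
  · have := hAf n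
    have := hCf n
    have : IsNoetherian (GrLC.deg0 𝒜) (E₂.Hcomp a i n) := isNoetherian_of_range_eq_ker _ _
      (LinearMap.exact_iff.1 (hp n)).symm
    exact Module.IsNoetherian.finite _ _
  · have hA0 := (Hcomp_subsingleton_iff n).2 (hbA n (le_trans (le_max_left _ _) hn))
    have hC0 := (Hcomp_subsingleton_iff n).2 (hbC n (le_trans (le_max_right _ _) hn))
    refine subsingleton_of_forall_eq 0 fun y => ?_
    obtain ⟨x, rfl⟩ := (hp n y).1 (Subsingleton.elim _ _)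
    rw [Subsingleton.elim x 0, map_zero]

/-- Finiteness of the pieces and vanishing in high degrees. -/
theorem bounded_finite (hpos : ∀ n : ℤ, n < 0 → ∀ r ∈ 𝒜 n, r = 0) (a : HomogeneousIdeal 𝒜)
    (ha : a.toIdeal = Ideal.span (⋃ n ∈ Set.Ioi (0 : ℤ), (𝒜 n : Set R))) (i : ℕ) :
    ∀ (X : GrLC.GMod.{u} 𝒜) [Module.Finite R X.carrier], Bounded a i X := by
  induction i with
  | zero =>
    intro X _ E
    exact ⟨fun n => finite_Hcomp_zero n, exists_Hcomp_zero_bound hpos a ha X E⟩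
  | succ i ih =>
    intro X _
    refine devissage (Bounded a (i + 1))
      (fun Y h => bounded_of_subsingleton a _ Y fun E => subsingleton_H_of_subsingleton _)
      (bounded_of_iso a (i + 1)) (fun p hp g => ?_) (bounded_of_ext a (i + 1)) X
    by_cases hap : a.toIdeal ≤ p.toIdeal
    · refine bounded_of_subsingleton a _ _ fun E => ?_
      obtain ⟨e⟩ := nonempty_H_equiv E a (i + 1)
      have : Subsingleton (LocCoh.H a.toIdeal (i + 1) (shift (quotMod 𝒜 p) g).carrier) :=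
        LocCohLib.subsingleton_of_isPowerTorsion a.toIdeal i _ fun z => ⟨1, fun r hr => by
          obtain ⟨b, hb⟩ := Ideal.Quotient.mk_surjective (I := p.toIdeal) z
          rw [pow_one] at hr
          subst hb
          exact Ideal.Quotient.eq_zero_iff_mem.2 (p.toIdeal.mul_mem_right _ (hap hr))⟩
      exact e.toEquiv.subsingleton
    obtain ⟨k, d, x, hxd, hax⟩ := exists_pos_gens hpos a ha
    obtain ⟨j, hj⟩ : ∃ j, x j ∉ p.toIdeal := by
      by_contra! h
      exact hap (hax ▸ Ideal.span_le.2 (by rintro _ ⟨j, rfl⟩; exact h j))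
    intro E₂
    let Y := shift (quotMod 𝒜 p) g
    let mx := smulMap Y (k := d j) (x j)
    have hmx := smulMap_grHom Y (hxd j).2
    have hinj : Function.Injective mx := by
      rw [injective_iff_map_eq_zero]
      intro z hz
      obtain ⟨b, hb⟩ := Ideal.Quotient.mk_surjective (I := p.toIdeal) z
      subst hb
      have h1 : x j * b ∈ p.toIdeal := Ideal.Quotient.eq_zero_iff_mem.1 hz
      exact Ideal.Quotient.eq_zero_iff_mem.2 ((hp.mem_or_mem h1).resolve_left hj)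
    have hrange := isHomogeneous_range (𝒩 := Y.gr) (spans_of_decomposition (shift Y (d j)).gr) hmx
    let C := quot Y (LinearMap.range mx) hrange
    have : Module.Finite R Y.carrier := (inferInstance : Module.Finite R (R ⧸ p.toIdeal))
    have : Module.Finite R C.carrier := (inferInstance : Module.Finite R (Y.carrier ⧸ LinearMap.range mx))
    obtain ⟨E₃⟩ := nonempty_res (𝒜 := 𝒜) C.gr
    let E₁ := shiftRes Y (d j) E₂
    obtain ⟨δ, hδ, -, -, -, hexδ⟩ := exists_LES E₁ E₂ E₃ a hmx (quotπ_grHom Y _ hrange) hinj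
      (quotπ_surjective Y _ hrange) (ker_quotπ Y _ hrange).symm
    have hp' := fun n => exact_pieceMap (hδ i) (Hmap_grHom a hmx (i + 1)) (hexδ i) n
    obtain ⟨hCf, bC, hbC⟩ := ih C E₃
    have hd := (hxd j).1
    -- the pieces of the shifted cohomology
    have htrans : ∀ n, Nonempty (E₁.Hcomp a (i + 1) n ≃ₗ[GrLC.deg0 𝒜] E₂.Hcomp a (i + 1) (n - d j)) := by
      intro n
      refine ⟨LinearEquiv.ofBijective ((((shiftH Y (d j) E₂ a (i + 1)).toLinearMap.restrictScalars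
        (GrLC.deg0 𝒜)).comp (E₁.Hcomp a (i + 1) n).subtype).codRestrict (E₂.Hcomp a (i + 1) (n - d j))
        fun z => (mem_Hgr_shift Y (d j) E₂ a (i + 1) n _).1 z.2) ⟨fun u v h => ?_, fun y => ?_⟩⟩
      · exact Subtype.ext ((shiftH Y (d j) E₂ a (i + 1)).injective (congrArg Subtype.val h))
      · refine ⟨⟨(shiftH Y (d j) E₂ a (i + 1)).symm y.1, (mem_Hgr_shift Y (d j) E₂ a (i + 1) n _).2 ?_⟩,
          Subtype.ext ((shiftH Y (d j) E₂ a (i + 1)).apply_symm_apply _)⟩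
        rw [LinearEquiv.apply_symm_apply]
        exact y.2
    -- multiplication is injective in high degrees
    have hvan : ∀ m, bC - d j ≤ m → E₂.Hcomp a (i + 1) m = ⊥ := by
      have hstep : ∀ y : E₂.H a (i + 1), ∀ m, bC - d j ≤ m → y ∈ E₂.Hgr a (i + 1) m → x j • y = 0 → y = 0 := by
        intro y m hm hy hxy
        obtain ⟨e⟩ := htrans (m + d j)
        obtain ⟨z, hz⟩ : ∃ z : E₁.Hcomp a (i + 1) (m + d j), shiftH Y (d j) E₂ a (i + 1) z.1 = y := by
          refine ⟨⟨(shiftH Y (d j) E₂ a (i + 1)).symm y, (mem_Hgr_shift Y (d j) E₂ a (i + 1) _ _).2 ?_⟩, ?_⟩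
          · rw [LinearEquiv.apply_symm_apply, add_sub_cancel_right]; exact hy
          · exact LinearEquiv.apply_symm_apply _ _
        obtain ⟨w, hw⟩ := (hp' (m + d j) z).1 (Subtype.ext (by
          rw [pieceMap_apply, Hmap_smul Y E₂ a (hxd j).2, hz, hxy]; rfl))
        have := (Hcomp_subsingleton_iff (E := E₃) (m + d j)).2 (hbC _ (by omega))
        rw [← hz, ← hw, Subsingleton.elim w 0, map_zero]
        exact map_zero _
      intro m hm
      refine (Hcomp_eq_bot_iff E₂ a).2 fun y hy => ?_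
      obtain ⟨e⟩ := nonempty_H_equiv E₂ a (i + 1)
      obtain ⟨N, hN⟩ := LocCohLib.isPowerTorsion a.toIdeal (i + 1) Y.carrier (e y)
      have hxa : x j ∈ a.toIdeal := hax ▸ Ideal.subset_span ⟨j, rfl⟩
      have hkill : x j ^ N • y = 0 := e.injective (by
        rw [map_smul, map_zero, hN _ (Ideal.pow_mem_pow hxa N)])
      clear hN
      induction N generalizing y m with
      | zero => simpa using hkill
      | succ N ihN =>
        refine hstep y m hm hy (ihN (m + d j) (by omega) (x j • y) ?_ (by rwa [← mul_smul, ← pow_succ]))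
        have := smul_mem_Hgr E₂ a (d j) m (x j) y (hxd j).2 hy
        rwa [add_comm (d j) m] at this
    refine ⟨fun m => ?_, bC - d j, hvan⟩
    have := isNoetherianRing_deg0 𝒜
    suffices H : ∀ (t : ℕ) (m : ℤ), (bC - d j - m).toNat ≤ t → Module.Finite (GrLC.deg0 𝒜) (E₂.Hcomp a (i + 1) m) from
      H _ m le_rfl
    intro t
    induction t with
    | zero =>
      intro m hm
      have : Subsingleton (E₂.Hcomp a (i + 1) m) := (Hcomp_subsingleton_iff m).2 (hvan m (by omega))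
      exact inferInstance
    | succ t iht =>
      intro m hm
      rcases le_or_gt (bC - d j) m with h | h
      · have : Subsingleton (E₂.Hcomp a (i + 1) m) := (Hcomp_subsingleton_iff m).2 (hvan m h)
        exact inferInstance
      have := hCf (m + d j)
      have := iht (m + d j) (by omega)
      have hN : IsNoetherian (GrLC.deg0 𝒜) (E₁.Hcomp a (i + 1) (m + d j)) :=
        isNoetherian_of_range_eq_ker _ _ (LinearMap.exact_iff.1 (hp' (m + d j))).symm
      obtain ⟨e⟩ := htrans (m + d j)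
      rw [add_sub_cancel_right] at e
      exact Module.Finite.equiv e

end Irrelevant

end Groth.Agent.GrLC21
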