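import Groth.Agent.Lib.GrLC21.Primes
import Mathlib.LinearAlgebra.LinearIndependent.Lemmas
import Mathlib.LinearAlgebra.Basis.Basic

/-!
# Modules over rings whose nonzero homogeneous elements are units
-/

universe u

open DirectSum

noncomputable section

set_option linter.unusedSectionVars false

namespace Groth.Agent.GrLC21

variable {ι : Type} [AddCommGroup ι] [DecidableEq ι]
variable {R : Type u} [CommRing R] {σ : Type u} [SetLike σ R] [AddSubgroupClass σ R]
  {𝒜 : ι → σ} [GradedRing 𝒜]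
variable {M : Type u} [AddCommGroup M] [Module R M] {τ : Type u} [SetLike τ M] [AddSubgroupClass τ M]
  (ℳ : ι → τ) [Decomposition ℳ] [SetLike.GradedSMul 𝒜 ℳ]

/-- Every graded module over a graded field has a homogeneous basis. -/
theorem exists_homogeneous_basis (hu : ∀ g, ∀ r ∈ 𝒜 g, r ≠ 0 → IsUnit r) :
    ∃ (κ : Type u) (b : Module.Basis κ R M), ∀ i : κ, SetLike.IsHomogeneousElem ℳ (b i) := by
  let v : {x : M // SetLike.IsHomogeneousElem ℳ x} → M := Subtype.val
  obtain ⟨s, hs, hmax⟩ := exists_maximal_linearIndepOn R v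
  have hhom : (Submodule.span R (v '' s)).IsHomogeneous ℳ :=
    isHomogeneous_span 𝒜 (by rintro _ ⟨i, -, rfl⟩; exact i.2)
  have hspan : ∀ g, ∀ x ∈ ℳ g, x ∈ Submodule.span R (v '' s) := by
    intro g x hx
    by_cases hi : (⟨x, g, hx⟩ : {x : M // SetLike.IsHomogeneousElem ℳ x}) ∈ s
    · exact Submodule.subset_span ⟨_, hi, rfl⟩
    obtain ⟨r, hr, hrx⟩ := hmax _ hi
    obtain ⟨a, ha⟩ : ∃ a, proj 𝒜 a r ≠ 0 := by
      by_contra! h
      exact hr (eq_zero_of_proj 𝒜 h)
    have h1 : proj 𝒜 a r • x ∈ Submodule.span R (v '' s) := by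
      rw [proj_smul_homogeneous hx]
      exact hhom (a + g) hrx
    obtain ⟨u, hu'⟩ := hu a _ (proj_mem 𝒜 a r) ha
    rw [← hu'] at h1
    have h2 := Submodule.smul_mem _ ((u⁻¹ : Rˣ) : R) h1
    rwa [← mul_smul, Units.inv_mul, one_smul] at h2
  refine ⟨s, Module.Basis.mk hs.linearIndependent ?_, fun i => ?_⟩
  · rintro x -
    rw [← sum_proj ℳ x]
    refine Submodule.sum_mem _ fun g _ => ?_
    have h := hspan g _ (proj_mem ℳ g x)
    rwa [Set.image_eq_range] at h
  · rw [Module.Basis.mk_apply]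
    exact i.1.2

end Groth.Agent.GrLC21
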