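import Groth.Agent.Lib.GrLC21.PrimeHull
import Groth.Agent.Lib.GrLC21.FGHom
import Groth.Agent.Lib.GrLC21.Finite
import Mathlib.RingTheory.Filtration
import Mathlib.LinearAlgebra.LinearPMap
import Mathlib.Algebra.Module.Injective

/-!
# *injective envelopes of graded residue fields are injective
-/

universe u

open DirectSum

noncomputable section

set_option linter.unusedSectionVars false

namespace Groth.Agent.GrLC21

variable {R : Type u} [CommRing R] [IsNoetherianRing R] {E : Type u} [AddCommGroup E] [Module R E]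

theorem mem_of_smul_mem_maximal {m J : Ideal R} [m.IsMaximal] {x c : R} (hx : ∀ r ∈ m, r * x ∈ J)
    (hxJ : x ∉ J) (hc : c * x ∈ J) : c ∈ m := by
  by_contra h
  obtain ⟨d, s, hs, e⟩ := Ideal.IsMaximal.exists_inv ‹_› h
  refine hxJ ?_
  have h' : x = d * (c * x) + s * x := by rw [← mul_assoc, ← add_mul, e, one_mul]
  rw [h']
  exact J.add_mem (J.mul_mem_left d hc) (hx s hs)

/-- A torsion module for a maximal ideal is injective once maps from that ideal extend. -/
theorem injective_of_gam_eq_top {m : Ideal R} [m.IsMaximal] (htors : GrLC.gam m E = ⊤)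
    (hext : ∀ g : m →ₗ[R] E, ∃ e : E, ∀ r : m, g r = (r : R) • e) : Module.Injective R E := by
  refine Module.Baer.injective fun I g => ?_
  obtain ⟨k, hk⟩ : ∃ k, ∀ r ∈ m ^ k, ∀ x : I, r • g x = 0 := by
    have : Module.Finite R (LinearMap.range g) := Module.Finite.range g
    obtain ⟨k, hk⟩ := exists_pow_kills_gam (M := LinearMap.range g) m
    refine ⟨k, fun r hr x => congrArg Subtype.val (hk r hr ⟨g x, x, rfl⟩ ?_)⟩
    exact mem_gam_of_injective (LinearMap.range g).subtype (Submodule.subtype_injective _)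
      (htors ▸ Submodule.mem_top)
  obtain ⟨K, hK⟩ := Ideal.exists_pow_inf_eq_pow_smul m (M := R) I
  let n := K + k
  have hzero : ∀ x : I, (x : R) ∈ m ^ n → g x = 0 := by
    intro x hx
    have h1 : (x : R) ∈ m ^ n • (⊤ : Ideal R) ⊓ I := ⟨by simpa using hx, x.2⟩
    rw [hK n (Nat.le_add_right K k), show n - K = k from by omega] at h1
    have h2 : (x : R) ∈ (m ^ k • (⊤ : Submodule R I)).map I.subtype := by
      rw [Submodule.map_smul'', Submodule.map_top, Submodule.range_subtype]
      exact Submodule.smul_mono le_rfl inf_le_right h1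
    obtain ⟨y, hy, e⟩ := h2
    rw [show x = y from Subtype.ext e.symm]
    refine Submodule.smul_induction_on hy (fun r hr z _ => ?_) fun u v hu hv => by rw [map_add, hu, hv, add_zero]
    rw [map_smul]
    exact hk r hr z
  let S : Set (Ideal R) := {J | ∃ p : R →ₗ.[R] E, p.domain = J ∧ (⟨I, g⟩ : R →ₗ.[R] E) ≤ p ∧ m ^ n ≤ p.domain}
  have hne : S.Nonempty := by
    let z : R →ₗ.[R] E := ⟨m ^ n, 0⟩
    have h : ∀ (x : (⟨I, g⟩ : R →ₗ.[R] E).domain) (y : z.domain), (x : R) = y →
        (⟨I, g⟩ : R →ₗ.[R] E) x = z y := fun x y e => hzero x (e ▸ y.2)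
    exact ⟨_, (⟨I, g⟩ : R →ₗ.[R] E).sup z h, rfl, LinearPMap.left_le_sup _ _ h,
      (LinearPMap.right_le_sup (⟨I, g⟩ : R →ₗ.[R] E) z h).1⟩
  obtain ⟨J, ⟨p, rfl, hp, hn⟩, hmax⟩ := set_has_maximal_iff_noetherian.2 inferInstance S hne
  by_cases htop : p.domain = ⊤
  · refine ⟨p.toFun.comp ((Submodule.topEquiv (R := R) (M := R)).symm.trans
      (LinearEquiv.ofEq _ _ htop.symm)).toLinearMap, fun x hx => ?_⟩
    exact (hp.2 (x := ⟨x, hx⟩) rfl).symm
  exfalso
  classical
  have hex : ∃ j, m ^ j ≤ p.domain := ⟨n, hn⟩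
  obtain ⟨j, hj⟩ : ∃ j, Nat.find hex = j + 1 := by
    refine Nat.exists_eq_succ_of_ne_zero fun h => htop (top_le_iff.1 ?_)
    have := Nat.find_spec hex
    rwa [h, pow_zero, Ideal.one_eq_top] at this
  obtain ⟨x, hxm, hxJ⟩ := SetLike.not_le_iff_exists.1 (Nat.find_min hex (show j < Nat.find hex by omega))
  have hmx : ∀ r ∈ m, r * x ∈ p.domain := fun r hr => by
    have h := Nat.find_spec hex
    rw [hj, pow_succ'] at h
    exact h (Ideal.mul_mem_mul hr hxm)
  obtain ⟨e, he⟩ := hext
    { toFun := fun r => p ⟨r.1 * x, hmx r r.2⟩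
      map_add' := fun a b => by
        rw [← p.map_add]
        exact congrArg p (Subtype.ext (add_mul a.1 b.1 x))
      map_smul' := fun c a => by
        rw [RingHom.id_apply, ← p.map_smul]
        exact congrArg p (Subtype.ext (mul_assoc c a.1 x)) }
  have he' : ∀ (c : R) (h : c * x ∈ p.domain), p ⟨c * x, h⟩ = c • e := fun c h =>
    he ⟨c, mem_of_smul_mem_maximal hmx hxJ h⟩
  have H : ∀ c : R, c • x = 0 → c • e = 0 := fun c hc => by
    have h : c * x ∈ p.domain := by rw [show c * x = 0 from hc]; exact p.domain.zero_mem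
    rw [← he' c h, show (⟨c * x, h⟩ : p.domain) = 0 from Subtype.ext hc, p.map_zero]
  let q : R →ₗ.[R] E := LinearPMap.mkSpanSingleton' (σ := RingHom.id R) x e H
  have hagree : ∀ (a : p.domain) (b : q.domain), (a : R) = b → p a = q b := by
    rintro ⟨a, ha⟩ ⟨b, hb⟩ hab
    obtain ⟨c, rfl⟩ := Submodule.mem_span_singleton.1 hb
    subst hab
    rw [LinearPMap.mkSpanSingleton'_apply]
    exact he' c ha
  refine hmax (p.sup q hagree).domain ⟨_, rfl, hp.trans (LinearPMap.left_le_sup p q hagree),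
    hn.trans (LinearPMap.left_le_sup p q hagree).1⟩ ?_
  refine lt_of_le_not_ge (LinearPMap.left_le_sup p q hagree).1 fun h => hxJ (h ?_)
  exact (LinearPMap.right_le_sup p q hagree).1 (Submodule.mem_span_singleton_self x)

variable {ι : Type} [AddCommGroup ι] [DecidableEq ι] {σ : Type u} [SetLike σ R] [AddSubgroupClass σ R]
  {𝒜 : ι → σ} [GradedRing 𝒜] {m : HomogeneousIdeal 𝒜} [m.toIdeal.IsMaximal]
  {τ : Type u} [SetLike τ E] [AddSubgroupClass τ E]
  {𝓔 : ι → τ} [Decomposition 𝓔] [SetLike.GradedSMul 𝒜 𝓔] {e : (R ⧸ m.toIdeal) →ₗ[R] E}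

theorem injective_starInjHull_maximal (he : GrLC.IsStarInjHull 𝒜 (GrLC.quotGr 𝒜 m) 𝓔 e) :
    Module.Injective R E := by
  refine injective_of_gam_eq_top (gam_eq_top_of_isStarEss he.toIsStarEss) fun g => ?_
  let X := toGMod 𝒜 𝒜
  let P : Submodule R X.carrier := m.toIdeal
  have hP : P.IsHomogeneous X.gr := by
    intro d x hx
    change proj X.gr d x ∈ P
    have h : x = ∑ g ∈ degs (M := R) 𝒜 x, (show X.carrier from proj (M := R) 𝒜 g x) := (sum_proj (M := R) 𝒜 x).symm
    rw [h, map_sum]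
    refine P.sum_mem fun g _ => ?_
    rcases eq_or_ne g d with rfl | e
    · rw [proj_of_mem X.gr (show _ ∈ X.gr g from proj_mem (M := R) 𝒜 g x)]
      exact m.isHomogeneous g hx
    · rw [proj_of_mem_ne X.gr (show _ ∈ X.gr g from proj_mem (M := R) 𝒜 g x) e]
      exact P.zero_mem
  let A := sub X P hP
  have : Module.Finite R A.carrier :=
    (inferInstance : Module.Finite R m.toIdeal)
  obtain ⟨ψ, hψ⟩ := exists_extend_any he.starInj (subι_grHom X P hP) (subι_injective X P hP) g
  let ψ' : R →ₗ[R] E := ψ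
  refine ⟨ψ' 1, fun r => ?_⟩
  rw [← map_smul, smul_eq_mul, mul_one]
  exact (LinearMap.congr_fun hψ r).symm

end Groth.Agent.GrLC21
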