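import Groth.Agent.Lib.GrLC21.Map
import Mathlib.Algebra.Exact.Basic

/-!
# The horseshoe lemma and the long exact sequence of graded local cohomology
-/

universe u

open DirectSum

noncomputable section

set_option linter.unusedSectionVars false

namespace Groth.Agent.GrLC21

variable {ι : Type} [AddCommGroup ι] [DecidableEq ι]
variable {R : Type u} [CommRing R] {σ : Type u} [SetLike σ R] [AddSubgroupClass σ R]
  {𝒜 : ι → σ} [GradedRing 𝒜]
variable {M : Type u} [AddCommGroup M] [Module R M] {τ : Type u} [SetLike τ M] [AddSubgroupClass τ M]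
  {ℳ : ι → τ} [Decomposition ℳ] [SetLike.GradedSMul 𝒜 ℳ]
variable {N : Type u} [AddCommGroup N] [Module R N] {τ' : Type u} [SetLike τ' N] [AddSubgroupClass τ' N]
  {𝒩 : ι → τ'} [Decomposition 𝒩] [SetLike.GradedSMul 𝒜 𝒩]
variable {P : Type u} [AddCommGroup P] [Module R P] {τ'' : Type u} [SetLike τ'' P] [AddSubgroupClass τ'' P]
  {𝒫' : ι → τ''} [Decomposition 𝒫'] [SetLike.GradedSMul 𝒜 𝒫']

section Horseshoe

variable (E₁ : GrLC.StarInjRes 𝒜 ℳ) (E₃ : GrLC.StarInjRes 𝒜 𝒫')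

/-- A component of the twist. -/
abbrev TwistStep (n : ℕ) : Type u :=
  {t : (E₃.X n).carrier →ₗ[R] (E₁.X (n + 1)).carrier //
    GrLC.IsGrHom (E₃.X n).gr (E₁.X (n + 1)).gr t ∧
      LinearMap.ker (E₃.d n) ≤ LinearMap.ker (E₁.d (n + 1) ∘ₗ t)}

variable {E₁ E₃}

theorem TwistStep.exists_next {n : ℕ} (s : TwistStep E₁ E₃ n) :
    ∃ t : TwistStep E₁ E₃ (n + 1), ∀ y, E₁.d (n + 1) (s.1 y) + t.1 (E₃.d n y) = 0 := by
  obtain ⟨w, hw, e⟩ := exists_extend (E₁.starInj (n + 2)) (E₃.d_grHom n)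
    (isGrHom_neg (isGrHom_comp (E₁.d_grHom (n + 1)) s.2.1)) fun x hx => by
      show -(E₁.d (n + 1) (s.1 x)) = 0
      rw [show E₁.d (n + 1) (s.1 x) = 0 from s.2.2 hx, neg_zero]
  have e' : ∀ y, w (E₃.d n y) = -(E₁.d (n + 1) (s.1 y)) := fun y => LinearMap.congr_fun e y
  refine ⟨⟨w, hw, fun x hx => ?_⟩, fun y => by rw [e' y, add_neg_cancel]⟩
  rw [E₃.exact_succ n] at hx
  obtain ⟨y, rfl⟩ := hx
  rw [LinearMap.mem_ker, LinearMap.comp_apply, e' y, map_neg, d_d, neg_zero]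

/-- The horseshoe. -/
theorem exists_horseshoe {f : M →ₗ[R] N} {g : N →ₗ[R] P} (hf : GrLC.IsGrHom ℳ 𝒩 f)
    (hg : GrLC.IsGrHom 𝒩 𝒫' g) (hfi : Function.Injective f) (hgs : Function.Surjective g)
    (hex : LinearMap.range f = LinearMap.ker g) :
    ∃ (E₂ : GrLC.StarInjRes 𝒜 𝒩) (i : ResMap E₁ E₂) (p : ResMap E₂ E₃)
      (q : ∀ n, (E₂.X n).carrier →ₗ[R] (E₁.X n).carrier)
      (j : ∀ n, (E₃.X n).carrier →ₗ[R] (E₂.X n).carrier),
      i.Lifts f ∧ p.Lifts g ∧ (∀ n, GrLC.IsGrHom (E₃.X n).gr (E₂.X n).gr (j n)) ∧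
      (∀ n x, q n (i.f n x) = x) ∧ (∀ n y, p.f n (j n y) = y) ∧ (∀ n y, q n (j n y) = 0) ∧
      (∀ n x, p.f n (i.f n x) = 0) ∧ ∀ n z, i.f n (q n z) + j n (p.f n z) = z := by
  obtain ⟨η, hη, eη⟩ : ∃ η : N →ₗ[R] (E₁.X 0).carrier,
      GrLC.IsGrHom 𝒩 (E₁.X 0).gr η ∧ η ∘ₗ f = E₁.ε := exists_extend (E₁.starInj 0) (X := toGMod 𝒜 ℳ) (Y := toGMod 𝒜 𝒩) (d := f)
    hf (u := E₁.ε) E₁.ε_grHom fun x hx => by
      have h0 : x = 0 := hfi (hx.trans f.map_zero.symm)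
      rw [h0]
      exact Submodule.zero_mem _
  have eη' : ∀ m, η (f m) = E₁.ε m := fun m => LinearMap.congr_fun eη m
  obtain ⟨w, hw, ew⟩ : ∃ w : (E₃.X 0).carrier →ₗ[R] (E₁.X 1).carrier,
      GrLC.IsGrHom (E₃.X 0).gr (E₁.X 1).gr w ∧ w ∘ₗ (E₃.ε ∘ₗ g) = E₁.d 0 ∘ₗ η := exists_extend (E₁.starInj 1) (X := toGMod 𝒜 𝒩) (d := E₃.ε ∘ₗ g)
    (fun n x hx => E₃.ε_grHom n _ (hg n x hx)) (u := E₁.d 0 ∘ₗ η) (isGrHom_comp (E₁.d_grHom 0) hη)
    fun x hx => by
      have hx' : g x = 0 := E₃.ε_injective (hx.trans E₃.ε.map_zero.symm)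
      obtain ⟨m, hm⟩ : x ∈ LinearMap.range f := hex.ge hx'
      rw [← hm]
      show E₁.d 0 (η (f m)) = 0
      rw [eη']
      exact LinearMap.mem_ker.1 (E₁.exact_zero.ge (LinearMap.mem_range_self E₁.ε m))
  have ew' : ∀ x, w (E₃.ε (g x)) = E₁.d 0 (η x) := fun x => LinearMap.congr_fun ew x
  let t₀ : TwistStep E₁ E₃ 0 := ⟨-w, isGrHom_neg hw, fun y hy => by
    rw [E₃.exact_zero] at hy
    obtain ⟨m, rfl⟩ := hy
    obtain ⟨x, rfl⟩ := hgs m
    show E₁.d 1 (-(w (E₃.ε (g x)))) = 0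
    rw [ew', map_neg, d_d, neg_zero]⟩
  let t : ∀ n, TwistStep E₁ E₃ n := fun n =>
    Nat.rec t₀ (fun _ s => (TwistStep.exists_next s).choose) n
  have ht : ∀ n y, E₁.d (n + 1) ((t n).1 y) + (t (n + 1)).1 (E₃.d n y) = 0 := fun n y =>
    (TwistStep.exists_next (t n)).choose_spec y
  let D : ∀ n, (prod (E₁.X n) (E₃.X n)).carrier →ₗ[R] (prod (E₁.X (n + 1)) (E₃.X (n + 1))).carrier :=
    fun n => LinearMap.prod (E₁.d n ∘ₗ LinearMap.fst R _ _ + (t n).1 ∘ₗ LinearMap.snd R _ _)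
      (E₃.d n ∘ₗ LinearMap.snd R (E₁.X n).carrier (E₃.X n).carrier)
  have hD : ∀ n (x : (E₁.X n).carrier) (y : (E₃.X n).carrier),
      D n (x, y) = (E₁.d n x + (t n).1 y, E₃.d n y) := fun _ _ _ => rfl
  let E₂ : GrLC.StarInjRes 𝒜 𝒩 :=
    { X := fun n => prod (E₁.X n) (E₃.X n)
      d := D
      ε := LinearMap.prod η (E₃.ε ∘ₗ g)
      d_grHom := fun n d z hz =>
        ⟨add_mem (E₁.d_grHom n d z.1 hz.1) ((t n).2.1 d z.2 hz.2), E₃.d_grHom n d z.2 hz.2⟩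
      ε_grHom := fun d x hx => ⟨hη d x hx, E₃.ε_grHom d _ (hg d x hx)⟩
      ε_injective := by
        refine (injective_iff_map_eq_zero (LinearMap.prod η (E₃.ε ∘ₗ g))).2 fun x hx => ?_
        have h1 : η x = 0 := congrArg Prod.fst hx
        have h2 : g x = 0 := E₃.ε_injective ((congrArg Prod.snd hx).trans E₃.ε.map_zero.symm)
        obtain ⟨m, rfl⟩ : x ∈ LinearMap.range f := hex.ge h2
        rw [E₁.ε_injective (((eη' m).symm.trans h1).trans E₁.ε.map_zero.symm), map_zero]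
      exact_zero := by
        refine le_antisymm ?_ ?_
        · rintro ⟨x, y⟩ hxy
          have h1 : E₁.d 0 x + -(w y) = 0 := congrArg Prod.fst hxy
          have h2 : E₃.d 0 y = 0 := congrArg Prod.snd hxy
          obtain ⟨m, rfl⟩ : y ∈ LinearMap.range E₃.ε := E₃.exact_zero.le h2
          obtain ⟨n, rfl⟩ := hgs m
          obtain ⟨m₁, hm₁⟩ : x - η n ∈ LinearMap.range E₁.ε := E₁.exact_zero.le (by
            rw [LinearMap.mem_ker, map_sub, ← ew', sub_eq_add_neg]; exact h1)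
          refine ⟨n + f m₁, Prod.ext ?_ ?_⟩
          · show η (n + f m₁) = x
            rw [map_add, eη', hm₁, add_sub_cancel]
          · show E₃.ε (g (n + f m₁)) = E₃.ε (g n)
            rw [map_add, LinearMap.mem_ker.1 (hex.le (LinearMap.mem_range_self f m₁)), add_zero]
        · rintro _ ⟨n, rfl⟩
          refine Prod.ext ?_ ?_
          · show E₁.d 0 (η n) + -(w (E₃.ε (g n))) = 0
            rw [ew', add_neg_cancel]
          · exact LinearMap.mem_ker.1 (E₃.exact_zero.ge (LinearMap.mem_range_self E₃.ε (g n)))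
      exact_succ := fun n => by
        refine le_antisymm ?_ ?_
        · rintro ⟨x, y⟩ hxy
          have h1 : E₁.d (n + 1) x + (t (n + 1)).1 y = 0 := congrArg Prod.fst hxy
          have h2 : E₃.d (n + 1) y = 0 := congrArg Prod.snd hxy
          obtain ⟨y₀, rfl⟩ : y ∈ LinearMap.range (E₃.d n) := (E₃.exact_succ n).le h2
          obtain ⟨x₀, hx₀⟩ : x - (t n).1 y₀ ∈ LinearMap.range (E₁.d n) := (E₁.exact_succ n).le (by
            rw [LinearMap.mem_ker, map_sub, sub_eq_zero, eq_neg_of_add_eq_zero_left h1,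
              eq_neg_of_add_eq_zero_left (ht n y₀)])
          exact ⟨(x₀, y₀), Prod.ext (by rw [hD, hx₀]; exact sub_add_cancel x _) rfl⟩
        · rintro _ ⟨⟨x, y⟩, rfl⟩
          refine Prod.ext ?_ ?_
          · show E₁.d (n + 1) (E₁.d n x + (t n).1 y) + (t (n + 1)).1 (E₃.d n y) = 0
            rw [map_add, d_d, zero_add, ht]
          · exact d_d E₃ n y
      starInj := fun n => starInj_prod (E₁.starInj n) (E₃.starInj n) }
  refine ⟨E₂, ⟨fun n => LinearMap.inl R (E₁.X n).carrier (E₃.X n).carrier,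
      fun n d x hx => ⟨hx, zero_mem _⟩, fun n x => Prod.ext ?_ (map_zero (E₃.d n))⟩,
    ⟨fun n => LinearMap.snd R (E₁.X n).carrier (E₃.X n).carrier, fun n d z hz => hz.2, fun n z => rfl⟩,
    fun n => LinearMap.fst R (E₁.X n).carrier (E₃.X n).carrier,
    fun n => LinearMap.inr R (E₁.X n).carrier (E₃.X n).carrier,
    fun m => Prod.ext (eη' m).symm ?_, fun m => rfl, fun n d y hy => ⟨zero_mem _, hy⟩,
    fun n x => rfl, fun n y => rfl, fun n y => rfl, fun n x => rfl,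
    fun n z => Prod.ext (add_zero z.1) (zero_add z.2)⟩
  · show E₁.d n x + (t n).1 0 = E₁.d n x
    rw [map_zero, add_zero]
  · show (0 : (E₃.X 0).carrier) = E₃.ε (g (f m))
    rw [LinearMap.mem_ker.1 (hex.le (LinearMap.mem_range_self f m)), map_zero]

end Horseshoe

section Exact

variable (E₁ : GrLC.StarInjRes 𝒜 ℳ) (E₂ : GrLC.StarInjRes 𝒜 𝒩) (E₃ : GrLC.StarInjRes 𝒜 𝒫')
  (a : HomogeneousIdeal 𝒜)

/-- The long exact sequence. -/
theorem exists_LES {f : M →ₗ[R] N} {g : N →ₗ[R] P} (hf : GrLC.IsGrHom ℳ 𝒩 f)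
    (hg : GrLC.IsGrHom 𝒩 𝒫' g) (hfi : Function.Injective f) (hgs : Function.Surjective g)
    (hex : LinearMap.range f = LinearMap.ker g) :
    ∃ δ : ∀ i, E₃.H a i →ₗ[R] E₁.H a (i + 1),
      (∀ i, GrLC.IsGrHom (E₃.Hgr a i) (E₁.Hgr a (i + 1)) (δ i)) ∧
      Function.Injective (Hmap E₁ E₂ a hf 0) ∧
      (∀ i, Function.Exact (Hmap E₁ E₂ a hf i) (Hmap E₂ E₃ a hg i)) ∧
      (∀ i, Function.Exact (Hmap E₂ E₃ a hg i) (δ i)) ∧
      ∀ i, Function.Exact (δ i) (Hmap E₁ E₂ a hf (i + 1)) := by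
  obtain ⟨F, I, p, q, j, hI, hp, hj, hqi, hpj, hqj, hpi, hsum⟩ :=
    exists_horseshoe (E₁ := E₁) (E₃ := E₃) hf hg hfi hgs hex
  have kq : ∀ {n : ℕ} {z : (F.X n).carrier}, p.f n z = 0 → I.f n (q n z) = z := fun {n z} h => by
    have := hsum n z
    rwa [h, map_zero, add_zero] at this
  have hinj : ∀ n, Function.Injective (I.f n) := fun n x y h => by
    have := congrArg (q n) h
    rwa [hqi, hqi] at this
  -- the twist
  let θ : ∀ n, (E₃.X n).carrier →ₗ[R] (E₁.X (n + 1)).carrier := fun n => q (n + 1) ∘ₗ F.d n ∘ₗ j n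
  have hθ : ∀ n y, E₃.d n y = 0 → I.f (n + 1) (θ n y) = F.d n (j n y) := fun n y hy =>
    kq (by show p.f (n + 1) (F.d n (j n y)) = 0; rw [← p.comm, hpj, hy])
  have hθd : ∀ n y, E₃.d n y = 0 → E₁.d (n + 1) (θ n y) = 0 := fun n y hy => hinj (n + 2) (by
    rw [← I.comm, hθ n y hy, d_d, map_zero])
  let δ₀ : ∀ n, E₃.cocyc a n →ₗ[R] E₁.cocyc a (n + 1) := fun n =>
    (θ n ∘ₗ (E₃.cocyc a n).subtype).codRestrict _ fun z => ⟨map_mem_gam (θ n) z.2.1, hθd n z z.2.2⟩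
  let δ : ∀ n, E₃.H a n →ₗ[R] E₁.H a (n + 1) := fun n =>
    Submodule.liftQ _ (E₁.toH a (n + 1) ∘ₗ δ₀ n) fun z hz => by
      refine (toH_eq_zero_iff E₁ a _).2 ?_
      rcases n with _ | n
      · have hz0 : z = 0 := Subtype.ext ((Submodule.mem_bot R).1 hz)
        rw [hz0]
        simp
      · obtain ⟨y, hy, e⟩ := hz
        -- the difference between `j` after `d` and `d` after `j` comes from the left
        refine ⟨-(θ n y), neg_mem (map_mem_gam (θ n) hy), ?_⟩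
        show E₁.d (n + 1) (-(θ n y)) = θ (n + 1) z.1
        refine hinj (n + 2) ?_
        rw [map_neg, map_neg, hθ (n + 1) z.1 z.2.2, ← I.comm]
        have hsum' := hsum (n + 1) (F.d n (j n y))
        rw [← p.comm, hpj, e] at hsum'
        have h0 := congrArg (F.d (n + 1)) hsum'
        rw [d_d, map_add] at h0
        exact (neg_eq_of_add_eq_zero_right h0)
  have hδgr : ∀ n, GrLC.IsGrHom (E₃.Hgr a n) (E₁.Hgr a (n + 1)) (δ n) := by
    rintro n g' _ ⟨z, hz, rfl⟩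
    refine ⟨δ₀ n z, ?_, rfl⟩
    obtain ⟨x, hx, e⟩ := exists_homogeneous_preimage (I.grHom (n + 1))
      (F.d_grHom n g' _ (hj n g' _ hz)) ⟨θ n z.1, hθ n z.1 z.2.2⟩
    rwa [show (δ₀ n z : (E₁.X (n + 1)).carrier) = x from hinj (n + 1) ((hθ n z.1 z.2.2).trans e.symm)]
  have hα0 : Function.Injective (I.onH a 0) := by
    rw [injective_iff_map_eq_zero]
    intro x hx
    obtain ⟨z, rfl⟩ := toH_surjective E₁ a 0 x
    rw [ResMap.onH_toH, toH_eq_zero_iff] at hx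
    refine (toH_eq_zero_iff E₁ a z).2 ?_
    show z.1 ∈ (⊥ : Submodule R (E₁.X 0).carrier)
    rw [Submodule.mem_bot]
    exact hinj 0 (((Submodule.mem_bot R).1 hx).trans (map_zero (I.f 0)).symm)
  have hαβ : ∀ i, Function.Exact (I.onH a i) (p.onH a i) := by
    intro i x
    refine ⟨fun hx => ?_, ?_⟩
    · obtain ⟨z, rfl⟩ := toH_surjective F a i x
      rw [ResMap.onH_toH, toH_eq_zero_iff] at hx
      -- correct the representative
      obtain ⟨w, hw, hw'⟩ : ∃ w : F.cocyc a i,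
          (z.1 - w.1 ∈ F.cobdy a i) ∧ p.f i w.1 = 0 := by
        rcases i with _ | n
        · exact ⟨z, by rw [sub_self]; exact zero_mem _, (Submodule.mem_bot R).1 hx⟩
        · obtain ⟨y, hy, e⟩ := hx
          have hm : F.d n (j n y) ∈ F.cocyc a (n + 1) := ⟨map_mem_gam (F.d n) (map_mem_gam (j n) hy), d_d F n _⟩
          refine ⟨z - ⟨_, hm⟩, ?_, ?_⟩
          · show z.1 - (z.1 - F.d n (j n y)) ∈ F.cobdy a (n + 1)
            rw [sub_sub_cancel]
            exact ⟨j n y, map_mem_gam (j n) hy, rfl⟩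
          · show p.f (n + 1) (z.1 - F.d n (j n y)) = 0
            rw [map_sub, ← p.comm, hpj, e, sub_eq_zero]
            rfl
      have hc : q i w.1 ∈ E₁.cocyc a i := ⟨map_mem_gam (q i) w.2.1, hinj (i + 1) (by
        rw [← I.comm, kq hw', map_zero]; exact w.2.2)⟩
      refine ⟨E₁.toH a i ⟨_, hc⟩, ?_⟩
      rw [ResMap.onH_toH, ← sub_eq_zero, ← map_sub, toH_eq_zero_iff]
      show I.f i (q i w.1) - z.1 ∈ F.cobdy a i
      rw [kq hw', ← neg_sub]
      exact neg_mem hw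
    · rintro ⟨y, rfl⟩
      obtain ⟨z, rfl⟩ := toH_surjective E₁ a i y
      rw [ResMap.onH_toH, ResMap.onH_toH, toH_eq_zero_iff]
      show p.f i (I.f i z.1) ∈ E₃.cobdy a i
      rw [hpi]
      exact zero_mem _
  have hβδ : ∀ i, Function.Exact (p.onH a i) (δ i) := by
    intro i x
    refine ⟨fun hx => ?_, ?_⟩
    · obtain ⟨z, rfl⟩ := toH_surjective E₃ a i x
      obtain ⟨y, hy, e⟩ : θ i z.1 ∈ E₁.cobdy a (i + 1) :=
        (toH_eq_zero_iff E₁ a (δ₀ i z)).1 hx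
      have hc : j i z.1 - I.f i y ∈ F.cocyc a i := ⟨sub_mem (map_mem_gam (j i) z.2.1)
        (map_mem_gam (I.f i) hy), by
        show F.d i (j i z.1 - I.f i y) = 0
        rw [map_sub, I.comm, e, hθ i z.1 z.2.2, sub_self]⟩
      refine ⟨F.toH a i ⟨_, hc⟩, congrArg (E₃.toH a i) (Subtype.ext ?_)⟩
      show p.f i (j i z.1 - I.f i y) = z.1
      rw [map_sub, hpj, hpi, sub_zero]
    · rintro ⟨y, rfl⟩
      obtain ⟨z, rfl⟩ := toH_surjective F a i y
      refine (toH_eq_zero_iff E₁ a _).2 ?_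
      show θ i (p.f i z.1) ∈ E₁.cobdy a (i + 1)
      refine ⟨-(q i z.1), neg_mem (map_mem_gam (q i) z.2.1), hinj (i + 1) ?_⟩
      have hd : E₃.d i (p.f i z.1) = 0 := by rw [p.comm, show F.d i z.1 = 0 from z.2.2, map_zero]
      rw [map_neg, map_neg, hθ i _ hd, ← I.comm]
      have h0 := congrArg (F.d i) (hsum i z.1)
      rw [show F.d i z.1 = 0 from z.2.2, map_add] at h0
      exact neg_eq_of_add_eq_zero_right h0
  have hδα : ∀ i, Function.Exact (δ i) (I.onH a (i + 1)) := by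
    intro i x
    refine ⟨fun hx => ?_, ?_⟩
    · obtain ⟨z, rfl⟩ := toH_surjective E₁ a (i + 1) x
      rw [ResMap.onH_toH, toH_eq_zero_iff] at hx
      obtain ⟨y, hy, e⟩ := hx
      have e' : F.d i y = I.f (i + 1) z.1 := e
      have hd : E₃.d i (p.f i y) = 0 := by rw [p.comm, e', hpi]
      refine ⟨E₃.toH a i ⟨p.f i y, map_mem_gam (p.f i) hy, hd⟩, ?_⟩
      show E₁.toH a (i + 1) (δ₀ i _) = E₁.toH a (i + 1) z
      rw [← sub_eq_zero, ← map_sub, toH_eq_zero_iff]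
      show θ i (p.f i y) - z.1 ∈ E₁.cobdy a (i + 1)
      refine ⟨-(q i y), neg_mem (map_mem_gam (q i) hy), hinj (i + 1) ?_⟩
      rw [map_neg, map_neg, map_sub, hθ i _ hd, ← e', ← I.comm, ← map_sub, ← map_neg]
      refine congrArg _ ?_
      exact eq_sub_iff_add_eq.2 (neg_add_eq_iff_eq_add.2 (hsum i y).symm)
    · rintro ⟨y, rfl⟩
      obtain ⟨z, rfl⟩ := toH_surjective E₃ a i y
      show I.onH a (i + 1) (E₁.toH a (i + 1) (δ₀ i z)) = 0
      rw [ResMap.onH_toH, toH_eq_zero_iff]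
      show I.f (i + 1) (θ i z.1) ∈ F.cobdy a (i + 1)
      rw [hθ i z.1 z.2.2]
      exact ⟨j i z.1, map_mem_gam (j i) z.2.1, rfl⟩
  -- transport to the given resolution
  let e := fun i => Hequiv F E₂ a (LinearEquiv.refl R N) (isGrHom_id 𝒩) i
  have hα : ∀ i, Hmap E₁ E₂ a hf i = (e i).toLinearMap ∘ₗ I.onH a i := fun i => by
    rw [← Hmap_eq a hf hI i]
    exact (Hmap_comp a hf (isGrHom_id 𝒩) i).symm
  have hβ : ∀ i, Hmap E₂ E₃ a hg i ∘ₗ (e i).toLinearMap = p.onH a i := fun i => by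
    rw [← Hmap_eq a hg hp i]
    exact Hmap_comp a (isGrHom_id 𝒩) hg i
  refine ⟨δ, hδgr, ?_, fun i => ?_, fun i => ?_, fun i => ?_⟩
  · rw [hα]
    exact (e 0).injective.comp hα0
  · intro x
    obtain ⟨y, rfl⟩ := (e i).surjective x
    rw [hα i]
    refine (show Hmap E₂ E₃ a hg i (e i y) = p.onH a i y from LinearMap.congr_fun (hβ i) y) ▸ ?_
    rw [hαβ i y]
    exact ⟨fun ⟨w, hw⟩ => ⟨w, congrArg (e i) hw⟩, fun ⟨w, hw⟩ => ⟨w, (e i).injective hw⟩⟩
  · intro x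
    rw [hβδ i x]
    refine ⟨fun ⟨w, hw⟩ => ⟨e i w, (LinearMap.congr_fun (hβ i) w).trans hw⟩, fun ⟨w, hw⟩ => ?_⟩
    obtain ⟨v, rfl⟩ := (e i).surjective w
    exact ⟨v, (LinearMap.congr_fun (hβ i) v).symm.trans hw⟩
  · intro x
    rw [hα (i + 1), ← hδα i x]
    exact (e (i + 1)).map_eq_zero_iff

end Exact

end Groth.Agent.GrLC21
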