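import Mathlib.RingTheory.Length
import Mathlib.RingTheory.FiniteLength
import Mathlib.Algebra.MvPolynomial.Basic

/-!
# Length over a polynomial ring and dimension over the field
-/

universe u

noncomputable section

set_option backward.isDefEq.respectTransparency false

namespace Groth.Agent.GrLC21

open MvPolynomial

variable {k : Type u} [Field k] {σ : Type} [Fintype σ]

theorem length_eq_length_of_nilpotent {P : Type u} [AddCommGroup P] [Module (MvPolynomial σ k) P]
    (h : IsFiniteLength (MvPolynomial σ k) P) : ∀ [Module k P] [IsScalarTower k (MvPolynomial σ k) P],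
    (∀ (i : σ) (x : P), ∃ n : ℕ, (X i : MvPolynomial σ k) ^ n • x = 0) →
      Module.length (MvPolynomial σ k) P = Module.length k P := by
  induction h with
  | of_subsingleton =>
    intro _ _ _
    rw [Module.length_eq_zero, Module.length_eq_zero]
  | @of_simple_quotient M _ _ N hs _ ih =>
    intro _ _ hnil
    have hvar : ∀ (i : σ) (q : M ⧸ N), (X i : MvPolynomial σ k) • q = 0 := by
      intro i
      let f : (M ⧸ N) →ₗ[MvPolynomial σ k] M ⧸ N := (X i : MvPolynomial σ k) • LinearMap.id
      rcases eq_bot_or_eq_top (LinearMap.ker f) with hb | ht
      · exfalso
        have : Nontrivial (M ⧸ N) := IsSimpleModule.nontrivial (MvPolynomial σ k) (M ⧸ N)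
        obtain ⟨q, hq⟩ := exists_ne (0 : M ⧸ N)
        have hinj : Function.Injective f := LinearMap.ker_eq_bot.1 hb
        obtain ⟨x, rfl⟩ := Submodule.Quotient.mk_surjective N q
        obtain ⟨n, hn⟩ := hnil i x
        have hpow : ∀ (m : ℕ) (y : M ⧸ N), (X i : MvPolynomial σ k) ^ m • y = 0 → y = 0 := by
          intro m
          induction m with
          | zero => exact fun y hy => by simpa using hy
          | succ m ihm =>
            intro y hy
            rw [pow_succ', mul_smul] at hy
            exact ihm y (hinj (hy.trans (map_zero f).symm))
        exact hq (hpow n _ (by rw [← Submodule.Quotient.mk_smul, hn, Submodule.Quotient.mk_zero]))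
      · exact fun q => LinearMap.mem_ker.1 (ht.ge (Submodule.mem_top : q ∈ ⊤))
    have hconst : ∀ (p : MvPolynomial σ k) (q : M ⧸ N), p • q = constantCoeff p • q := by
      intro p q
      induction p using MvPolynomial.induction_on with
      | C a =>
        rw [constantCoeff_C, ← algebraMap_eq, algebraMap_smul]
      | add p p' hp hp' => rw [add_smul, map_add, add_smul, hp, hp']
      | mul_X p i hp => rw [mul_smul, hvar, smul_zero, map_mul, constantCoeff_X, mul_zero, zero_smul]
    have hquot : Module.length (MvPolynomial σ k) (M ⧸ N) = Module.length k (M ⧸ N) := by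
      apply WithBot.coe_injective
      rw [Module.coe_length, Module.coe_length]
      refine Order.krullDim_eq_of_orderIso
        { toFun := fun W => W.restrictScalars k
          invFun := fun W =>
            { toAddSubmonoid := W.toAddSubmonoid
              smul_mem' := fun p q hq => by
                show p • q ∈ W
                rw [hconst]
                exact W.smul_mem _ hq }
          left_inv := fun W => rfl
          right_inv := fun W => rfl
          map_rel_iff' := Iff.rfl }
    rw [Module.length_eq_add_of_exact N.subtype N.mkQ N.subtype_injective (Submodule.mkQ_surjective N)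
        (LinearMap.exact_subtype_mkQ N),
      Module.length_eq_add_of_exact (N.subtype.restrictScalars k) (N.mkQ.restrictScalars k) N.subtype_injective
        (Submodule.mkQ_surjective N) (LinearMap.exact_subtype_mkQ N), hquot,
      ih fun i x => ?_]
    obtain ⟨n, hn⟩ := hnil i x.1
    exact ⟨n, Subtype.ext hn⟩

end Groth.Agent.GrLC21
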