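import Groth.Agent.Lib.GrLC21.Summands
import Groth.Agent.Lib.GrLC21.Acyclic
import Groth.Agent.Lib.GrLC21.Injective
import Groth.Agent.Lib.LocCoh.Flat
import Groth.Agent.Lib.InjHull.Socle
import Groth.Agent.S11618

/-!
# Localising at the *maximal ideal

Localisation at the *maximal ideal is faithful on graded modules, turns the *injective envelope of
`R ⧸ m` into the injective hull of the residue field, and commutes with top local cohomology.
-/

universe u

open DirectSum CategoryTheory Abelian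

noncomputable section

set_option linter.unusedSectionVars false
set_option backward.isDefEq.respectTransparency false

namespace Groth.Agent.GrLC21

/-- A power torsion module with no first `Ext` from the residue field is injective. -/
theorem injective_of_ext_one {A : Type u} [CommRing A] [IsLocalRing A] [IsNoetherianRing A]
    {T : Type u} [AddCommGroup T] [Module A T] (ht : GrLC.gam (IsLocalRing.maximalIdeal A) T = ⊤)
    (h : Subsingleton (Ext.{u} (ModuleCat.of A (IsLocalRing.ResidueField A)) (ModuleCat.of A T) 1)) :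
    Module.Injective A T := by
  refine injective_of_gam_eq_top ht fun g => ?_
  let m := IsLocalRing.maximalIdeal A
  have hS := DepthLib.shortExact_of_linearMap (Submodule.injective_subtype m) (Submodule.mkQ_surjective m)
    (LinearMap.exact_subtype_mkQ m)
  obtain ⟨z, hz⟩ := Ext.contravariant_sequence_exact₁ hS (ModuleCat.of A T)
    (Ext.mk₀ (ModuleCat.ofHom g)) (n₁ := 1) (by omega) (h.elim _ _)
  obtain ⟨ψ, rfl⟩ := (Ext.mk₀_bijective _ _).2 z
  refine ⟨ψ.hom 1, fun r => ?_⟩
  rw [Ext.mk₀_comp_mk₀] at hz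
  have h1 := LinearMap.congr_fun (congrArg ModuleCat.Hom.hom ((Ext.mk₀_bijective _ _).1 hz)) r
  rw [← map_smul, smul_eq_mul, mul_one]
  exact h1.symm

variable {ι : Type} [AddCommGroup ι] [DecidableEq ι]
variable {R : Type u} [CommRing R] {σ : Type u} [SetLike σ R] [AddSubgroupClass σ R]
  {𝒜 : ι → σ} [GradedRing 𝒜] {m : HomogeneousIdeal 𝒜}
variable {M : Type u} [AddCommGroup M] [Module R M] {τ : Type u} [SetLike τ M] [AddSubgroupClass τ M]
  {ℳ : ι → τ} [Decomposition ℳ] [SetLike.GradedSMul 𝒜 ℳ]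

variable [IsNoetherianRing R]

theorem le_starMax (hm : GrLC.IsStarLocal 𝒜 m) {I : Ideal R} (hI : I.IsHomogeneous 𝒜) (hne : I ≠ ⊤) :
    I ≤ m.toIdeal := by
  have : WellFoundedGT (HomogeneousIdeal 𝒜) :=
    (StrictMono.wellFoundedGT (f := fun J : HomogeneousIdeal 𝒜 => J.toIdeal) fun _ _ h => h)
  have := isCoatomic_of_orderTop_gt_wellFounded (α := HomogeneousIdeal 𝒜) wellFounded_gt
  rcases eq_top_or_exists_le_coatom (⟨I, hI⟩ : HomogeneousIdeal 𝒜) with h | ⟨J, hJ, hle⟩
  · exact absurd ((congrArg HomogeneousIdeal.toIdeal h).trans (HomogeneousIdeal.toIdeal_top (𝒜 := 𝒜))) hne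
  · rw [← hm.2 J hJ]
    exact hle

/-- Homogeneous submodules are saturated at the *maximal ideal on homogeneous elements. -/
theorem mem_of_smul_mem (hm : GrLC.IsStarLocal 𝒜 m) {P : Submodule R M} (hP : P.IsHomogeneous ℳ)
    {g : ι} {x : M} (hx : x ∈ ℳ g) {t : R} (ht : t ∉ m.toIdeal) (h : t • x ∈ P) : x ∈ P := by
  let J : Ideal R := P.comap (LinearMap.toSpanSingleton R M x)
  have hmem : ∀ r, r ∈ J ↔ r • x ∈ P := fun r => Iff.rfl
  have hJ : J.IsHomogeneous 𝒜 := fun a r hr => by
    rw [hmem] at hr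
    show proj 𝒜 a r ∈ J
    rw [hmem, proj_smul_homogeneous (𝒜 := 𝒜) hx a r]
    exact proj_mem_of_isHomogeneous hP _ hr
  by_contra hxP
  refine ht (le_starMax hm hJ (fun htop => hxP ?_) ((hmem t).2 h))
  have h1 : (1 : R) ∈ J := htop ▸ Submodule.mem_top
  simpa [hmem] using h1

variable (m) in
/-- The *maximal ideal is prime. -/
theorem isPrime_starMax' [Module.Free ℤ ι] [Module.Finite ℤ ι] (hm : GrLC.IsStarLocal 𝒜 m) :
    m.toIdeal.IsPrime := by
  refine isPrime_of_homogeneous 𝒜 m.isHomogeneous (fun h => hm.1.1 (HomogeneousIdeal.toIdeal_injective ?_))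
    fun a b x y hx hy hxy => ?_
  · rw [h, HomogeneousIdeal.toIdeal_top]
  · by_contra! hne
    have hle : Ideal.span {x} ⊔ m.toIdeal = ⊤ := by
      by_contra htop
      refine hne.1 ((le_starMax hm (Ideal.IsHomogeneous.sup (Ideal.homogeneous_span 𝒜 _ ?_) m.isHomogeneous) htop)
        (Ideal.mem_sup_left (Ideal.subset_span rfl)))
      rintro z rfl
      exact ⟨a, hx⟩
    obtain ⟨u, hu, v, hv, huv⟩ := Submodule.mem_sup.1 ((Ideal.eq_top_iff_one _).1 hle)
    obtain ⟨c, rfl⟩ := Ideal.mem_span_singleton'.1 hu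
    refine hne.2 ?_
    rw [← one_mul y, ← huv, add_mul, mul_assoc]
    exact add_mem (Ideal.mul_mem_left _ c hxy) (Ideal.mul_mem_right y _ hv)

theorem eq_top_of_saturated (hm : GrLC.IsStarLocal 𝒜 m) {P : Submodule R M} (hP : P.IsHomogeneous ℳ)
    (h : ∀ x, ∃ t, t ∉ m.toIdeal ∧ t • x ∈ P) : P = ⊤ := by
  refine eq_top_iff.2 fun x _ => ?_
  rw [← sum_proj ℳ x]
  refine P.sum_mem fun g _ => ?_
  obtain ⟨t, ht, htx⟩ := h (proj ℳ g x)
  exact mem_of_smul_mem hm hP (proj_mem ℳ g x) ht htx

section Localized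

variable [m.toIdeal.IsPrime]

theorem exists_smul_eq_zero_of_mk {N : Type u} [AddCommGroup N] [Module R N] {S : Submonoid R} {x : N}
    (h : LocalizedModule.mk x (1 : S) = 0) : ∃ t ∈ S, t • x = 0 := by
  rw [← LocalizedModule.zero_mk (1 : S), LocalizedModule.mk_eq] at h
  obtain ⟨⟨t, ht⟩, h⟩ := h
  exact ⟨t, ht, by simpa [Submonoid.smul_def] using h⟩

theorem eq_zero_of_localized (hm : GrLC.IsStarLocal 𝒜 m) {g : ι} {x : M} (hx : x ∈ ℳ g)
    (h : LocalizedModule.mk x (1 : m.toIdeal.primeCompl) = 0) : x = 0 := by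
  obtain ⟨t, ht, htx⟩ := exists_smul_eq_zero_of_mk h
  exact (Submodule.mem_bot R).1 (mem_of_smul_mem hm (isHomogeneous_bot (ℳ := ℳ)) hx ht
    ((Submodule.mem_bot R).2 htx))

variable (ℳ) in
include ℳ in
theorem subsingleton_of_localized (hm : GrLC.IsStarLocal 𝒜 m)
    [Subsingleton (LocalizedModule m.toIdeal.primeCompl M)] : Subsingleton M :=
  subsingleton_of_forall_eq 0 fun x => eq_zero_of_proj ℳ fun g =>
    eq_zero_of_localized hm (proj_mem ℳ g x) (Subsingleton.elim _ _)

variable {N : Type u} [AddCommGroup N] [Module R N] {τ' : Type u} [SetLike τ' N] [AddSubgroupClass τ' N]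
  {𝒩 : ι → τ'} [Decomposition 𝒩] [SetLike.GradedSMul 𝒜 𝒩]

/-- A homogeneous map is bijective as soon as it is so after localising at the *maximal ideal. -/
theorem bijective_of_localized (hm : GrLC.IsStarLocal 𝒜 m) {f : M →ₗ[R] N} {d : ι}
    (hf : GrLC.IsGrHomDeg ℳ 𝒩 f d) (hb : Function.Bijective (LocalizedModule.map m.toIdeal.primeCompl f)) :
    Function.Bijective f := by
  let Y := shift (toGMod 𝒜 𝒩) (-d)
  let f' : M →ₗ[R] Y.carrier := f
  have hf' : GrLC.IsGrHom ℳ Y.gr f' := fun g x hx => by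
    show f x ∈ 𝒩 (g - -d)
    rw [sub_neg_eq_add]
    exact hf g x hx
  have hker : LinearMap.ker f' = ⊥ := by
    refine eq_bot_of_homogeneous (isHomogeneous_ker hf') fun g x hx hxk => ?_
    refine eq_zero_of_localized hm hx (hb.1 ?_)
    rw [map_zero, LocalizedModule.map_mk, show f x = 0 from LinearMap.mem_ker.1 hxk, LocalizedModule.zero_mk]
  have hrange : LinearMap.range f' = ⊤ := by
    refine eq_top_of_saturated hm (isHomogeneous_range (spans_of_decomposition ℳ) hf') fun y => ?_
    obtain ⟨z, hz⟩ := hb.2 (LocalizedModule.mk (y : N) (1 : m.toIdeal.primeCompl))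
    induction z using LocalizedModule.induction_on with
    | h a s =>
      rw [LocalizedModule.map_mk, LocalizedModule.mk_eq] at hz
      obtain ⟨t, ht⟩ := hz
      simp only [one_smul, Submonoid.smul_def] at ht
      exact ⟨(t : R) * s, (t * s).2, (t : R) • a, by rw [mul_smul, map_smul]; exact ht⟩
  exact ⟨LinearMap.ker_eq_bot.1 hker, LinearMap.range_eq_top.1 hrange⟩

end Localized

section Hull

variable [m.toIdeal.IsPrime]
variable {E : Type u} [AddCommGroup E] [Module R E] {τ' : Type u} [SetLike τ' E] [AddSubgroupClass τ' E]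
  {𝓔 : ι → τ'} [Decomposition 𝓔] [SetLike.GradedSMul 𝒜 𝓔]

theorem gam_localized_eq_top {N : Type u} [AddCommGroup N] [Module R N] (P : Ideal R) [P.IsPrime]
    (h : GrLC.gam P N = ⊤) :
    GrLC.gam (IsLocalRing.maximalIdeal (Localization.AtPrime P)) (LocalizedModule P.primeCompl N) = ⊤ := by
  refine eq_top_iff.2 fun z _ => ?_
  induction z using LocalizedModule.induction_on with
  | h x s =>
    obtain ⟨k, hk⟩ : x ∈ GrLC.gam P N := h ▸ Submodule.mem_top
    refine ⟨k, fun r hr => ?_⟩
    rw [← Localization.AtPrime.map_eq_maximalIdeal, ← Ideal.map_pow] at hr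
    refine Submodule.span_induction (p := fun c _ => c • LocalizedModule.mk x s = 0) ?_ (zero_smul _ _)
      (fun a b _ _ ha hb => by rw [add_smul, ha, hb, add_zero])
      (fun a b _ hb => by rw [smul_eq_mul, mul_smul, hb, smul_zero]) hr
    rintro _ ⟨c, hc, rfl⟩
    rw [algebraMap_smul, LocalizedModule.smul'_mk, hk c hc, LocalizedModule.zero_mk]

/-- The localised *injective envelope of `R ⧸ m` is the injective hull of the residue field. -/
theorem exists_isInjectiveHull_localized {e : (R ⧸ m.toIdeal) →ₗ[R] E}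
    (he : GrLC.IsStarInjHull 𝒜 (GrLC.quotGr 𝒜 m) 𝓔 e) :
    ∃ g : IsLocalRing.ResidueField (Localization.AtPrime m.toIdeal) →ₗ[Localization.AtPrime m.toIdeal]
      LocalizedModule m.toIdeal.primeCompl E, InjHull.IsInjectiveHull g := by
  let S := m.toIdeal.primeCompl
  obtain ⟨ρ⟩ := nonempty_localized_residue m.toIdeal
  let A := Localization.AtPrime m.toIdeal
  have hgam := gam_localized_eq_top m.toIdeal (gam_eq_top_of_isStarEss he.toIsStarEss)
  have hinj : Module.Injective A (LocalizedModule S E) := by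
    refine injective_of_ext_one hgam ?_
    let Q := quot (toGMod 𝒜 𝒜) m.toIdeal (isHomogeneous_toGMod 𝒜 m.isHomogeneous)
    have : Module.Finite R Q.carrier :=
      Module.Finite.of_surjective (Submodule.mkQ m.toIdeal) (Submodule.mkQ_surjective _)
    have h1 := ext_localized_subsingleton S he.starInj 0 Q
    obtain ⟨e'⟩ := nonempty_ext_congr_left (P := LocalizedModule S E) ρ 1
    exact e'.toEquiv.subsingleton_congr.1 h1
  let g : IsLocalRing.ResidueField A →ₗ[A] LocalizedModule S E :=
    LocalizedModule.map S e ∘ₗ ρ.symm.toLinearMap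
  refine ⟨g, InjHullLib.isInjectiveHull_of_socle hinj
    (fun z => show z ∈ GrLC.gam (IsLocalRing.maximalIdeal A) _ from hgam ▸ Submodule.mem_top) g
    ((LocalizedModule.map_injective S e he.injective).comp ρ.symm.injective) ?_⟩
  intro z hz
  induction z using LocalizedModule.induction_on with
  | h x s =>
    rw [InjHullLib.mem_torsion_iff] at hz
    have hann : ∀ r ∈ m.toIdeal, ∃ t ∈ S, t • r • x = 0 := fun r hr => by
      have h := hz _ ((IsLocalization.AtPrime.to_map_mem_maximal_iff (Localization.AtPrime m.toIdeal) m.toIdeal r).2 hr)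
      rw [algebraMap_smul, LocalizedModule.smul'_mk, ← LocalizedModule.zero_mk s, LocalizedModule.mk_eq] at h
      obtain ⟨t, ht⟩ := h
      exact ⟨t * s, mul_mem t.2 s.2, by simpa [Submonoid.smul_def, mul_smul] using ht⟩
    obtain ⟨T, hT⟩ := (IsNoetherian.noetherian m.toIdeal : m.toIdeal.FG)
    have key : ∃ t ∈ S, ∀ r ∈ T, t • r • x = 0 := by
      classical
      have : ∀ U : Finset R, U ⊆ T → ∃ t ∈ S, ∀ r ∈ U, t • r • x = 0 := by
        intro U
        induction U using Finset.induction with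
        | empty => exact fun _ => ⟨1, S.one_mem, fun r hr => absurd hr (Finset.notMem_empty r)⟩
        | insert a U _ ih =>
          intro hU
          obtain ⟨t, ht, htU⟩ := ih ((Finset.subset_insert a U).trans hU)
          obtain ⟨t', ht', hta⟩ := hann a (hT ▸ Ideal.subset_span (hU (Finset.mem_insert_self a U)))
          refine ⟨t * t', mul_mem ht ht', fun r hr => ?_⟩
          rcases Finset.mem_insert.1 hr with rfl | hr
          · rw [mul_smul, hta, smul_zero]
          · rw [mul_comm, mul_smul, htU r hr, smul_zero]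
      exact this T subset_rfl
    obtain ⟨t, ht, htT⟩ := key
    have hkill : t • x ∈ killed m.toIdeal E := by
      rw [InjHullLib.mem_torsion_iff]
      intro r hr
      rw [← hT] at hr
      refine Submodule.span_induction (p := fun c _ => c • t • x = 0) ?_ (zero_smul _ _)
        (fun a b _ _ ha hb => by rw [add_smul, ha, hb, add_zero])
        (fun a b _ hb => by rw [smul_eq_mul, mul_smul, hb, smul_zero]) hr
      exact fun c hc => by rw [smul_comm, htT c hc]
    obtain ⟨s', hs', b, hb⟩ := exists_smul_mem_of_ess' (𝒜 := 𝒜) m.isHomogeneous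
      (isHomogeneous_range (spans_quotGr 𝒜 m) he.grHom) he.essential hkill
    refine ⟨ρ (LocalizedModule.mk b (⟨s', hs'⟩ * ⟨t, ht⟩ * s)), ?_⟩
    show LocalizedModule.map S e (ρ.symm (ρ _)) = _
    rw [LinearEquiv.symm_apply_apply, LocalizedModule.map_mk, hb, ← mul_smul]
    exact LocalizedModule.mk_cancel_common_left (⟨s', hs'⟩ * ⟨t, ht⟩) s x

end Hull

section H

/-- Localised graded local cohomology is local cohomology of the localisation. -/
theorem nonempty_localized_H (P : Ideal R) [P.IsPrime] (I : GrLC.StarInjRes 𝒜 𝒜) (hP : P = m.toIdeal) (i : ℕ) :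
    Nonempty (LocalizedModule P.primeCompl (I.H m i) ≃ₗ[Localization.AtPrime P]
      LocCoh.H (IsLocalRing.maximalIdeal (Localization.AtPrime P)) i (Localization.AtPrime P)) := by
  subst hP
  obtain ⟨e⟩ := nonempty_H_equiv I (a := m) i
  obtain ⟨e'⟩ := S11618.result R m.toIdeal m.toIdeal.primeCompl R i
  let c : LocalizedModule m.toIdeal.primeCompl R ≃ₗ[Localization.AtPrime m.toIdeal]
      Localization.AtPrime m.toIdeal :=
    (IsLocalizedModule.iso m.toIdeal.primeCompl
      (Algebra.linearMap R (Localization.AtPrime m.toIdeal))).extendScalarsOfIsLocalization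
      m.toIdeal.primeCompl _
  let f := LinearEquiv.ofBijective (LocalizedModule.map m.toIdeal.primeCompl e.toLinearMap)
    ⟨LocalizedModule.map_injective _ _ e.injective, LocalizedModule.map_surjective _ _ e.surjective⟩
  have e'' := e' ≪≫ₗ LocCohLib.hcongr _ i c
  rw [Localization.AtPrime.map_eq_maximalIdeal] at e''
  exact ⟨f ≪≫ₗ e''⟩

variable {E : Type u} [AddCommGroup E] [Module R E] {τ' : Type u} [SetLike τ' E] [AddSubgroupClass τ' E]
  {𝓔 : ι → τ'} [Decomposition 𝓔] [SetLike.GradedSMul 𝒜 𝓔]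

/-- A *canonical module localises to a canonical module. -/
theorem nonempty_canonical_localized [m.toIdeal.IsPrime] {C : Type u} [AddCommGroup C] [Module R C] {τ'' : Type u}
    [SetLike τ'' C] [AddSubgroupClass τ'' C] {𝒞 : ι → τ''} [Decomposition 𝒞] [SetLike.GradedSMul 𝒜 𝒞]
    {e : (R ⧸ m.toIdeal) →ₗ[R] E} (he : GrLC.IsStarInjHull 𝒜 (GrLC.quotGr 𝒜 m) 𝓔 e) {n : ℕ}
    {I : GrLC.StarInjRes 𝒜 𝒜} (hC : GrLC.IsStarCanonical 𝒜 𝒞 𝓔 m n I)
    {E₀ : Type u} [AddCommGroup E₀] [Module (Localization.AtPrime m.toIdeal) E₀]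
    {f : IsLocalRing.ResidueField (Localization.AtPrime m.toIdeal) →ₗ[Localization.AtPrime m.toIdeal] E₀}
    (hf : InjHull.IsInjectiveHull f) :
    Nonempty ((LocalizedModule m.toIdeal.primeCompl C →ₗ[Localization.AtPrime m.toIdeal] E₀)
      ≃ₗ[Localization.AtPrime m.toIdeal]
      LocCoh.H (IsLocalRing.maximalIdeal (Localization.AtPrime m.toIdeal)) n (Localization.AtPrime m.toIdeal)) := by
  obtain ⟨hfin, φ, -⟩ := hC
  let S := m.toIdeal.primeCompl
  obtain ⟨g, hg⟩ := exists_isInjectiveHull_localized he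
  obtain ⟨θ, -⟩ := InjHullLib.injectiveHull_unique hg hf
  obtain ⟨eH⟩ := nonempty_localized_H m.toIdeal I rfl n
  have : Module.FinitePresentation R C := Module.finitePresentation_of_finite R C
  let loc : LocalizedModule S (C →ₗ[R] E) ≃ₗ[Localization.AtPrime m.toIdeal]
      (LocalizedModule S C →ₗ[Localization.AtPrime m.toIdeal] LocalizedModule S E) :=
    (IsLocalizedModule.iso S (LocalizedModule.map S)).extendScalarsOfIsLocalization S _
  let fφ := LinearEquiv.ofBijective (LocalizedModule.map S φ.toLinearMap)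
    ⟨LocalizedModule.map_injective S _ φ.injective, LocalizedModule.map_surjective S _ φ.surjective⟩
  exact ⟨((LinearEquiv.congrRight θ).symm.trans loc.symm).trans (fφ.trans eH)⟩

end H

end Groth.Agent.GrLC21
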