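import Groth.Agent.Lib.GrLC21.Fac
import Groth.Agent.Lib.GrLC21.Hull
import Mathlib.RingTheory.Filtration

/-!
# Splitting *injective modules into torsion and bijective parts
-/

universe u

open DirectSum

noncomputable section

set_option linter.unusedSectionVars false

namespace Groth.Agent.GrLC21

variable {ι : Type} [AddCommGroup ι] [DecidableEq ι]
variable {R : Type u} [CommRing R] [IsNoetherianRing R] {σ : Type u} [SetLike σ R] [AddSubgroupClass σ R]
  {𝒜 : ι → σ} [GradedRing 𝒜]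

/-- The torsion part of a *injective module is *injective. -/
theorem starInj_gam {E : GrLC.GMod.{u} 𝒜} (hE : GrLC.IsStarInj 𝒜 E.gr) (a : HomogeneousIdeal 𝒜) :
    GrLC.IsStarInj 𝒜 (sub E (GrLC.gam a.toIdeal E.carrier) (gam_isHomogeneous a E.gr)).gr := by
  obtain ⟨J, hJ⟩ := exists_maximal_ess (X := E) (gam_isHomogeneous a E.gr)
  have heq : J = GrLC.gam a.toIdeal E.carrier := by
    refine le_antisymm (le_of_homogeneous hJ.1.2.1 fun g z hz hzJ => ?_) hJ.1.1
    let P : Submodule R E.carrier := Submodule.span R {z}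
    obtain ⟨N, hN⟩ := exists_pow_kills_gam (M := P) a.toIdeal
    obtain ⟨c, hc⟩ := a.toIdeal.exists_pow_inf_eq_pow_smul (GrLC.gam a.toIdeal P)
    have hzero : a.toIdeal ^ (c + N) • (⊤ : Submodule R P) ⊓ GrLC.gam a.toIdeal P = ⊥ := by
      rw [hc (c + N) (Nat.le_add_right c N), Nat.add_sub_cancel_left, eq_bot_iff]
      refine le_trans (Submodule.smul_mono le_rfl inf_le_right) ?_
      exact Submodule.smul_le.2 fun r hr m hm => (Submodule.mem_bot R).2 (hN r hr m hm)
    refine ⟨c + N, fun r hr => ?_⟩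
    rw [← sum_proj (M := R) 𝒜 r, Finset.sum_smul]
    refine Finset.sum_eq_zero fun e _ => ?_
    have hre : proj (M := R) 𝒜 e r ∈ a.toIdeal ^ (c + N) := isHomogeneous_pow a _ e hr
    by_contra hne
    obtain ⟨s, hs, hs0⟩ := hJ.1.2.2 (e + g) _ (smul_mem 𝒜 E.gr (proj_mem (M := R) 𝒜 e r) hz)
      (J.smul_mem _ hzJ) hne
    let w : P := s • proj (M := R) 𝒜 e r • ⟨z, Submodule.mem_span_singleton_self z⟩
    have hw : w ∈ a.toIdeal ^ (c + N) • (⊤ : Submodule R P) ⊓ GrLC.gam a.toIdeal P :=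
      ⟨Submodule.smul_mem _ s (Submodule.smul_mem_smul hre trivial),
        mem_gam_of_injective P.subtype P.subtype_injective hs⟩
    rw [hzero, Submodule.mem_bot] at hw
    exact hs0 (congrArg Subtype.val hw)
  subst heq
  exact starInj_of_maximal_ess hE hJ

/-- One element: torsion part plus a part with that element bijective. -/
theorem exists_split_elem {E : GrLC.GMod.{u} 𝒜} (hE : GrLC.IsStarInj 𝒜 E.gr) {d : ι} {x : R}
    (hx : x ∈ 𝒜 d) :
    ∃ (p : E.carrier →ₗ[R] E.carrier) (C : GrLC.GMod.{u} 𝒜) (f : E.carrier →ₗ[R] C.carrier)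
      (g : C.carrier →ₗ[R] E.carrier), GrLC.IsGrHom E.gr E.gr p ∧ GrLC.IsGrHom E.gr C.gr f ∧
      GrLC.IsGrHom C.gr E.gr g ∧ LinearMap.id = p + g ∘ₗ f ∧ (∀ z, ∃ n : ℕ, x ^ n • p z = 0) ∧
      Function.Bijective fun c : C.carrier => x • c := by
  have hspan : (Ideal.span {x}).IsHomogeneous 𝒜 :=
    Ideal.homogeneous_span 𝒜 _ fun y hy => ⟨d, (Set.mem_singleton_iff.1 hy) ▸ hx⟩
  let a : HomogeneousIdeal 𝒜 := ⟨Ideal.span {x}, hspan⟩
  let Γ := sub E (GrLC.gam a.toIdeal E.carrier) (gam_isHomogeneous a E.gr)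
  obtain ⟨r, hr, e⟩ := exists_retraction (starInj_gam hE a) (f := subι E _ (gam_isHomogeneous a E.gr))
    (subι_grHom E _ _) (subι_injective E _ _)
  have er : ∀ y : Γ.carrier, r (y : GrLC.gam a.toIdeal E.carrier).1 = y := fun y => LinearMap.congr_fun e y
  let p : E.carrier →ₗ[R] E.carrier := subι E _ (gam_isHomogeneous a E.gr) ∘ₗ r
  have hp : GrLC.IsGrHom E.gr E.gr p := isGrHom_comp (subι_grHom E _ _) hr
  have hpp : ∀ z, p (p z) = p z := fun z => congrArg (fun y => subι E _ (gam_isHomogeneous a E.gr) y) (er (r z))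
  let C := sub E (LinearMap.ker p) (isHomogeneous_ker hp)
  let f : E.carrier →ₗ[R] C.carrier :=
    (LinearMap.id - p).codRestrict (LinearMap.ker p) fun z => by
      rw [LinearMap.mem_ker, LinearMap.sub_apply, LinearMap.id_apply, map_sub, hpp, sub_self]
  have hf : GrLC.IsGrHom E.gr C.gr f := fun g z hz => sub_mem hz (hp g z hz)
  let g := subι E (LinearMap.ker p) (isHomogeneous_ker hp)
  have hinj : Function.Injective fun c : C.carrier => x • c := by
    intro c c' h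
    refine Subtype.ext (sub_eq_zero.1 ?_)
    have hmem : (c : LinearMap.ker p).1 - (c' : LinearMap.ker p).1 ∈ GrLC.gam a.toIdeal E.carrier := by
      refine ⟨1, fun s hs => ?_⟩
      rw [pow_one] at hs
      obtain ⟨t, rfl⟩ := Ideal.mem_span_singleton'.1 hs
      rw [mul_smul, smul_sub, show x • (c : LinearMap.ker p).1 = x • (c' : LinearMap.ker p).1 from
        congrArg Subtype.val h, sub_self, smul_zero]
    have h0 : p ((c : LinearMap.ker p).1 - (c' : LinearMap.ker p).1) = 0 := by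
      rw [map_sub, LinearMap.mem_ker.1 c.2, LinearMap.mem_ker.1 c'.2, sub_self]
    exact (congrArg Subtype.val (er ⟨_, hmem⟩)).symm.trans h0
  let u : (shift C d).carrier →ₗ[R] (shift E d).carrier := g
  obtain ⟨h, -, eh⟩ := exists_extend (starInj_shift hE d) (X := shift C d) (Y := C)
    (d := smulMap C (k := d) x) (smulMap_grHom C hx) (u := u) (fun n c hc => hc)
    (fun c hc => by
      have h0 : (c : C.carrier) = 0 := hinj (hc.trans (smul_zero x).symm)
      rw [h0]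
      exact Submodule.zero_mem _)
  have hsurj : Function.Surjective fun c : C.carrier => x • c := fun c => by
    let v : E.carrier := ofShift E d (h c)
    refine ⟨f v, ?_⟩
    show x • f v = c
    rw [← map_smul]
    have hv : x • v = (c : LinearMap.ker p).1 := by
      show x • ofShift E d (h c) = _
      rw [← map_smul, ← map_smul]
      exact LinearMap.congr_fun eh c
    rw [hv]
    refine Subtype.ext ?_
    show (c : LinearMap.ker p).1 - p (c : LinearMap.ker p).1 = (c : LinearMap.ker p).1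
    rw [LinearMap.mem_ker.1 c.2, sub_zero]
  refine ⟨p, C, f, g, hp, hf, subι_grHom E _ (isHomogeneous_ker hp), ?_, fun z => ?_, hinj, hsurj⟩
  · refine LinearMap.ext fun z => ?_
    show z = p z + (z - p z)
    rw [add_sub_cancel]
  · obtain ⟨n, hn⟩ := (r z : GrLC.gam a.toIdeal E.carrier).2
    exact ⟨n, hn _ (Ideal.pow_mem_pow (Ideal.mem_span_singleton_self x) n)⟩

theorem exists_split_list {E : GrLC.GMod.{u} 𝒜} (hE : GrLC.IsStarInj 𝒜 E.gr) (a : HomogeneousIdeal 𝒜) :
    ∀ xs : List R, (∀ x ∈ xs, x ∈ a.toIdeal ∧ ∃ d, x ∈ 𝒜 d) →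
      ∃ φ : E.carrier →ₗ[R] E.carrier, FacThrough (IsBij a) E E φ ∧
        ∀ z, ∀ x ∈ xs, ∃ n : ℕ, x ^ n • (z - φ z) = 0 := by
  intro xs
  induction xs with
  | nil => exact fun _ => ⟨0, .zero, fun _ x hx => absurd hx (List.not_mem_nil)⟩
  | cons x xs ih =>
    intro hxs
    obtain ⟨φ, hφ, hkill⟩ := ih fun y hy => hxs y (List.mem_cons_of_mem _ hy)
    obtain ⟨hxa, d, hxd⟩ := hxs x (List.mem_cons_self ..)
    obtain ⟨p, C, f, g, hp, hf, hg, hid, hpx, hbij⟩ := exists_split_elem hE hxd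
    refine ⟨φ + (g ∘ₗ f) ∘ₗ (LinearMap.id - φ),
      .add hφ ((FacThrough.thru C ⟨d, x, hxd, hxa, hbij⟩ f g hf hg).comp_right
        (isGrHom_sub (isGrHom_id E.gr) hφ.grHom)), fun z y hy => ?_⟩
    have hz : z - (φ + (g ∘ₗ f) ∘ₗ (LinearMap.id - φ) : E.carrier →ₗ[R] E.carrier) z = p (z - φ z) := by
      have h := LinearMap.congr_fun hid (z - φ z)
      simp only [LinearMap.add_apply, LinearMap.comp_apply, LinearMap.sub_apply, LinearMap.id_apply] at h ⊢
      rw [← sub_sub, sub_eq_iff_eq_add]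
      exact h
    rw [hz]
    rcases List.mem_cons.1 hy with rfl | hy'
    · exact hpx _
    · obtain ⟨n, hn⟩ := hkill z y hy'
      exact ⟨n, by rw [← map_smul, hn, map_zero]⟩

theorem exists_homogeneous_span (a : HomogeneousIdeal 𝒜) :
    ∃ xs : List R, (∀ x ∈ xs, x ∈ a.toIdeal ∧ ∃ d, x ∈ 𝒜 d) ∧ a.toIdeal ≤ Ideal.span {x | x ∈ xs} := by
  classical
  obtain ⟨s, hs⟩ := IsNoetherian.noetherian a.toIdeal
  refine ⟨(s.biUnion fun r => (degs (M := R) 𝒜 r).image fun d => proj (M := R) 𝒜 d r).toList,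
    fun x hx => ?_, ?_⟩
  · simp only [Finset.mem_toList, Finset.mem_biUnion, Finset.mem_image] at hx
    obtain ⟨r, hr, d, -, rfl⟩ := hx
    exact ⟨a.isHomogeneous d (hs.le (Submodule.subset_span hr)), d, proj_mem (M := R) 𝒜 d r⟩
  · refine hs.ge.trans (Submodule.span_le.2 fun r hr => ?_)
    rw [SetLike.mem_coe, ← sum_proj (M := R) 𝒜 r]
    refine Submodule.sum_mem _ fun d hd => Submodule.subset_span ?_
    simp only [Set.mem_ofPred_eq, Finset.mem_toList, Finset.mem_biUnion, Finset.mem_image]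
    exact ⟨r, hr, d, hd, rfl⟩

theorem mem_gam_of_forall_pow {M : Type u} [AddCommGroup M] [Module R M] {a : Ideal R} {s : Set R}
    (ha : a ≤ Ideal.span s) {z : M} (h : ∀ x ∈ s, ∃ n : ℕ, x ^ n • z = 0) : z ∈ GrLC.gam a M := by
  let J : Ideal R := LinearMap.ker (LinearMap.toSpanSingleton R M z)
  have hle : a ≤ J.radical := ha.trans (Ideal.span_le.2 fun x hx => by
    obtain ⟨n, hn⟩ := h x hx
    exact ⟨n, hn⟩)
  obtain ⟨n, hn⟩ := Ideal.exists_pow_le_of_le_radical_of_fg hle (IsNoetherian.noetherian a)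
  exact ⟨n, fun r hr => hn hr⟩

/-- A *injective module is torsion plus bijective parts. -/
theorem exists_split {E : GrLC.GMod.{u} 𝒜} (hE : GrLC.IsStarInj 𝒜 E.gr) (a : HomogeneousIdeal 𝒜) :
    ∃ φ : E.carrier →ₗ[R] E.carrier, FacThrough (IsBij a) E E φ ∧
      (∀ z, z - φ z ∈ GrLC.gam a.toIdeal E.carrier) ∧ ∀ z ∈ GrLC.gam a.toIdeal E.carrier, φ z = 0 := by
  obtain ⟨xs, hxs, hle⟩ := exists_homogeneous_span a
  obtain ⟨φ, hφ, hkill⟩ := exists_split_list hE a xs hxs
  refine ⟨φ, hφ, fun z => mem_gam_of_forall_pow hle (hkill z), fun z hz => ?_⟩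
  clear hkill
  induction hφ with
  | zero => rfl
  | thru Z hZ f g hf hg => rw [LinearMap.comp_apply, hZ.eq_zero_of_mem_gam (map_mem_gam f hz), map_zero]
  | add _ _ h₁ h₂ => rw [LinearMap.add_apply, h₁, h₂, add_zero]

theorem fac_basic_of_starInj {E : GrLC.GMod.{u} 𝒜} (hE : GrLC.IsStarInj 𝒜 E.gr) (a : HomogeneousIdeal 𝒜) :
    FacThrough (IsBasic a) E E LinearMap.id := by
  obtain ⟨φ, hφ, hsub, -⟩ := exists_split hE a
  let Γ := sub E (GrLC.gam a.toIdeal E.carrier) (gam_isHomogeneous a E.gr)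
  let f : E.carrier →ₗ[R] Γ.carrier := (LinearMap.id - φ).codRestrict (GrLC.gam a.toIdeal E.carrier) hsub
  have h : (LinearMap.id : E.carrier →ₗ[R] E.carrier) = subι E _ (gam_isHomogeneous a E.gr) ∘ₗ f + φ :=
    LinearMap.ext fun z => (sub_add_cancel z (φ z)).symm
  rw [h]
  refine .add (.thru Γ (Or.inl fun x => ?_) f _ (fun g z hz => isGrHom_sub (isGrHom_id E.gr) hφ.grHom g z hz)
    (subι_grHom E _ _)) (hφ.mono fun _ => Or.inr)
  exact mem_gam_of_injective (GrLC.gam a.toIdeal E.carrier).subtype (Submodule.subtype_injective _)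
    (x : GrLC.gam a.toIdeal E.carrier).2

theorem exists_fac_quot_gam {E Y : GrLC.GMod.{u} 𝒜} (a : HomogeneousIdeal 𝒜) {φ : E.carrier →ₗ[R] Y.carrier}
    (hφ : FacThrough (IsBij a) E Y φ) :
    ∃ ψ, FacThrough (IsBij a) (quot E _ (gam_isHomogeneous a E.gr)) Y ψ ∧
      ψ ∘ₗ quotπ E _ (gam_isHomogeneous a E.gr) = φ := by
  induction hφ with
  | zero => exact ⟨0, .zero, LinearMap.zero_comp _⟩
  | thru Z hZ f g hf hg =>
    obtain ⟨f', hf', e⟩ := exists_quot_lift E (gam_isHomogeneous a E.gr) hf fun z hz =>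
      hZ.eq_zero_of_mem_gam (map_mem_gam f hz)
    exact ⟨g ∘ₗ f', .thru Z hZ f' g hf' hg, by rw [LinearMap.comp_assoc, e]⟩
  | add _ _ h₁ h₂ =>
    obtain ⟨ψ₁, hψ₁, e₁⟩ := h₁
    obtain ⟨ψ₂, hψ₂, e₂⟩ := h₂
    exact ⟨ψ₁ + ψ₂, .add hψ₁ hψ₂, by rw [LinearMap.add_comp, e₁, e₂]⟩

/-- The torsion-free quotient is a sum of bijective parts. -/
theorem fac_bij_quot_gam {E : GrLC.GMod.{u} 𝒜} (hE : GrLC.IsStarInj 𝒜 E.gr) (a : HomogeneousIdeal 𝒜) :
    FacThrough (IsBij a) (quot E _ (gam_isHomogeneous a E.gr)) (quot E _ (gam_isHomogeneous a E.gr))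
      LinearMap.id := by
  obtain ⟨φ, hφ, hsub, -⟩ := exists_split hE a
  obtain ⟨ψ, hψ, e⟩ := exists_fac_quot_gam a (hφ.comp_left (quotπ_grHom E _ (gam_isHomogeneous a E.gr)))
  have h : ψ = LinearMap.id := by
    refine LinearMap.ext fun q => ?_
    obtain ⟨z, rfl⟩ := quotπ_surjective E _ (gam_isHomogeneous a E.gr) q
    refine (LinearMap.congr_fun e z).trans ?_
    exact ((Submodule.Quotient.eq _).2 (hsub z)).symm
  rwa [h] at hψ

end Groth.Agent.GrLC21
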