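import Groth.Agent.Lib.GrLC21.LocHull
import Groth.Agent.Lib.GrLC21.Res
import Groth.Agent.Lib.GrLC21.Split

/-!
# Minimal *injective resolutions and their torsion parts
-/

universe u

open DirectSum CategoryTheory Abelian

noncomputable section

set_option linter.unusedSectionVars false
set_option backward.isDefEq.respectTransparency false

namespace Groth.Agent.GrLC21

variable {ι : Type} [AddCommGroup ι] [DecidableEq ι]
variable {R : Type u} [CommRing R] {σ : Type u} [SetLike σ R] [AddSubgroupClass σ R]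
  {𝒜 : ι → σ} [GradedRing 𝒜]
variable {M : Type u} [AddCommGroup M] [Module R M] {τ : Type u} [SetLike τ M] [AddSubgroupClass τ M]
  {ℳ : ι → τ} [Decomposition ℳ] [SetLike.GradedSMul 𝒜 ℳ]

/-- Every term is a *essential extension of the cycles in it. -/
def IsMinimal (E : GrLC.StarInjRes 𝒜 ℳ) : Prop :=
  ∀ (n : ℕ) (g : ι), ∀ x ∈ (E.X n).gr g, x ≠ 0 → ∃ r : R, r • x ∈ LinearMap.ker (E.d n) ∧ r • x ≠ 0

/-- The envelope chosen for a graded module. -/
def hullOf (X : GrLC.GMod.{u} 𝒜) : GrLC.GMod.{u} 𝒜 := (exists_starInjHull X.gr).choose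

/-- Its structure map. -/
def hullMap (X : GrLC.GMod.{u} 𝒜) : X.carrier →ₗ[R] (hullOf X).carrier :=
  (exists_starInjHull X.gr).choose_spec.choose

theorem hull_spec (X : GrLC.GMod.{u} 𝒜) : GrLC.IsStarInjHull 𝒜 X.gr (hullOf X).gr (hullMap X) :=
  (exists_starInjHull X.gr).choose_spec.choose_spec

variable (𝒜) in
/-- A stage of the minimal resolution: a term and the cycles in it. -/
structure MinStage : Type (u + 1) extends ResStage 𝒜 where
  ess : ∀ (g : ι), ∀ x ∈ C.gr g, x ≠ 0 → ∃ r : R, r • x ∈ K ∧ r • x ≠ 0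

/-- The map out of a stage. -/
def MinStage.out (s : MinStage 𝒜) : s.C.carrier →ₗ[R] (hullOf (quot s.C s.K s.hK)).carrier :=
  hullMap _ ∘ₗ quotπ s.C s.K s.hK

theorem MinStage.out_grHom (s : MinStage 𝒜) : GrLC.IsGrHom s.C.gr (hullOf (quot s.C s.K s.hK)).gr s.out :=
  isGrHom_comp (hull_spec _).grHom (quotπ_grHom _ _ _)

theorem MinStage.ker_out (s : MinStage 𝒜) : LinearMap.ker s.out = s.K := by
  ext x
  refine ⟨fun hx => (Submodule.Quotient.mk_eq_zero s.K).1 ((hull_spec _).injective (hx.trans (map_zero _).symm)),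
    fun hx => ?_⟩
  exact (congrArg (hullMap (quot s.C s.K s.hK)) ((Submodule.Quotient.mk_eq_zero s.K).2 hx)).trans (map_zero _)

theorem MinStage.range_out (s : MinStage 𝒜) :
    LinearMap.range s.out = LinearMap.range (hullMap (quot s.C s.K s.hK)) :=
  LinearMap.range_comp_of_range_eq_top _ (LinearMap.range_eq_top.2 (quotπ_surjective _ _ _))

/-- The next stage. -/
def MinStage.next (s : MinStage 𝒜) : MinStage 𝒜 where
  C := hullOf (quot s.C s.K s.hK)
  K := LinearMap.range s.out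
  hK := isHomogeneous_range (spans_of_decomposition _) s.out_grHom
  hC := (hull_spec _).starInj
  ess g x hx h0 := by
    rw [s.range_out]
    exact ((isStarEss_iff 𝒜).1 (hull_spec _).toIsStarEss).2.2 g x hx h0

/-- All stages. -/
def minStages (s : MinStage 𝒜) : ℕ → MinStage 𝒜
  | 0 => s
  | n + 1 => (minStages s n).next

variable (ℳ) in
theorem exists_minimal_res : ∃ E : GrLC.StarInjRes 𝒜 ℳ, IsMinimal E := by
  let X := toGMod 𝒜 ℳ
  let ε : M →ₗ[R] (hullOf X).carrier := hullMap X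
  have hε : GrLC.IsGrHom ℳ (hullOf X).gr ε := (hull_spec X).grHom
  let s : MinStage 𝒜 :=
    { C := hullOf X, K := LinearMap.range ε, hK := isHomogeneous_range (spans_of_decomposition ℳ) hε,
      hC := (hull_spec X).starInj,
      ess := fun g x hx h0 => ((isStarEss_iff 𝒜).1 (hull_spec X).toIsStarEss).2.2 g x hx h0 }
  refine ⟨{
    X := fun n => (minStages s n).C
    d := fun n => (minStages s n).out
    ε := ε
    d_grHom := fun n => (minStages s n).out_grHom
    ε_grHom := hε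
    ε_injective := (hull_spec X).injective
    exact_zero := (minStages s 0).ker_out
    exact_succ := fun n => (minStages s (n + 1)).ker_out
    starInj := fun n => (minStages s n).hC }, fun n g x hx h0 => ?_⟩
  rw [show LinearMap.ker ((minStages s n).out) = (minStages s n).K from (minStages s n).ker_out]
  exact (minStages s n).ess g x hx h0

theorem IsMinimal.essential {E : GrLC.StarInjRes 𝒜 ℳ} (hE : IsMinimal E) (n : ℕ)
    (Q : Submodule R (E.X n).carrier) (hQ : Q.IsHomogeneous (E.X n).gr) (h : Q ≠ ⊥) :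
    Q ⊓ LinearMap.ker (E.d n) ≠ ⊥ := by
  obtain ⟨g, x, hx, hxQ, hx0⟩ := exists_homogeneous_ne_zero hQ h
  obtain ⟨r, hr, hr0⟩ := hE n g x hx hx0
  intro hbot
  exact hr0 ((Submodule.mem_bot R).1 (hbot ▸ (⟨Q.smul_mem r hxQ, hr⟩ : r • x ∈ Q ⊓ LinearMap.ker (E.d n))))

theorem IsMinimal.gam_eq_bot {E : GrLC.StarInjRes 𝒜 ℳ} (hE : IsMinimal E) (a : HomogeneousIdeal 𝒜) {n : ℕ}
    (h : E.cocyc a n = ⊥) : GrLC.gam a.toIdeal (E.X n).carrier = ⊥ := by
  by_contra hne
  exact hE.essential n _ (gam_isHomogeneous a (E.X n).gr) hne h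

/-- A nonzero torsion homogeneous element has a nonzero homogeneous multiple in the socle. -/
theorem exists_socle_multiple (a : HomogeneousIdeal 𝒜) {g : ι} {x : M} (hx : x ∈ ℳ g)
    (hxt : x ∈ GrLC.gam a.toIdeal M) (h0 : x ≠ 0) :
    ∃ (b : ι) (r : R), r ∈ 𝒜 b ∧ r • x ≠ 0 ∧ ∀ c ∈ a.toIdeal, c • r • x = 0 := by
  classical
  have hex : ∃ k : ℕ, ∀ r ∈ a.toIdeal ^ k, r • x = 0 := hxt
  obtain ⟨j, hj⟩ : ∃ j, Nat.find hex = j + 1 := by
    refine Nat.exists_eq_succ_of_ne_zero fun h => h0 ?_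
    have hspec := Nat.find_spec hex
    rw [h] at hspec
    simpa using hspec 1 (by simp)
  have hmin := Nat.find_min hex (show j < Nat.find hex by omega)
  push Not at hmin
  obtain ⟨r, hr, hr0⟩ := hmin
  obtain ⟨b, hb⟩ : ∃ b, proj 𝒜 b r • x ≠ 0 := by
    by_contra! h
    refine hr0 ?_
    rw [← sum_proj 𝒜 r, Finset.sum_smul]
    exact Finset.sum_eq_zero fun b _ => h b
  refine ⟨b, proj 𝒜 b r, proj_mem 𝒜 b r, hb, fun c hc => ?_⟩
  have hspec := Nat.find_spec hex
  rw [hj, pow_succ] at hspec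
  rw [← mul_smul, mul_comm]
  exact hspec _ (Ideal.mul_mem_mul (isHomogeneous_pow a j b hr) hc)

theorem cocyc_eq_bot_iff_killed (E : GrLC.StarInjRes 𝒜 ℳ) (a : HomogeneousIdeal 𝒜) (n : ℕ) :
    E.cocyc a n = ⊥ ↔ Subsingleton (killed a.toIdeal (LinearMap.ker (E.d n))) := by
  constructor
  · intro h
    refine subsingleton_of_forall_eq 0 fun y => Subtype.ext (Subtype.ext ?_)
    refine (Submodule.mem_bot R).1 (h ▸ (show (y.1.1 : (E.X n).carrier) ∈ E.cocyc a n from ⟨⟨1, fun r hr => ?_⟩, y.1.2⟩))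
    rw [pow_one] at hr
    exact congrArg Subtype.val ((Submodule.mem_torsionBySet_iff _ _).1 y.2 ⟨r, hr⟩)
  · intro h
    by_contra hne
    obtain ⟨g, x, hx, hxc, hx0⟩ := exists_homogeneous_ne_zero (cocyc_isHomogeneous E a n) hne
    obtain ⟨b, r, -, hr0, hkill⟩ := exists_socle_multiple a hx hxc.1 hx0
    refine hr0 (congrArg (fun z : killed a.toIdeal (LinearMap.ker (E.d n)) => z.1.1)
      (Subsingleton.elim (⟨⟨r • x, Submodule.smul_mem _ r hxc.2⟩,
        (Submodule.mem_torsionBySet_iff _ _).2 fun c => Subtype.ext (hkill c.1 c.2)⟩ :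
          killed a.toIdeal (LinearMap.ker (E.d n))) 0))

section StarMax

variable [IsNoetherianRing R] {m : HomogeneousIdeal 𝒜} [m.toIdeal.IsPrime]

theorem cocyc_succ_eq_bot_iff_bassNum (hm : GrLC.IsStarLocal 𝒜 m) {E : GrLC.StarInjRes 𝒜 ℳ} (hE : IsMinimal E)
    (k : ℕ) : E.cocyc m (k + 1) = ⊥ ↔ GrLC.bassNum m.toIdeal M (k + 1) = 0 := by
  rw [cocyc_eq_bot_iff_killed, bassNum_succ_eq_length E m k (hE.essential k), Module.length_eq_zero_iff]
  refine ⟨fun h => ?_, fun h => ?_⟩
  · refine subsingleton_of_forall_eq 0 fun z => ?_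
    induction z using LocalizedModule.induction_on with
    | h y s => rw [Subsingleton.elim y 0, LocalizedModule.zero_mk]
  · let Z := sub (E.X (k + 1)) (LinearMap.ker (E.d (k + 1))) (isHomogeneous_ker (E.d_grHom (k + 1)))
    let K := sub Z (killed m.toIdeal _) (isHomogeneous_killed m.isHomogeneous Z)
    have : Subsingleton (LocalizedModule m.toIdeal.primeCompl K.carrier) := h
    exact subsingleton_of_localized (M := K.carrier) (ℳ := K.gr) hm

end StarMax

section Below

variable (E : GrLC.StarInjRes 𝒜 ℳ) (a : HomogeneousIdeal 𝒜)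

theorem cocyc_eq_bot_of_subsingleton {i : ℕ} (hH : Subsingleton (E.H a i)) (hb : E.cobdy a i = ⊥) :
    E.cocyc a i = ⊥ := by
  refine (Submodule.eq_bot_iff _).2 fun z hz => ?_
  have h := (toH_eq_zero_iff E a (⟨z, hz⟩ : E.cocyc a i)).1 (Subsingleton.elim _ _)
  rwa [hb, Submodule.mem_bot] at h

variable {E}

theorem IsMinimal.cobdy_succ_eq_bot (hE : IsMinimal E) {i : ℕ} (h : E.cocyc a i = ⊥) :
    E.cobdy a (i + 1) = ⊥ := by
  refine (Submodule.eq_bot_iff _).2 fun z ⟨y, hy, hyz⟩ => ?_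
  rw [hE.gam_eq_bot a h] at hy
  rw [← hyz, (Submodule.mem_bot R).1 hy, map_zero]

/-- No coboundaries up to the first nonvanishing cohomology. -/
theorem IsMinimal.cobdy_eq_bot (hE : IsMinimal E) {n : ℕ} (h : ∀ i < n, Subsingleton (E.H a i)) :
    E.cobdy a n = ⊥ := by
  induction n with
  | zero => rfl
  | succ n ih =>
    exact hE.cobdy_succ_eq_bot a (cocyc_eq_bot_of_subsingleton E a (h n n.lt_succ_self)
      (ih fun i hi => h i (hi.trans n.lt_succ_self)))

end Below

end Groth.Agent.GrLC21
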