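import Groth.Agent.Lib.GrLC21.Koszul
import Groth.Agent.Lib.GrSyz.Basic
import Mathlib.RingTheory.MvPolynomial.Ideal

/-!
# Graded local cohomology of a polynomial ring and of its graded free modules
-/

universe u

open DirectSum MvPolynomial GrSyz

noncomputable section

set_option linter.unusedSectionVars false
set_option backward.isDefEq.respectTransparency false

namespace Groth.Agent.GrLC21

/-- Vanishing passes to retracts. -/
theorem Van.retract {ι : Type} [AddCommGroup ι] [DecidableEq ι] {R : Type u} [CommRing R] {σ : Type u}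
    [SetLike σ R] [AddSubgroupClass σ R] {𝒜 : ι → σ} [GradedRing 𝒜] {a : HomogeneousIdeal 𝒜}
    {X Y : GrLC.GMod.{u} 𝒜} {i : ℕ} {g : ι} (s : Y.carrier →ₗ[R] X.carrier) (p : X.carrier →ₗ[R] Y.carrier)
    (hs : GrLC.IsGrHom Y.gr X.gr s) (hp : GrLC.IsGrHom X.gr Y.gr p) (h : p ∘ₗ s = LinearMap.id)
    (hX : Van a i g X) : Van a i g Y := fun F => by
  obtain ⟨E⟩ := nonempty_res (𝒜 := 𝒜) X.gr
  refine (Hcomp_eq_bot_iff F a).2 fun y hy => ?_
  have h0 : Hmap F E a hs i y = 0 := (Hcomp_eq_bot_iff E a).1 (hX E) _ (Hmap_grHom a hs i g y hy)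
  have h1 := LinearMap.congr_fun (Hmap_comp (E := F) (F := E) (G := F) a hs hp i) y
  rw [LinearMap.comp_apply, h0, map_zero, Hmap_congr a (isGrHom_comp hp hs) (isGrHom_id Y.gr) h i, Hmap_id] at h1
  exact h1.symm

variable {k : Type u} [Field k] {d : ℕ}

local notation "𝒮" => stdGr k (Fin d)
local notation "𝔞" => irrel (stdGr k (Fin d))

theorem X_mem_stdGr (i : Fin d) : (X i : MvPolynomial (Fin d) k) ∈ stdGr k (Fin d) 1 :=
  (mem_stdGr_iff _ _ _ _).2 (isWeightedHomogeneous_X k (fun _ => (1 : ℤ)) i)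

variable (k d) in
/-- The ideal of the first `j` variables. -/
def firstVars (j : ℕ) : HomogeneousIdeal 𝒮 :=
  ⟨Ideal.span (X '' {i : Fin d | (i : ℕ) < j}), Ideal.homogeneous_span 𝒮 _ (by
    rintro _ ⟨i, -, rfl⟩
    exact ⟨1, X_mem_stdGr i⟩)⟩

theorem isSMulRegular_X_quotient {j : ℕ} (hj : j < d) :
    IsSMulRegular (MvPolynomial (Fin d) k ⧸ (firstVars k d j).toIdeal)
      (X ⟨j, hj⟩ : MvPolynomial (Fin d) k) := by
  refine (isSMulRegular_iff_right_eq_zero_of_smul).2 fun x hx => ?_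
  obtain ⟨p, rfl⟩ := Ideal.Quotient.mk_surjective x
  have hx : (X ⟨j, hj⟩ : MvPolynomial (Fin d) k) * p ∈ (firstVars k d j).toIdeal := Ideal.Quotient.eq_zero_iff_mem.1 hx
  refine Ideal.Quotient.eq_zero_iff_mem.2 ?_
  rw [show (firstVars k d j).toIdeal = Ideal.span (X '' {i : Fin d | (i : ℕ) < j}) from rfl,
    mem_ideal_span_X_image] at hx ⊢
  classical
  intro m hm
  obtain ⟨i, hi, hmi⟩ := hx (Finsupp.single ⟨j, hj⟩ 1 + m) (by
    rw [support_X_mul, Finset.mem_map]
    exact ⟨m, hm, rfl⟩)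
  refine ⟨i, hi, ?_⟩
  rw [Finsupp.add_apply, Finsupp.single_eq_of_ne (fun e => by
    have : (i : ℕ) < j := hi
    rw [e] at this
    exact lt_irrefl _ this), zero_add] at hmi
  exact hmi

theorem irrel_le_allVars : (𝔞).toIdeal ≤ (firstVars k d d).toIdeal := by
  refine Ideal.span_le.2 fun p ⟨n, hn, hp⟩ => ?_
  show p ∈ Ideal.span (X '' {i : Fin d | (i : ℕ) < d})
  rw [mem_ideal_span_X_image]
  intro m hm
  have h0 : m ≠ 0 := by
    rintro rfl
    have := GrSyzLib.constantCoeff_eq_zero (by omega) hp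
    rw [constantCoeff_eq] at this
    exact (MvPolynomial.mem_support_iff.1 hm) this
  obtain ⟨i, hi⟩ : ∃ i, m i ≠ 0 := by
    by_contra! h
    exact h0 (Finsupp.ext h)
  exact ⟨i, i.2, hi⟩

variable (k d) in
/-- `k[x]/(x₁,…,x_j)`. -/
def varsQuot (j : ℕ) : GrLC.GMod.{u} 𝒮 := quotMod 𝒮 (firstVars k d j)

theorem one_notMem_firstVars (j : ℕ) : (1 : MvPolynomial (Fin d) k) ∉ (firstVars k d j).toIdeal := by
  intro h
  rw [show (firstVars k d j).toIdeal = Ideal.span (X '' {i : Fin d | (i : ℕ) < j}) from rfl,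
    mem_ideal_span_X_image] at h
  obtain ⟨i, -, hi⟩ := h 0 (by simp)
  exact hi rfl

/-- The sequence of one variable. -/
def varsSeq {j : ℕ} (hj : j < d) : Seq (shift (varsQuot k d j) 1) (varsQuot k d j) (varsQuot k d (j + 1)) where
  f := smulMap (varsQuot k d j) (X ⟨j, hj⟩)
  g := Submodule.factor (show (firstVars k d j).toIdeal ≤ (firstVars k d (j + 1)).toIdeal from
    Ideal.span_mono (Set.image_mono fun i (hi : (i : ℕ) < j) => show (i : ℕ) < j + 1 by omega))
  f_grHom := smulMap_grHom _ (X_mem_stdGr _)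
  g_grHom := by
    rintro g _ ⟨p, hp, rfl⟩
    exact ⟨p, hp, rfl⟩
  f_inj := isSMulRegular_X_quotient hj
  g_surj := Submodule.factor_surjective _
  exact := by
    refine le_antisymm ?_ fun x hx => ?_
    · rintro _ ⟨x, rfl⟩
      obtain ⟨p, rfl⟩ := Ideal.Quotient.mk_surjective x
      exact Ideal.Quotient.eq_zero_iff_mem.2 (Ideal.mul_mem_right _ _ (Ideal.subset_span ⟨⟨j, hj⟩, Nat.lt_succ_self j, rfl⟩))
    · obtain ⟨p, rfl⟩ := Ideal.Quotient.mk_surjective x
      have hp : p ∈ Ideal.span (X '' {i : Fin d | (i : ℕ) < j + 1}) := Ideal.Quotient.eq_zero_iff_mem.1 hx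
      have hset : {i : Fin d | (i : ℕ) < j + 1} = insert ⟨j, hj⟩ {i : Fin d | (i : ℕ) < j} := by
        ext i
        simp only [Set.mem_ofPred_eq, Set.mem_insert_iff, Fin.ext_iff]
        omega
      rw [hset, Set.image_insert_eq] at hp
      obtain ⟨c, z, hz, rfl⟩ := Ideal.mem_span_insert.1 hp
      refine ⟨Ideal.Quotient.mk (firstVars k d j).toIdeal c, ?_⟩
      show Ideal.Quotient.mk (firstVars k d j).toIdeal (X ⟨j, hj⟩ * c) = _
      rw [Ideal.Quotient.eq, mul_comm, sub_add_cancel_left]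
      exact neg_mem hz

theorem van_varsQuot : ∀ e j : ℕ, j + e = d →
    (∀ l g, l ≠ e → Van 𝔞 l g (varsQuot k d j)) ∧
    (∀ g : ℤ, -(e : ℤ) < g → Van 𝔞 e g (varsQuot k d j)) ∧ ¬ Van 𝔞 e (-(e : ℤ)) (varsQuot k d j)
  | 0, j, hj => by
    obtain rfl : j = d := by omega
    have htors : ∀ x : (varsQuot k j j).carrier, x ∈ GrLC.gam (irrel (stdGr k (Fin j))).toIdeal (varsQuot k j j).carrier := fun x => ⟨1, fun r hr => by
      obtain ⟨p, rfl⟩ := Ideal.Quotient.mk_surjective x
      rw [pow_one] at hr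
      exact Ideal.Quotient.eq_zero_iff_mem.2 (Ideal.mul_mem_right _ _ (irrel_le_allVars hr))⟩
    refine ⟨fun l g hl => ?_, fun g hg => Van.zero_iff.2 ?_, fun h => ?_⟩
    · obtain ⟨m, rfl⟩ := Nat.exists_eq_succ_of_ne_zero hl
      exact van_succ_of_torsion htors m g
    · rintro _ ⟨p, hp, rfl⟩ -
      exact Ideal.Quotient.eq_zero_iff_mem.2 (irrel_le_allVars (GrSyzLib.mem_irrel_of_pos (by omega) hp))
    · have h1 := Van.zero_iff.1 h (Ideal.Quotient.mk (firstVars k j j).toIdeal 1 : (varsQuot k j j).carrier)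
        ⟨1, by simpa using (SetLike.GradedOne.one_mem : (1 : MvPolynomial (Fin j) k) ∈ stdGr k (Fin j) 0), rfl⟩ (htors _)
      exact one_notMem_firstVars j (Ideal.Quotient.eq_zero_iff_mem.1 h1)
  | e + 1, j, hj => by
    obtain ⟨h1, h2, h3⟩ := van_varsQuot e (j + 1) (by omega)
    have hjd : j < d := by omega
    have hxa : (X ⟨j, hjd⟩ : MvPolynomial (Fin d) k) ∈ (𝔞).toIdeal :=
      GrSyzLib.mem_irrel_of_pos one_pos (X_mem_stdGr _)
    have hzero : ∀ g, Van 𝔞 0 g (varsQuot k d j) := fun g => Van.zero_iff.2 fun m _ ⟨n, hn⟩ => by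
      have := hn _ (Ideal.pow_mem_pow hxa n)
      exact (IsSMulRegular.pow n (isSMulRegular_X_quotient hjd)) (this.trans (smul_zero _).symm)
    have hne : ∀ l g, l ≠ e + 1 → Van 𝔞 l g (varsQuot k d j) := fun l g hl => by
      rcases l with _ | l
      · exact hzero g
      · exact Van.succ_of_smul (X_mem_stdGr _) hxa (varsSeq hjd) rfl fun n => h1 l _ (by omega)
    refine ⟨hne, fun g hg => Van.succ_of_smul (X_mem_stdGr _) hxa (varsSeq hjd) rfl fun n => h2 _ ?_, fun h => h3 ?_⟩
    · push_cast at hg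
      rw [nsmul_eq_mul, mul_one]
      push_cast
      omega
    · refine Van.right (varsSeq hjd) (hne e _ (by omega)) ((van_shift_iff 1).2 ?_)
      convert h using 2
      push_cast
      ring

variable (k d) in
/-- The polynomial ring as a graded module over itself. -/
def polyMod : GrLC.GMod.{u} 𝒮 := toGMod 𝒮 𝒮

theorem van_polyMod : (∀ l g, l ≠ d → Van 𝔞 l g (polyMod k d)) ∧
    (∀ g : ℤ, -(d : ℤ) < g → Van 𝔞 d g (polyMod k d)) ∧ ¬ Van 𝔞 d (-(d : ℤ)) (polyMod k d) := by
  obtain ⟨h1, h2, h3⟩ := van_varsQuot (k := k) (d := d) d 0 (by omega)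
  have hbot : (firstVars k d 0).toIdeal = ⊥ := by
    show Ideal.span (X '' {i : Fin d | (i : ℕ) < 0}) = ⊥
    simp
  let e : (varsQuot k d 0).carrier ≃ₗ[MvPolynomial (Fin d) k] (polyMod k d).carrier :=
    Submodule.quotEquivOfEqBot _ hbot
  have he : GrLC.IsGrHom (varsQuot k d 0).gr (polyMod k d).gr e.toLinearMap := by
    rintro g _ ⟨p, hp, rfl⟩
    exact hp
  exact ⟨fun l g hl => Van.of_equiv e he (h1 l g hl), fun g hg => Van.of_equiv e he (h2 g hg),
    fun h => h3 (Van.of_equiv' e he h)⟩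

theorem van_freeMod : ∀ {n : ℕ} (b : Fin n → ℤ) {l : ℕ} {g : ℤ},
    (∀ c, Van 𝔞 l (g - b c) (polyMod k d)) → Van 𝔞 l g (freeMod 𝒮 b)
  | 0, b, l, g, _ => by
    have : Subsingleton (freeMod 𝒮 b).carrier := (inferInstance : Subsingleton (Fin 0 → MvPolynomial (Fin d) k))
    exact van_of_subsingleton l g
  | n + 1, b, l, g, h => by
    have ht := van_freeMod (fun c => b c.succ) fun c => h c.succ
    refine Van.mid
      { f := { toFun := fun (v : Fin n → MvPolynomial (Fin d) k) => (Fin.cons 0 v : Fin (n + 1) → MvPolynomial (Fin d) k)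
               map_add' := fun (u v : Fin n → MvPolynomial (Fin d) k) => funext fun c => Fin.cases
                 (show (0 : MvPolynomial (Fin d) k) = 0 + 0 from (add_zero _).symm)
                 (fun c => show (u + v : Fin n → MvPolynomial (Fin d) k) c = u c + v c from rfl) c
               map_smul' := fun r (v : Fin n → MvPolynomial (Fin d) k) => funext fun c => Fin.cases
                 (show (0 : MvPolynomial (Fin d) k) = r • 0 from (smul_zero r).symm)
                 (fun c => show (r • v : Fin n → MvPolynomial (Fin d) k) c = r • v c from rfl) c }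
        g := LinearMap.proj (R := MvPolynomial (Fin d) k) (φ := fun _ : Fin (n + 1) => MvPolynomial (Fin d) k) 0
        f_grHom := fun e v hv c => by
          refine Fin.cases ?_ (fun c => ?_) c
          · exact zero_mem _
          · exact hv c
        g_grHom := fun e v hv => hv 0
        f_inj := fun u v e => by
          have := congrArg Fin.tail e
          simpa using this
        g_surj := fun p => ⟨fun _ => p, rfl⟩
        exact := le_antisymm (by rintro _ ⟨v, rfl⟩; rfl) fun v hv => ⟨Fin.tail v, by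
          funext c
          refine Fin.cases ?_ (fun c => ?_) c
          · exact (LinearMap.mem_ker.1 hv).symm
          · rfl⟩ : Seq (freeMod 𝒮 fun c => b c.succ) (freeMod 𝒮 b) (shift (polyMod k d) (b 0)) }
      ht ((van_shift_iff _).2 (h 0))

end Groth.Agent.GrLC21
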