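import Groth.Agent.Lib.GrLC21.Primes
import Mathlib.RingTheory.Finiteness.Ideal

/-!
# The *injective envelope of `R ⧸ p`
-/

universe u

open DirectSum

noncomputable section

set_option linter.unusedSectionVars false

namespace Groth.Agent.GrLC21

variable {ι : Type} [AddCommGroup ι] [DecidableEq ι]
variable {R : Type u} [CommRing R] {σ : Type u} [SetLike σ R] [AddSubgroupClass σ R]
  {𝒜 : ι → σ} [GradedRing 𝒜] {p : HomogeneousIdeal 𝒜}
variable {E : Type u} [AddCommGroup E] [Module R E] {τ : Type u} [SetLike τ E] [AddSubgroupClass τ E]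
  {𝓔 : ι → τ} [Decomposition 𝓔] [SetLike.GradedSMul 𝒜 𝓔] {e : (R ⧸ p.toIdeal) →ₗ[R] E}

theorem smul_quotient_map_eq_zero_iff (hi : Function.Injective e) {r s : R} :
    r • e (Ideal.Quotient.mk p.toIdeal s) = 0 ↔ r * s ∈ p.toIdeal := by
  rw [← map_smul, map_eq_zero_iff e hi, ← Ideal.Quotient.eq_zero_iff_mem]
  exact Iff.rfl

/-- Every nonzero element has a multiple in the image of `R ⧸ p`. -/
theorem exists_smul_eq_quotient (he : GrLC.IsStarEss (GrLC.quotGr 𝒜 p) 𝓔 e) {x : E} (hx : x ≠ 0) :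
    ∃ t s : R, s ∉ p.toIdeal ∧ t • x = e (Ideal.Quotient.mk p.toIdeal s) := by
  obtain ⟨-, t, -, ⟨b, hb⟩, ht⟩ := exists_smul_of_isStarEss (𝒜 := 𝒜) (spans_quotGr 𝒜 p) he x hx
  obtain ⟨s, rfl⟩ := Ideal.Quotient.mk_surjective b
  refine ⟨t, s, fun hs => ht ?_, hb.symm⟩
  rw [← hb, Ideal.Quotient.eq_zero_iff_mem.2 hs, map_zero]

theorem gam_eq_top_of_isStarEss [IsNoetherianRing R] (he : GrLC.IsStarEss (GrLC.quotGr 𝒜 p) 𝓔 e) :
    GrLC.gam p.toIdeal E = ⊤ := by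
  refine eq_top_iff.2 fun x _ => ?_
  have hrad : p.toIdeal ≤ ((R ∙ x).annihilator).radical := by
    intro a ha
    obtain ⟨n, hn⟩ := monotone_stabilizes_iff_noetherian.2 (inferInstance : IsNoetherianRing R)
      ⟨fun n => (R ∙ a ^ n • x).annihilator, fun m n hmn r hr => by
        rw [Submodule.mem_annihilator_span_singleton] at hr ⊢
        rw [← Nat.add_sub_cancel' hmn, pow_add, mul_comm, mul_smul, smul_comm, hr, smul_zero]⟩
    refine ⟨n, (Submodule.mem_annihilator_span_singleton _ _).2 (by_contra fun h => ?_)⟩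
    obtain ⟨t, s, hs, ht⟩ := exists_smul_eq_quotient he h
    have h1 : t ∈ (R ∙ a ^ (n + 1) • x).annihilator := by
      rw [Submodule.mem_annihilator_span_singleton, pow_succ', mul_smul, smul_comm, ht,
        smul_quotient_map_eq_zero_iff he.injective]
      exact Ideal.mul_mem_right _ _ ha
    have h3 : (R ∙ a ^ n • x).annihilator = (R ∙ a ^ (n + 1) • x).annihilator := hn (n + 1) (Nat.le_succ n)
    have h2 : t ∈ (R ∙ a ^ n • x).annihilator := h3 ▸ h1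
    rw [Submodule.mem_annihilator_span_singleton, ht, map_eq_zero_iff e he.injective,
      Ideal.Quotient.eq_zero_iff_mem] at h2
    exact hs h2
  obtain ⟨k, hk⟩ := Ideal.exists_pow_le_of_le_radical_of_fg hrad (IsNoetherian.noetherian p.toIdeal)
  exact ⟨k, fun r hr => (Submodule.mem_annihilator_span_singleton _ _).1 (hk hr)⟩

theorem smul_bijective_of_hull [p.toIdeal.IsPrime]
    (he : GrLC.IsStarInjHull 𝒜 (GrLC.quotGr 𝒜 p) 𝓔 e) {g : ι} {r : R} (hr : r ∈ 𝒜 g)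
    (hrp : r ∉ p.toIdeal) : Function.Bijective fun x : E => r • x := by
  let Y := shift (toGMod 𝒜 𝓔) (-g)
  let f : E →ₗ[R] Y.carrier := LinearMap.lsmul R E r
  have hf : GrLC.IsGrHom 𝓔 Y.gr f := fun d x hx => by
    show r • x ∈ 𝓔 (d - -g)
    rw [sub_neg_eq_add, add_comm]
    exact smul_mem 𝒜 𝓔 hr hx
  have hi : Function.Injective f := by
    rw [injective_iff_map_eq_zero]
    intro x hx
    by_contra h0
    obtain ⟨t, s, hs, ht⟩ := exists_smul_eq_quotient he.toIsStarEss h0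
    have h1 : r • e (Ideal.Quotient.mk p.toIdeal s) = 0 := by
      rw [← ht, smul_comm, show r • x = 0 from hx, smul_zero]
    exact ((Ideal.IsPrime.mem_or_mem ‹_› ((smul_quotient_map_eq_zero_iff he.injective).1 h1))).elim hrp hs
  obtain ⟨ρ, -, hρ⟩ := exists_retraction he.starInj hf hi
  have hρi : Function.Injective ρ := by
    rw [injective_iff_map_eq_zero]
    intro z hz
    refine (LinearMap.congr_fun hρ z).symm.trans ?_
    exact (ρ.map_smul r z).trans (by rw [hz, smul_zero]; rfl)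
  exact ⟨hi, fun y => ⟨ρ y, hρi (LinearMap.congr_fun hρ (ρ y))⟩⟩

theorem isStarIndec_of_isStarEss [p.toIdeal.IsPrime]
    (he : GrLC.IsStarEss (GrLC.quotGr 𝒜 p) 𝓔 e) : GrLC.IsStarIndec R 𝓔 := by
  have h1 : e (Ideal.Quotient.mk p.toIdeal 1) ≠ 0 := by
    rw [ne_eq, map_eq_zero_iff e he.injective, Ideal.Quotient.eq_zero_iff_mem]
    exact fun h => Ideal.IsPrime.ne_top ‹_› ((Ideal.eq_top_iff_one _).2 h)
  refine ⟨nontrivial_of_ne _ _ h1, fun P Q hP hQ hPQ => ?_⟩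
  by_contra! hne
  obtain ⟨_, ⟨hyP, a, rfl⟩, hy⟩ := (Submodule.ne_bot_iff _).1 (he.essential P hP hne.1)
  obtain ⟨_, ⟨hzQ, b, rfl⟩, hz⟩ := (Submodule.ne_bot_iff _).1 (he.essential Q hQ hne.2)
  obtain ⟨s, rfl⟩ := Ideal.Quotient.mk_surjective a
  obtain ⟨t, rfl⟩ := Ideal.Quotient.mk_surjective b
  have hcomm : t • e (Ideal.Quotient.mk p.toIdeal s) = s • e (Ideal.Quotient.mk p.toIdeal t) := by
    rw [← map_smul e, ← map_smul e]
    exact congrArg e (congrArg (Ideal.Quotient.mk p.toIdeal) (mul_comm t s))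
  have h0 : t • e (Ideal.Quotient.mk p.toIdeal s) = 0 :=
    (Submodule.mem_bot R).1 (hPQ.disjoint.le_bot
      ⟨P.smul_mem t hyP, hcomm ▸ Q.smul_mem s hzQ⟩)
  rw [ne_eq, map_eq_zero_iff e he.injective, Ideal.Quotient.eq_zero_iff_mem] at hy hz
  exact (Ideal.IsPrime.mem_or_mem ‹_› ((smul_quotient_map_eq_zero_iff he.injective).1 h0)).elim hz hy

/-- The prime is determined by the envelope. -/
theorem eq_of_isStarEss [p.toIdeal.IsPrime] (he : GrLC.IsStarEss (GrLC.quotGr 𝒜 p) 𝓔 e)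
    {q : HomogeneousIdeal 𝒜} [q.toIdeal.IsPrime] {F : Type u} [AddCommGroup F] [Module R F]
    {τ' : Type u} [SetLike τ' F] [AddSubgroupClass τ' F] {𝓕 : ι → τ'} [Decomposition 𝓕]
    [SetLike.GradedSMul 𝒜 𝓕] {f : (R ⧸ q.toIdeal) →ₗ[R] F}
    (hf : GrLC.IsStarEss (GrLC.quotGr 𝒜 q) 𝓕 f) (φ : E ≃ₗ[R] F) : p = q := by
  have h1 : e (Ideal.Quotient.mk p.toIdeal 1) ≠ 0 := by
    rw [ne_eq, map_eq_zero_iff e he.injective, Ideal.Quotient.eq_zero_iff_mem]
    exact fun h => Ideal.IsPrime.ne_top ‹_› ((Ideal.eq_top_iff_one _).2 h)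
  obtain ⟨t, s, hs, ht⟩ := exists_smul_eq_quotient hf (fun h => h1 (φ.map_eq_zero_iff.1 h))
  have key : ∀ r : R, r * t ∈ p.toIdeal ↔ r * s ∈ q.toIdeal := fun r => by
    rw [← smul_quotient_map_eq_zero_iff hf.injective, ← ht, ← mul_smul, ← map_smul,
      φ.map_eq_zero_iff, smul_quotient_map_eq_zero_iff he.injective, mul_one]
  have htp : t ∉ p.toIdeal := fun h => hs (by simpa using (key 1).1 (by simpa using h))
  refine HomogeneousIdeal.ext (Ideal.ext fun r => ⟨fun h => ?_, fun h => ?_⟩)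
  · exact ((Ideal.IsPrime.mem_or_mem ‹q.toIdeal.IsPrime›) ((key r).1 (Ideal.mul_mem_right _ _ h))).resolve_right hs
  · exact ((Ideal.IsPrime.mem_or_mem ‹p.toIdeal.IsPrime›) ((key r).2 (Ideal.mul_mem_right _ _ h))).resolve_right htp

/-- A homogeneous element with annihilator `q` gives a summand `*E(R ⧸ q)`. -/
theorem exists_summand {I : Type u} [AddCommGroup I] [Module R I] {τ' : Type u} [SetLike τ' I]
    [AddSubgroupClass τ' I] {ℐ : ι → τ'} [Decomposition ℐ] [SetLike.GradedSMul 𝒜 ℐ]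
    (hI : GrLC.IsStarInj 𝒜 ℐ) (q : HomogeneousIdeal 𝒜) (g₀ : ι) (m : I) (hm : m ∈ ℐ g₀)
    (hann : (R ∙ m).annihilator = q.toIdeal) :
    ∃ (X : GrLC.GMod.{u} 𝒜) (f : (R ⧸ q.toIdeal) →ₗ[R] X.carrier) (ψ : X.carrier →ₗ[R] I)
      (Q : Submodule R I),
      GrLC.IsStarInjHull 𝒜 (fun j : ι => GrLC.quotGr 𝒜 q (j - g₀)) X.gr f ∧ Function.Injective ψ ∧
        GrLC.IsGrHom X.gr ℐ ψ ∧ ψ (f 1) = m ∧ Q.IsHomogeneous ℐ ∧ IsCompl (LinearMap.range ψ) Q := by
  let S := shift (quotMod 𝒜 q) g₀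
  obtain ⟨X, f, hf⟩ := exists_starInjHull (𝒜 := 𝒜) S.gr
  let u : (R ⧸ q.toIdeal) →ₗ[R] I := Submodule.liftQ q.toIdeal (LinearMap.toSpanSingleton R I m)
    fun r hr => by
      rw [← hann, Submodule.mem_annihilator_span_singleton] at hr
      exact hr
  have hu : GrLC.IsGrHom S.gr ℐ u := by
    rintro d _ ⟨r, hr, rfl⟩
    show r • m ∈ ℐ d
    simpa using smul_mem 𝒜 ℐ hr hm
  have hui : Function.Injective u := by
    rw [injective_iff_map_eq_zero]
    intro x hx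
    obtain ⟨r, rfl⟩ := Ideal.Quotient.mk_surjective x
    rw [Ideal.Quotient.eq_zero_iff_mem, ← hann, Submodule.mem_annihilator_span_singleton]
    exact hx
  let f' : (R ⧸ q.toIdeal) →ₗ[R] X.carrier := f
  have hf' : GrLC.IsStarInjHull 𝒜 (fun j : ι => GrLC.quotGr 𝒜 q (j - g₀)) X.gr f' := hf
  obtain ⟨ψ, hψ, hψf⟩ := hI S X f hf.grHom hf.injective u hu
  have hψi : Function.Injective ψ := injective_of_isStarEss_comp hf.toIsStarEss hψ (by
    rw [hψf]; exact hui)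
  obtain ⟨ρ, hρ, hρψ⟩ := exists_retraction hf.starInj (Y := toGMod 𝒜 ℐ) (f := ψ) hψ hψi
  let ρ' : I →ₗ[R] X.carrier := ρ
  refine ⟨X, f', ψ, LinearMap.ker ρ', hf', hψi, hψ, ?_, isHomogeneous_ker (ℳ := ℐ) (f := ρ') hρ, ?_⟩
  · refine (LinearMap.congr_fun hψf (Ideal.Quotient.mk q.toIdeal 1 : R ⧸ q.toIdeal)).trans ?_
    show (1 : R) • m = m
    exact one_smul R m
  · refine ⟨Submodule.disjoint_def.2 ?_, codisjoint_iff.2 (eq_top_iff.2 fun y _ => ?_)⟩
    · rintro _ ⟨x, rfl⟩ hx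
      have h0 : x = 0 := (LinearMap.congr_fun hρψ x).symm.trans hx
      rw [h0, map_zero]
    · have h : y = ψ (ρ' y) + (y - ψ (ρ' y)) := by abel
      rw [h]
      refine Submodule.add_mem_sup ⟨_, rfl⟩ ?_
      rw [LinearMap.mem_ker, map_sub, sub_eq_zero]
      exact (LinearMap.congr_fun hρψ (ρ' y)).symm

/-- An indecomposable *injective is a shifted `*E(R ⧸ q)`. -/
theorem exists_hull_of_indec [IsNoetherianRing R] [Module.Free ℤ ι] [Module.Finite ℤ ι] {I : Type u}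
    [AddCommGroup I] [Module R I] {τ' : Type u} [SetLike τ' I]
    [AddSubgroupClass τ' I] {ℐ : ι → τ'} [Decomposition ℐ] [SetLike.GradedSMul 𝒜 ℐ]
    (hI : GrLC.IsStarInj 𝒜 ℐ) (hind : GrLC.IsStarIndec R ℐ) :
    ∃ (q : HomogeneousIdeal 𝒜) (g₀ : ι) (f : (R ⧸ q.toIdeal) →ₗ[R] I), q.toIdeal.IsPrime ∧
      GrLC.IsStarInjHull 𝒜 (fun j : ι => GrLC.quotGr 𝒜 q (j - g₀)) ℐ f := by
  have := hind.1
  obtain ⟨g₀, m, q, hm, hq, hann⟩ := exists_prime_annihilator (𝒜 := 𝒜) ℐ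
  obtain ⟨X, f, ψ, Q, hf, hψi, hψ, hψm, hQ, hc⟩ := exists_summand hI q g₀ m hm hann
  have hQ0 : Q = ⊥ := by
    refine (hind.2 _ Q (isHomogeneous_range (spans_of_decomposition X.gr) hψ) hQ hc).resolve_left ?_
    intro h
    have hm0 : m = 0 := (Submodule.mem_bot R).1 (h ▸ ⟨f 1, hψm⟩)
    refine hq.ne_top (hann ▸ ?_)
    rw [hm0, Ideal.eq_top_iff_one, Submodule.mem_annihilator_span_singleton, smul_zero]
  have hsur : Function.Surjective ψ := fun y => by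
    have h := hc.sup_eq_top
    rw [hQ0, sup_bot_eq] at h
    exact (h ▸ Submodule.mem_top : y ∈ LinearMap.range ψ)
  refine ⟨q, g₀, ψ ∘ₗ f, hq, (isStarEss_iff 𝒜).2 ⟨hψi.comp hf.injective, isGrHom_comp hψ hf.grHom, ?_⟩, hI⟩
  intro d y hy h0
  obtain ⟨x, hx, rfl⟩ := exists_homogeneous_preimage hψ hy (hsur y)
  obtain ⟨r, ⟨a, ha⟩, hr⟩ := ((isStarEss_iff 𝒜).1 hf.toIsStarEss).2.2 d x hx fun e => h0 (by rw [e, map_zero])
  refine ⟨r, ⟨a, ?_⟩, fun e => hr (hψi ?_)⟩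
  · rw [LinearMap.comp_apply, ha, map_smul]
  · rw [map_smul, map_zero, e]

end Groth.Agent.GrLC21
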