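import Groth.Agent.Lib.GrLC21.RegProps
import Mathlib.RingTheory.Regular.RegularSequence

/-!
# The regularity of a graded module over a polynomial ring
-/

universe u

open DirectSum MvPolynomial GrSyz

noncomputable section

set_option linter.unusedSectionVars false
set_option backward.isDefEq.respectTransparency false

namespace Groth.Agent.GrLC21

variable {k : Type u} [Field k] {d : ℕ}

local notation "𝒮" => stdGr k (Fin d)
local notation "𝔞" => irrel (stdGr k (Fin d))

theorem hpos_std : ∀ n : ℤ, n < 0 → ∀ p ∈ stdGr k (Fin d) n, p = 0 := fun _ hn _ hp =>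
  GrSyzLib.eq_zero_of_neg hn hp

theorem irrel_le_posSpan :
    (𝔞).toIdeal ≤ Ideal.span (⋃ n ∈ Set.Ioi (0 : ℤ), (stdGr k (Fin d) n : Set (MvPolynomial (Fin d) k))) :=
  Ideal.span_mono fun _ ⟨_, hn, hp⟩ => Set.mem_biUnion hn hp

theorem irrel_eq_span_one :
    (𝔞).toIdeal = Ideal.span (stdGr k (Fin d) 1 : Set (MvPolynomial (Fin d) k)) := by
  refine le_antisymm ?_ (Ideal.span_mono fun p hp => ⟨1, one_pos, hp⟩)
  refine irrel_le_allVars.trans (Ideal.span_mono ?_)
  rintro _ ⟨i, -, rfl⟩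
  exact X_mem_stdGr i

theorem mem_irrel_of_mem_one {x : MvPolynomial (Fin d) k} (hx : x ∈ stdGr k (Fin d) 1) : x ∈ (𝔞).toIdeal :=
  GrSyzLib.mem_irrel_of_pos one_pos hx

/-- Values in `ℤ ∪ {±∞}` are determined by the integers above them. -/
theorem eq_of_forall_le_int {x y : WithBot (WithTop ℤ)}
    (h : ∀ D : ℤ, x ≤ ((D : WithTop ℤ) : WithBot (WithTop ℤ)) ↔ y ≤ ((D : WithTop ℤ) : WithBot (WithTop ℤ))) :
    x = y := by
  have aux : ∀ x y : WithBot (WithTop ℤ),
      (∀ D : ℤ, y ≤ ((D : WithTop ℤ) : WithBot (WithTop ℤ)) → x ≤ ((D : WithTop ℤ) : WithBot (WithTop ℤ))) → x ≤ y := by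
    intro x y h
    cases y with
    | bot =>
      cases x with
      | bot => exact le_rfl
      | coe x =>
        cases x with
        | top =>
          have := h 0 bot_le
          rw [WithBot.coe_le_coe] at this
          exact absurd (top_le_iff.1 this) WithTop.coe_ne_top
        | coe a =>
          have := h (a - 1) bot_le
          rw [WithBot.coe_le_coe, WithTop.coe_le_coe] at this
          omega
    | coe y =>
      cases y with
      | top => exact le_top
      | coe b => exact h b le_rfl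
  exact le_antisymm (aux x y fun D => (h D).2) (aux y x fun D => (h D).1)

variable {M : Type u} [AddCommGroup M] [Module k M] [Module (MvPolynomial (Fin d) k) M]
  [IsScalarTower k (MvPolynomial (Fin d) k) M]
  {ℳ : ℤ → Submodule k M} [Decomposition ℳ] [SetLike.GradedSMul (stdGr k (Fin d)) ℳ]

theorem endDeg_add_le_all (E : GrLC.StarInjRes 𝒮 ℳ) (D : ℤ) :
    (∀ i : ℕ, GrLC.endDeg (E.Hgr 𝔞 i) + (((i : ℤ) : WithTop ℤ) : WithBot (WithTop ℤ)) ≤ ((D : WithTop ℤ) : WithBot (WithTop ℤ)))
      ↔ Reg 𝔞 D (toGMod 𝒮 ℳ) :=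
  forall_congr' fun i => endDeg_add_le_iff E i D

theorem endDeg_zero_le (E : GrLC.StarInjRes 𝒮 ℳ) (D : ℤ) :
    GrLC.endDeg (E.Hgr 𝔞 0) ≤ ((D : WithTop ℤ) : WithBot (WithTop ℤ)) ↔
      ∀ g, D < g → Van 𝔞 0 g (toGMod 𝒮 ℳ) := by
  have h0 : ((((0 : ℕ) : ℤ) : WithTop ℤ) : WithBot (WithTop ℤ)) = 0 := rfl
  have h := endDeg_add_le_iff E 0 D
  rw [h0, add_zero] at h
  exact h.trans (forall_congr' fun g => by simp)

theorem endDeg_le_iff (𝒩 : ℤ → AddSubgroup M) (D : ℤ) :
    GrLC.endDeg 𝒩 ≤ ((D : WithTop ℤ) : WithBot (WithTop ℤ)) ↔ ∀ g, D < g → 𝒩 g = ⊥ := by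
  rw [GrLC.endDeg, iSup₂_le_iff]
  refine forall_congr' fun g => ?_
  rw [WithBot.coe_le_coe, WithTop.coe_le_coe]
  exact ⟨fun h hg => by_contra fun hne => absurd (h hne) (by omega), fun h hne => by_contra fun hlt => hne (h (by omega))⟩

variable [Module.Finite (MvPolynomial (Fin d) k) M]

theorem isRegLE_iff_reg (D : ℤ) : IsRegLE 𝒮 ℳ (𝔞).toIdeal D ↔ Reg 𝔞 D (toGMod 𝒮 ℳ) := isRegLE_iff_van D

theorem reg_le_iff (D : ℤ) :
    reg 𝒮 ℳ (𝔞).toIdeal ≤ ((D : WithTop ℤ) : WithBot (WithTop ℤ)) ↔ Reg 𝔞 D (toGMod 𝒮 ℳ) := by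
  constructor
  · intro h
    by_contra hn
    have hlow : (((D + 1 : ℤ) : WithTop ℤ) : WithBot (WithTop ℤ)) ≤ reg 𝒮 ℳ (𝔞).toIdeal := by
      refine le_iInf₂ fun r hr => ?_
      rw [WithBot.coe_le_coe, WithTop.coe_le_coe]
      by_contra hlt
      exact hn fun i g hg => (isRegLE_iff_reg r).1 hr i g (by omega)
    have := hlow.trans h
    rw [WithBot.coe_le_coe, WithTop.coe_le_coe] at this
    omega
  · exact fun h => iInf₂_le D ((isRegLE_iff_reg D).2 h)

theorem endDeg_of_finiteLength (hM : IsFiniteLength (MvPolynomial (Fin d) k) M) (D : ℤ) :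
    Reg 𝔞 D (toGMod 𝒮 ℳ) ↔ GrLC.endDeg (fun n => (ℳ n).toAddSubgroup) ≤ ((D : WithTop ℤ) : WithBot (WithTop ℤ)) := by
  have htors := mem_gam_of_finiteLength hpos_std irrel_le_posSpan (toGMod 𝒮 ℳ) hM
  rw [endDeg_le_iff]
  constructor
  · exact fun h g hg => (AddSubgroup.eq_bot_iff_forall _).2 fun x hx =>
      Van.zero_iff.1 (h 0 g (by simpa using hg)) x hx (htors x)
  · intro h i g hg
    rcases i with _ | i
    · refine Van.zero_iff.2 fun m hm _ => ?_
      exact (AddSubgroup.eq_bot_iff_forall _).1 (h g (by simpa using hg)) m hm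
    · exact van_succ_of_torsion htors i g

omit [Module.Finite (MvPolynomial (Fin d) k) M] in
/-- A regular sequence of linear forms does not change the regularity. -/
theorem reg_regularSequence (D : ℤ) : ∀ (ys : List (MvPolynomial (Fin d) k)) (X Y : GrLC.GMod.{u} 𝒮)
    (π : X.carrier →ₗ[MvPolynomial (Fin d) k] Y.carrier), Module.Finite (MvPolynomial (Fin d) k) X.carrier →
    (∀ y ∈ ys, y ∈ stdGr k (Fin d) 1) → RingTheory.Sequence.IsWeaklyRegular X.carrier ys →
    Function.Surjective π → GrLC.IsGrHom X.gr Y.gr π →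
    LinearMap.ker π = Ideal.ofList ys • (⊤ : Submodule (MvPolynomial (Fin d) k) X.carrier) →
    (Reg 𝔞 D X ↔ Reg 𝔞 D Y)
  | [], X, Y, π, _, _, _, hs, hg, hk => by
    have hi : Function.Injective π := by
      rw [← LinearMap.ker_eq_bot, hk, Ideal.ofList_nil, Submodule.bot_smul]
    let e := LinearEquiv.ofBijective π ⟨hi, hs⟩
    exact ⟨fun h i g hig => Van.of_equiv e hg (h i g hig), fun h i g hig => Van.of_equiv' e hg (h i g hig)⟩
  | y :: ys, X, Y, π, hfin, hys, hreg, hs, hg, hk => by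
    obtain ⟨hy, hreg'⟩ := (RingTheory.Sequence.isWeaklyRegular_cons_iff X.carrier y ys).1 hreg
    have hy1 := hys y List.mem_cons_self
    let f := smulMap X (k := (1 : ℤ)) y
    have hf := smulMap_grHom X (k := (1 : ℤ)) hy1
    let P := LinearMap.range f
    have hP : P.IsHomogeneous X.gr := isHomogeneous_range (spans_of_decomposition _) hf
    have hPe : P = Ideal.span {y} • (⊤ : Submodule (MvPolynomial (Fin d) k) X.carrier) := by
      rw [Submodule.ideal_span_singleton_smul]
      refine le_antisymm ?_ fun z hz => ?_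
      · rintro _ ⟨z, rfl⟩
        exact Submodule.smul_mem_pointwise_smul z y ⊤ trivial
      · obtain ⟨w, -, rfl⟩ := hz
        exact ⟨w, rfl⟩
    let Q := quot X P hP
    have hle : P ≤ LinearMap.ker π := by
      rw [hk, hPe, Ideal.ofList_cons]
      exact Submodule.smul_mono_left le_sup_left
    obtain ⟨π', hg', hπ'⟩ := exists_quot_lift X hP hg hle
    have hfinQ : Module.Finite (MvPolynomial (Fin d) k) Q.carrier :=
      Module.Finite.of_surjective (quotπ X P hP) (quotπ_surjective X P hP)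
    have hregQ : RingTheory.Sequence.IsWeaklyRegular Q.carrier ys := by
      refine ((LinearEquiv.isWeaklyRegular_congr ?_ ys).1 hreg')
      exact Submodule.quotEquivOfEq _ P (by rw [hPe, Submodule.ideal_span_singleton_smul])
    have hs' : Function.Surjective π' := fun z => by
      obtain ⟨w, rfl⟩ := hs z
      exact ⟨quotπ X P hP w, LinearMap.congr_fun hπ' w⟩
    have hk' : LinearMap.ker π' = Ideal.ofList ys • (⊤ : Submodule (MvPolynomial (Fin d) k) Q.carrier) := by
      refine Submodule.comap_injective_of_surjective (quotπ_surjective X P hP) ?_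
      rw [Submodule.comap_smul_top_of_surjective (Ideal.ofList ys) _ (quotπ_surjective X P hP), ker_quotπ,
        ← LinearMap.ker_comp, hπ', hk, Ideal.ofList_cons, Submodule.sup_smul, hPe, sup_comm]
    refine Iff.trans ?_ (reg_regularSequence D ys Q Y π' hfinQ (fun z hz => hys z (List.mem_cons_of_mem y hz))
      hregQ hs' hg' hk')
    have hker : LinearMap.ker (quotπ X P hP) =
        LinearMap.range (y • (LinearMap.id : X.carrier →ₗ[MvPolynomial (Fin d) k] X.carrier)) :=
      (ker_quotπ X P hP).trans (range_smulMap X y)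
    rw [reg_iff_section hy1 (quotπ X P hP) (quotπ_surjective X P hP) (quotπ_grHom X P hP) hker
      (fun m hm => by rw [hy.right_eq_zero_of_smul hm]; exact Submodule.zero_mem _) (mem_irrel_of_mem_one hy1) D]
    refine ⟨fun h => h.2, fun h => ⟨fun g _ => Van.zero_iff.2 fun m _ ⟨n, hn⟩ => ?_, h⟩⟩
    exact (IsSMulRegular.pow n hy) ((hn _ (Ideal.pow_mem_pow (mem_irrel_of_mem_one hy1) n)).trans (smul_zero _).symm)

end Groth.Agent.GrLC21
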