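import Groth.Agent.Lib.GrLC21.RegLC
import Groth.Agent.Lib.GrLC21.Artinian

/-!
# Regularity and hyperplane sections
-/

universe u

open DirectSum

noncomputable section

set_option linter.unusedSectionVars false
set_option backward.isDefEq.respectTransparency false

namespace Groth.Agent.GrLC21

variable {R : Type u} [CommRing R] [IsNoetherianRing R] {σ : Type u} [SetLike σ R] [AddSubgroupClass σ R]
  {𝒜 : ℤ → σ} [GradedRing 𝒜] {a : HomogeneousIdeal 𝒜}

variable (a) in
/-- The cohomological regularity is at most `D`. -/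
def Reg (D : ℤ) (X : GrLC.GMod.{u} 𝒜) : Prop := ∀ (i : ℕ) (g : ℤ), D < g + i → Van a i g X

/-- A surjection with torsion kernel. -/
theorem van_of_surjective_torsion {X Y : GrLC.GMod.{u} 𝒜} (q : X.carrier →ₗ[R] Y.carrier)
    (hq : GrLC.IsGrHom X.gr Y.gr q) (hs : Function.Surjective q)
    (hker : ∀ x, q x = 0 → x ∈ GrLC.gam a.toIdeal X.carrier) {i : ℕ} {g : ℤ} (h : Van a i g X) :
    Van a i g Y :=
  Van.right
    { f := subι X _ (isHomogeneous_ker hq), g := q, f_grHom := subι_grHom X _ (isHomogeneous_ker hq)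
      g_grHom := hq, f_inj := subι_injective X _ (isHomogeneous_ker hq), g_surj := hs
      exact := Submodule.range_subtype _ : Seq (sub X (LinearMap.ker q) (isHomogeneous_ker hq)) X Y }
    h (van_succ_of_torsion (fun (x : LinearMap.ker q) => mem_gam_of_injective (LinearMap.ker q).subtype
      (Submodule.subtype_injective _) (hker x.1 x.2)) i g)

section Section

variable {M N : GrLC.GMod.{u} 𝒜} {x : R} (hx : x ∈ 𝒜 1) (π : M.carrier →ₗ[R] N.carrier)
  (hπs : Function.Surjective π) (hπg : GrLC.IsGrHom M.gr N.gr π)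
  (hker : LinearMap.ker π = LinearMap.range (x • (LinearMap.id : M.carrier →ₗ[R] M.carrier)))
  (hq : ∀ m : M.carrier, x • m = 0 → m ∈ GrLC.gam a.toIdeal M.carrier)

include hx hπs hπg hker hq in
/-- Downwards to the hyperplane section. -/
theorem van_section {i : ℕ} {g : ℤ} (h₀ : Van a i g M) (h₁ : Van a (i + 1) (g - 1) M) : Van a i g N := by
  let f := smulMap M (k := (1 : ℤ)) x
  have hf := smulMap_grHom M (k := (1 : ℤ)) hx
  have hrange : Van a (i + 1) g (sub M (LinearMap.range f) (isHomogeneous_range (spans_of_decomposition _) hf)) := by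
    refine Van.right (kerSeq hf) ((van_shift_iff 1).2 h₁) (van_succ_of_torsion (fun (m : LinearMap.ker f) => ?_) _ _)
    exact mem_gam_of_injective (LinearMap.ker f).subtype (Submodule.subtype_injective _) (hq m.1 m.2)
  exact Van.right
    { f := subι M _ (isHomogeneous_range (spans_of_decomposition _) hf), g := π
      f_grHom := subι_grHom M _ _, g_grHom := hπg, f_inj := subι_injective M _ _, g_surj := hπs
      exact := (Submodule.range_subtype _).trans hker.symm :
        Seq (sub M (LinearMap.range f) (isHomogeneous_range (spans_of_decomposition _) hf)) M N }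
    h₀ hrange

include hx hπs hπg hker hq in
/-- Upwards from the hyperplane section. -/
theorem van_succ_of_section [Module.Finite R M.carrier] (hxa : x ∈ a.toIdeal) {i : ℕ} {g : ℤ}
    (h : ∀ n : ℕ, Van a i (g + n + 1) N) : Van a (i + 1) g M := by
  let T := GrLC.gam a.toIdeal M.carrier
  have hT := gam_isHomogeneous a M.gr
  let M' := quot M T hT
  have hreg : IsSMulRegular M'.carrier x := by
    refine (isSMulRegular_iff_right_eq_zero_of_smul).2 fun z hz => ?_
    obtain ⟨m, rfl⟩ := quotπ_surjective M T hT z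
    rw [← map_smul] at hz
    obtain ⟨n, hn⟩ : x • m ∈ T := (Submodule.Quotient.mk_eq_zero T).1 hz
    obtain ⟨N', hN'⟩ := exists_pow_kills_gam (M := M.carrier) a.toIdeal
    refine (Submodule.Quotient.mk_eq_zero T).2 ⟨N' + n, fun r hr => ?_⟩
    rw [pow_add] at hr
    refine Submodule.mul_induction_on hr (fun u hu v hv => ?_) fun u v hu hv => by rw [add_smul, hu, hv, add_zero]
    rw [mul_smul]
    exact hN' u hu _ (hq _ (by rw [smul_comm, hn v hv]))
  let S := smulSeq (X := M') hx hreg
  refine Van.mid (quotSeq T hT)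
    (van_succ_of_torsion (fun (m : T) => mem_gam_of_injective T.subtype (Submodule.subtype_injective _) m.2) i g) ?_
  let c := S.g ∘ₗ quotπ M T hT
  have hc : GrLC.IsGrHom M.gr (quot M' _ _).gr c := isGrHom_comp S.g_grHom (quotπ_grHom M T hT)
  obtain ⟨q, hq'⟩ : ∃ q : N.carrier →ₗ[R] _, ∀ m, q (π m) = c m := by
    have hle : LinearMap.ker π ≤ LinearMap.ker c := by
      rw [hker]
      rintro _ ⟨m, rfl⟩
      show S.g (quotπ M T hT (x • m)) = 0
      rw [map_smul]
      exact (S.exact.le ⟨quotπ M T hT m, rfl⟩ : _)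
    exact ⟨(LinearMap.ker π).liftQ c hle ∘ₗ (π.quotKerEquivOfSurjective hπs).symm.toLinearMap, fun m => by
      rw [LinearMap.comp_apply, LinearEquiv.coe_coe,
        show π m = π.quotKerEquivOfSurjective hπs (Submodule.Quotient.mk m) from rfl,
        LinearEquiv.symm_apply_apply, Submodule.liftQ_apply]⟩
  refine Van.succ_of_smul hx hxa S rfl fun n => van_of_surjective_torsion q (fun d y hy => ?_) (fun z => ?_)
    (fun y hy => ?_) (Van.congr (h n) (by rw [nsmul_eq_mul, mul_one]; push_cast; ring))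
  · obtain ⟨m, hm, rfl⟩ := exists_homogeneous_preimage hπg hy (LinearMap.mem_range.2 (hπs y))
    rw [hq']
    exact hc d m hm
  · obtain ⟨w, rfl⟩ := S.g_surj z
    obtain ⟨m, rfl⟩ := quotπ_surjective M T hT w
    exact ⟨π m, hq' m⟩
  · obtain ⟨m, rfl⟩ := hπs y
    rw [hq'] at hy
    obtain ⟨w, hw⟩ : quotπ M T hT m ∈ LinearMap.range S.f := S.exact.ge hy
    obtain ⟨m', rfl⟩ := quotπ_surjective M T hT w
    have h1 : m - x • m' ∈ T := by
      refine (Submodule.Quotient.mk_eq_zero T).1 ?_
      show quotπ M T hT (m - x • m') = 0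
      rw [map_sub, map_smul, sub_eq_zero]
      exact hw.symm
    have h2 : π (x • m') = 0 := by
      rw [← LinearMap.mem_ker, hker]
      exact ⟨m', rfl⟩
    have h3 := map_mem_gam π h1
    rwa [map_sub, h2, sub_zero] at h3

include hx hπs hπg hker hq in
/-- Regularity and the hyperplane section. -/
theorem reg_iff_section [Module.Finite R M.carrier] (hxa : x ∈ a.toIdeal) (D : ℤ) :
    Reg a D M ↔ (∀ g, D < g → Van a 0 g M) ∧ Reg a D N := by
  constructor
  · exact fun h => ⟨fun g hg => h 0 g (by simpa using hg), fun i g hg =>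
      van_section hx π hπs hπg hker hq (h i g hg) (h (i + 1) (g - 1) (by push_cast; omega))⟩
  · rintro ⟨h0, hN⟩ i g hg
    rcases i with _ | i
    · exact h0 g (by simpa using hg)
    · exact van_succ_of_section hx π hπs hπg hker hq hxa fun n => hN i _ (by push_cast at hg; omega)

end Section

/-- Diagonal vanishing gives regularity. -/
theorem reg_of_diagonal (hhom : a.toIdeal = Ideal.span (𝒜 1 : Set R)) {M : GrLC.GMod.{u} 𝒜} {D : ℤ}
    (h0 : ∀ g, D < g → Van a 0 g M) (h : ∀ i : ℕ, 0 < i → Van a i (D + 1 - i) M) : Reg a D M := by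
  intro i g hg
  rcases Nat.eq_zero_or_pos i with rfl | hi
  · exact h0 g (by simpa using hg)
  · have := van_of_diagonal hhom D 1 le_rfl (fun j hj => h j hj) (g + i - D - 1).toNat i hi
    exact Van.congr this (by omega)

/-- A graded module bounded above is torsion for the irrelevant ideal. -/
theorem mem_gam_of_bounded (ha : a.toIdeal ≤ Ideal.span (⋃ n ∈ Set.Ioi (0 : ℤ), (𝒜 n : Set R)))
    (X : GrLC.GMod.{u} 𝒜) {b : ℤ} (hb : ∀ n, b ≤ n → ∀ x ∈ X.gr n, x = 0) (x : X.carrier) :
    x ∈ GrLC.gam a.toIdeal X.carrier := by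
  refine spans_induction (spans_of_decomposition X.gr) x (Submodule.zero_mem _)
    (fun _ _ => Submodule.add_mem _) fun g m hm => ?_
  have hrad : a.toIdeal ≤ ((R ∙ m).annihilator).radical := by
    refine ha.trans (Ideal.span_le.2 ?_)
    intro r hr
    simp only [Set.mem_iUnion, Set.mem_Ioi, SetLike.mem_coe, exists_prop] at hr
    obtain ⟨d, hd, hr⟩ := hr
    refine ⟨(b - g).toNat, (Submodule.mem_annihilator_span_singleton _ _).2 ?_⟩
    refine hb _ ?_ _ (smul_mem 𝒜 X.gr (SetLike.pow_mem_graded (b - g).toNat hr) hm)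
    rw [nsmul_eq_mul]
    have : b - g ≤ ((b - g).toNat : ℤ) := Int.self_le_toNat _
    nlinarith
  obtain ⟨k, hk⟩ := Ideal.exists_pow_le_of_le_radical_of_fg hrad (IsNoetherian.noetherian _)
  exact ⟨k, fun r hr => (Submodule.mem_annihilator_span_singleton _ _).1 (hk hr)⟩

/-- A graded module of finite length is torsion. -/
theorem mem_gam_of_finiteLength (hpos : ∀ n : ℤ, n < 0 → ∀ r ∈ 𝒜 n, r = 0)
    (ha : a.toIdeal ≤ Ideal.span (⋃ n ∈ Set.Ioi (0 : ℤ), (𝒜 n : Set R)))
    (X : GrLC.GMod.{u} 𝒜) (h : IsFiniteLength R X.carrier) (x : X.carrier) :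
    x ∈ GrLC.gam a.toIdeal X.carrier := by
  have := (isFiniteLength_iff_isNoetherian_isArtinian.1 h).2
  obtain ⟨b, hb⟩ := exists_bound_of_isArtinian (𝒜 := 𝒜) X.gr hpos
  exact mem_gam_of_bounded ha X hb x

/-- The elements killed by a homogeneous element with finite-length kernel are torsion. -/
theorem mem_gam_of_smul_eq_zero (hpos : ∀ n : ℤ, n < 0 → ∀ r ∈ 𝒜 n, r = 0)
    (ha : a.toIdeal ≤ Ideal.span (⋃ n ∈ Set.Ioi (0 : ℤ), (𝒜 n : Set R)))
    (X : GrLC.GMod.{u} 𝒜) {k : ℤ} {x : R} (hx : x ∈ 𝒜 k)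
    (h : IsFiniteLength R (Submodule.torsionBy R X.carrier x)) (m : X.carrier) (hm : x • m = 0) :
    m ∈ GrLC.gam a.toIdeal X.carrier := by
  let T : Submodule R X.carrier := Submodule.torsionBy R X.carrier x
  have hT : T.IsHomogeneous X.gr := fun g y hy => by
    have hy : x • y = 0 := (Submodule.mem_torsionBy_iff _ _).1 hy
    show proj X.gr g y ∈ T
    rw [Submodule.mem_torsionBy_iff]
    have := proj_smul 𝒜 X.gr hx (k + g) y
    rw [hy, map_zero, add_sub_cancel_left] at this
    exact this.symm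
  exact map_mem_gam T.subtype
    (mem_gam_of_finiteLength hpos ha (sub X T hT) h ⟨m, (Submodule.mem_torsionBy_iff _ _).2 hm⟩)

end Groth.Agent.GrLC21
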