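import Groth.Agent.Lib.GrLC21.LES

/-!
# Shifts of resolutions, multiplication by homogeneous elements, exactness on pieces
-/

universe u

open DirectSum

noncomputable section

set_option linter.unusedSectionVars false

namespace Groth.Agent.GrLC21

variable {ι : Type} [AddCommGroup ι] [DecidableEq ι]
variable {R : Type u} [CommRing R] {σ : Type u} [SetLike σ R] [AddSubgroupClass σ R]
  {𝒜 : ι → σ} [GradedRing 𝒜]
variable {M : Type u} [AddCommGroup M] [Module R M] {τ : Type u} [SetLike τ M] [AddSubgroupClass τ M]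
  {ℳ : ι → τ} [Decomposition ℳ] [SetLike.GradedSMul 𝒜 ℳ]
variable {N : Type u} [AddCommGroup N] [Module R N] {τ' : Type u} [SetLike τ' N] [AddSubgroupClass τ' N]
  {𝒩 : ι → τ'} [Decomposition 𝒩] [SetLike.GradedSMul 𝒜 𝒩]
variable {P : Type u} [AddCommGroup P] [Module R P] {τ'' : Type u} [SetLike τ'' P] [AddSubgroupClass τ'' P]
  {𝒫' : ι → τ''} [Decomposition 𝒫'] [SetLike.GradedSMul 𝒜 𝒫']

/-- Exactness on pieces. -/
theorem exists_preimage_Hgr {E : GrLC.StarInjRes 𝒜 ℳ} {F : GrLC.StarInjRes 𝒜 𝒩} {a : HomogeneousIdeal 𝒜}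
    {i j : ℕ} {φ : E.H a i →ₗ[R] F.H a j} (hφ : GrLC.IsGrHom (E.Hgr a i) (F.Hgr a j) φ) {g : ι}
    {y : F.H a j} (hy : y ∈ F.Hgr a j g) (h : y ∈ Set.range φ) : ∃ x ∈ E.Hgr a i g, φ x = y := by
  letI := (Hgr_isInternal E a i).chooseDecomposition
  letI := (Hgr_isInternal F a j).chooseDecomposition
  exact exists_homogeneous_preimage hφ hy h

variable (X : GrLC.GMod.{u} 𝒜) (k : ι)

/-- Resolution of the shifted module. -/
def shiftRes (E : GrLC.StarInjRes 𝒜 X.gr) : GrLC.StarInjRes 𝒜 (shift X k).gr where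
  X n := shift (E.X n) k
  d n := E.d n
  ε := E.ε
  d_grHom n g x hx := E.d_grHom n (g - k) x hx
  ε_grHom g x hx := E.ε_grHom (g - k) x hx
  ε_injective := E.ε_injective
  exact_zero := E.exact_zero
  exact_succ := E.exact_succ
  starInj n := starInj_shift (E.starInj n) k

/-- The cohomology of the shifted resolution is the same module. -/
def shiftH (E : GrLC.StarInjRes 𝒜 X.gr) (a : HomogeneousIdeal 𝒜) (i : ℕ) :
    (shiftRes X k E).H a i ≃ₗ[R] E.H a i := by
  refine Submodule.Quotient.equiv _ _ (LinearEquiv.refl R (E.cocyc a i)) ?_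
  cases i <;> exact Submodule.map_id _

theorem shiftH_toH (E : GrLC.StarInjRes 𝒜 X.gr) (a : HomogeneousIdeal 𝒜) (i : ℕ)
    (z : (shiftRes X k E).cocyc a i) :
    shiftH X k E a i ((shiftRes X k E).toH a i z) = E.toH a i z := by
  cases i <;> rfl

theorem mem_Hgr_shift (E : GrLC.StarInjRes 𝒜 X.gr) (a : HomogeneousIdeal 𝒜) (i : ℕ) (g : ι)
    (x : (shiftRes X k E).H a i) :
    x ∈ (shiftRes X k E).Hgr a i g ↔ shiftH X k E a i x ∈ E.Hgr a i (g - k) := by
  constructor
  · rintro ⟨z, hz, rfl⟩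
    exact ⟨z, hz, (shiftH_toH X k E a i z).symm⟩
  · rintro ⟨z, hz, e⟩
    refine ⟨z, hz, (shiftH X k E a i).injective ?_⟩
    exact (shiftH_toH X k E a i z).trans e

theorem Hcomp_shift_eq_bot_iff (E : GrLC.StarInjRes 𝒜 X.gr) (a : HomogeneousIdeal 𝒜) (i : ℕ) (g : ι) :
    (shiftRes X k E).Hcomp a i g = ⊥ ↔ E.Hcomp a i (g - k) = ⊥ := by
  rw [Hcomp_eq_bot_iff, Hcomp_eq_bot_iff]
  constructor
  · intro h x hx
    have := h ((shiftH X k E a i).symm x) ((mem_Hgr_shift X k E a i g _).2 (by rwa [LinearEquiv.apply_symm_apply]))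
    simpa using congrArg (shiftH X k E a i) this
  · exact fun h x hx => (shiftH X k E a i).injective
      ((h _ ((mem_Hgr_shift X k E a i g x).1 hx)).trans (map_zero _).symm)

variable {k}

/-- Multiplication by a homogeneous element, out of the shifted module. -/
def smulMap (x : R) : (shift X k).carrier →ₗ[R] X.carrier := x • ofShift X k

theorem smulMap_grHom {x : R} (hx : x ∈ 𝒜 k) : GrLC.IsGrHom (shift X k).gr X.gr (smulMap X (k := k) x) :=
  fun g m hm => by
    show x • ofShift X k m ∈ X.gr g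
    have := smul_mem 𝒜 X.gr hx (show ofShift X k m ∈ X.gr (g - k) from hm)
    rwa [add_sub_cancel] at this

theorem range_smulMap (x : R) :
    LinearMap.range (smulMap X (k := k) x) = LinearMap.range (x • (LinearMap.id : X.carrier →ₗ[R] X.carrier)) := rfl

theorem Hmap_smul (E : GrLC.StarInjRes 𝒜 X.gr) (a : HomogeneousIdeal 𝒜) {x : R} (hx : x ∈ 𝒜 k) (i : ℕ)
    (y : (shiftRes X k E).H a i) :
    Hmap (shiftRes X k E) E a (smulMap_grHom X hx) i y = x • shiftH X k E a i y := by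
  let φ : ResMap (shiftRes X k E) E :=
    ⟨fun n => smulMap (E.X n) x, fun n => smulMap_grHom (E.X n) hx, fun n z => map_smul (E.d n) x z⟩
  have hφ : φ.Lifts (smulMap X x) := fun m => (map_smul E.ε x m).symm
  rw [Hmap_eq a _ hφ i]
  obtain ⟨z, rfl⟩ := toH_surjective (shiftRes X k E) a i y
  rw [shiftH_toH, ResMap.onH_toH]
  exact (congrArg (E.toH a i) (Subtype.ext rfl)).trans (map_smul (E.toH a i) x z)

end Groth.Agent.GrLC21
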