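import Groth.Agent.Lib.GrLC21.InjDimLocal
import Groth.Agent.Lib.GrLC21.GradedDim

/-!
# *injective modules over a `ℤ`-graded ring
-/

universe u

open DirectSum CategoryTheory Abelian

noncomputable section

set_option linter.unusedSectionVars false
set_option backward.isDefEq.respectTransparency false

namespace Groth.Agent.GrLC21

variable {R : Type u} [CommRing R] [IsNoetherianRing R] {σ : Type u} [SetLike σ R] [AddSubgroupClass σ R]
variable {M : Type u} [AddCommGroup M] [Module R M] {τ : Type u} [SetLike τ M] [AddSubgroupClass τ M]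

theorem bassNum_homogeneous_eq_zero {ι : Type} [AddCommGroup ι] [DecidableEq ι] {𝒜 : ι → σ} [GradedRing 𝒜]
    {ℳ : ι → τ} [Decomposition ℳ] [SetLike.GradedSMul 𝒜 ℳ] (hM : GrLC.IsStarInj 𝒜 ℳ) (c : Ideal R) [c.IsPrime]
    (hc : c.IsHomogeneous 𝒜) (i : ℕ) : GrLC.bassNum c M (i + 1) = 0 := by
  rw [bassNum_eq_zero_iff]
  let Q := quot (toGMod 𝒜 𝒜) c (isHomogeneous_toGMod 𝒜 hc)
  have : Module.Finite R Q.carrier :=
    Module.Finite.of_surjective (Submodule.mkQ c) (Submodule.mkQ_surjective _)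
  exact ext_localized_subsingleton c.primeCompl hM i Q

theorem bassNum_zero_eq_zero_iff (c : Ideal R) [hc : c.IsPrime] :
    GrLC.bassNum c M 0 = 0 ↔ c ∉ associatedPrimes R M := by
  rw [bassNum_eq_zero_iff]
  have e : Ext.{u} (ModuleCat.of (Localization.AtPrime c) (LocalizedModule c.primeCompl (R ⧸ c)))
      (ModuleCat.of (Localization.AtPrime c) (LocalizedModule c.primeCompl M)) 0 ≃ₗ[Localization.AtPrime c]
      LocalizedModule c.primeCompl (killed c M) :=
    (extZeroEquiv _ _).trans (killedLocEquiv c.primeCompl c M).symm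
  rw [e.toEquiv.subsingleton_congr]
  have hmem : c ∈ associatedPrimes R M ↔ ∃ y : killed c M, ∀ s : R, s ∉ c → s • y.1 ≠ 0 := by
    refine ⟨fun h => ?_, fun ⟨y, hy⟩ => ?_⟩
    · obtain ⟨-, f, hf⟩ := (isAssociatedPrime_iff_exists_injective_linearMap (R := R) (M := M) c).1 h
      refine ⟨(killedEquivHom c M).symm f, fun s hs h0 => hs (Ideal.Quotient.eq_zero_iff_mem.1 (hf ?_))⟩
      rw [map_zero, ← h0]
      show f (Ideal.Quotient.mk c s) = s • f 1
      rw [← map_smul, Algebra.smul_def, mul_one]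
      rfl
    · refine (isAssociatedPrime_iff_exists_injective_linearMap (R := R) (M := M) c).2 ⟨hc, killedEquivHom c M y,
        (injective_iff_map_eq_zero _).2 fun q hq => ?_⟩
      obtain ⟨r, rfl⟩ := Ideal.Quotient.mk_surjective q
      refine Ideal.Quotient.eq_zero_iff_mem.2 (by_contra fun hr => hy r hr ?_)
      rw [← killedEquivHom_apply_one c y, ← map_smul, Algebra.smul_def, mul_one]
      exact hq
  rw [hmem]
  constructor
  · rintro h ⟨y, hy⟩
    have h0 := h.elim (LocalizedModule.mk y (1 : c.primeCompl)) (LocalizedModule.mk 0 1)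
    rw [LocalizedModule.mk_eq] at h0
    obtain ⟨t, ht⟩ := h0
    simp only [one_smul, smul_zero, Submonoid.smul_def] at ht
    exact hy t t.2 (congrArg Subtype.val ht)
  · intro h
    refine subsingleton_of_forall_eq 0 fun z => ?_
    induction z using LocalizedModule.induction_on with
    | h y t =>
      obtain ⟨s, hs, hsy⟩ : ∃ s : R, s ∉ c ∧ s • y.1 = 0 := by
        by_contra! hne
        exact h ⟨y, hne⟩
      rw [← LocalizedModule.zero_mk t, LocalizedModule.mk_eq]
      refine ⟨⟨s, hs⟩, Subtype.ext ?_⟩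
      simp only [smul_zero, Submonoid.smul_def, SetLike.val_smul, ZeroMemClass.coe_zero]
      rw [smul_comm, hsy, smul_zero]

variable {𝒜 : ℤ → σ} [GradedRing 𝒜] {ℳ : ℤ → τ} [Decomposition ℳ] [SetLike.GradedSMul 𝒜 ℳ]

theorem height_map_core_eq_one {P : Ideal R} [P.IsPrime] (hP : ¬ P.IsHomogeneous 𝒜) :
    (P.map (Ideal.Quotient.mk (core 𝒜 P))).height = (1 : ℕ) := by
  have := isPrime_core (𝒜 := 𝒜) P
  have : (P.map (Ideal.Quotient.mk (core 𝒜 P))).IsPrime := Ideal.isPrime_map_quotientMk_of_isPrime (core_le P)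
  refine le_antisymm (height_map_core_le_one (𝒜 := 𝒜) P) (le_trans ?_ (Ideal.height_add_one_le_of_lt_of_isPrime
    (show (⊥ : Ideal (R ⧸ core 𝒜 P)) < P.map (Ideal.Quotient.mk (core 𝒜 P)) from
      bot_lt_iff_ne_bot.2 fun h => hP ?_)))
  · exact le_add_self
  · rw [show P = core 𝒜 P from le_antisymm (((Ideal.map_eq_bot_iff_le_ker _).1 h).trans Ideal.mk_ker.le) (core_le P)]
    exact isHomogeneous_core P

theorem bassNum_eq_zero_of_isStarInj (hM : GrLC.IsStarInj 𝒜 ℳ) (P : Ideal R) [P.IsPrime] (i : ℕ) (hi : 1 < i) :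
    GrLC.bassNum P M i = 0 := by
  by_cases hP : P.IsHomogeneous 𝒜
  · obtain ⟨j, rfl⟩ : ∃ j, i = j + 1 := ⟨i - 1, by omega⟩
    exact bassNum_homogeneous_eq_zero hM P hP j
  · have := isPrime_core (𝒜 := 𝒜) P
    obtain ⟨j, rfl⟩ : ∃ j, i = j + 1 + 1 := ⟨i - 2, by omega⟩
    rw [(bassNum_eq ℳ P 1 (height_map_core_eq_one hP)).2 (j + 1)]
    exact bassNum_homogeneous_eq_zero hM (core 𝒜 P) (isHomogeneous_core P) j

theorem not_injective_iff (hM : GrLC.IsStarInj 𝒜 ℳ) :
    ¬ Module.Injective R M ↔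
      ∃ P : Ideal R, P.IsPrime ∧ ¬ P.IsHomogeneous 𝒜 ∧ core 𝒜 P ∈ associatedPrimes R M := by
  constructor
  · intro h
    by_contra! hne
    refine h ((Module.injective_iff_injective_object R M).2 (injective_iff_hasInjectiveDimensionLT_one.2
      (hasInjectiveDimensionLT_of_bassNum 0 fun P hP i hi => ?_)))
    obtain ⟨j, rfl⟩ : ∃ j, i = j + 1 := ⟨i - 1, by omega⟩
    by_cases hPh : P.IsHomogeneous 𝒜
    · exact bassNum_homogeneous_eq_zero hM P hPh j
    · cases j with
      | zero =>
        have := isPrime_core (𝒜 := 𝒜) P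
        rw [(bassNum_eq ℳ P 1 (height_map_core_eq_one hPh)).2 0, bassNum_zero_eq_zero_iff]
        exact hne P hP hPh
      | succ j => exact bassNum_eq_zero_of_isStarInj hM P _ (by omega)
  · rintro ⟨P, hP, hPh, hc⟩ h
    have := isPrime_core (𝒜 := 𝒜) P
    have : Module.Injective (Localization.AtPrime P) (LocalizedModule P.primeCompl M) :=
      Module.injective_of_isLocalizedModule P.primeCompl (LocalizedModule.mkLinearMap P.primeCompl M)
    have hI : Injective (ModuleCat.of (Localization.AtPrime P) (LocalizedModule P.primeCompl M)) :=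
      (Module.injective_iff_injective_object _ _).1 this
    have h1 : GrLC.bassNum P M (0 + 1) = 0 :=
      (bassNum_eq_zero_iff P M 1).2 (subsingleton_of_forall_eq 0 fun y => Ext.eq_zero_of_injective y)
    rw [(bassNum_eq ℳ P 1 (height_map_core_eq_one hPh)).2 0, bassNum_zero_eq_zero_iff] at h1
    exact h1 hc

end Groth.Agent.GrLC21
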