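import Groth.Agent.Lib.GrLC21.RegSeqEnd
import Groth.Agent.Lib.GrLC21.BassCore
import Groth.Agent.Lib.GrLC21.StarCM
import Groth.Agent.Lib.GrLC21.EndDeg
import Groth.Agent.Lib.GrLC21.Standard
import Groth.Agent.Lib.GrLC21.RegProps
import Groth.Agent.Lib.GrSeg.NoetherNorm
import Groth.Agent.Lib.Depth.More

/-!
# Regular sequences of linear forms and polynomial rings
-/

universe u v

open DirectSum RingTheory.Sequence

noncomputable section

set_option linter.unusedSectionVars false
set_option backward.isDefEq.respectTransparency false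

namespace Groth.Agent.GrLC21

/-- A polynomial relation on a regular sequence over a ring of constants meeting its ideal in zero is
trivial. -/
theorem eq_zero_of_eval₂_regular : ∀ (d : ℕ) (R : Type v) [CommRing R] (k : Type u) [CommRing k] (φ : k →+* R)
    (f : Fin d → R), IsWeaklyRegular R (List.ofFn f) → (∀ c, φ c ∈ Ideal.span (Set.range f) → c = 0) →
    ∀ G : MvPolynomial (Fin d) k, MvPolynomial.eval₂ φ f G = 0 → G = 0 := by
  intro d
  induction d with
  | zero =>
    intro R _ k _ φ f _ hk G hG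
    obtain ⟨c, rfl⟩ := MvPolynomial.C_surjective (Fin 0) G
    rw [MvPolynomial.eval₂_C] at hG
    rw [hk c (by rw [hG]; exact zero_mem _), map_zero]
  | succ d ih =>
    intro R _ k _ φ f hreg hk G hG
    rw [List.ofFn_succ, isWeaklyRegular_cons_iff'] at hreg
    obtain ⟨hf0, hrest⟩ := hreg
    let g : Fin d → R := fun i => f i.succ
    let q := Ideal.Quotient.mk (Ideal.span {f 0})
    -- the induction hypothesis modulo the first element
    have ihq : ∀ H : MvPolynomial (Fin d) k, MvPolynomial.eval₂ φ g H ∈ Ideal.span {f 0} → H = 0 := by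
      intro H hH
      refine ih (R ⧸ Ideal.span {f 0}) k (q.comp φ) (q ∘ g) ?_ (fun c hc => hk c ?_) H ?_
      · rw [List.map_ofFn] at hrest
        let e : QuotSMulTop (f 0) R ≃ₗ[R] R ⧸ Ideal.span {f 0} :=
          (QuotSMulTop.equivQuotTensor (f 0) R).trans (TensorProduct.rid R _)
        exact (LinearEquiv.isWeaklyRegular_congr (M₂ := R ⧸ Ideal.span {f 0})
          (e.extendScalarsOfSurjective Ideal.Quotient.mk_surjective) _).1 hrest
      · rw [show Set.range (q ∘ g) = q '' Set.range g from Set.range_comp q g, ← Ideal.map_span,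
          RingHom.comp_apply, ← Ideal.mem_comap, Ideal.comap_map_of_surjective _ Ideal.Quotient.mk_surjective,
          ← RingHom.ker_eq_comap_bot, Ideal.mk_ker] at hc
        refine (sup_le ?_ ?_ : Ideal.span (Set.range g) ⊔ Ideal.span {f 0} ≤ Ideal.span (Set.range f)) hc
        · exact Ideal.span_mono (by rintro _ ⟨i, rfl⟩; exact ⟨_, rfl⟩)
        · exact Ideal.span_mono (Set.singleton_subset_iff.2 ⟨0, rfl⟩)
      · rw [← MvPolynomial.eval₂_comp_left q φ g H]
        exact Ideal.Quotient.eq_zero_iff_mem.2 hH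
    -- induct on the degree in the first variable
    have key : ∀ (n : ℕ) (P : Polynomial (MvPolynomial (Fin d) k)), P.natDegree ≤ n →
        Polynomial.eval₂ (MvPolynomial.eval₂Hom φ g) (f 0) P = 0 → P = 0 := by
      intro n
      induction n with
      | zero =>
        intro P hP he
        rw [Polynomial.eq_C_of_natDegree_le_zero hP] at he ⊢
        rw [Polynomial.eval₂_C] at he
        rw [ihq (P.coeff 0) (by rw [show MvPolynomial.eval₂ φ g (P.coeff 0) = 0 from he]; exact zero_mem _), map_zero]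
      | succ n ihn =>
        intro P hP he
        have hc : P.coeff 0 = 0 := by
          refine ihq _ ?_
          rw [← Polynomial.X_mul_divX_add P, Polynomial.eval₂_add, Polynomial.eval₂_mul, Polynomial.eval₂_X,
            Polynomial.eval₂_C, add_eq_zero_iff_neg_eq] at he
          rw [show MvPolynomial.eval₂ φ g (P.coeff 0) = MvPolynomial.eval₂Hom φ g (P.coeff 0) from rfl, ← he]
          exact neg_mem (Ideal.mul_mem_right _ _ (Ideal.subset_span rfl))
        rw [← Polynomial.X_mul_divX_add P, hc, map_zero, add_zero] at he ⊢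
        rw [Polynomial.eval₂_mul, Polynomial.eval₂_X] at he
        rw [ihn P.divX (by rw [Polynomial.natDegree_divX_eq_natDegree_tsub_one]; omega) (hf0 (he.trans (smul_zero (f 0)).symm)),
          mul_zero]
    have hev : ∀ G : MvPolynomial (Fin (d + 1)) k,
        Polynomial.eval₂ (MvPolynomial.eval₂Hom φ g) (f 0) (MvPolynomial.finSuccEquiv k d G) =
          MvPolynomial.eval₂ φ f G := by
      intro G
      induction G using MvPolynomial.induction_on with
      | C a =>
        rw [← MvPolynomial.algebraMap_eq, AlgEquiv.commutes, MvPolynomial.algebraMap_eq, MvPolynomial.eval₂_C,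
          Polynomial.algebraMap_apply, Polynomial.eval₂_C, MvPolynomial.algebraMap_eq, MvPolynomial.eval₂Hom_C]
      | add a b ha hb => rw [map_add, Polynomial.eval₂_add, ha, hb, MvPolynomial.eval₂_add]
      | mul_X a i ha =>
        rw [map_mul, Polynomial.eval₂_mul, ha, MvPolynomial.eval₂_mul, MvPolynomial.eval₂_X]
        congr 1
        refine Fin.cases ?_ (fun j => ?_) i
        · rw [MvPolynomial.finSuccEquiv_X_zero, Polynomial.eval₂_X]
        · rw [MvPolynomial.finSuccEquiv_X_succ, Polynomial.eval₂_C, MvPolynomial.eval₂Hom_X']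
    refine (MvPolynomial.finSuccEquiv k d).injective ?_
    rw [map_zero]
    exact key _ _ le_rfl ((hev G).trans hG)

variable {R : Type u} [CommRing R] {σ : Type u} [SetLike σ R] [AddSubgroupClass σ R]
  {𝒜 : ℤ → σ} [GradedRing 𝒜]

/-- Homogeneous elements outside the *maximal ideal are units. -/
theorem isUnit_of_notMem_starMax [IsNoetherianRing R] {m : HomogeneousIdeal 𝒜} (hm : GrLC.IsStarLocal 𝒜 m)
    {n : ℤ} {x : R} (hx : x ∈ 𝒜 n) (hxm : x ∉ m.toIdeal) : IsUnit x := by
  by_contra h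
  refine hxm (le_of_isStarLocal hm (Ideal.homogeneous_span 𝒜 {x} (fun y hy => ?_)) ?_ (Ideal.subset_span rfl))
  · rw [Set.mem_singleton_iff.1 hy]; exact ⟨n, hx⟩
  · rwa [Ne, Ideal.span_singleton_eq_top]

variable [LocCoh.IsCohenMacaulayRing R] {m : HomogeneousIdeal 𝒜} {d : ℕ}

/-- A linear form avoiding finitely many primes. -/
theorem exists_linear_notMem (hpos : ∀ n : ℤ, n < 0 → ∀ r ∈ 𝒜 n, r = 0)
    (hm : GrLC.IsStarLocal 𝒜 m) (hinf : Infinite (R ⧸ m.toIdeal)) (T : Finset (Ideal R))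
    (hT : ∀ P ∈ T, P.IsPrime ∧ ∃ y ∈ 𝒜 1, y ∉ P) : ∃ x ∈ 𝒜 1, ∀ P ∈ T, x ∉ P := by
  classical
  induction T using Finset.induction with
  | empty => exact ⟨0, zero_mem _, fun P hP => absurd hP (Finset.notMem_empty P)⟩
  | insert P T hP ih =>
    obtain ⟨x, hx, hxT⟩ := ih fun Q hQ => hT Q (Finset.mem_insert_of_mem hQ)
    obtain ⟨hPp, y, hy, hyP⟩ := hT P (Finset.mem_insert_self P T)
    -- representatives of the residue classes in degree zero
    have hrep : ∀ q : R ⧸ m.toIdeal, ∃ c ∈ 𝒜 0, Ideal.Quotient.mk m.toIdeal c = q := fun q => by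
      obtain ⟨r, rfl⟩ := Ideal.Quotient.mk_surjective q
      refine ⟨proj 𝒜 0 r, proj_mem 𝒜 0 r, Ideal.Quotient.eq.2 ?_⟩
      refine spans_induction (spans_of_decomposition 𝒜) r (by simp)
        (fun a b ha hb => by rw [map_add, add_sub_add_comm]; exact add_mem ha hb) fun b s hs => ?_
      rcases lt_trichotomy b 0 with hb | rfl | hb
      · rw [hpos b hb s hs, map_zero, sub_zero]; exact zero_mem _
      · rw [proj_of_mem 𝒜 hs, sub_self]; exact zero_mem _
      · rw [proj_of_mem_ne 𝒜 hs (ne_of_gt hb), zero_sub]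
        exact neg_mem (pos_le_starMax hpos hm.1 (Ideal.subset_span (Set.mem_biUnion (show b ∈ Set.Ioi 0 from hb) hs)))
    choose rep hrep0 hrep1 using hrep
    have huniq : ∀ Q ∈ insert P T, ∀ q q' : R ⧸ m.toIdeal, x + rep q * y ∈ Q → x + rep q' * y ∈ Q → q = q' := by
      intro Q hQ q q' hq hq'
      by_contra hne
      have hu : IsUnit (rep q - rep q') := isUnit_of_notMem_starMax hm (sub_mem (hrep0 q) (hrep0 q'))
        fun h => hne (by rw [← hrep1 q, ← hrep1 q']; exact Ideal.Quotient.eq.2 h)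
      have hyQ : y ∈ Q := by
        have h := sub_mem hq hq'
        rw [add_sub_add_left_eq_sub, ← sub_mul] at h
        obtain ⟨w, hw⟩ := hu.exists_left_inv
        have h' := Q.mul_mem_left w h
        rwa [← mul_assoc, hw, one_mul] at h'
      rcases Finset.mem_insert.1 hQ with rfl | hQT
      · exact hyP hyQ
      · exact hxT Q hQT ((Q.add_mem_iff_left (Q.mul_mem_left _ hyQ)).1 hq)
    have hbad : {q : R ⧸ m.toIdeal | ∃ Q ∈ insert P T, x + rep q * y ∈ Q}.Finite := by
      refine ((insert P T).finite_toSet.biUnion (t := fun Q => {q | x + rep q * y ∈ Q})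
        fun Q hQ => Set.Subsingleton.finite fun q hq q' hq' => huniq Q hQ q q' hq hq').subset fun q hq => ?_
      obtain ⟨Q, hQ, h⟩ := hq
      exact Set.mem_biUnion hQ h
    obtain ⟨q, -, hq⟩ := (Set.infinite_univ (α := R ⧸ m.toIdeal)).exists_notMem_finite hbad
    refine ⟨x + rep q * y, add_mem hx ?_, fun Q hQ h => hq ⟨Q, hQ, h⟩⟩
    have h := SetLike.GradedMul.mul_mem (hrep0 q) hy
    rwa [zero_add] at h

/-- A prime containing the linear forms of a standard *local ring with Artinian degree-zero part contains the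
*maximal ideal. -/
theorem starMax_le_of_linear (hpos : ∀ n : ℤ, n < 0 → ∀ r ∈ 𝒜 n, r = 0)
    (hstd : Ideal.span (⋃ n ∈ Set.Ioi (0 : ℤ), (𝒜 n : Set R)) = Ideal.span (𝒜 1 : Set R))
    [IsArtinianRing (GrLC.deg0 𝒜)] (hm : GrLC.IsStarLocal 𝒜 m) {Q : Ideal R} [hQ : Q.IsPrime]
    (h1 : ∀ y ∈ 𝒜 1, y ∈ Q) : m.toIdeal ≤ Q := by
  intro x hx
  rw [← sum_proj 𝒜 x]
  refine Ideal.sum_mem Q fun j _ => ?_
  rcases lt_trichotomy j 0 with hj | rfl | hj
  · rw [hpos j hj _ (proj_mem 𝒜 j x)]; exact zero_mem Q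
  · let z : GrLC.deg0 𝒜 := ⟨proj 𝒜 0 x, proj_mem 𝒜 0 x⟩
    have hmax : (Q.comap (GrLC.deg0 𝒜).subtype).IsMaximal := inferInstance
    by_contra hz
    obtain ⟨w, i, hi, hwi⟩ := hmax.exists_inv (x := z) hz
    have h' : IsUnit (i : R) := by
      refine isUnit_of_notMem_starMax hm i.2 fun him => ?_
      refine (isMaximal_starMax hpos hm.1).ne_top ((Ideal.eq_top_iff_one _).2 ?_)
      rw [← OneMemClass.coe_one (GrLC.deg0 𝒜), ← hwi, Subring.coe_add, Subring.coe_mul]
      exact add_mem (m.toIdeal.mul_mem_left _ (m.isHomogeneous 0 hx)) him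
    exact hQ.ne_top (Ideal.eq_top_of_isUnit_mem Q (x := (i : R)) hi h')
  · have h : proj 𝒜 j x ∈ Ideal.span (𝒜 1 : Set R) :=
      hstd ▸ Ideal.subset_span (Set.mem_biUnion (show j ∈ Set.Ioi 0 from hj) (proj_mem 𝒜 j x))
    exact (Ideal.span_le.2 fun y hy => h1 y hy) h

/-- A regular sequence of linear forms as long as the dimension. -/
theorem exists_linear_regular_sequence (hpos : ∀ n : ℤ, n < 0 → ∀ r ∈ 𝒜 n, r = 0)
    (hstd : Ideal.span (⋃ n ∈ Set.Ioi (0 : ℤ), (𝒜 n : Set R)) = Ideal.span (𝒜 1 : Set R))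
    [IsArtinianRing (GrLC.deg0 𝒜)] (hm : GrLC.IsStarLocal 𝒜 m) (hinf : Infinite (R ⧸ m.toIdeal))
    (hd : ringKrullDim R = d) :
    ∀ t ≤ d, ∃ f : Fin t → R, (∀ i, f i ∈ 𝒜 1) ∧ IsWeaklyRegular R (List.ofFn f) := by
  intro t
  induction t with
  | zero => exact fun _ => ⟨Fin.elim0, fun i => i.elim0, by rw [List.ofFn_zero]; exact IsWeaklyRegular.nil R R⟩
  | succ t ih =>
    intro ht
    obtain ⟨f, hf1, hreg⟩ := ih (Nat.le_of_succ_le ht)
    have hlin : ∀ r ∈ List.ofFn f, r ∈ m.toIdeal := fun r hr => by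
      obtain ⟨i, rfl⟩ := List.mem_ofFn.1 hr
      exact pos_le_starMax hpos hm.1 (Ideal.subset_span (Set.mem_biUnion (show (1 : ℤ) ∈ Set.Ioi (0 : ℤ) from Set.mem_Ioi.2 one_pos) (hf1 i)))
    let N := R ⧸ (Ideal.ofList (List.ofFn f) • ⊤ : Submodule R R)
    have hdepth : (1 : ℕ∞) ≤ LocCoh.idealDepth m.toIdeal N := by
      have h := DepthLib.idealDepth_quot_add_length hreg hlin
      rw [List.length_ofFn] at h
      have h2 := le_idealDepth_starMax hpos hm hd
      rw [← h] at h2
      have h3 : ((1 : ℕ) : ℕ∞) + t ≤ LocCoh.idealDepth m.toIdeal N + t :=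
        le_trans (by rw [← Nat.cast_add]; exact Nat.cast_le.2 (by omega)) h2
      exact (ENat.add_le_add_iff_right (ENat.natCast_ne_top t)).1 h3
    have hmne := isMaximal_starMax hpos hm.1
    have hN : m.toIdeal • (⊤ : Submodule R N) ≠ ⊤ := by
      intro htop
      refine hmne.ne_top ((Ideal.eq_top_iff_one _).2 ?_)
      have h1 : Submodule.Quotient.mk (p := (Ideal.ofList (List.ofFn f) • ⊤ : Submodule R R)) 1 ∈
          (m.toIdeal • (⊤ : Submodule R R)).map (Submodule.mkQ _) := by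
        rw [Submodule.map_smul'', Submodule.map_top, Submodule.range_mkQ, htop]; trivial
      obtain ⟨v, hv, hv1⟩ := h1
      have h2 : v - 1 ∈ m.toIdeal := by
        have h3 := (Submodule.Quotient.eq _).1 hv1
        exact Submodule.smul_le.2 (fun r hr z _ => Ideal.mul_mem_right z _ ((Ideal.span_le.2 hlin) hr)) h3
      have h4 : v ∈ m.toIdeal := Submodule.smul_le.2 (fun r hr z _ => Ideal.mul_mem_right z _ hr) hv
      have h5 := sub_mem h4 h2
      rwa [sub_sub_cancel] at h5
    obtain ⟨z, hzm, hz⟩ := DepthLib.exists_isSMulRegular_of_one_le_idealDepth hN hdepth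
    have hfin := associatedPrimes.finite R N
    obtain ⟨x, hx, hxT⟩ := exists_linear_notMem hpos hm hinf hfin.toFinset fun P hP => by
      rw [Set.Finite.mem_toFinset] at hP
      refine ⟨hP.isPrime, ?_⟩
      by_contra! h1
      have := hP.isPrime
      have hzP : z ∈ ⋃ P ∈ associatedPrimes R N, (P : Set R) :=
        Set.mem_biUnion hP (starMax_le_of_linear hpos hstd hm h1 hzm)
      rw [biUnion_associatedPrimes_eq_compl_regular R N] at hzP
      exact hzP hz
    refine ⟨Fin.snoc f x, fun i => Fin.lastCases (by rwa [Fin.snoc_last]) (fun j => by rw [Fin.snoc_castSucc]; exact hf1 j) i, ?_⟩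
    rw [List.ofFn_succ']
    simp only [Fin.snoc_castSucc, Fin.snoc_last, List.concat_eq_append]
    rw [isWeaklyRegular_append_iff]
    refine ⟨hreg, (isWeaklyRegular_cons_iff N x []).2 ⟨?_, IsWeaklyRegular.nil R _⟩⟩
    by_contra hne
    have hxU : x ∈ ⋃ P ∈ associatedPrimes R N, (P : Set R) := by
      rw [biUnion_associatedPrimes_eq_compl_regular R N]
      exact hne
    obtain ⟨P, hP, hxP⟩ := Set.mem_iUnion₂.1 hxU
    exact hxT P (hfin.mem_toFinset.2 hP) hxP

/-- A standard Cohen-Macaulay *local ring with `a`-invariant minus the dimension is a polynomial ring. -/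
theorem exists_algEquiv_mvPolynomial (hpos : ∀ n : ℤ, n < 0 → ∀ r ∈ 𝒜 n, r = 0)
    (hm : GrLC.IsStarLocal 𝒜 m) (hd : ringKrullDim R = d) (f : Fin d → R) (hf1 : ∀ i, f i ∈ 𝒜 1)
    (hreg : IsWeaklyRegular R (List.ofFn f)) (hvan : ∀ g : ℤ, -(d : ℤ) < g → Van m d g (toGMod 𝒜 𝒜)) :
    ∃ e : MvPolynomial (Fin d) (GrLC.deg0 𝒜) ≃ₐ[GrLC.deg0 𝒜] R, ∀ t : Fin d, e (MvPolynomial.X t) ∈ 𝒜 1 := by
  classical
  set q : Ideal R := Ideal.span (Set.range f) with hq
  have hqh : q.IsHomogeneous 𝒜 := Ideal.homogeneous_span 𝒜 _ fun y hy => by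
    obtain ⟨i, rfl⟩ := hy
    exact ⟨1, hf1 i⟩
  have hqm : ∀ r ∈ List.ofFn f, r ∈ m.toIdeal := fun r hr => by
    obtain ⟨i, rfl⟩ := List.mem_ofFn.1 hr
    exact pos_le_starMax hpos hm.1 (Ideal.subset_span (Set.mem_biUnion (show (1 : ℤ) ∈ Set.Ioi (0 : ℤ) from Set.mem_Ioi.2 one_pos) (hf1 i)))
  have hofList : Ideal.ofList (List.ofFn f) = q := by simp [hq, Ideal.ofList, Set.range]
  have hrad : m.toIdeal ≤ q.radical := by
    rw [← Ideal.sInf_minimalPrimes]
    refine le_sInf fun P hP => ?_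
    have := hP.1.1
    have hPh : P.IsHomogeneous 𝒜 := GrSegLib.minimalPrimes_isHomogeneous 𝒜 hqh hP
    have hle := le_of_isStarLocal hm hPh this.ne_top
    rcases hle.eq_or_lt with heq | hlt
    · exact heq.ge
    exfalso
    have h1 : (d : ℕ∞) ≤ LocCoh.idealDepth P R := by
      have h := DepthLib.length_le_idealDepth (I := P) hreg fun r hr => hP.1.2 (by
        rw [← hofList]; exact Ideal.subset_span hr)
      rwa [List.length_ofFn] at h
    have h2 := (DepthLib.natCast_le_idealDepth_iff_forall_localized d).1 h1 ⟨P, this⟩ le_rfl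
    rw [DepthLib.depth_localizedModule_self] at h2
    have h3 := (WithBot.coe_le_coe.2 h2).trans (DepthLib.depth_le_supportDim (R := Localization.AtPrime P)
      (M := Localization.AtPrime P))
    rw [Module.supportDim_self_eq_ringKrullDim, IsLocalization.AtPrime.ringKrullDim_eq_height P,
      WithBot.coe_le_coe] at h3
    have := (isMaximal_starMax hpos hm.1).isPrime
    have h4 := Ideal.height_add_one_le_of_lt_of_isPrime hlt
    have h5 := ringKrullDim_eq_height hpos hm
    rw [hd] at h5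
    have h6 : m.toIdeal.height = (d : ℕ∞) := (WithBot.coe_injective h5).symm
    rw [h6] at h4
    have h7 := le_trans (add_le_add h3 le_rfl) h4
    exact absurd ((ENat.add_one_le_iff (ENat.natCast_ne_top d)).1 h7) (lt_irrefl _)
  obtain ⟨N, hN⟩ := Ideal.exists_pow_le_of_le_radical_of_fg hrad (IsNoetherian.noetherian _)
  -- positive degrees lie in the ideal
  let Y := quot (toGMod 𝒜 𝒜) q (isHomogeneous_toGMod 𝒜 hqh)
  let π : (toGMod 𝒜 𝒜).carrier →ₗ[R] Y.carrier := quotπ (toGMod 𝒜 𝒜) q (isHomogeneous_toGMod 𝒜 hqh)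
  have hfst : (List.ofFn fun i => (f i, (1 : ℤ))).map Prod.fst = List.ofFn f := by
    rw [List.map_ofFn]; rfl
  have hY : ∀ g, 0 < g → Van m 0 g Y := by
    refine (van_regularSequence (a := m) 0 (List.ofFn fun i => (f i, (1 : ℤ))) 0 _ Y π ?_ ?_
      (quotπ_surjective _ _ _) (quotπ_grHom _ _ _) ?_ ?_).2 ?_
    · intro p hp
      obtain ⟨i, rfl⟩ := List.mem_ofFn.1 hp
      exact ⟨hf1 i, hqm _ (List.mem_ofFn.2 ⟨i, rfl⟩), zero_le_one⟩
    · rw [hfst]; exact hreg
    · rw [hfst, hofList]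
      refine (ker_quotπ _ _ _).trans ?_
      show q = q • (⊤ : Submodule R R)
      exact (Ideal.mul_top q).symm
    · intro j hj g
      rw [List.length_ofFn, zero_add] at hj
      exact van_self_of_ne hpos hm hd (Nat.ne_of_lt hj) g
    · intro g hg
      rw [List.length_ofFn, zero_add]
      refine hvan g ?_
      rw [List.map_ofFn, List.sum_ofFn] at hg
      simp only [Function.comp_apply, Finset.sum_const, Finset.card_univ, Fintype.card_fin, nsmul_eq_mul, mul_one,
        zero_sub] at hg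
      exact hg
  have hpq : ∀ g, 0 < g → ∀ x ∈ 𝒜 g, x ∈ q := by
    intro g hg x hx
    have h := (Van.zero_iff.1 (hY g hg)) (π x) (quotπ_grHom (toGMod 𝒜 𝒜) q (isHomogeneous_toGMod 𝒜 hqh) g x hx) ⟨N, fun r hr => ?_⟩
    · exact (Submodule.Quotient.mk_eq_zero q).1 h
    · show r • Submodule.Quotient.mk x = (0 : R ⧸ q)
      rw [← Submodule.Quotient.mk_smul, Submodule.Quotient.mk_eq_zero]
      exact q.mul_mem_right x (hN hr)
  -- generation
  let Φ : MvPolynomial (Fin d) (GrLC.deg0 𝒜) →ₐ[GrLC.deg0 𝒜] R := MvPolynomial.aeval f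
  have hsurjn : ∀ n : ℕ, ∀ x ∈ 𝒜 (n : ℤ), x ∈ Φ.range := by
    intro n
    induction n with
    | zero =>
      intro x hx
      rw [Nat.cast_zero] at hx
      exact ⟨MvPolynomial.C ⟨x, hx⟩, MvPolynomial.aeval_C f _⟩
    | succ n ihn =>
      intro x hx
      obtain ⟨c, hc⟩ := (Submodule.mem_span_range_iff_exists_fun R).1 (hpq _ (by omega) x hx)
      have hx' : x = ∑ i, proj 𝒜 (n : ℤ) (c i) * f i := by
        conv_lhs => rw [← proj_of_mem 𝒜 hx, ← hc, map_sum]
        refine Finset.sum_congr rfl fun i _ => ?_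
        rw [smul_eq_mul, mul_comm, ← smul_eq_mul, proj_smul 𝒜 𝒜 (hf1 i), smul_eq_mul, mul_comm]
        congr 2
        simp
      rw [hx']
      refine Φ.range.sum_mem fun i _ => Φ.range.mul_mem (ihn _ (proj_mem 𝒜 _ _)) ⟨MvPolynomial.X i, MvPolynomial.aeval_X f i⟩
  have hbij : Function.Bijective Φ := by
    refine ⟨(injective_iff_map_eq_zero Φ).2 fun G hG => ?_, fun x => ?_⟩
    · refine eq_zero_of_eval₂_regular d R (GrLC.deg0 𝒜) (algebraMap _ R) f hreg (fun c hc => ?_) G hG
      have h := proj_eq_zero_of_mem_pos hpos rfl (n := 0)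
        ((Ideal.span_le.2 (by
          rintro _ ⟨i, rfl⟩
          exact Ideal.subset_span (Set.mem_biUnion (show (1 : ℤ) ∈ Set.Ioi (0 : ℤ) from Set.mem_Ioi.2 one_pos) (hf1 i))) :
          q ≤ Ideal.span (⋃ n ∈ Set.Ioi (0 : ℤ), (𝒜 n : Set R))) hc) le_rfl
      rw [proj_of_mem 𝒜 (show algebraMap (GrLC.deg0 𝒜) R c ∈ 𝒜 0 from c.2)] at h
      exact Subtype.ext h
    · rw [← AlgHom.mem_range, ← sum_proj 𝒜 x]
      refine Φ.range.sum_mem fun g _ => ?_
      rcases lt_or_ge g 0 with hg | hg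
      · rw [hpos g hg _ (proj_mem 𝒜 g x)]; exact zero_mem _
      · exact hsurjn g.toNat _ (by rw [Int.toNat_of_nonneg hg]; exact proj_mem 𝒜 g x)
  refine ⟨AlgEquiv.ofBijective Φ hbij, fun t => ?_⟩
  show Φ (MvPolynomial.X t) ∈ 𝒜 1
  rw [show Φ (MvPolynomial.X t) = f t from MvPolynomial.aeval_X f t]
  exact hf1 t

end Groth.Agent.GrLC21
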