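import Groth.Agent.Lib.GrLC21.InjDimLocal

/-!
# Bass numbers as multiplicities in *injective envelopes
-/

universe u

open DirectSum CategoryTheory Abelian

noncomputable section

set_option linter.unusedSectionVars false
set_option backward.isDefEq.respectTransparency false

namespace Groth.Agent.GrLC21

section Local

variable {R : Type u} [CommRing R] (S : Submonoid R) {A B : Type u} [AddCommGroup A] [Module R A]
  [AddCommGroup B] [Module R B]

/-- An injection that is reached after multiplying by elements of `S` localises to an isomorphism. -/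
theorem nonempty_localized_equiv (f : A →ₗ[R] B) (hf : Function.Injective f)
    (hit : ∀ b, ∃ s ∈ S, s • b ∈ LinearMap.range f) :
    Nonempty (LocalizedModule S A ≃ₗ[Localization S] LocalizedModule S B) := by
  refine ⟨LinearEquiv.ofBijective (LocalizedModule.map S f) ⟨LocalizedModule.map_injective S f hf, fun z => ?_⟩⟩
  induction z using LocalizedModule.induction_on with
  | h b t =>
    obtain ⟨s, hs, a, ha⟩ := hit b
    refine ⟨LocalizedModule.mk a (⟨s, hs⟩ * t), ?_⟩
    rw [LocalizedModule.map_mk, ha]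
    exact LocalizedModule.mk_cancel_common_left ⟨s, hs⟩ t b

end Local

theorem eq_zero_of_sum_eq_zero {R : Type u} [CommRing R] {N : Type u} [AddCommGroup N] [Module R N] {Λ : Type u}
    {J : Λ → Submodule R N} (hind : iSupIndep J) (v : Λ → N) (s : Finset Λ) (hv : ∀ α ∈ s, v α ∈ J α)
    (h : ∑ α ∈ s, v α = 0) : ∀ α ∈ s, v α = 0 := by
  classical
  intro α hα
  refine (Submodule.disjoint_def.1 (hind α)) _ (hv α hα) ?_
  rw [← Finset.add_sum_erase s v hα, add_eq_zero_iff_eq_neg] at h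
  rw [h]
  refine neg_mem (Submodule.sum_mem _ fun β hβ => ?_)
  exact Submodule.mem_iSup_of_mem β (Submodule.mem_iSup_of_mem (Finset.mem_erase.1 hβ).1
    (hv β (Finset.mem_of_mem_erase hβ)))

variable {ι : Type} [AddCommGroup ι] [DecidableEq ι]
variable {R : Type u} [CommRing R] {σ : Type u} [SetLike σ R] [AddSubgroupClass σ R]
  {𝒜 : ι → σ} [GradedRing 𝒜]
variable {M : Type u} [AddCommGroup M] [Module R M] {E : Type u} [AddCommGroup E] [Module R E]
  {τ : Type u} [SetLike τ E] [AddSubgroupClass τ E] {𝓔 : ι → τ} [Decomposition 𝓔] [SetLike.GradedSMul 𝒜 𝓔]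

/-- A homogeneous element killed by a prime `p` reaches a *essential homogeneous submodule after
multiplication by an element outside `p`. -/
theorem exists_smul_mem_of_ess {p : Ideal R} [p.IsPrime] {I N : Submodule R E} (hI : I.IsHomogeneous 𝓔)
    (hess : ∀ Q : Submodule R E, Q.IsHomogeneous 𝓔 → Q ≤ N → Q ≠ ⊥ → Q ⊓ I ≠ ⊥)
    {g : ι} {x : E} (hx : x ∈ 𝓔 g) (hxN : x ∈ N) (hpx : ∀ r ∈ p, r • x = 0) :
    ∃ (a : ι) (s : R), s ∈ 𝒜 a ∧ s ∉ p ∧ s • x ∈ I := by
  by_cases hx0 : x = 0
  · exact ⟨0, 1, SetLike.GradedOne.one_mem, fun h => ‹p.IsPrime›.ne_top ((Ideal.eq_top_iff_one _).2 h),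
      by rw [hx0, smul_zero]; exact zero_mem I⟩
  have hne : (R ∙ x) ⊓ I ≠ ⊥ := hess _ (isHomogeneous_span_singleton 𝒜 hx)
    ((Submodule.span_singleton_le_iff_mem _ _).2 hxN) (by rwa [Ne, Submodule.span_singleton_eq_bot])
  obtain ⟨y, hy, hy0⟩ := Submodule.exists_mem_ne_zero_of_ne_bot hne
  obtain ⟨r, rfl⟩ := Submodule.mem_span_singleton.1 hy.1
  obtain ⟨a, s, hs, hsI, hs0⟩ := exists_homogeneous_smul 𝒜 hI hx hy0 hy.2
  exact ⟨a, s, hs, fun h => hs0 (hpx s h), hsI⟩

/-- The same for all elements killed by `p`. -/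
theorem exists_smul_mem_of_ess' {p : Ideal R} [p.IsPrime] (hp : p.IsHomogeneous 𝒜) {I : Submodule R E}
    (hI : I.IsHomogeneous 𝓔) (hess : ∀ Q : Submodule R E, Q.IsHomogeneous 𝓔 → Q ≠ ⊥ → Q ⊓ I ≠ ⊥)
    {x : E} (hpx : x ∈ killed p E) : ∃ s ∈ p.primeCompl, s • x ∈ I := by
  classical
  have hk : ∀ g, proj 𝓔 g x ∈ killed p E := fun g => by
    rw [Submodule.mem_torsionBySet_iff] at hpx ⊢
    intro r
    show (r : R) • proj 𝓔 g x = 0
    rw [← sum_proj 𝒜 (r : R), Finset.sum_smul]
    refine Finset.sum_eq_zero fun a _ => ?_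
    have h := proj_smul 𝒜 𝓔 (proj_mem 𝒜 a (r : R)) (g + a) x
    have h0 : proj 𝒜 a (r : R) • x = 0 := hpx ⟨_, hp a r.2⟩
    rw [h0, map_zero, add_sub_cancel_right] at h
    exact h.symm
  have key : ∀ T : Finset ι, ∃ s ∈ p.primeCompl, ∀ g ∈ T, s • proj 𝓔 g x ∈ I := by
    intro T
    induction T using Finset.induction with
    | empty => exact ⟨1, one_mem _, fun g hg => absurd hg (Finset.notMem_empty g)⟩
    | insert g T hg ih =>
      obtain ⟨s, hs, hsT⟩ := ih
      obtain ⟨a, t, -, htp, htI⟩ := exists_smul_mem_of_ess (𝒜 := 𝒜) (p := p) hI (N := ⊤)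
        (fun Q hQ _ h => hess Q hQ h) (proj_mem 𝓔 g x) trivial
        (fun r hr => (Submodule.mem_torsionBySet_iff _ _).1 (hk g) ⟨r, hr⟩)
      refine ⟨s * t, mul_mem hs htp, fun b hb => ?_⟩
      rcases Finset.mem_insert.1 hb with rfl | hb
      · rw [mul_smul]; exact I.smul_mem s htI
      · rw [mul_comm, mul_smul]; exact I.smul_mem t (hsT b hb)
  obtain ⟨s, hs, hsT⟩ := key (degs 𝓔 x)
  refine ⟨s, hs, ?_⟩
  rw [← sum_proj 𝓔 x, Finset.smul_sum]
  exact I.sum_mem hsT

/-- The localisation of the elements killed by `p` does not change in a *essential extension. -/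
theorem nonempty_killed_equiv_of_ess {p : Ideal R} [p.IsPrime] (hp : p.IsHomogeneous 𝒜) (e : M →ₗ[R] E)
    (he : Function.Injective e) (heh : (LinearMap.range e).IsHomogeneous 𝓔)
    (hess : ∀ Q : Submodule R E, Q.IsHomogeneous 𝓔 → Q ≠ ⊥ → Q ⊓ LinearMap.range e ≠ ⊥) :
    Nonempty (LocalizedModule p.primeCompl (killed p M) ≃ₗ[Localization p.primeCompl]
      LocalizedModule p.primeCompl (killed p E)) := by
  let ep : killed p M →ₗ[R] killed p E := (e.comp (killed p M).subtype).codRestrict _ fun m =>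
    (Submodule.mem_torsionBySet_iff _ _).2 fun r => by
      show (r : R) • e m.1 = 0
      rw [← map_smul, (Submodule.mem_torsionBySet_iff _ _).1 m.2 r, map_zero]
  refine nonempty_localized_equiv _ ep (fun a b h => Subtype.ext (he (congrArg Subtype.val h))) fun b => ?_
  obtain ⟨s, hs, m, hm⟩ := exists_smul_mem_of_ess' hp heh hess b.2
  refine ⟨s, hs, ⟨m, (Submodule.mem_torsionBySet_iff _ _).2 fun r => he ?_⟩, Subtype.ext hm⟩
  rw [map_zero, map_smul, hm, smul_comm]
  exact (smul_eq_zero_of_right s ((Submodule.mem_torsionBySet_iff _ _).1 b.2 r))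

variable [IsNoetherianRing R]

/-- Counting the summands that are copies of envelopes of `R ⧸ p`. -/
theorem length_killed_eq_card (p : HomogeneousIdeal 𝒜) [p.toIdeal.IsPrime] (e : M →ₗ[R] E)
    (he : Function.Injective e) (heh : (LinearMap.range e).IsHomogeneous 𝓔)
    (hess : ∀ Q : Submodule R E, Q.IsHomogeneous 𝓔 → Q ≠ ⊥ → Q ⊓ LinearMap.range e ≠ ⊥)
    {Λ : Type u} (P : Λ → HomogeneousIdeal 𝒜) (hP : ∀ α, (P α).toIdeal.IsPrime) (J : Λ → Submodule R E)
    (hJ : ∀ α, (J α).IsHomogeneous 𝓔) (hind : iSupIndep J) (htop : iSup J = ⊤)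
    (f : ∀ α, (R ⧸ (P α).toIdeal) →ₗ[R] E)
    (hf : ∀ α, Function.Injective (f α) ∧ (LinearMap.range (f α)).IsHomogeneous 𝓔 ∧ LinearMap.range (f α) ≤ J α ∧
      ∀ Q : Submodule R E, Q.IsHomogeneous 𝓔 → Q ≤ J α → Q ≠ ⊥ → Q ⊓ LinearMap.range (f α) ≠ ⊥) :
    Module.length (Localization.AtPrime p.toIdeal) (LocalizedModule p.toIdeal.primeCompl (killed p.toIdeal M)) =
      Cardinal.toENat (Cardinal.mk {α : Λ // P α = p}) := by
  classical
  set c := p.toIdeal with hc
  obtain ⟨e₁⟩ := nonempty_killed_equiv_of_ess (𝒜 := 𝒜) p.isHomogeneous e he heh hess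
  let Λp := {α : Λ // P α = p}
  have hk1 : ∀ α : Λp, f α.1 1 ∈ killed c E := fun α => (Submodule.mem_torsionBySet_iff _ _).2 fun r => by
    show (r : R) • f α.1 1 = 0
    rw [← map_smul, Algebra.smul_def, mul_one, Ideal.Quotient.algebraMap_eq,
      Ideal.Quotient.eq_zero_iff_mem.2 (show (r : R) ∈ (P α.1).toIdeal by rw [α.2]; exact r.2), map_zero]
  let ψ : Λp → (R ⧸ c) →ₗ[R] killed c E := fun α =>
    (killedEquivHom c (killed c E)) ⟨⟨_, hk1 α⟩, (Submodule.mem_torsionBySet_iff _ _).2 fun r =>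
      Subtype.ext ((Submodule.mem_torsionBySet_iff _ _).1 (hk1 α) r)⟩
  have hψ : ∀ (α : Λp) (r : R), (ψ α (Ideal.Quotient.mk c r)).1 = f α.1 (Ideal.Quotient.mk _ r) := fun α r => by
    show r • f α.1 1 = _
    rw [← map_smul, Algebra.smul_def, mul_one]
    rfl
  have hψJ : ∀ (α : Λp) q, (ψ α q).1 ∈ J α.1 := fun α q => by
    obtain ⟨r, rfl⟩ := Ideal.Quotient.mk_surjective q
    rw [hψ]
    exact (hf α.1).2.2.1 ⟨_, rfl⟩
  let Ψ : (Λp →₀ R ⧸ c) →ₗ[R] killed c E := Finsupp.lsum R ψ
  have hΨ : Function.Injective Ψ := by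
    refine (injective_iff_map_eq_zero Ψ).2 fun q hq => Finsupp.ext fun α => ?_
    by_contra hne
    have hmem : α ∈ q.support := Finsupp.mem_support_iff.2 hne
    have h0 : ∑ β ∈ q.support, (ψ β (q β)).1 = 0 := by
      rw [← Submodule.coe_sum]
      exact congrArg Subtype.val hq
    have hind' : iSupIndep fun β : Λp => J β.1 := hind.comp Subtype.val_injective
    have h := eq_zero_of_sum_eq_zero hind' (fun β => (ψ β (q β)).1) q.support (fun β _ => hψJ β _) h0 α hmem
    obtain ⟨r, hr⟩ := Ideal.Quotient.mk_surjective (q α)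
    rw [← hr, hψ, ← map_zero (f α.1)] at h
    have h' : r ∈ (P α.1).toIdeal := Ideal.Quotient.eq_zero_iff_mem.1 ((hf α.1).1 h)
    rw [α.2] at h'
    exact hne (by rw [← hr, Ideal.Quotient.eq_zero_iff_mem.2 h']; rfl)
  -- killed elements of a summand
  have hsummand : ∀ α, ∀ z ∈ J α, (∀ r ∈ c, r • z = 0) →
      ∃ s ∈ c.primeCompl, s • z ∈ (LinearMap.range Ψ).map (killed c E).subtype := by
    intro α z hz hzc
    have hhom : ∀ g, ∀ x ∈ 𝓔 g, x ∈ J α → (∀ r ∈ c, r • x = 0) →
        ∃ s ∈ c.primeCompl, s • x ∈ (LinearMap.range Ψ).map (killed c E).subtype := by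
      intro g x hx hxJ hxc
      obtain ⟨a, s, hs, hsc, q, hq⟩ := exists_smul_mem_of_ess (𝒜 := 𝒜) (p := c) (hf α).2.1 (N := J α)
        (fun Q h1 h2 h3 => (hf α).2.2.2 Q h1 h2 h3) hx hxJ hxc
      obtain ⟨r, rfl⟩ := Ideal.Quotient.mk_surjective q
      by_cases hαp : P α = p
      · refine ⟨s, hsc, ψ ⟨α, hαp⟩ (Ideal.Quotient.mk c r), ⟨Finsupp.single ⟨α, hαp⟩ (Ideal.Quotient.mk c r), ?_⟩, ?_⟩
        · exact Finsupp.lsum_single R ψ ⟨α, hαp⟩ _
        · rw [← hq]; exact hψ ⟨α, hαp⟩ r
      · -- an element of the other prime kills the element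
        have : (P α).toIdeal.IsPrime := hP α
        by_cases hr : r ∈ (P α).toIdeal
        · refine ⟨s, hsc, ?_⟩
          rw [← hq, Ideal.Quotient.eq_zero_iff_mem.2 hr, map_zero]
          exact zero_mem _
        have hle : c ≤ (P α).toIdeal := fun t ht => by
          have h0 : f α (Ideal.Quotient.mk _ (t * r)) = 0 := by
            rw [map_mul, ← Ideal.Quotient.algebraMap_eq, ← Algebra.smul_def, map_smul, Ideal.Quotient.algebraMap_eq,
              hq, smul_comm, hxc t ht, smul_zero]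
          rw [← map_zero (f α)] at h0
          exact ((hP α).mem_or_mem (Ideal.Quotient.eq_zero_iff_mem.1 ((hf α).1 h0))).resolve_right hr
        obtain ⟨t, htP, htc⟩ : ∃ t ∈ (P α).toIdeal, t ∉ c := by
          by_contra! h
          exact hαp (HomogeneousIdeal.toIdeal_injective (le_antisymm h hle))
        refine ⟨t * s, fun h => (‹c.IsPrime›.mem_or_mem h).elim htc hsc, ?_⟩
        rw [mul_smul, ← hq, ← map_smul, Algebra.smul_def, Ideal.Quotient.algebraMap_eq, ← map_mul,
          Ideal.Quotient.eq_zero_iff_mem.2 (Ideal.mul_mem_right r _ htP), map_zero]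
        exact zero_mem _
    have key : ∀ T : Finset ι, ∃ s ∈ c.primeCompl, ∀ g ∈ T,
        s • proj 𝓔 g z ∈ (LinearMap.range Ψ).map (killed c E).subtype := by
      intro T
      induction T using Finset.induction with
      | empty => exact ⟨1, one_mem _, fun g hg => absurd hg (Finset.notMem_empty g)⟩
      | insert g T hg ih =>
        obtain ⟨s, hs, hsT⟩ := ih
        obtain ⟨t, ht, htI⟩ := hhom g _ (proj_mem 𝓔 g z) (hJ α g hz) fun r hr => by
          rw [← sum_proj 𝒜 r, Finset.sum_smul]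
          refine Finset.sum_eq_zero fun a _ => ?_
          have h := proj_smul 𝒜 𝓔 (proj_mem 𝒜 a r) (g + a) z
          have h0 : proj 𝒜 a r • z = 0 := hzc _ (p.isHomogeneous a hr)
          rw [h0, map_zero, add_sub_cancel_right] at h
          exact h.symm
        refine ⟨s * t, mul_mem hs ht, fun b hb => ?_⟩
        rcases Finset.mem_insert.1 hb with rfl | hb
        · rw [mul_smul]; exact Submodule.smul_mem _ s htI
        · rw [mul_comm, mul_smul]; exact Submodule.smul_mem _ t (hsT b hb)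
    obtain ⟨s, hs, hsT⟩ := key (degs 𝓔 z)
    refine ⟨s, hs, ?_⟩
    rw [← sum_proj 𝓔 z, Finset.smul_sum]
    exact Submodule.sum_mem _ hsT
  have hhit : ∀ x : killed c E, ∃ s ∈ c.primeCompl, s • x ∈ LinearMap.range Ψ := by
    intro x
    obtain ⟨v, hv, hvx⟩ := (Submodule.mem_iSup_iff_exists_finsupp J (x.1)).1 (htop ▸ trivial)
    have hvk : ∀ α ∈ v.support, ∀ r ∈ c, r • v α = 0 := fun α hα r hr => by
      refine eq_zero_of_sum_eq_zero hind (fun β => r • v β) v.support (fun β _ => (J β).smul_mem r (hv β)) ?_ α hα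
      show ∑ β ∈ v.support, r • v β = 0
      rw [← Finset.smul_sum]
      exact (congrArg (r • ·) hvx).trans ((Submodule.mem_torsionBySet_iff _ _).1 x.2 ⟨r, hr⟩)
    have key : ∀ T ⊆ v.support, ∃ s ∈ c.primeCompl, ∀ α ∈ T,
        s • v α ∈ (LinearMap.range Ψ).map (killed c E).subtype := by
      intro T
      induction T using Finset.induction with
      | empty => exact fun _ => ⟨1, one_mem _, fun α hα => absurd hα (Finset.notMem_empty α)⟩
      | insert α T hα ih =>
        intro hT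
        obtain ⟨s, hs, hsT⟩ := ih ((Finset.subset_insert α T).trans hT)
        obtain ⟨t, ht, htI⟩ := hsummand α _ (hv α) (hvk α (hT (Finset.mem_insert_self α T)))
        refine ⟨s * t, mul_mem hs ht, fun b hb => ?_⟩
        rcases Finset.mem_insert.1 hb with rfl | hb
        · rw [mul_smul]; exact Submodule.smul_mem _ s htI
        · rw [mul_comm, mul_smul]; exact Submodule.smul_mem _ t (hsT b hb)
    obtain ⟨s, hs, hsT⟩ := key v.support le_rfl
    obtain ⟨y, hy, hyx⟩ : s • x.1 ∈ (LinearMap.range Ψ).map (killed c E).subtype := by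
      rw [← hvx, Finsupp.sum, Finset.smul_sum]
      exact Submodule.sum_mem _ hsT
    exact ⟨s, hs, by rw [← show y = s • x from Subtype.ext hyx]; exact hy⟩
  obtain ⟨e₂⟩ := nonempty_localized_equiv c.primeCompl Ψ hΨ hhit
  obtain ⟨ek⟩ := nonempty_localized_residue c
  let f₃ := Finsupp.mapRange.linearMap (α := Λp) (LocalizedModule.mkLinearMap c.primeCompl (R ⧸ c))
  let e₃ := (IsLocalizedModule.iso c.primeCompl f₃).extendScalarsOfIsLocalization c.primeCompl
    (Localization c.primeCompl)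
  have : IsSimpleModule (Localization.AtPrime c) (IsLocalRing.ResidueField (Localization.AtPrime c)) :=
    isSimpleModule_iff_quot_maximal.2 ⟨_, IsLocalRing.maximalIdeal.isMaximal _, ⟨LinearEquiv.refl _ _⟩⟩
  rw [(((e₁.trans e₂.symm).trans e₃).trans (Finsupp.mapRange.linearEquiv ek)).length_eq, Module.length_finsupp,
    Module.length_eq_one, mul_one]
  rfl

theorem isHomogeneous_range_cyclic {c : HomogeneousIdeal 𝒜} {f : (R ⧸ c.toIdeal) →ₗ[R] E} {g : ι}
    (hf : GrLC.IsGrHomDeg (GrLC.quotGr 𝒜 c) 𝓔 f g) : (LinearMap.range f).IsHomogeneous 𝓔 := by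
  have h : LinearMap.range f = R ∙ f 1 := by
    refine le_antisymm ?_ ((Submodule.span_singleton_le_iff_mem _ _).2 ⟨1, rfl⟩)
    rintro _ ⟨q, rfl⟩
    obtain ⟨r, rfl⟩ := Ideal.Quotient.mk_surjective q
    refine Submodule.mem_span_singleton.2 ⟨r, ?_⟩
    rw [← map_smul, Algebra.smul_def, mul_one]
    rfl
  rw [h]
  exact isHomogeneous_span_singleton 𝒜 (hf 0 1 ⟨1, SetLike.GradedOne.one_mem, rfl⟩)

theorem bassNum_eq_length (P : Ideal R) [P.IsPrime] (i : ℕ) :
    GrLC.bassNum P M i = Module.length (Localization.AtPrime P)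
      (Ext.{u} (ModuleCat.of (Localization.AtPrime P) (LocalizedModule P.primeCompl (R ⧸ P)))
        (ModuleCat.of (Localization.AtPrime P) (LocalizedModule P.primeCompl M)) i) := by
  obtain ⟨e⟩ := nonempty_localized_residue P
  obtain ⟨e'⟩ := nonempty_ext_congr_left (P := LocalizedModule P.primeCompl M) e i
  exact e'.symm.length_eq

theorem bassNum_zero_eq_length (P : Ideal R) [P.IsPrime] :
    GrLC.bassNum P M 0 = Module.length (Localization.AtPrime P) (LocalizedModule P.primeCompl (killed P M)) := by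
  rw [bassNum_eq_length]
  exact ((extZeroEquiv _ _).trans (killedLocEquiv P.primeCompl P M).symm).length_eq

set_option synthInstance.maxHeartbeats 200000 in
set_option maxHeartbeats 1000000 in
/-- In a minimal resolution the complex of localised socles has zero differentials. -/
theorem bassNum_succ_eq_length {τ' : Type u} [SetLike τ' M] [AddSubgroupClass τ' M] {ℳ : ι → τ'} [Decomposition ℳ]
    [SetLike.GradedSMul 𝒜 ℳ] (I : GrLC.StarInjRes 𝒜 ℳ) (p : HomogeneousIdeal 𝒜) [p.toIdeal.IsPrime] (k : ℕ)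
    (hmin : ∀ Q : Submodule R (I.X k).carrier, Q.IsHomogeneous (I.X k).gr → Q ≠ ⊥ →
      Q ⊓ LinearMap.ker (I.d k) ≠ ⊥) :
    GrLC.bassNum p.toIdeal M (k + 1) = Module.length (Localization.AtPrime p.toIdeal)
      (LocalizedModule p.toIdeal.primeCompl (killed p.toIdeal (LinearMap.ker (I.d (k + 1))))) := by
  let fc : killed p.toIdeal (I.X k).carrier →ₗ[R] killed p.toIdeal (LinearMap.ker (I.d (k + 1))) :=
    ((resG I k).comp (killed p.toIdeal _).subtype).codRestrict _ fun x => (Submodule.mem_torsionBySet_iff _ _).2 fun r => by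
      show (r : R) • resG I k x.1 = 0
      rw [← map_smul, (Submodule.mem_torsionBySet_iff _ _).1 x.2 r, map_zero]
  have hzero : ∀ w, LocalizedModule.map p.toIdeal.primeCompl fc w = 0 := fun w => by
    induction w using LocalizedModule.induction_on with
    | h x t =>
      obtain ⟨s, hs, hsx⟩ := exists_smul_mem_of_ess' (𝒜 := 𝒜) p.isHomogeneous (isHomogeneous_ker (I.d_grHom k))
        hmin x.2
      rw [LocalizedModule.map_mk, ← LocalizedModule.zero_mk t, LocalizedModule.mk_eq]
      refine ⟨⟨s, hs⟩, Subtype.ext (Subtype.ext ?_)⟩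
      simp only [smul_zero, Submonoid.smul_def, SetLike.val_smul, ZeroMemClass.coe_zero]
      show s • (t : R) • I.d k x.1 = 0
      rw [smul_comm, ← map_smul, LinearMap.mem_ker.1 hsx, smul_zero]
  obtain ⟨δ, hδ, hker⟩ := exists_ext_res_delta I p.isHomogeneous p.toIdeal.primeCompl k
  have h0 : ∀ φ, δ φ = 0 → φ = 0 := fun φ hφ => by
    obtain ⟨ψ, rfl⟩ := (hker φ).1 hφ
    rw [← (killedLocEquiv p.toIdeal.primeCompl p.toIdeal (I.X k).carrier).apply_symm_apply ψ,
      ← killedLocEquiv_natural p.toIdeal.primeCompl p.toIdeal (resG I k) fc (fun _ => rfl), hzero, map_zero]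
  have hinj : Function.Injective δ := fun a b h =>
    sub_eq_zero.1 (h0 (a - b) ((δ.map_sub a b).trans (sub_eq_zero.2 h)))
  rw [bassNum_eq_length]
  exact ((LinearEquiv.ofBijective δ ⟨hinj, hδ⟩).symm.trans
    (killedLocEquiv p.toIdeal.primeCompl p.toIdeal _).symm).length_eq

end Groth.Agent.GrLC21
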