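import Groth.Agent.Lib.GrLC21.DepthPoly
import Groth.Agent.Lib.GrLC21.Shift
import Groth.Agent.Lib.LocCoh.Dim

/-!
# The top graded local cohomology of a standard graded ring
-/

universe u

open DirectSum

noncomputable section

set_option linter.unusedSectionVars false
set_option backward.isDefEq.respectTransparency false

namespace Groth.Agent.GrLC21

variable {R : Type u} [CommRing R] [IsNoetherianRing R] {σ : Type u} [SetLike σ R] [AddSubgroupClass σ R]
  {𝒜 : ℤ → σ} [GradedRing 𝒜] {a : HomogeneousIdeal 𝒜}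

theorem exists_cover {r : ℕ} {n : ℤ} (X : GrLC.GMod.{u} 𝒜) (h : Van a r n X) : ∀ s : List R, (∀ y ∈ s, y ∈ 𝒜 1) →
    ∃ (C : GrLC.GMod.{u} 𝒜) (f : C.carrier →ₗ[R] X.carrier), GrLC.IsGrHom C.gr X.gr f ∧
      (∀ y ∈ s, ∀ x : X.carrier, y • x ∈ LinearMap.range f) ∧
      LinearMap.range f ≤ Ideal.span {y | y ∈ s} • (⊤ : Submodule R X.carrier) ∧ Van a r (n + 1) C
  | [], _ => by
    refine ⟨sub X ⊥ (isHomogeneous_bot _), (⊥ : Submodule R X.carrier).subtype, subι_grHom X _ _, by simp, ?_, ?_⟩
    · exact (Submodule.range_subtype _).trans_le bot_le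
    · have : Subsingleton (sub X ⊥ (isHomogeneous_bot _)).carrier :=
        Unique.instSubsingleton (α := (⊥ : Submodule R X.carrier))
      exact van_of_subsingleton _ _
  | y :: s, hs => by
    obtain ⟨C, f, hf, hmem, hle, hC⟩ := exists_cover X h s fun z hz => hs z (List.mem_cons_of_mem y hz)
    have hy := hs y List.mem_cons_self
    have hm := smulMap_grHom X (k := (1 : ℤ)) hy
    refine ⟨GrLC21.prod (shift X 1) C, LinearMap.coprod (smulMap X (k := (1 : ℤ)) y) f,
      fun g z hz => add_mem (hm g z.1 hz.1) (hf g z.2 hz.2), ?_, ?_,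
      Van.prod ((van_shift_iff 1).2 (by rwa [add_sub_cancel_right])) hC⟩
    · intro z hz x
      rw [LinearMap.range_coprod]
      rcases List.mem_cons.1 hz with rfl | hz
      · exact Submodule.mem_sup_left ⟨(x : (shift X 1).carrier), rfl⟩
      · exact Submodule.mem_sup_right (hmem z hz x)
    · rw [LinearMap.range_coprod]
      refine sup_le ?_ (hle.trans (Submodule.smul_mono_left (Ideal.span_mono fun z hz => List.mem_cons_of_mem y hz)))
      rintro _ ⟨x, rfl⟩
      exact Submodule.smul_mem_smul (Ideal.subset_span List.mem_cons_self) (Submodule.mem_top : (x : X.carrier) ∈ ⊤)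

/-- Vanishing of the top cohomology of the ring climbs in a standard graded ring. -/
theorem van_top_succ (hhom : a.toIdeal = Ideal.span (𝒜 1 : Set R)) {r : ℕ} (hr : ringKrullDim R = r)
    (h1 : 1 ≤ r) {n : ℤ} (h : Van a r n (toGMod 𝒜 𝒜)) : Van a r (n + 1) (toGMod 𝒜 𝒜) := by
  obtain ⟨t, ht, hspan⟩ := Submodule.fg_span_iff_fg_span_finset_subset (𝒜 1 : Set R) |>.1
    (hhom ▸ IsNoetherian.noetherian a.toIdeal)
  have ha : a.toIdeal = Ideal.span {x | x ∈ t.toList} := by
    rw [hhom]
    simpa [Finset.mem_toList] using hspan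
  obtain ⟨C, f, hf, hmem, -, hC⟩ := exists_cover (toGMod 𝒜 𝒜) h t.toList fun x hx => ht (Finset.mem_toList.1 hx)
  have hP := isHomogeneous_range (spans_of_decomposition C.gr) hf
  have hkill : ∀ q : (quot (toGMod 𝒜 𝒜) (LinearMap.range f) hP).carrier, ∀ x ∈ a.toIdeal, x • q = 0 := by
    intro q x hx
    obtain ⟨z, rfl⟩ := quotπ_surjective (toGMod 𝒜 𝒜) _ hP q
    rw [← map_smul]
    refine (Submodule.Quotient.mk_eq_zero _).2 ?_
    rw [ha] at hx
    refine Submodule.span_induction (p := fun x _ => x • z ∈ LinearMap.range f) ?_ ?_ ?_ ?_ hx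
    · exact fun y hy => hmem y hy z
    · rw [zero_smul]; exact zero_mem _
    · intro u v _ _ hu hv
      rw [add_smul]
      exact add_mem hu hv
    · intro c u _ hu
      show (c * u) • z ∈ LinearMap.range f
      rw [mul_smul]
      exact Submodule.smul_mem _ c hu
  refine Van.mid (quotSeq _ hP) (Van.right (kerSeq hf) hC ?_) ?_
  · refine (subsingleton_H_iff_van' _ (r + 1)).1 ?_ _
    refine LocCohLib.subsingleton_of_supportDim_lt _ _ (r + 1) ((Module.supportDim_le_ringKrullDim _ _).trans_lt ?_)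
    rw [hr]
    exact_mod_cast Nat.lt_succ_self r
  · obtain ⟨j, rfl⟩ : ∃ j, r = j + 1 := ⟨r - 1, by omega⟩
    exact van_succ_of_torsion (fun q => ⟨1, fun x hx => hkill q x (by rwa [pow_one] at hx)⟩) j _

end Groth.Agent.GrLC21
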